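import Mathlib

/-! S4700 piece AC (core): `config_arith` with the pieces AP / AM as hypotheses. -/

set_option autoImplicit false

namespace Cfsg.Agent.Lib.helper77.BR

theorem helper77_config_arith_core (Q : Prop) (p e n a b t y sB : ℕ) (ε : ℤ) (hp : p.Prime)
    (hp2 : p ≠ 2) (he2 : 2 ≤ e)
    (hab : 1 + a + b = e) (ht : t * e = p - 1) (hn1 : 1 ≤ n) (hε : ε = 1 ∨ ε = -1)
    (hy : ε * (y : ℤ) = 1 + (a : ℤ) * (1 + (n : ℤ) * (p : ℤ)) - (sB : ℤ))
    (hy2 : 2 ≤ y) (hydvd : y ∣ e * (1 + n * p)) (hymod : (y : ℤ) ≡ ε * (e : ℤ) [ZMOD p])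
    (hsB : ∃ b' : ℕ, b' ≤ b ∧ sB = (b - b') * (p - 1) + b' * ((p - 1) * (n * p + 1)))
    (hIII : ¬ Q)
    (hAP : ∀ u : ℕ, 1 ≤ u → u * p + 1 ∣ (p - 1) * (n * p + 1) → u = n ∨ Q)
    (hAM : ∀ d : ℕ, d ∣ (p - 1) * (n * p + 1) → (d : ℤ) ≡ -1 [ZMOD p] →
      d = p - 1 ∨ d = (p - 1) * (n * p + 1) ∨ Q) :
    sB = b * (p - 1) ∧ 1 ≤ b ∧ ((ε = 1 ∧ b = a * n ∧ y = e) ∨
      (ε = -1 ∧ ∃ σ : ℕ, 1 ≤ σ ∧ b = a * n + σ ∧ t * σ = n + 1 ∧ y + e = p * σ)) := by
  have hp3 : 3 ≤ p := by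
    have := hp.two_le
    omega
  have ht1 : 1 ≤ t := by
    rcases Nat.eq_zero_or_pos t with h0 | h0
    · rw [h0, zero_mul] at ht
      omega
    · exact h0
  have hep : e ≤ p - 1 := by
    rw [← ht]
    exact Nat.le_mul_of_pos_left e ht1
  have hnp3 : 3 ≤ n * p := by
    have := Nat.mul_le_mul hn1 hp3
    omega
  have hT : t * y ∣ (p - 1) * (n * p + 1) := by
    have h1 : t * y ∣ t * (e * (1 + n * p)) := Nat.mul_dvd_mul_left t hydvd
    rwa [← mul_assoc, ht, add_comm 1 (n * p)] at h1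
  have hty2 : 2 ≤ t * y := by
    have := Nat.mul_le_mul ht1 hy2
    omega
  have hpZ : (3 : ℤ) ≤ (p : ℤ) := by exact_mod_cast hp3
  have hteZ : (t : ℤ) * (e : ℤ) = (p : ℤ) - 1 := by
    have h1 : ((t * e : ℕ) : ℤ) = ((p - 1 : ℕ) : ℤ) := by rw [ht]
    rw [Nat.cast_mul, Nat.cast_sub (by omega : 1 ≤ p)] at h1
    simpa using h1
  have habZ : (1 : ℤ) + a + b = e := by exact_mod_cast hab
  have hTmod : ((t * y : ℕ) : ℤ) ≡ -ε [ZMOD p] := by
    have h1 : (t : ℤ) * (y : ℤ) ≡ (t : ℤ) * (ε * (e : ℤ)) [ZMOD p] := Int.ModEq.mul_left _ hymod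
    have h2 : (t : ℤ) * (ε * (e : ℤ)) = ε * ((p : ℤ) - 1) := by
      rw [← hteZ]
      ring
    have h3 : ε * ((p : ℤ) - 1) ≡ -ε [ZMOD p] := by
      rw [Int.modEq_iff_dvd]
      exact ⟨-ε, by ring⟩
    rw [Nat.cast_mul]
    rw [h2] at h1
    exact h1.trans h3
  -- the value of `t * y`
  have hTval : (ε = 1 ∧ (y = e ∨ y = e * (n * p + 1))) ∨ (ε = -1 ∧ t * y = n * p + 1) := by
    rcases hε with h1 | h1
    · left
      refine ⟨h1, ?_⟩
      rw [h1] at hTmod
      rcases hAM (t * y) hT hTmod with h2 | h2 | h2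
      · left
        rw [← ht] at h2
        exact Nat.eq_of_mul_eq_mul_left ht1 h2
      · right
        rw [← ht, mul_assoc] at h2
        exact Nat.eq_of_mul_eq_mul_left ht1 h2
      · exact absurd h2 hIII
    · right
      refine ⟨h1, ?_⟩
      rw [h1, neg_neg] at hTmod
      have h2 : (p : ℤ) ∣ ((t * y - 1 : ℕ) : ℤ) := by
        rw [Nat.cast_sub (by omega : 1 ≤ t * y)]
        have := (Int.modEq_iff_dvd.mp hTmod.symm)
        simpa using this
      have h3 : p ∣ t * y - 1 := Int.natCast_dvd_natCast.mp h2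
      obtain ⟨u, hu⟩ := h3
      have h4 : t * y = u * p + 1 := by
        rw [mul_comm u p]
        omega
      have hu1 : 1 ≤ u := by
        rcases Nat.eq_zero_or_pos u with h0 | h0
        · rw [h0] at h4
          omega
        · exact h0
      rcases hAP u hu1 (h4 ▸ hT) with h5 | h5
      · rw [h5] at h4
        exact h4
      · exact absurd h5 hIII
  obtain ⟨b', hb'b, hsBeq⟩ := hsB
  have hKZ : ((n * p + 1 : ℕ) : ℤ) = 1 + (n : ℤ) * (p : ℤ) := by
    push_cast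
    ring
  -- `b' = 0`
  have hb'0 : b' = 0 := by
    by_contra hne
    have hb'1 : 1 ≤ b' := Nat.pos_of_ne_zero hne
    have h1 : (p - 1) * (n * p + 1) ≤ sB := by
      rw [hsBeq]
      have := Nat.le_mul_of_pos_left ((p - 1) * (n * p + 1)) hb'1
      omega
    have h2 : (a + 2) * (n * p + 1) ≤ (p - 1) * (n * p + 1) :=
      Nat.mul_le_mul_right _ (by omega)
    have h3 : a * (n * p + 1) + 2 * (n * p + 1) ≤ sB := by
      have : (a + 2) * (n * p + 1) = a * (n * p + 1) + 2 * (n * p + 1) := by ring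
      omega
    have h3Z : (a : ℤ) * (1 + (n : ℤ) * (p : ℤ)) + 2 * (1 + (n : ℤ) * (p : ℤ)) ≤ (sB : ℤ) := by
      rw [← hKZ]
      exact_mod_cast h3
    have hnpZ : (3 : ℤ) ≤ (n : ℤ) * (p : ℤ) := by exact_mod_cast hnp3
    rcases hTval with ⟨h4, -⟩ | ⟨h4, h5⟩
    · rw [h4, one_mul] at hy
      have hy0 : (0 : ℤ) ≤ (y : ℤ) := Int.natCast_nonneg y
      linarith
    · rw [h4] at hy
      have h6 : y ≤ t * y := Nat.le_mul_of_pos_left y ht1
      have h7 : (y : ℤ) ≤ (n : ℤ) * (p : ℤ) + 1 := by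
        have : y ≤ n * p + 1 := by omega
        have h8 : (y : ℤ) ≤ ((n * p + 1 : ℕ) : ℤ) := by exact_mod_cast this
        rw [hKZ] at h8
        linarith
      linarith
  have hsB' : sB = b * (p - 1) := by
    rw [hsBeq, hb'0]
    simp
  have hsBZ : (sB : ℤ) = (b : ℤ) * ((p : ℤ) - 1) := by
    rw [hsB', Nat.cast_mul, Nat.cast_sub (by omega : 1 ≤ p)]
    simp
  rw [hsBZ] at hy
  have hnpZ : (3 : ℤ) ≤ (n : ℤ) * (p : ℤ) := by exact_mod_cast hnp3
  rcases hTval with ⟨h4, h5⟩ | ⟨h4, h5⟩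
  · -- ε = 1
    rw [h4, one_mul] at hy
    rcases h5 with h5 | h5
    · -- y = e
      rw [h5] at hy
      have h6 : (p : ℤ) * ((b : ℤ) - (a : ℤ) * (n : ℤ)) = 0 := by
        linear_combination habZ + hy
      have h7 : (b : ℤ) - (a : ℤ) * (n : ℤ) = 0 := by
        rcases mul_eq_zero.mp h6 with h8 | h8
        · linarith
        · exact h8
      have h8 : b = a * n := by
        have : (b : ℤ) = ((a * n : ℕ) : ℤ) := by
          push_cast
          linarith
        exact_mod_cast this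
      have ha1 : 1 ≤ a := by
        rcases Nat.eq_zero_or_pos a with h0 | h0
        · rw [h0, zero_mul] at h8
          omega
        · exact h0
      have hb1 : 1 ≤ b := by
        rw [h8]
        exact Nat.mul_pos ha1 hn1
      exact ⟨hsB', hb1, Or.inl ⟨h4, h8, h5⟩⟩
    · -- y = e (1 + n p): impossible
      exfalso
      have h6 : (a + 1) * (n * p + 1) ≤ e * (n * p + 1) := Nat.mul_le_mul_right _ (by omega)
      have h6Z : ((a : ℤ) + 1) * (1 + (n : ℤ) * (p : ℤ)) ≤ (e : ℤ) * (1 + (n : ℤ) * (p : ℤ)) := by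
        rw [← hKZ]
        exact_mod_cast h6
      have h7 : (y : ℤ) = (e : ℤ) * (1 + (n : ℤ) * (p : ℤ)) := by
        rw [h5, Nat.cast_mul, hKZ]
      have h8 : (0 : ℤ) ≤ (b : ℤ) * ((p : ℤ) - 1) :=
        mul_nonneg (Int.natCast_nonneg b) (by linarith)
      nlinarith
  · -- ε = -1
    rw [h4] at hy
    have h6 : (p : ℤ) * ((b : ℤ) - (a : ℤ) * (n : ℤ)) = (e : ℤ) + (y : ℤ) := by
      linear_combination habZ + hy
    have h7 : (0 : ℤ) < (b : ℤ) - (a : ℤ) * (n : ℤ) := by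
      have hpos : (0 : ℤ) < (e : ℤ) + (y : ℤ) := by
        have h1 : (0 : ℤ) ≤ (e : ℤ) := Int.natCast_nonneg e
        have h2 : (2 : ℤ) ≤ (y : ℤ) := by exact_mod_cast hy2
        linarith
      rw [← h6] at hpos
      exact (mul_pos_iff_of_pos_left (by linarith)).mp hpos
    have h8 : a * n + 1 ≤ b := by
      have : ((a * n + 1 : ℕ) : ℤ) ≤ (b : ℤ) := by
        push_cast
        linarith
      exact_mod_cast this
    obtain ⟨σ, hσ⟩ : ∃ σ, b = a * n + σ := ⟨b - a * n, by omega⟩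
    have hσ1 : 1 ≤ σ := by omega
    have hσZ : (b : ℤ) - (a : ℤ) * (n : ℤ) = (σ : ℤ) := by
      rw [hσ]
      push_cast
      ring
    rw [hσZ] at h6
    have h9 : y + e = p * σ := by
      have : ((y + e : ℕ) : ℤ) = ((p * σ : ℕ) : ℤ) := by
        push_cast
        linarith
      exact_mod_cast this
    have h10 : t * σ = n + 1 := by
      have h11 : t * (y + e) = t * (p * σ) := by rw [h9]
      have h12 : p * (t * σ) = p * (n + 1) := by
        have h13 : t * (y + e) = n * p + 1 + (p - 1) := by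
          rw [mul_add, h5, ht]
        have h14 : n * p + 1 + (p - 1) = p * (n + 1) := by
          have : p * (n + 1) = n * p + p := by ring
          omega
        calc p * (t * σ) = t * (p * σ) := by ring
          _ = t * (y + e) := h11.symm
          _ = n * p + 1 + (p - 1) := h13
          _ = p * (n + 1) := h14
      exact Nat.eq_of_mul_eq_mul_left (by omega) h12
    exact ⟨hsB', by omega, Or.inr ⟨h4, σ, hσ1, hσ, h10, h9⟩⟩

end Cfsg.Agent.Lib.helper77.BR
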