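import Mathlib
import Cfsg.Agent.Lib.helper14.BR0Defs
import Cfsg.Agent.Lib.helper28.BRAP
import Cfsg.Agent.Lib.helper28.BRAM
import Cfsg.Agent.Lib.helper77.BRACcore

/-! S4700 piece AC: `config_arith` (pure arithmetic; uses AP, AM). -/

set_option autoImplicit false

namespace Cfsg.Agent.Lib.helper77.BR

open Cfsg.Agent.Lib.helper14.BR

/-- AC. -/
theorem config_arith (p e n a b t y sB : ℕ) (ε : ℤ) (hp : p.Prime) (hp2 : p ≠ 2) (he2 : 2 ≤ e)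
    (hab : 1 + a + b = e) (ht : t * e = p - 1) (hn1 : 1 ≤ n) (hε : ε = 1 ∨ ε = -1)
    (hy : ε * (y : ℤ) = 1 + (a : ℤ) * (1 + (n : ℤ) * (p : ℤ)) - (sB : ℤ))
    (hy2 : 2 ≤ y) (hydvd : y ∣ e * (1 + n * p)) (hymod : (y : ℤ) ≡ ε * (e : ℤ) [ZMOD p])
    (hsB : ∃ b' : ℕ, b' ≤ b ∧ sB = (b - b') * (p - 1) + b' * ((p - 1) * (n * p + 1)))
    (hIII : ¬ III n p) :
    sB = b * (p - 1) ∧ 1 ≤ b ∧ ((ε = 1 ∧ b = a * n ∧ y = e) ∨
      (ε = -1 ∧ ∃ σ : ℕ, 1 ≤ σ ∧ b = a * n + σ ∧ t * σ = n + 1 ∧ y + e = p * σ)) :=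
  helper77_config_arith_core (III n p) p e n a b t y sB ε hp hp2 he2 hab ht hn1 hε hy hy2 hydvd
    hymod hsB hIII
    (fun u hu hd => Cfsg.Agent.Lib.helper28.BR.arith_plus0 p n u hp hu hd)
    (fun d hd hm => Cfsg.Agent.Lib.helper28.BR.arith_minus0 p n d hp hn1 hd hm)

end Cfsg.Agent.Lib.helper77.BR
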