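import Mathlib

/-! S4700 piece AF: `arith_fin` (pure arithmetic). -/

set_option autoImplicit false

namespace Cfsg.Agent.Lib.helper77.BR

/-- AF. -/
theorem arith_fin (p e n a b t : ℕ) (hp : p.Prime) (hp2 : p ≠ 2) (he2 : 2 ≤ e)
    (hab : 1 + a + b = e) (ht : t * e = p - 1) (hn1 : 1 ≤ n)
    (hcase : b = a * n ∨ ∃ σ : ℕ, 1 ≤ σ ∧ b = a * n + σ ∧ t * σ = n + 1)
    (hblk : n + 1 ∣ p * (p - 1)) : 2 * n ≤ p + 1 := by
  have hp3 : 3 ≤ p := by
    have := hp.two_le
    omega
  have ht1 : 1 ≤ t := by
    rcases Nat.eq_zero_or_pos t with h0 | h0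
    · rw [h0, zero_mul] at ht
      omega
    · exact h0
  rcases hcase with hb | ⟨σ, hσ1, hb, htσ⟩
  · -- case b = a n
    have ha1 : 1 ≤ a := by
      rcases Nat.eq_zero_or_pos a with h0 | h0
      · rw [h0, zero_mul] at hb
        omega
      · exact h0
    have h1 : n ≤ a * n := Nat.le_mul_of_pos_left n ha1
    rcases Nat.lt_or_ge t 2 with ht2 | ht2
    · have ht' : t = 1 := by omega
      rw [ht', one_mul] at ht
      rcases Nat.lt_or_ge a 2 with ha2 | ha2
      · have ha' : a = 1 := by omega
        rw [ha', one_mul] at hb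
        have hpn : p = n + 3 := by omega
        rw [hpn] at hblk hp
        have h2 : (n + 3) * (n + 3 - 1) = (n + 1) * (n + 4) + 2 := by
          have : n + 3 - 1 = n + 2 := by omega
          rw [this]
          ring
        rw [h2] at hblk
        have h3 : n + 1 ∣ 2 := (Nat.dvd_add_right (Dvd.intro _ rfl)).mp hblk
        have h4 := Nat.le_of_dvd (by norm_num) h3
        have hn' : n = 1 := by omega
        rw [hn'] at hp
        exact absurd hp (by norm_num)
      · have h2 : 2 * n ≤ a * n := Nat.mul_le_mul_right n ha2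
        omega
    · have h2 : 2 * e ≤ t * e := Nat.mul_le_mul_right e ht2
      omega
  · -- case σ
    rcases Nat.eq_zero_or_pos a with ha0 | ha1
    · rw [ha0, zero_mul, zero_add] at hb
      have he : e = σ + 1 := by omega
      have h1 : t * σ ∣ p * (t * (σ + 1)) := by
        rw [htσ, ← he, ht]
        exact hblk
      have h2 : t * σ ∣ t * (p * (σ + 1)) := by
        have : p * (t * (σ + 1)) = t * (p * (σ + 1)) := by ring
        rwa [this] at h1
      have h3 : σ ∣ p * (σ + 1) := Nat.dvd_of_mul_dvd_mul_left ht1 h2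
      have hcop : Nat.Coprime σ (σ + 1) := by simp
      have h4 : σ ∣ p := hcop.dvd_of_dvd_mul_right h3
      rcases (Nat.dvd_prime hp).mp h4 with h5 | h5
      · rw [h5, mul_one] at htσ
        rw [he, h5, htσ] at ht
        omega
      · have h6 : e ≤ t * e := Nat.le_mul_of_pos_left e ht1
        omega
    · have h1 : n ≤ a * n := Nat.le_mul_of_pos_left n ha1
      rcases Nat.lt_or_ge t 2 with ht2 | ht2
      · have ht' : t = 1 := by omega
        rw [ht', one_mul] at ht htσ
        omega
      · have h2 : 2 * e ≤ t * e := Nat.mul_le_mul_right e ht2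
        omega
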