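import Mathlib

/-!
# S3371 (Isaacs–Passman, half-transitive p-groups): shared helper lemmas (helper77)
-/

set_option autoImplicit false

namespace Cfsg.Agent.Lib.helper77

section htbase

variable {q : ℕ} [Fact q.Prime] {V : Type*} [AddCommGroup V] [Module (ZMod q) V]
  {G : Type*} [Group G]

theorem htb_mul_apply (ρ : G →* (V ≃ₗ[ZMod q] V)) (g h : G) (v : V) :
    ρ (g * h) v = ρ g (ρ h v) := by
  rw [map_mul, LinearEquiv.mul_apply]

theorem htb_one_apply (ρ : G →* (V ≃ₗ[ZMod q] V)) (v : V) : ρ 1 v = v := by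
  rw [map_one]
  rfl

theorem htb_inv_apply (ρ : G →* (V ≃ₗ[ZMod q] V)) (g : G) (v : V) : ρ g⁻¹ (ρ g v) = v := by
  rw [← htb_mul_apply, inv_mul_cancel, htb_one_apply]

theorem htb_apply_inv (ρ : G →* (V ≃ₗ[ZMod q] V)) (g : G) (v : V) : ρ g (ρ g⁻¹ v) = v := by
  rw [← htb_mul_apply, mul_inv_cancel, htb_one_apply]

/-- If `g ^ n = 1` and `g` fixes only `0`, then `∑_{m<n} g^m v = 0`. -/
theorem htb_pow_sum_zero (ρ : G →* (V ≃ₗ[ZMod q] V)) (g : G) (n : ℕ) (hg : g ^ n = 1)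
    (hfpf : ∀ v : V, ρ g v = v → v = 0) (v : V) :
    ∑ m ∈ Finset.range n, ρ (g ^ m) v = 0 := by
  apply hfpf
  rw [map_sum]
  have h1 : ∀ m ∈ Finset.range n, ρ g (ρ (g ^ m) v) = ρ (g ^ (m + 1)) v := by
    intro m _
    rw [← htb_mul_apply, ← pow_succ']
  rw [Finset.sum_congr rfl h1]
  have h2 := Finset.sum_range_succ (fun m => ρ (g ^ m) v) n
  have h3 := Finset.sum_range_succ' (fun m => ρ (g ^ m) v) n
  simp only [hg, pow_zero, htb_one_apply] at h2 h3
  rw [h2] at h3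
  exact (add_right_cancel h3).symm

theorem htb_two_ne_zero (hq2 : q ≠ 2) : (2 : ZMod q) ≠ 0 := by
  intro h
  have h1 : ((2 : ℕ) : ZMod q) = 0 := by exact_mod_cast h
  rw [ZMod.natCast_eq_zero_iff] at h1
  have hq : q.Prime := Fact.out
  have h2 := (Nat.prime_dvd_prime_iff_eq hq Nat.prime_two).mp h1
  exact hq2 h2

theorem htb_eq_zero_of_neg_eq (hq2 : q ≠ 2) (v : V) (h : -v = v) : v = 0 := by
  have h1 : (2 : ZMod q) • v = 0 := by
    rw [two_smul]
    nth_rewrite 1 [← h]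
    exact neg_add_cancel v
  rcases smul_eq_zero.mp h1 with h2 | h2
  · exact absurd h2 (htb_two_ne_zero hq2)
  · exact h2

theorem htb_card_stab (ρ : G →* (V ≃ₗ[ZMod q] V)) (v : V) :
    Nat.card {g : G // ρ g v = v} = Set.ncard {g : G | ρ g v = v} :=
  Nat.card_coe_set_eq {g : G | ρ g v = v}

end htbase

end Cfsg.Agent.Lib.helper77
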