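import Mathlib
import Cfsg.Agent.Lib.helper77.HTBase

/-!
# S3371 piece INV (helper77): counting involutions when all point stabilizers have order 2
-/

set_option autoImplicit false

namespace Cfsg.Agent.Lib.helper77

section htinv

variable {q : ℕ} [Fact q.Prime] {V : Type*} [AddCommGroup V] [Module (ZMod q) V]
  {G : Type*} [Group G]

/-- `V` is the product of the two eigenspaces of an involution (`q` odd). -/
theorem hti_card_split (hq2 : q ≠ 2) (ρ : G →* (V ≃ₗ[ZMod q] V)) (t : G) (ht2 : t ^ 2 = 1) :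
    Nat.card V = Nat.card {v : V // ρ t v = v} * Nat.card {v : V // ρ t v = -v} := by
  rw [← Nat.card_prod]
  apply Nat.card_congr
  have htt : ∀ v, ρ t (ρ t v) = v := fun v => by
    rw [← htb_mul_apply, ← pow_two, ht2, htb_one_apply]
  have h2 := htb_two_ne_zero (q := q) hq2
  refine ⟨fun v => (⟨(2 : ZMod q)⁻¹ • (v + ρ t v), ?_⟩, ⟨(2 : ZMod q)⁻¹ • (v - ρ t v), ?_⟩),
    fun ab => (ab.1 : V) + (ab.2 : V), ?_, ?_⟩
  · rw [map_smul, map_add, htt, add_comm]
  · rw [map_smul, map_sub, htt, ← smul_neg, neg_sub]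
  · intro v
    show (2 : ZMod q)⁻¹ • (v + ρ t v) + (2 : ZMod q)⁻¹ • (v - ρ t v) = v
    rw [← smul_add, add_add_sub_cancel, ← two_smul (ZMod q) v, smul_smul, inv_mul_cancel₀ h2,
      one_smul]
  · rintro ⟨⟨a, ha⟩, ⟨b, hb⟩⟩
    apply Prod.ext <;> apply Subtype.ext
    · show (2 : ZMod q)⁻¹ • ((a + b) + ρ t (a + b)) = a
      rw [map_add, ha, hb]
      have h3 : a + b + (a + -b) = (2 : ZMod q) • a := by
        rw [two_smul]
        abel
      rw [h3, smul_smul, inv_mul_cancel₀ h2, one_smul]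
    · show (2 : ZMod q)⁻¹ • ((a + b) - ρ t (a + b)) = b
      rw [map_add, ha, hb]
      have h3 : a + b - (a + -b) = (2 : ZMod q) • b := by
        rw [two_smul]
        abel
      rw [h3, smul_smul, inv_mul_cancel₀ h2, one_smul]

/-- An element `u` with `t u t⁻¹ = u z` (`z = -1`) swaps the two eigenspaces of `t`. -/
theorem hti_card_swap (ρ : G →* (V ≃ₗ[ZMod q] V)) (z t u : G) (hz : ∀ v : V, ρ z v = -v)
    (hu : t * u * t⁻¹ = u * z) :
    Nat.card {v : V // ρ t v = v} = Nat.card {v : V // ρ t v = -v} := by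
  have hac : ∀ v, ρ t (ρ u v) = -ρ u (ρ t v) := by
    intro v
    have h1 : t * u = u * z * t := by
      rw [← hu]
      group
    rw [← htb_mul_apply, h1, htb_mul_apply, htb_mul_apply, hz, map_neg]
  apply Nat.card_congr
  apply Equiv.subtypeEquiv (ρ u).toEquiv
  intro v
  show ρ t v = v ↔ ρ t (ρ u v) = -ρ u v
  rw [hac]
  constructor
  · intro h
    rw [h]
  · intro h
    exact (ρ u).injective (neg_injective h)

/-- PIECE INV -/
theorem ht_inv_count {q : ℕ} [Fact q.Prime] {V : Type*} [AddCommGroup V] [Module (ZMod q) V] [Finite V]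
    [Nontrivial V] {G : Type*} [Group G] [Finite G] (hq2 : q ≠ 2)
    (ρ : G →* (V ≃ₗ[ZMod q] V)) (hρ : Function.Injective ρ) (z : G)
    (hz : ∀ v : V, ρ z v = -v)
    (hs2 : ∀ v : V, v ≠ 0 → Nat.card {g : G // ρ g v = v} = 2)
    (hu : ∀ t : G, t ^ 2 = 1 → t ≠ 1 → t ≠ z → ∃ u : G, t * u * t⁻¹ = u * z) :
    ∃ d : ℕ, Nat.card V = (q ^ d) ^ 2 ∧
      q ^ d + 1 = Nat.card {t : G // t ^ 2 = 1 ∧ t ≠ 1 ∧ t ≠ z} ∧
      ∀ t : G, t ^ 2 = 1 → t ≠ 1 → t ≠ z → Nat.card {v : V // ρ t v = v} = q ^ d := by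
  classical
  have _hρ := hρ
  have hqp : q.Prime := Fact.out
  obtain ⟨n, hn⟩ : ∃ n, Nat.card V = q ^ n := by
    have h1 := Module.natCard_eq_pow_finrank (K := ZMod q) (V := V)
    rw [Nat.card_zmod] at h1
    exact ⟨_, h1⟩
  have hsq : ∀ t : G, t ^ 2 = 1 → t ≠ 1 → t ≠ z →
      Nat.card {v : V // ρ t v = v} ^ 2 = Nat.card V := by
    intro t ht2 ht1 htz
    obtain ⟨u, hu'⟩ := hu t ht2 ht1 htz
    rw [hti_card_split hq2 ρ t ht2, ← hti_card_swap ρ z t u hz hu', pow_two]
  have hstab : ∀ v : V, v ≠ 0 → ∃ s : G, s ^ 2 = 1 ∧ s ≠ 1 ∧ s ≠ z ∧ ρ s v = v ∧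
      ∀ g : G, ρ g v = v → g = 1 ∨ g = s := by
    intro v hv
    have h1 := hs2 v hv
    rw [htb_card_stab, Set.ncard_eq_two] at h1
    obtain ⟨x, y, hxy, hset⟩ := h1
    have hmem : ∀ g : G, ρ g v = v ↔ g = x ∨ g = y := by
      intro g
      have h2 : g ∈ {g : G | ρ g v = v} ↔ g ∈ ({x, y} : Set G) := by rw [hset]
      simpa using h2
    have h1mem : (1 : G) = x ∨ (1 : G) = y := (hmem 1).mp (htb_one_apply ρ v)
    obtain ⟨s, hs1, hsv, hall⟩ : ∃ s : G, s ≠ 1 ∧ ρ s v = v ∧
        ∀ g : G, ρ g v = v → g = 1 ∨ g = s := by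
      rcases h1mem with h | h
      · refine ⟨y, ?_, (hmem y).mpr (Or.inr rfl), ?_⟩
        · rw [h]
          exact hxy.symm
        · intro g hg
          rcases (hmem g).mp hg with h' | h'
          · left
            rw [h', h]
          · right
            exact h'
      · refine ⟨x, ?_, (hmem x).mpr (Or.inl rfl), ?_⟩
        · rw [h]
          exact hxy
        · intro g hg
          rcases (hmem g).mp hg with h' | h'
          · right
            exact h'
          · left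
            rw [h', h]
    refine ⟨s, ?_, hs1, ?_, hsv, hall⟩
    · have h3 : ρ (s ^ 2) v = v := by rw [pow_two, htb_mul_apply, hsv, hsv]
      rcases hall _ h3 with h | h
      · exact h
      · exfalso
        apply hs1
        have h4 : s * s = s * 1 := by rw [← pow_two, h, mul_one]
        exact mul_left_cancel h4
    · rintro rfl
      rw [hz] at hsv
      exact hv (htb_eq_zero_of_neg_eq hq2 v hsv)
  obtain ⟨v0, hv0⟩ := exists_ne (0 : V)
  obtain ⟨t0, ht02, ht01, ht0z, -, -⟩ := hstab v0 hv0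
  have hQ0 := hsq t0 ht02 ht01 ht0z
  have hdvd : Nat.card {v : V // ρ t0 v = v} ∣ q ^ n := by
    rw [← hn, ← hQ0]
    exact dvd_pow_self _ two_ne_zero
  obtain ⟨d, -, hd⟩ := (Nat.dvd_prime_pow hqp).mp hdvd
  have hV : Nat.card V = (q ^ d) ^ 2 := by rw [← hQ0, hd]
  have hfix : ∀ t : G, t ^ 2 = 1 → t ≠ 1 → t ≠ z → Nat.card {v : V // ρ t v = v} = q ^ d := by
    intro t ht2 ht1 htz
    have h1 := hsq t ht2 ht1 htz
    rw [hV] at h1
    exact Nat.pow_left_injective two_ne_zero h1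
  refine ⟨d, hV, ?_, hfix⟩
  -- double counting of pairs `(t, v)` with `t v = v`
  have _iG : Fintype G := Fintype.ofFinite G
  have _iV : Fintype V := Fintype.ofFinite V
  let I : Finset G := Finset.univ.filter (fun t => t ^ 2 = 1 ∧ t ≠ 1 ∧ t ≠ z)
  let V' : Finset V := Finset.univ.filter (fun v => v ≠ 0)
  have hcount := Finset.sum_card_bipartiteAbove_eq_sum_card_bipartiteBelow
    (fun (t : G) (v : V) => ρ t v = v) (s := I) (t := V')
  have hL : ∀ t ∈ I,
      (Finset.bipartiteAbove (fun (t : G) (v : V) => ρ t v = v) V' t).card = q ^ d - 1 := by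
    intro t ht
    rw [Finset.mem_filter] at ht
    obtain ⟨-, ht2, ht1, htz⟩ := ht
    have h1 : Finset.bipartiteAbove (fun (t : G) (v : V) => ρ t v = v) V' t =
        (Finset.univ.filter (fun v : V => ρ t v = v)).erase 0 := by
      ext v
      simp only [Finset.bipartiteAbove, Finset.mem_filter, Finset.mem_univ, true_and,
        Finset.mem_erase, V']
    rw [h1, Finset.card_erase_of_mem (by simp), ← hfix t ht2 ht1 htz, Nat.card_eq_fintype_card,
      Fintype.card_subtype]
  have hR : ∀ v ∈ V',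
      (Finset.bipartiteBelow (fun (t : G) (v : V) => ρ t v = v) I v).card = 1 := by
    intro v hv
    rw [Finset.mem_filter] at hv
    obtain ⟨s, hs2', hs1, hsz, hsv, hall⟩ := hstab v hv.2
    rw [Finset.card_eq_one]
    refine ⟨s, ?_⟩
    ext t
    simp only [Finset.bipartiteBelow, Finset.mem_filter, Finset.mem_univ, true_and,
      Finset.mem_singleton, I]
    constructor
    · rintro ⟨⟨-, ht1, -⟩, htv⟩
      rcases hall t htv with h | h
      · exact absurd h ht1
      · exact h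
    · rintro rfl
      exact ⟨⟨hs2', hs1, hsz⟩, hsv⟩
  rw [Finset.sum_congr rfl hL, Finset.sum_congr rfl hR] at hcount
  simp only [Finset.sum_const, smul_eq_mul, mul_one] at hcount
  have hV' : V'.card = (q ^ d) ^ 2 - 1 := by
    have h1 : V' = Finset.univ.erase 0 := by
      ext v
      simp [V']
    rw [h1, Finset.card_erase_of_mem (Finset.mem_univ _), Finset.card_univ, ← hV,
      Nat.card_eq_fintype_card]
  have hIc : Nat.card {t : G // t ^ 2 = 1 ∧ t ≠ 1 ∧ t ≠ z} = I.card := by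
    rw [Nat.card_eq_fintype_card, Fintype.card_subtype]
  rw [hIc]
  rw [hV'] at hcount
  have hQ2 : 2 ≤ q ^ d := by
    by_contra hlt
    have h1 : q ^ d = 1 := by
      have h2 : 0 < q ^ d := pow_pos hqp.pos d
      omega
    have h3 : Nat.card V = 1 := by rw [hV, h1, one_pow]
    have h4 := Finite.one_lt_card (α := V)
    omega
  obtain ⟨k, hk⟩ : ∃ k, q ^ d = k + 2 := ⟨q ^ d - 2, by omega⟩
  rw [hk] at hcount ⊢
  have h5 : (k + 2) ^ 2 - 1 = (k + 2 + 1) * (k + 2 - 1) := by
    have h6 : (k + 2) ^ 2 = (k + 2 + 1) * (k + 2 - 1) + 1 := by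
      have h7 : k + 2 - 1 = k + 1 := by omega
      rw [h7]
      ring
    omega
  rw [h5] at hcount
  have h8 : 0 < k + 2 - 1 := by omega
  exact (Nat.eq_of_mul_eq_mul_right h8 hcount).symm

end htinv

end Cfsg.Agent.Lib.helper77
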