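import Mathlib
import Cfsg.Agent.Lib.helper77.HTBase

/-!
# S3371 piece MON1 (helper77): in the monomial case all point stabilizers have order 2
-/

set_option autoImplicit false

namespace Cfsg.Agent.Lib.helper77

section htmon1

variable {q : ℕ} [Fact q.Prime] {V : Type*} [AddCommGroup V] [Module (ZMod q) V]
  {G : Type*} [Group G]

/-- Elements commuting with `t` commute with `ρ t`. -/
theorem htm_comm (ρ : G →* (V ≃ₗ[ZMod q] V)) (t d : G) (h : d * t * d⁻¹ = t) (v : V) :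
    ρ t (ρ d v) = ρ d (ρ t v) := by
  have h1 : t * d = d * t := by
    nth_rewrite 1 [← h]
    group
  rw [← htb_mul_apply, h1, htb_mul_apply]

/-- Elements conjugating `t` to `t z` anticommute with `ρ t` (`ρ z = -1`). -/
theorem htm_anti (ρ : G →* (V ≃ₗ[ZMod q] V)) (z t g : G)
    (hz : ∀ v : V, ρ z v = -v) (h : g * t * g⁻¹ = t * z) (v : V) :
    ρ t (ρ g v) = -ρ g (ρ t v) := by
  have h1 : g * t = t * z * g := by
    rw [← h]
    group
  have h2 : ρ g (ρ t v) = ρ t (ρ z (ρ g v)) := by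
    rw [← htb_mul_apply, h1, htb_mul_apply, htb_mul_apply]
  rw [h2, hz, map_neg, neg_neg]

/-- The counting core: every element of the stabilizer of `v₀ ∈ Fix(t)` maps each
`v₁ ∈ Fix(-t)` to `± v₁`. -/
theorem htm_pm [Finite G] (hq2 : q ≠ 2) (ρ : G →* (V ≃ₗ[ZMod q] V))
    (hst : ∀ v w : V, v ≠ 0 → w ≠ 0 →
      Nat.card {g : G // ρ g v = v} = Nat.card {g : G // ρ g w = w})
    (z t : G) (hzc : z ∈ Subgroup.center G)
    (hconj : ∀ g : G, g * t * g⁻¹ = t ∨ g * t * g⁻¹ = t * z)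
    (v₀ v₁ : V) (hv₀ : v₀ ≠ 0) (hv₁ : v₁ ≠ 0) (h0 : ρ t v₀ = v₀) (h1 : ρ t v₁ = -v₁) :
    ∀ d : G, ρ d v₀ = v₀ → ρ d v₁ = v₁ ∨ ρ d v₁ = -v₁ := by
  classical
  have hw : v₀ + v₁ ≠ 0 := by
    intro h
    have h2 : v₁ = -v₀ := by
      rw [eq_neg_iff_add_eq_zero, add_comm]
      exact h
    have h3 : ρ t v₁ = v₁ := by rw [h2, map_neg, h0]
    rw [h1] at h3
    exact hv₁ (htb_eq_zero_of_neg_eq hq2 v₁ h3)
  let A : Set G := {h | ρ h (v₀ + v₁) = v₀ + v₁}
  let S : Set G := {h | ρ h v₀ = v₀}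
  let S₁ : Set G := {h | ρ h v₀ = v₀ ∧ ρ h v₁ = v₁}
  let A₂ : Set G := {h | ρ h (v₀ + v₁) = v₀ + v₁ ∧ h * t * h⁻¹ = t * z}
  -- elements of `A` commuting with `t` lie in `S₁`
  have hA1 : ∀ h : G, ρ h (v₀ + v₁) = v₀ + v₁ → h * t * h⁻¹ = t → h ∈ S₁ := by
    intro h hh hc
    rw [map_add] at hh
    have e0 : ρ t (ρ h v₀) = ρ h v₀ := by rw [htm_comm ρ t h hc, h0]
    have e1 : ρ t (ρ h v₁) = -ρ h v₁ := by rw [htm_comm ρ t h hc, h1, map_neg]
    have hx : ρ h v₀ - v₀ = v₁ - ρ h v₁ := by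
      rw [sub_eq_sub_iff_add_eq_add, hh, add_comm]
    have hx0 : ρ t (ρ h v₀ - v₀) = ρ h v₀ - v₀ := by rw [map_sub, e0, h0]
    have hx1 : ρ t (ρ h v₀ - v₀) = -(ρ h v₀ - v₀) := by
      rw [hx, map_sub, e1, h1]
      abel
    rw [hx0] at hx1
    have hx2 := htb_eq_zero_of_neg_eq hq2 _ hx1.symm
    refine ⟨sub_eq_zero.mp hx2, ?_⟩
    rw [hx2] at hx
    exact (sub_eq_zero.mp hx.symm).symm
  have hAsub : A ⊆ S₁ ∪ A₂ := by
    intro h hh
    rcases hconj h with hc | hc
    · exact Or.inl (hA1 h hh hc)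
    · exact Or.inr ⟨hh, hc⟩
  have hA2 : A₂.ncard ≤ S₁.ncard := by
    by_cases hne : A₂.Nonempty
    · obtain ⟨h, hh, hc⟩ := hne
      apply Set.ncard_le_ncard_of_injOn (fun h' => h⁻¹ * h') _ _ (Set.toFinite _)
      · rintro h' ⟨hh', hc'⟩
        apply hA1
        · rw [htb_mul_apply, hh']
          have h2 := congrArg (ρ h⁻¹) hh
          rw [htb_inv_apply] at h2
          exact h2.symm
        · have hzc' : ∀ x : G, x * z = z * x := Subgroup.mem_center_iff.mp hzc
          have e1 : h⁻¹ * t * h = t * z⁻¹ := by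
            have e2 : h⁻¹ * t * h * z = t := by
              calc h⁻¹ * t * h * z = h⁻¹ * t * (h * z) := by group
                _ = h⁻¹ * t * (z * h) := by rw [hzc' h]
                _ = h⁻¹ * (t * z) * h := by group
                _ = h⁻¹ * (h * t * h⁻¹) * h := by rw [hc]
                _ = t := by group
            calc h⁻¹ * t * h = h⁻¹ * t * h * z * z⁻¹ := by group
              _ = t * z⁻¹ := by rw [e2]
          calc h⁻¹ * h' * t * (h⁻¹ * h')⁻¹ = h⁻¹ * (h' * t * h'⁻¹) * h := by group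
            _ = h⁻¹ * (t * z) * h := by rw [hc']
            _ = h⁻¹ * t * (z * h) := by group
            _ = h⁻¹ * t * (h * z) := by rw [hzc' h]
            _ = (h⁻¹ * t * h) * z := by group
            _ = t * z⁻¹ * z := by rw [e1]
            _ = t := by group
      · intro a _ b _ hab
        exact mul_left_cancel hab
    · rw [Set.not_nonempty_iff_eq_empty] at hne
      rw [hne, Set.ncard_empty]
      exact Nat.zero_le _
  have hAle : A.ncard ≤ 2 * S₁.ncard := by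
    calc A.ncard ≤ (S₁ ∪ A₂).ncard := Set.ncard_le_ncard hAsub (Set.toFinite _)
      _ ≤ S₁.ncard + A₂.ncard := Set.ncard_union_le _ _
      _ ≤ 2 * S₁.ncard := by omega
  let T : Set G := (fun s => t * s) '' S₁
  have hT : T.ncard = S₁.ncard :=
    Set.ncard_image_of_injective _ (fun a b hab => mul_left_cancel hab)
  have hdisj : Disjoint S₁ T := by
    rw [Set.disjoint_left]
    rintro x ⟨-, hx1⟩ ⟨s, ⟨-, hs1⟩, rfl⟩
    rw [htb_mul_apply, hs1, h1] at hx1
    exact hv₁ (htb_eq_zero_of_neg_eq hq2 v₁ hx1)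
  have hsub : S₁ ∪ T ⊆ S := by
    rintro x (⟨hx0, -⟩ | ⟨s, ⟨hs0, -⟩, rfl⟩)
    · exact hx0
    · show ρ (t * s) v₀ = v₀
      rw [htb_mul_apply, hs0, h0]
  have hunion : (S₁ ∪ T).ncard = 2 * S₁.ncard := by
    rw [Set.ncard_union_eq hdisj (Set.toFinite _) (Set.toFinite _), hT]
    omega
  have hSA : S.ncard = A.ncard := by
    have h2 := hst v₀ (v₀ + v₁) hv₀ hw
    rw [htb_card_stab, htb_card_stab] at h2
    exact h2
  have heq : S₁ ∪ T = S :=
    Set.eq_of_subset_of_ncard_le hsub (by rw [hunion, hSA]; exact hAle) (Set.toFinite _)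
  intro d hd
  have hd' : d ∈ S₁ ∪ T := by
    rw [heq]
    exact hd
  rcases hd' with ⟨-, hd1⟩ | ⟨s, ⟨-, hs1⟩, rfl⟩
  · exact Or.inl hd1
  · right
    rw [htb_mul_apply, hs1, h1]

/-- If `d` maps every nonzero vector of an additively closed set to `±` itself, the sign is
uniform. -/
theorem htm_uniform (hq2 : q ≠ 2) (d : V ≃ₗ[ZMod q] V) (P : V → Prop)
    (hadd : ∀ u v : V, P u → P v → P (u + v))
    (h : ∀ v : V, P v → v ≠ 0 → d v = v ∨ d v = -v) :
    (∀ v : V, P v → d v = v) ∨ (∀ v : V, P v → d v = -v) := by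
  by_contra hcon
  push Not at hcon
  obtain ⟨⟨v, hPv, hv⟩, ⟨v', hPv', hv'⟩⟩ := hcon
  have hv0 : v ≠ 0 := by
    rintro rfl
    exact hv (map_zero d)
  have hv'0 : v' ≠ 0 := by
    rintro rfl
    apply hv'
    rw [map_zero, neg_zero]
  have e1 : d v = -v := (h v hPv hv0).resolve_left hv
  have e2 : d v' = v' := (h v' hPv' hv'0).resolve_right hv'
  by_cases hs : v + v' = 0
  · have h3 : v' = -v := by
      rw [eq_neg_iff_add_eq_zero, add_comm]
      exact hs
    rw [h3, map_neg, e1, neg_neg] at e2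
    exact hv0 (htb_eq_zero_of_neg_eq hq2 v e2.symm ▸ rfl)
  · rcases h (v + v') (hadd v v' hPv hPv') hs with h4 | h4
    · rw [map_add, e1, e2] at h4
      have h5 : -v = v := add_right_cancel h4
      exact hv0 (htb_eq_zero_of_neg_eq hq2 v h5)
    · rw [map_add, e1, e2, neg_add] at h4
      have h5 : v' = -v' := add_left_cancel h4
      exact hv'0 (htb_eq_zero_of_neg_eq hq2 v' h5.symm)

/-- PIECE MON1 -/
theorem ht_mon_stab {q : ℕ} [Fact q.Prime] {V : Type*} [AddCommGroup V] [Module (ZMod q) V] [Finite V]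
    {G : Type*} [Group G] [Finite G] (hq2 : q ≠ 2)
    (ρ : G →* (V ≃ₗ[ZMod q] V)) (hρ : Function.Injective ρ)
    (hst : ∀ v w : V, v ≠ 0 → w ≠ 0 → Nat.card {g : G // ρ g v = v} = Nat.card {g : G // ρ g w = w})
    (z t : G) (hzc : z ∈ Subgroup.center G) (hz : ∀ v : V, ρ z v = -v) (ht2 : t ^ 2 = 1)
    (hconj : ∀ g : G, g * t * g⁻¹ = t ∨ g * t * g⁻¹ = t * z)
    (hnc : ∃ g : G, g * t * g⁻¹ = t * z)
    (v₀ : V) (hv₀ : v₀ ≠ 0) (htv : ρ t v₀ = v₀) :
    ∀ v : V, v ≠ 0 → Nat.card {g : G // ρ g v = v} = 2 := by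
  classical
  have h2ne := htb_two_ne_zero (q := q) hq2
  obtain ⟨g₀, hg₀⟩ := hnc
  have htt : ∀ v, ρ t (ρ t v) = v := fun v => by
    rw [← htb_mul_apply, ← pow_two, ht2, htb_one_apply]
  -- a nonzero vector in the `-1`-eigenspace
  have hv₁ : ρ g₀ v₀ ≠ 0 := by
    intro h
    exact hv₀ ((ρ g₀).injective (h.trans (map_zero (ρ g₀)).symm))
  have hv₁t : ρ t (ρ g₀ v₀) = -ρ g₀ v₀ := by
    rw [htm_anti ρ z t g₀ hz hg₀, htv]
  have ht1 : t ≠ 1 := by
    rintro rfl
    rw [htb_one_apply] at hv₁t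
    exact hv₁ (htb_eq_zero_of_neg_eq hq2 _ hv₁t.symm)
  -- `t z` has the same properties with the eigenspaces exchanged
  have hconj' : ∀ g : G, g * (t * z) * g⁻¹ = t * z ∨ g * (t * z) * g⁻¹ = t * z * z := by
    intro g
    have hzc' : g * z = z * g := Subgroup.mem_center_iff.mp hzc g
    have e1 : g * (t * z) * g⁻¹ = g * t * g⁻¹ * z := by
      calc g * (t * z) * g⁻¹ = g * t * (z * g⁻¹) := by group
        _ = g * t * (g⁻¹ * z) := by
          have e2 : z * g⁻¹ = g⁻¹ * z := by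
            calc z * g⁻¹ = g⁻¹ * (g * z) * g⁻¹ := by group
              _ = g⁻¹ * (z * g) * g⁻¹ := by rw [hzc']
              _ = g⁻¹ * z := by group
          rw [e2]
        _ = g * t * g⁻¹ * z := by group
    rcases hconj g with h | h
    · left
      rw [e1, h]
    · right
      rw [e1, h]
  have htz : ∀ v : V, ρ (t * z) v = -ρ t v := by
    intro v
    rw [htb_mul_apply, hz, map_neg]
  -- stabilizer of `v₀`: sign on the `-1`-eigenspace
  have hS1 : ∀ d : G, ρ d v₀ = v₀ →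
      (∀ v : V, ρ t v = -v → ρ d v = v) ∨ (∀ v : V, ρ t v = -v → ρ d v = -v) := by
    intro d hd
    apply htm_uniform hq2 (ρ d) (fun v => ρ t v = -v)
    · intro u v hu hv
      show ρ t (u + v) = -(u + v)
      rw [map_add, hu, hv, neg_add]
    · intro v hv hv0
      exact htm_pm hq2 ρ hst z t hzc hconj v₀ v hv₀ hv0 htv hv d hd
  -- stabilizer of `v₁`: sign on the `+1`-eigenspace
  have hS2 : ∀ d : G, ρ d (ρ g₀ v₀) = ρ g₀ v₀ →
      (∀ v : V, ρ t v = v → ρ d v = v) ∨ (∀ v : V, ρ t v = v → ρ d v = -v) := by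
    intro d hd
    apply htm_uniform hq2 (ρ d) (fun v => ρ t v = v)
    · intro u v hu hv
      show ρ t (u + v) = u + v
      rw [map_add, hu, hv]
    · intro v hv hv0
      apply htm_pm hq2 ρ hst z (t * z) hzc hconj' (ρ g₀ v₀) v hv₁ hv0 _ _ d hd
      · rw [htz, hv₁t, neg_neg]
      · rw [htz, hv]
  -- an element fixing `v₀` and acting trivially on the `-1`-eigenspace is trivial
  have hA : ∀ d : G, ρ d v₀ = v₀ → (∀ v : V, ρ t v = -v → ρ d v = v) → d = 1 := by
    intro d hd hdm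
    have hd1 : ρ d (ρ g₀ v₀) = ρ g₀ v₀ := hdm _ hv₁t
    have hdp : ∀ v : V, ρ t v = v → ρ d v = v := by
      rcases hS2 d hd1 with h | h
      · exact h
      · exfalso
        have h3 := h v₀ htv
        rw [hd] at h3
        exact hv₀ (htb_eq_zero_of_neg_eq hq2 v₀ h3.symm)
    apply hρ
    ext v
    rw [map_one]
    show ρ d v = v
    have hdec : v = (2 : ZMod q)⁻¹ • (v + ρ t v) + (2 : ZMod q)⁻¹ • (v - ρ t v) := by
      rw [← smul_add, add_add_sub_cancel, ← two_smul (ZMod q) v, smul_smul, inv_mul_cancel₀ h2ne,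
        one_smul]
    have hp1 : ρ t ((2 : ZMod q)⁻¹ • (v + ρ t v)) = (2 : ZMod q)⁻¹ • (v + ρ t v) := by
      rw [map_smul, map_add, htt, add_comm]
    have hm1 : ρ t ((2 : ZMod q)⁻¹ • (v - ρ t v)) = -((2 : ZMod q)⁻¹ • (v - ρ t v)) := by
      rw [map_smul, map_sub, htt, ← smul_neg, neg_sub]
    have e1 := hdp _ hp1
    have e2 := hdm _ hm1
    calc ρ d v = ρ d ((2 : ZMod q)⁻¹ • (v + ρ t v) + (2 : ZMod q)⁻¹ • (v - ρ t v)) := by
          rw [← hdec]
      _ = (2 : ZMod q)⁻¹ • (v + ρ t v) + (2 : ZMod q)⁻¹ • (v - ρ t v) := by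
          rw [map_add, e1, e2]
      _ = v := hdec.symm
  -- the stabilizer of `v₀` is `{1, t}`
  have hstab : {d : G | ρ d v₀ = v₀} = {1, t} := by
    ext d
    rw [Set.mem_insert_iff, Set.mem_singleton_iff]
    constructor
    · intro hd'
      have hd : ρ d v₀ = v₀ := hd'
      rcases hS1 d hd with h | h
      · exact Or.inl (hA d hd h)
      · right
        have h3 : t * d = 1 := by
          apply hA (t * d)
          · rw [htb_mul_apply, hd, htv]
          · intro v hv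
            rw [htb_mul_apply, h v hv, map_neg, hv, neg_neg]
        have h4 : t * t = 1 := by rw [← pow_two, ht2]
        calc d = t * t * d := by rw [h4, one_mul]
          _ = t * (t * d) := by group
          _ = t := by rw [h3, mul_one]
    · rintro (rfl | rfl)
      · show ρ 1 v₀ = v₀
        exact htb_one_apply ρ v₀
      · show ρ d v₀ = v₀
        exact htv
  intro v hv
  rw [hst v v₀ hv hv₀, htb_card_stab, hstab]
  exact Set.ncard_pair ht1.symm

end htmon1

end Cfsg.Agent.Lib.helper77
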