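import Mathlib
import Cfsg.Agent.Lib.helper77.HTBase

/-!
# S3371 piece PAIR1 (helper77): some `a z^j` fixes a nonzero vector
-/

set_option autoImplicit false

namespace Cfsg.Agent.Lib.helper77

/-- PIECE PAIR1 -/
theorem ht_pair_fix {q : ℕ} [Fact q.Prime] {V : Type*} [AddCommGroup V] [Module (ZMod q) V] [Finite V]
    [Nontrivial V] {G : Type*} [Group G] {p : ℕ} [Fact p.Prime] (hpq : p ≠ q)
    (ρ : G →* (V ≃ₗ[ZMod q] V)) (z a : G) (hza : z * a = a * z) (hzp : z ^ p = 1) (hap : a ^ p = 1)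
    (hzf : ∀ k : ℕ, 0 < k → k < p → ∀ v : V, ρ (z ^ k) v = v → v = 0) :
    ∃ j : ℕ, j < p ∧ ∃ v : V, v ≠ 0 ∧ ρ (a * z ^ j) v = v := by
  by_contra hcon
  push Not at hcon
  have hp : p.Prime := Fact.out
  have hqp : q.Prime := Fact.out
  obtain ⟨v, hv⟩ := exists_ne (0 : V)
  have hcomm : ∀ j : ℕ, Commute a (z ^ j) := fun j => (Commute.pow_right hza.symm j)
  -- each `a z^j` is fixed-point-free of order dividing `p`
  have h1 : ∀ j ∈ Finset.range p, ∑ m ∈ Finset.range p, ρ ((a * z ^ j) ^ m) v = 0 := by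
    intro j hj
    rw [Finset.mem_range] at hj
    apply htb_pow_sum_zero ρ (a * z ^ j) p
    · rw [(hcomm j).mul_pow, hap, ← pow_mul, mul_comm, pow_mul, hzp, one_pow, one_mul]
    · intro w hw
      by_contra hw0
      exact hcon j hj w hw0 hw
  have h2 : ∑ j ∈ Finset.range p, ∑ m ∈ Finset.range p, ρ ((a * z ^ j) ^ m) v = 0 :=
    Finset.sum_eq_zero h1
  rw [Finset.sum_comm] at h2
  have h3 : ∀ m ∈ Finset.range p, ∑ j ∈ Finset.range p, ρ ((a * z ^ j) ^ m) v =
      ρ (a ^ m) (∑ j ∈ Finset.range p, ρ ((z ^ m) ^ j) v) := by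
    intro m _
    rw [map_sum]
    apply Finset.sum_congr rfl
    intro j _
    rw [(hcomm j).mul_pow, htb_mul_apply, ← pow_mul, ← pow_mul, mul_comm j m]
  rw [Finset.sum_congr rfl h3] at h2
  have h4 : ∑ m ∈ Finset.range p, ρ (a ^ m) (∑ j ∈ Finset.range p, ρ ((z ^ m) ^ j) v) =
      ρ (a ^ 0) (∑ j ∈ Finset.range p, ρ ((z ^ 0) ^ j) v) := by
    apply Finset.sum_eq_single 0
    · intro m hm hm0
      rw [Finset.mem_range] at hm
      have h5 : ∑ j ∈ Finset.range p, ρ ((z ^ m) ^ j) v = 0 := by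
        apply htb_pow_sum_zero ρ (z ^ m) p
        · rw [← pow_mul, mul_comm, pow_mul, hzp, one_pow]
        · exact hzf m (Nat.pos_of_ne_zero hm0) hm
      rw [h5, map_zero]
    · intro h0
      exact absurd (Finset.mem_range.mpr hp.pos) h0
  rw [h4] at h2
  simp only [pow_zero, one_pow, htb_one_apply, Finset.sum_const, Finset.card_range] at h2
  rw [← Nat.cast_smul_eq_nsmul (ZMod q)] at h2
  rcases smul_eq_zero.mp h2 with h5 | h5
  · rw [ZMod.natCast_eq_zero_iff] at h5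
    exact hpq ((Nat.prime_dvd_prime_iff_eq hqp hp).mp h5).symm
  · exact hv h5

end Cfsg.Agent.Lib.helper77
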