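import Mathlib
import Cfsg.Agent.Lib.helper77.HTBase

/-!
# S3371 piece PAIR2 (helper77): the odd case of the pair argument is contradictory
-/

set_option autoImplicit false

namespace Cfsg.Agent.Lib.helper77

section htpair2

variable {q : ℕ} [Fact q.Prime] {V : Type*} [AddCommGroup V] [Module (ZMod q) V]
  {G : Type*} [Group G]

/-- `p` times the projection onto the fixed space of `t z^k`. -/
def htpS (ρ : G →* (V ≃ₗ[ZMod q] V)) (t z : G) (p k : ℕ) (v : V) : V :=
  ∑ m ∈ Finset.range p, ρ ((t * z ^ k) ^ m) v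

theorem htpS_add (ρ : G →* (V ≃ₗ[ZMod q] V)) (t z : G) (p k : ℕ) (u v : V) :
    htpS ρ t z p k (u + v) = htpS ρ t z p k u + htpS ρ t z p k v := by
  unfold htpS
  rw [← Finset.sum_add_distrib]
  apply Finset.sum_congr rfl
  intro m _
  rw [map_add]

theorem htpS_zero_vec (ρ : G →* (V ≃ₗ[ZMod q] V)) (t z : G) (p k : ℕ) :
    htpS ρ t z p k (0 : V) = 0 := by
  unfold htpS
  apply Finset.sum_eq_zero
  intro m _
  rw [map_zero]

theorem htp_pow_fix (ρ : G →* (V ≃ₗ[ZMod q] V)) (g : G) (v : V) (h : ρ g v = v) (m : ℕ) :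
    ρ (g ^ m) v = v := by
  induction m with
  | zero => rw [pow_zero, htb_one_apply]
  | succ m ih => rw [pow_succ, htb_mul_apply, h, ih]

theorem htpS_fix (ρ : G →* (V ≃ₗ[ZMod q] V)) (t z : G) (p k : ℕ) (v : V)
    (h : ρ (t * z ^ k) v = v) : htpS ρ t z p k v = p • v := by
  unfold htpS
  rw [Finset.sum_congr rfl (fun m _ => htp_pow_fix ρ (t * z ^ k) v h m), Finset.sum_const,
    Finset.card_range]

theorem htpS_zero (ρ : G →* (V ≃ₗ[ZMod q] V)) (t z : G) (p : ℕ) (hp : 0 < p)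
    (hzc : z ∈ Subgroup.center G) (hzp : z ^ p = 1)
    (hzf : ∀ k : ℕ, 0 < k → k < p → ∀ v : V, ρ (z ^ k) v = v → v = 0)
    (k l e : ℕ) (hkl : z ^ k = z ^ l * z ^ e) (he : ¬ p ∣ e) (v : V)
    (h : ρ (t * z ^ l) v = v) : htpS ρ t z p k v = 0 := by
  unfold htpS
  have hcomm : Commute (z ^ e) (t * z ^ l) := by
    apply Commute.pow_left
    exact (Subgroup.mem_center_iff.mp hzc (t * z ^ l)).symm
  have h1 : ∀ m ∈ Finset.range p, ρ ((t * z ^ k) ^ m) v = ρ ((z ^ e) ^ m) v := by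
    intro m _
    have h2 : t * z ^ k = z ^ e * (t * z ^ l) := by
      rw [hkl, ← mul_assoc]
      exact hcomm.eq.symm
    rw [h2, hcomm.mul_pow, htb_mul_apply, htp_pow_fix ρ (t * z ^ l) v h m]
  rw [Finset.sum_congr rfl h1]
  apply htb_pow_sum_zero ρ (z ^ e) p
  · rw [← pow_mul, mul_comm, pow_mul, hzp, one_pow]
  · have h3 : z ^ e = z ^ (e % p) := by
      conv_lhs => rw [← Nat.mod_add_div e p]
      rw [pow_add, pow_mul, hzp, one_pow, mul_one]
    rw [h3]
    exact hzf (e % p) (Nat.pos_of_ne_zero (fun h0 => he (Nat.dvd_of_mod_eq_zero h0)))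
      (Nat.mod_lt e hp)

theorem htp_not_dvd (p n : ℕ) (h0 : 0 < n) (h2 : n < 2 * p) (hne : n ≠ p) : ¬ p ∣ n := by
  rintro ⟨c, rfl⟩
  rcases c with _ | _ | c
  · simp at h0
  · simp at hne
  · have h3 : 2 * p ≤ p * (c + 1 + 1) := by
      have h4 : p * (c + 1 + 1) = 2 * p + p * c := by ring
      omega
    omega

theorem htp_smul_eq_zero {p : ℕ} [Fact p.Prime] (hpq : p ≠ q) (v : V) (h : p • v = 0) :
    v = 0 := by
  have hp : p.Prime := Fact.out
  have hqp : q.Prime := Fact.out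
  rw [← Nat.cast_smul_eq_nsmul (ZMod q)] at h
  rcases smul_eq_zero.mp h with h5 | h5
  · rw [ZMod.natCast_eq_zero_iff] at h5
    exact absurd ((Nat.prime_dvd_prime_iff_eq hqp hp).mp h5).symm hpq
  · exact h5

/-- PIECE PAIR2 -/
theorem ht_pair_odd {q : ℕ} [Fact q.Prime] {V : Type*} [AddCommGroup V] [Module (ZMod q) V] [Finite V]
    {G : Type*} [Group G] [Finite G] {p : ℕ} [Fact p.Prime] (hpq : p ≠ q) (hp2 : p ≠ 2)
    (ρ : G →* (V ≃ₗ[ZMod q] V))
    (hst : ∀ v w : V, v ≠ 0 → w ≠ 0 → Nat.card {g : G // ρ g v = v} = Nat.card {g : G // ρ g w = w})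
    (z t : G) (hzc : z ∈ Subgroup.center G) (hzp : z ^ p = 1) (htp : t ^ p = 1)
    (hzf : ∀ k : ℕ, 0 < k → k < p → ∀ v : V, ρ (z ^ k) v = v → v = 0)
    (hconj : ∀ g : G, ∃ j : ℕ, j < p ∧ g * t * g⁻¹ = t * z ^ j)
    (hnc : ∃ g : G, g * t * g⁻¹ ≠ t)
    (v₀ : V) (hv₀ : v₀ ≠ 0) (htv : ρ t v₀ = v₀) : False := by
  have _htp := htp
  have hp : p.Prime := Fact.out
  obtain ⟨g, hg⟩ := hnc
  obtain ⟨j, hjp, hgj⟩ := hconj g
  have hj0 : j ≠ 0 := by
    rintro rfl
    rw [pow_zero, mul_one] at hgj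
    exact hg hgj
  have hj0' : 0 < j := Nat.pos_of_ne_zero hj0
  have hzadd : ∀ a c : ℕ, z ^ (a + c * p) = z ^ a := by
    intro a c
    rw [pow_add, mul_comm c p, pow_mul, hzp, one_pow, mul_one]
  have hzpow_comm : ∀ (n : ℕ) (x : G), x * z ^ n = z ^ n * x := by
    intro n x
    exact ((Subgroup.center G).pow_mem hzc n |> Subgroup.mem_center_iff.mp) x
  have hv₁ : ρ g v₀ ≠ 0 := by
    intro h
    apply hv₀
    have h1 := (ρ g).injective (h.trans (map_zero (ρ g)).symm)
    exact h1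
  have hv₁fix : ρ (t * z ^ j) (ρ g v₀) = ρ g v₀ := by
    rw [← hgj, ← htb_mul_apply]
    have h1 : g * t * g⁻¹ * g = g * t := by group
    rw [h1, htb_mul_apply, htv]
  have hv₀fix : ρ (t * z ^ 0) v₀ = v₀ := by
    rw [pow_zero, mul_one]
    exact htv
  -- abbreviations for the two projections
  have S0v0 : htpS ρ t z p 0 v₀ = p • v₀ := htpS_fix ρ t z p 0 v₀ hv₀fix
  have S0v1 : htpS ρ t z p 0 (ρ g v₀) = 0 := by
    apply htpS_zero ρ t z p hp.pos hzc hzp hzf 0 j (p - j) _ _ _ hv₁fix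
    · rw [← pow_add]
      have h1 : j + (p - j) = 0 + 1 * p := by omega
      rw [h1, hzadd]
    · exact Nat.not_dvd_of_pos_of_lt (by omega) (by omega)
  have Sjv0 : htpS ρ t z p j v₀ = 0 := by
    apply htpS_zero ρ t z p hp.pos hzc hzp hzf j 0 j _ _ _ hv₀fix
    · rw [pow_zero, one_mul]
    · exact Nat.not_dvd_of_pos_of_lt hj0' hjp
  have Sjv1 : htpS ρ t z p j (ρ g v₀) = p • ρ g v₀ := htpS_fix ρ t z p j _ hv₁fix
  -- the key: stabilizer of `v₀ + v₁`
  have key : ∀ h : G, ρ h (v₀ + ρ g v₀) = v₀ + ρ g v₀ → ρ h v₀ = v₀ := by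
    intro h hw
    obtain ⟨i, hip, hhi⟩ := hconj h
    have h0fix : ρ (t * z ^ i) (ρ h v₀) = ρ h v₀ := by
      rw [← hhi, ← htb_mul_apply]
      have h1 : h * t * h⁻¹ * h = h * t := by group
      rw [h1, htb_mul_apply, htv]
    have h1fix : ρ (t * z ^ (i + j)) (ρ h (ρ g v₀)) = ρ h (ρ g v₀) := by
      have e1 : t * z ^ (i + j) = h * (t * z ^ j) * h⁻¹ := by
        have h2 : h * z ^ j * h⁻¹ = z ^ j := by
          rw [hzpow_comm j h]
          group
        calc t * z ^ (i + j) = (t * z ^ i) * z ^ j := by rw [pow_add, mul_assoc]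
          _ = (h * t * h⁻¹) * (h * z ^ j * h⁻¹) := by rw [hhi, h2]
          _ = h * (t * z ^ j) * h⁻¹ := by group
      rw [e1, ← htb_mul_apply]
      have h3 : h * (t * z ^ j) * h⁻¹ * h = h * (t * z ^ j) := by group
      rw [h3, htb_mul_apply, hv₁fix]
    have heq : ρ h v₀ + ρ h (ρ g v₀) = v₀ + ρ g v₀ := by
      rw [← map_add]
      exact hw
    by_cases hi0 : i = 0
    · subst hi0
      have a0 := congrArg (htpS ρ t z p 0) heq
      rw [htpS_add, htpS_add, S0v0, S0v1, htpS_fix ρ t z p 0 _ h0fix] at a0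
      have b1 : htpS ρ t z p 0 (ρ h (ρ g v₀)) = 0 := by
        apply htpS_zero ρ t z p hp.pos hzc hzp hzf 0 (0 + j) (p - j) _ _ _ h1fix
        · rw [← pow_add]
          have h1 : 0 + j + (p - j) = 0 + 1 * p := by omega
          rw [h1, hzadd]
        · exact Nat.not_dvd_of_pos_of_lt (by omega) (by omega)
      rw [b1, add_zero, add_zero] at a0
      have a1 : p • (ρ h v₀ - v₀) = 0 := by rw [smul_sub, a0, sub_self]
      exact sub_eq_zero.mp (htp_smul_eq_zero hpq _ a1)
    · exfalso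
      have hi0' : 0 < i := Nat.pos_of_ne_zero hi0
      by_cases hij : p ∣ i + j
      · have hsum : i + j = p := by
          by_contra hne
          exact htp_not_dvd p (i + j) (by omega) (by omega) hne hij
        have hne : i ≠ j := by
          rintro rfl
          have h2 : 2 ∣ p := ⟨i, by omega⟩
          exact hp2 ((Nat.prime_dvd_prime_iff_eq Nat.prime_two hp).mp h2).symm
        have a0 := congrArg (htpS ρ t z p j) heq
        rw [htpS_add, htpS_add, Sjv0, Sjv1] at a0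
        have b0 : htpS ρ t z p j (ρ h v₀) = 0 := by
          apply htpS_zero ρ t z p hp.pos hzc hzp hzf j i (j + p - i) _ _ _ h0fix
          · rw [← pow_add]
            have h1 : i + (j + p - i) = j + 1 * p := by omega
            rw [h1, hzadd]
          · exact htp_not_dvd p (j + p - i) (by omega) (by omega) (by omega)
        have b1 : htpS ρ t z p j (ρ h (ρ g v₀)) = 0 := by
          apply htpS_zero ρ t z p hp.pos hzc hzp hzf j (i + j) (p - i) _ _ _ h1fix
          · rw [← pow_add]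
            have h1 : i + j + (p - i) = j + 1 * p := by omega
            rw [h1, hzadd]
          · exact Nat.not_dvd_of_pos_of_lt (by omega) (by omega)
        rw [b0, b1, add_zero, zero_add] at a0
        exact hv₁ (htp_smul_eq_zero hpq _ a0.symm)
      · have a0 := congrArg (htpS ρ t z p 0) heq
        rw [htpS_add, htpS_add, S0v0, S0v1] at a0
        have b0 : htpS ρ t z p 0 (ρ h v₀) = 0 := by
          apply htpS_zero ρ t z p hp.pos hzc hzp hzf 0 i (p - i) _ _ _ h0fix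
          · rw [← pow_add]
            have h1 : i + (p - i) = 0 + 1 * p := by omega
            rw [h1, hzadd]
          · exact Nat.not_dvd_of_pos_of_lt (by omega) (by omega)
        have b1 : htpS ρ t z p 0 (ρ h (ρ g v₀)) = 0 := by
          apply htpS_zero ρ t z p hp.pos hzc hzp hzf 0 (i + j) (2 * p - (i + j)) _ _ _ h1fix
          · rw [← pow_add]
            have h1 : i + j + (2 * p - (i + j)) = 0 + 2 * p := by omega
            rw [h1, hzadd]
          · intro hd
            apply hij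
            obtain ⟨c, hc⟩ := hd
            rcases c with _ | _ | c
            · omega
            · exact ⟨1, by omega⟩
            · have h4 : p * (c + 1 + 1) = 2 * p + p * c := by ring
              omega
        rw [b0, b1, add_zero, add_zero] at a0
        exact hv₀ (htp_smul_eq_zero hpq _ a0.symm)
  -- `v₀ + v₁ ≠ 0`
  have hw : v₀ + ρ g v₀ ≠ 0 := by
    intro h
    have a0 := congrArg (htpS ρ t z p 0) h
    rw [htpS_add, S0v0, S0v1, htpS_zero_vec, add_zero] at a0
    exact hv₀ (htp_smul_eq_zero hpq _ a0)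
  -- the stabilizers of `v₀ + v₁` and `v₀` coincide
  have hsub : {h : G | ρ h (v₀ + ρ g v₀) = v₀ + ρ g v₀} ⊆ {h : G | ρ h v₀ = v₀} :=
    fun h hh => key h hh
  have hcard : Set.ncard {h : G | ρ h v₀ = v₀} ≤
      Set.ncard {h : G | ρ h (v₀ + ρ g v₀) = v₀ + ρ g v₀} := by
    rw [← htb_card_stab, ← htb_card_stab, hst v₀ (v₀ + ρ g v₀) hv₀ hw]
  have heqs := Set.eq_of_subset_of_ncard_le hsub hcard (Set.toFinite _)
  have ht : t ∈ {h : G | ρ h (v₀ + ρ g v₀) = v₀ + ρ g v₀} := by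
    rw [heqs]
    exact htv
  have ht1 : ρ t (ρ g v₀) = ρ g v₀ := by
    have h1 : ρ t (v₀ + ρ g v₀) = v₀ + ρ g v₀ := ht
    rw [map_add, htv] at h1
    exact add_left_cancel h1
  have h2 : ρ (z ^ j) (ρ g v₀) = ρ g v₀ := by
    have h3 := hv₁fix
    rw [htb_mul_apply] at h3
    exact (ρ t).injective (h3.trans ht1.symm)
  exact hv₁ (hzf j hj0' hjp _ h2)

end htpair2

end Cfsg.Agent.Lib.helper77
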