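import Mathlib
import Cfsg.Prelude.Def_Characters
import Cfsg.Prelude.Def_CharExt
import Cfsg.Agent.Lib.helper19.CanonExt
import Cfsg.Agent.Lib.helper19.GlaubChar
import Cfsg.Agent.Lib.helper79.GaloisChar
import Cfsg.Agent.Lib.helper32.CyclicTIGalois
import Cfsg.Agent.Lib.helper82.CliffordCorr

/-!
# Power-invariant canonical extensions (helper77)

* `canon_ext_pow`: for a normal subgroup `N` of `T` of index coprime to `|N|` and a `T`-invariant
  irreducible character `ϑ` of `N`, the canonical extension `χ` of `ϑ` satisfies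
  `χ (t ^ m) = χ t` whenever `m` is coprime to `|T|` and `m ≡ 1 [MOD |N|]`;
* `exists_irr_over_pow`: for a normal subgroup `K` of `H` of index coprime to `|K|`, every
  irreducible character `θ` of `K` lies under an irreducible character `η` of `H` with
  `[η|K, θ] = 1` and the same power invariance.
-/

set_option autoImplicit false

namespace Cfsg.Agent.Lib.helper77

open Cfsg
open Cfsg.Agent.Lib

universe u

/-- The canonical extension is invariant under the power maps `t ↦ t ^ m`, `m ≡ 1 [MOD |N|]`. -/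
theorem canon_ext_pow {T : Type u} [Group T] [Finite T] (N : Subgroup T) [hN : N.Normal]
    (ϑ : N → ℂ) (hϑ : IsIrrCharacter N ϑ)
    (hinv : ∀ (g : T) (n : N), ϑ ⟨g * n * g⁻¹, hN.conj_mem (n : T) n.2 g⟩ = ϑ n)
    (hcop : Nat.Coprime N.index (Nat.card N)) :
    ∃ χ : T → ℂ, IsIrrCharacter T χ ∧ (∀ n : N, χ n = ϑ n) ∧
      ∀ m : ℕ, m.Coprime (Nat.card T) → m ≡ 1 [MOD Nat.card N] → ∀ t : T, χ (t ^ m) = χ t := by
  obtain ⟨d, -, hd⟩ := helper4.exists_pos_nat_degree hϑ
  have hdN : d ∣ Nat.card N := helper19.irr_degree_dvd_card_nat hϑ d hd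
  obtain ⟨f, hf⟩ := helper19.exists_detChar_hom (helper19.isCharacter_of_isIrr hϑ)
  have hdet : detOrder ϑ = orderOf f := helper19.detOrder_eq_orderOf f hf
  have hoN : detOrder ϑ ∣ Nat.card N := by
    rw [hdet]
    exact orderOf_dvd_of_pow_eq_one (helper32.hom_pow_card f)
  have hcop' : Nat.Coprime N.index (detOrder ϑ * d) :=
    Nat.Coprime.mul_right (Nat.Coprime.coprime_dvd_right hoN hcop)
      (Nat.Coprime.coprime_dvd_right hdN hcop)
  obtain ⟨χ, ⟨hχirr, hχN, hχdet⟩, huniq⟩ :=
    helper19.exists_canonical_extension N ϑ hϑ hinv d hd hcop'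
  refine ⟨χ, hχirr, hχN, ?_⟩
  intro m hm hm1 t
  have h1 : IsIrrCharacter T (fun g => χ (g ^ m)) :=
    helper79.isIrrCharacter_pow_coprime m hm hχirr
  have h2 : ∀ n : N, (fun g => χ (g ^ m)) (n : T) = ϑ n := by
    intro n
    have hn : n ^ m = n := by
      rw [← pow_mod_natCard, hm1, pow_mod_natCard, pow_one]
    have : ((n : T)) ^ m = ((n ^ m : N) : T) := by simp
    show χ ((n : T) ^ m) = ϑ n
    rw [this, hn, hχN]
  have hmN : Nat.Coprime m (Nat.card N) := by
    have := hm1.gcd_eq
    rw [Nat.gcd_one_left] at this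
    exact this
  have h3 : Nat.Coprime N.index (detOrder (fun g => χ (g ^ m))) := by
    obtain ⟨F, hF⟩ := helper19.exists_detChar_hom (helper19.isCharacter_of_isIrr hχirr)
    have hdχ : detOrder χ = orderOf F := helper19.detOrder_eq_orderOf F hF
    have hFm : ∀ g : T, detChar (fun g => χ (g ^ m)) g = ((F ^ m) g : ℂ) := by
      intro g
      rw [helper19.detChar_pow_coprime m hm (helper19.isCharacter_of_isIrr hχirr)]
      show detChar χ (g ^ m) = _
      rw [hF]
      simp
    have hdm : detOrder (fun g => χ (g ^ m)) = orderOf (F ^ m) :=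
      helper19.detOrder_eq_orderOf (F ^ m) hFm
    have hcopF : (orderOf F).Coprime m := by
      rw [← hdχ, hχdet]
      exact Nat.Coprime.coprime_dvd_left hoN hmN.symm
    rw [hdm, hcopF.orderOf_pow, ← hdχ, hχdet]
    exact Nat.Coprime.coprime_dvd_right hoN hcop
  exact congrFun (huniq _ h1 h2 h3) t

/-- Over every irreducible character `θ` of a normal subgroup `K` of index coprime to `|K|` there
is an irreducible character `η` of `H` with `[η|K, θ] = 1` which is invariant under the power
maps `h ↦ h ^ m`, `m ≡ 1 [MOD |K|]`. -/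
theorem exists_irr_over_pow {H : Type u} [Group H] [Fintype H] (K : Subgroup H) [hK : K.Normal]
    [Fintype K] (hcop : Nat.Coprime K.index (Nat.card K)) (θ : K → ℂ)
    (hθ : IsIrrCharacter K θ) :
    ∃ η : H → ℂ, IsIrrCharacter H η ∧ classInner (fun n : K => η n) θ = 1 ∧
      ∀ m : ℕ, m.Coprime (Nat.card H) → m ≡ 1 [MOD Nat.card K] → ∀ h : H, η (h ^ m) = η h := by
  classical
  obtain ⟨T, hT⟩ : ∃ T : Subgroup H, T = helper82.inertia K θ := ⟨_, rfl⟩
  have : Fintype T := Fintype.ofFinite _
  have hcf : IsClassFunction K θ :=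
    helper4.isClassFunction_of_isGeneralizedCharacter
      (helper4.isGeneralizedCharacter_of_isIrrCharacter hθ)
  have hKT : K ≤ T := hT ▸ helper82.le_inertia K hcf
  have hϑ : IsIrrCharacter (K.subgroupOf T) (helper82.subRes K T θ) :=
    helper82.isIrrCharacter_subRes K T hKT hθ
  have hinv : ∀ (g : T) (n : K.subgroupOf T),
      helper82.subRes K T θ ⟨g * n * g⁻¹, (inferInstance : (K.subgroupOf T).Normal).conj_mem
        (n : T) n.2 g⟩ = helper82.subRes K T θ n := by
    intro g
    rw [← helper82.cconj_eq_iff, helper82.cconj_subRes]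
    have hg : (g : H) ∈ helper82.inertia K θ := hT ▸ g.2
    rw [(helper82.mem_inertia K θ (g : H)).mp hg]
  have hcard : Nat.card (K.subgroupOf T) = Nat.card K :=
    Nat.card_congr (Subgroup.subgroupOfEquivOfLe hKT).toEquiv
  have hcop' : Nat.Coprime (K.subgroupOf T).index (Nat.card (K.subgroupOf T)) := by
    rw [hcard]
    exact Nat.Coprime.coprime_dvd_left (Subgroup.relIndex_dvd_index_of_normal K T) hcop
  obtain ⟨ψ, hψirr, hψN, hψpow⟩ :=
    canon_ext_pow (K.subgroupOf T) (helper82.subRes K T θ) hϑ hinv hcop'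
  have hres : (fun n : K => ψ ⟨n, hKT n.2⟩) = θ := by
    funext n
    have := hψN ⟨⟨(n : H), hKT n.2⟩, Subgroup.mem_subgroupOf.mpr n.2⟩
    rw [helper82.subRes_apply] at this
    exact this
  have hnorm : classInner θ θ = 1 :=
    (helper4.isIrrCharacter_iff_norm_one (helper19.isCharacter_of_isIrr hθ)).mp hθ
  have hne : classInner (fun n : K => ψ ⟨n, hKT n.2⟩) θ ≠ 0 := by
    rw [hres, hnorm]; exact one_ne_zero
  obtain ⟨hirr, hinner⟩ := helper82.clifford_corr_irr K T hKT hθ hT hψirr hne
  refine ⟨indFun T ψ, hirr, ?_, ?_⟩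
  · rw [hinner, hres, hnorm]
  · intro m hm hm1 h
    rw [helper32.indFun_pow_coprime T ψ m hm h]
    have hmT : m.Coprime (Nat.card T) :=
      Nat.Coprime.coprime_dvd_right (Subgroup.card_subgroup_dvd_card T) hm
    have : (fun t : T => ψ (t ^ m)) = ψ := by
      funext t
      exact hψpow m hmT (by rw [hcard]; exact hm1) t
    rw [this]

end Cfsg.Agent.Lib.helper77
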