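import Mathlib
import Cfsg.Prelude.Def_Characters
import Cfsg.Agent.Lib.helper77.WinA
import Cfsg.Agent.Lib.helper4.CharTheory
import Cfsg.Agent.Lib.helper4.CharDecomp
import Cfsg.Agent.Lib.helper81.CharBasic
import Cfsg.Agent.Lib.helper82.CharInt

/-!
# A power-invariant character covering the constituents of a restriction (helper77)

`K` is a normal subgroup of `H` of index coprime to `|K|`.

* `exists_pow_char_cover`: for every finite set `A` of irreducible characters of `K` there is a
  character `ψ` of `H`, invariant under the power maps `h ↦ h ^ m` (`m ≡ 1 [MOD |K|]`), whose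
  restriction to `K` is multiplicity free, contains every member of `A`, and contains only
  conjugates of members of `A`.
-/

set_option autoImplicit false

namespace Cfsg.Agent.Lib.helper77

open Cfsg
open Cfsg.Agent.Lib

universe u

theorem exists_pow_char_cover {H : Type u} [Group H] [Fintype H] (K : Subgroup H) [hK : K.Normal]
    [Fintype K] (hcop : Nat.Coprime K.index (Nat.card K)) (A : Finset (IrrCharacter K)) :
    ∃ ψ : H → ℂ, IsCharacter H ψ ∧
      (∀ m : ℕ, m.Coprime (Nat.card H) → m ≡ 1 [MOD Nat.card K] → ∀ h : H, ψ (h ^ m) = ψ h) ∧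
      (∀ θ' : IrrCharacter K, classInner (fun n : K => ψ n) (θ' : K → ℂ) = 0 ∨
          classInner (fun n : K => ψ n) (θ' : K → ℂ) = 1) ∧
      (∀ θ ∈ A, classInner (fun n : K => ψ n) (θ : K → ℂ) = 1) ∧
      (∀ θ' : IrrCharacter K, classInner (fun n : K => ψ n) (θ' : K → ℂ) ≠ 0 →
          ∃ θ ∈ A, ∃ g : H, (θ' : K → ℂ) = helper82.cconj K g (θ : K → ℂ)) := by
  classical
  induction A using Finset.induction_on with
  | empty =>
    have h0 : ∀ θ' : IrrCharacter K,
        classInner (fun n : K => (0 : H → ℂ) n) (θ' : K → ℂ) = 0 := fun θ' =>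
      helper4.classInner_zero_left _
    refine ⟨0, helper4.isCharacter_zero, fun _ _ _ _ => rfl, fun θ' => Or.inl (h0 θ'), ?_, ?_⟩
    · intro θ hθ; simp at hθ
    · intro θ' hθ'; exact absurd (h0 θ') hθ'
  | insert θ₀ A hθ₀ ih =>
    obtain ⟨ψ, hψ, hpow, h01, hA, hconj⟩ := ih
    rcases h01 θ₀ with h0 | h1
    · -- add the power-invariant irreducible character over `θ₀`
      obtain ⟨η, hη, hη1, hηpow⟩ := exists_irr_over_pow K hcop (θ₀ : K → ℂ) θ₀.2
      have hψcf : IsClassFunction H ψ := helper4.isClassFunction_of_isCharacter hψ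
      have hηcf : IsClassFunction H η := helper4.isClassFunction_of_isIrrCharacter hη
      have hadd : ∀ θ' : IrrCharacter K,
          classInner (fun n : K => (ψ + η) n) (θ' : K → ℂ) =
            classInner (fun n : K => ψ n) (θ' : K → ℂ) +
              classInner (fun n : K => η n) (θ' : K → ℂ) := fun θ' =>
        helper4.classInner_add_left _ _ _
      -- a constituent of `η|K` is a conjugate of `θ₀`, with multiplicity one, and is not in `ψ|K`
      have hkey : ∀ θ' : IrrCharacter K, classInner (fun n : K => η n) (θ' : K → ℂ) ≠ 0 →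
          (∃ g : H, (θ' : K → ℂ) = helper82.cconj K g (θ₀ : K → ℂ)) ∧
            classInner (fun n : K => η n) (θ' : K → ℂ) = 1 ∧
            classInner (fun n : K => ψ n) (θ' : K → ℂ) = 0 := by
        intro θ' hne
        have hne0 : classInner (fun n : K => η n) (θ₀ : K → ℂ) ≠ 0 := by
          rw [hη1]; exact one_ne_zero
        obtain ⟨g, hg⟩ := helper82.clifford_conj K hη θ₀.2 θ'.2 hne0 hne
        refine ⟨⟨g, hg⟩, ?_, ?_⟩
        · rw [hg, helper82.classInner_restrict_cconj K hηcf, hη1]
        · rw [hg, helper82.classInner_restrict_cconj K hψcf, h0]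
      refine ⟨ψ + η, helper4.isCharacter_add hψ (helper19.isCharacter_of_isIrr hη), ?_, ?_, ?_, ?_⟩
      · intro m hm hm1 h
        show ψ (h ^ m) + η (h ^ m) = ψ h + η h
        rw [hpow m hm hm1 h, hηpow m hm hm1 h]
      · intro θ'
        rw [hadd]
        by_cases hne : classInner (fun n : K => η n) (θ' : K → ℂ) = 0
        · rw [hne, add_zero]; exact h01 θ'
        · obtain ⟨-, h1', h0'⟩ := hkey θ' hne
          right; rw [h1', h0', zero_add]
      · intro θ hθ
        rw [hadd]
        rcases Finset.mem_insert.mp hθ with rfl | hθA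
        · rw [h0, hη1, zero_add]
        · by_cases hne : classInner (fun n : K => η n) (θ : K → ℂ) = 0
          · rw [hne, add_zero]; exact hA θ hθA
          · obtain ⟨-, -, h0'⟩ := hkey θ hne
            rw [hA θ hθA] at h0'
            exact absurd h0' one_ne_zero
      · intro θ' hθ'
        rw [hadd] at hθ'
        by_cases hne : classInner (fun n : K => η n) (θ' : K → ℂ) = 0
        · rw [hne, add_zero] at hθ'
          obtain ⟨θ, hθA, g, hg⟩ := hconj θ' hθ'
          exact ⟨θ, Finset.mem_insert_of_mem hθA, g, hg⟩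
        · obtain ⟨⟨g, hg⟩, -, -⟩ := hkey θ' hne
          exact ⟨θ₀, Finset.mem_insert_self _ _, g, hg⟩
    · -- `θ₀` is already covered
      refine ⟨ψ, hψ, hpow, h01, ?_, ?_⟩
      · intro θ hθ
        rcases Finset.mem_insert.mp hθ with rfl | hθA
        · exact h1
        · exact hA θ hθA
      · intro θ' hθ'
        obtain ⟨θ, hθA, g, hg⟩ := hconj θ' hθ'
        exact ⟨θ, Finset.mem_insert_of_mem hθA, g, hg⟩

end Cfsg.Agent.Lib.helper77
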