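import Mathlib
import Cfsg.Prelude.Def_Characters
import Cfsg.Agent.Lib.helper77.WinB
import Cfsg.Agent.Lib.helper78.SchurBound

/-!
# Kernels of constituents and Schur's polynomial count with a kernel (helper77)

* `char_bound`: `χ 1 = d` and `‖χ c‖ ≤ d` for a character;
* `char_eq_degree_iff_constituents`: `α c = α 1` iff `θ c = θ 1` for all irreducible constituents
  `θ` of the character `α`;
* `card_dvd_count_mul_factorial`: Schur's polynomial argument for a not necessarily faithful
  character: `|P|` divides `#{u ∈ P | χ u = n} * (n + K)!`.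
-/

set_option autoImplicit false

namespace Cfsg.Agent.Lib.helper77

open Cfsg Polynomial
open Cfsg.Agent.Lib

universe u

theorem char_bound {K : Type u} [Group K] [Finite K] {α : K → ℂ} (hα : IsCharacter K α) :
    ∃ d : ℕ, α 1 = d ∧ ∀ c : K, ‖α c‖ ≤ d := by
  obtain ⟨d, ρ, rfl⟩ := hα
  refine ⟨d, by rw [Representation.char_one, Module.finrank_fin_fun], fun c => ?_⟩
  have := helper82.norm_char_le ρ c
  rwa [Module.finrank_fin_fun] at this

theorem char_eq_degree_of_re {K : Type u} [Group K] [Finite K] {α : K → ℂ} (hα : IsCharacter K α)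
    (c : K) (h : (α 1 - α c).re = 0) : α c = α 1 := by
  obtain ⟨d, hd, hb⟩ := char_bound hα
  have h1 : (α c).re = d := by
    have : (α 1 - α c).re = (d : ℝ) - (α c).re := by rw [hd]; simp
    rw [this] at h
    linarith
  have h2 := hb c
  have h3 : ‖α c‖ ^ 2 = (α c).re ^ 2 + (α c).im ^ 2 := by
    rw [Complex.sq_norm, Complex.normSq_apply]; ring
  have h4 : ‖α c‖ ^ 2 ≤ (d : ℝ) ^ 2 := by
    have h5 : (0 : ℝ) ≤ ‖α c‖ := norm_nonneg _
    nlinarith
  have h6 : (α c).im = 0 := by
    rw [h3, h1] at h4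
    have : (α c).im ^ 2 ≤ 0 := by linarith
    have h7 : (0 : ℝ) ≤ (α c).im ^ 2 := sq_nonneg _
    have h8 : (α c).im ^ 2 = 0 := le_antisymm this h7
    exact pow_eq_zero_iff (two_ne_zero) |>.mp h8
  rw [hd]
  apply Complex.ext
  · simpa using h1
  · simpa using h6

theorem char_re_le {K : Type u} [Group K] [Finite K] {α : K → ℂ} (hα : IsCharacter K α)
    (c : K) : 0 ≤ (α 1 - α c).re := by
  obtain ⟨d, hd, hb⟩ := char_bound hα
  have h1 : (α c).re ≤ ‖α c‖ := Complex.re_le_norm _
  have h2 := hb c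
  have : (α 1 - α c).re = (d : ℝ) - (α c).re := by rw [hd]; simp
  rw [this]
  linarith

/-- `α c = α 1` exactly when `θ c = θ 1` for every irreducible constituent `θ` of `α`. -/
theorem char_eq_degree_iff_constituents {K : Type u} [Group K] [Fintype K] {α : K → ℂ}
    (hα : IsCharacter K α) (c : K) :
    α c = α 1 ↔ ∀ θ : IrrCharacter K, classInner α (θ : K → ℂ) ≠ 0 →
      (θ : K → ℂ) c = (θ : K → ℂ) 1 := by
  classical
  obtain ⟨coef, hdec, hcoef, -⟩ :=
    helper4.exists_int_coeff (helper4.isGeneralizedCharacter_of_isCharacter hα)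
  have hnn : ∀ θ : IrrCharacter K, 0 ≤ coef θ := by
    intro θ
    obtain ⟨n, hn⟩ := helper4.exists_nat_classInner_irr hα θ.2
    have : (coef θ : ℂ) = ((n : ℤ) : ℂ) := by rw [← hcoef θ, hn]; simp
    have : coef θ = (n : ℤ) := by exact_mod_cast this
    rw [this]; positivity
  have hval : ∀ x : K, α x = ∑ θ : IrrCharacter K, (coef θ : ℂ) * (θ : K → ℂ) x := by
    intro x
    have := congrFun hdec x
    rw [this]
    simp [Finset.sum_apply]
  constructor
  · intro h θ hθ
    have hsum : ∑ θ : IrrCharacter K, (coef θ : ℝ) * ((θ : K → ℂ) 1 - (θ : K → ℂ) c).re = 0 := by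
      have h0 : α 1 - α c = 0 := by rw [h]; ring
      rw [hval 1, hval c, ← Finset.sum_sub_distrib] at h0
      have h1 := congrArg Complex.re h0
      rw [Complex.re_sum] at h1
      rw [← h1.trans Complex.zero_re]
      refine Finset.sum_congr rfl fun θ _ => ?_
      rw [← mul_sub, Complex.mul_re]
      simp
    have hterm := (Finset.sum_eq_zero_iff_of_nonneg (fun θ _ =>
      mul_nonneg (by exact_mod_cast hnn θ)
        (char_re_le (helper19.isCharacter_of_isIrr θ.2) c))).mp hsum θ (Finset.mem_univ _)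
    have hc0 : (coef θ : ℝ) ≠ 0 := by
      intro h0
      apply hθ
      rw [hcoef θ]
      have : coef θ = 0 := by exact_mod_cast h0
      rw [this]; simp
    have hre : ((θ : K → ℂ) 1 - (θ : K → ℂ) c).re = 0 := by
      rcases mul_eq_zero.mp hterm with h | h
      · exact absurd h hc0
      · exact h
    exact char_eq_degree_of_re (helper19.isCharacter_of_isIrr θ.2) c hre
  · intro h
    rw [hval c, hval 1]
    refine Finset.sum_congr rfl fun θ _ => ?_
    by_cases h0 : coef θ = 0
    · rw [h0]; simp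
    · rw [h θ (by rw [hcoef θ]; exact_mod_cast h0)]

/-- **Schur's polynomial argument with a kernel**: if a character `χ` of degree `n` takes on the
subgroup `P` only rational integer values in `[-K, n]`, then `|P|` divides
`#{u ∈ P | χ u = n} * (n + K)!`. -/
theorem card_dvd_count_mul_factorial {G : Type u} [Group G] [Fintype G] (χ : G → ℂ)
    (hχ : IsCharacter G χ) (P : Subgroup G) (n K : ℕ)
    (h : ∀ u ∈ P, ∃ z : ℤ, χ u = z ∧ z ≤ n ∧ -(K : ℤ) ≤ z) :
    Nat.card P ∣ Nat.card {u : P // χ (u : G) = n} * (n + K).factorial := by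
  classical
  have : Fintype P := Fintype.ofFinite _
  obtain ⟨f, hf⟩ : ∃ f : ℤ[X], f = ∏ i ∈ Finset.range (n + K), (X - C ((n : ℤ) - (i + 1))) :=
    ⟨_, rfl⟩
  have hf1 : aeval (n : ℂ) f = ((n + K).factorial : ℂ) := by
    rw [hf, map_prod, ← Finset.prod_range_add_one_eq_factorial, Nat.cast_prod]
    refine Finset.prod_congr rfl fun i _ => ?_
    simp
  have hf0 : ∀ u : P, χ (u : G) ≠ n → aeval (χ (u : G)) f = 0 := by
    intro u hu
    obtain ⟨z, hz, hzn, hzK⟩ := h u u.2
    have hne : z ≠ n := fun hh => hu (by rw [hz, hh]; simp)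
    have hlt : z < n := lt_of_le_of_ne hzn hne
    obtain ⟨i, hi⟩ : ∃ i : ℕ, (i : ℤ) = n - 1 - z := ⟨(n - 1 - z).toNat, by omega⟩
    have hi_mem : i ∈ Finset.range (n + K) := by
      rw [Finset.mem_range]; omega
    rw [hf, map_prod]
    refine Finset.prod_eq_zero hi_mem ?_
    have : (z : ℂ) = (n : ℂ) - ((i : ℂ) + 1) := by
      have : z = (n : ℤ) - ((i : ℤ) + 1) := by omega
      rw [this]; push_cast; ring
    simp [hz, this]
  have hsum : ∑ u : P, aeval (χ (u : G)) f =
      (Nat.card {u : P // χ (u : G) = n} : ℂ) * ((n + K).factorial : ℂ) := by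
    have h1 : ∑ u : P, aeval (χ (u : G)) f =
        ∑ u : P, if χ (u : G) = n then ((n + K).factorial : ℂ) else 0 := by
      refine Finset.sum_congr rfl fun u _ => ?_
      split_ifs with hu
      · rw [hu, hf1]
      · exact hf0 u hu
    rw [h1, ← Finset.sum_filter, Finset.sum_const, nsmul_eq_mul, Nat.card_eq_fintype_card,
      Fintype.card_subtype]
  -- integrality of the sum
  have hm : ∀ i : ℕ, ∃ m : ℕ, ∑ u : P, χ (u : G) ^ i = (Nat.card P : ℂ) * m := fun i =>
    helper81.sum_subgroup_char (helper4.isCharacter_pow hχ i) P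
  choose m hm using hm
  have hint : ∑ u : P, aeval (χ (u : G)) f =
      (Nat.card P : ℂ) * ((∑ i ∈ Finset.range (f.natDegree + 1), f.coeff i * (m i : ℤ) : ℤ) : ℂ) := by
    simp_rw [aeval_eq_sum_range]
    rw [Finset.sum_comm]
    push_cast
    rw [Finset.mul_sum]
    refine Finset.sum_congr rfl fun i _ => ?_
    rw [← Finset.smul_sum, hm i, zsmul_eq_mul]
    ring
  rw [hsum] at hint
  have h2 : ((Nat.card {u : P // χ (u : G) = n} * (n + K).factorial : ℕ) : ℤ) =
      (Nat.card P : ℤ) * (∑ i ∈ Finset.range (f.natDegree + 1), f.coeff i * (m i : ℤ)) := by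
    exact_mod_cast hint
  exact Int.natCast_dvd_natCast.mp ⟨_, h2⟩

end Cfsg.Agent.Lib.helper77
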