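import Mathlib
import Cfsg.Agent.Lib.helper15.ZassDefs

/-!
# S0690 (Zassenhaus) shared facts: the quaternion subgroup of a standard triple

* `zassExt D v hv hv2`: the subgroup `D ∪ D v` for `v` normalizing `D` with `v * v ∈ D`;
  it has order `2 * |D|` when `v ∉ D`.
* for `Std u v x`: `orderOf u = 4`, `v ∉ zpowers u`, and the subgroup `zassQ hs = ⟨u, v⟩`
  of order `8`.
-/

set_option autoImplicit false

namespace Cfsg.Agent.Lib.helper77

open Cfsg.Agent.Lib.helper15.Zass

/-- The subgroup `D ∪ D v` for `v` normalizing `D` with `v * v ∈ D`. -/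
def zassExt {G : Type*} [Group G] (D : Subgroup G) (v : G) (hv : ∀ d ∈ D, v * d * v⁻¹ ∈ D)
    (hv2 : v * v ∈ D) : Subgroup G where
  carrier := {g | g ∈ D ∨ g * v⁻¹ ∈ D}
  mul_mem' := by
    intro a b ha hb
    rcases ha with ha | ha <;> rcases hb with hb | hb
    · exact Or.inl (D.mul_mem ha hb)
    · refine Or.inr ?_
      have h := D.mul_mem ha hb
      rwa [← mul_assoc] at h
    · refine Or.inr ?_
      have h := D.mul_mem ha (hv b hb)
      have e : a * v⁻¹ * (v * b * v⁻¹) = a * b * v⁻¹ := by group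
      rwa [e] at h
    · refine Or.inl ?_
      have h := D.mul_mem (D.mul_mem ha (hv _ hb)) hv2
      have e : a * v⁻¹ * (v * (b * v⁻¹) * v⁻¹) * (v * v) = a * b := by group
      rwa [e] at h
  one_mem' := Or.inl D.one_mem
  inv_mem' := by
    intro a ha
    rcases ha with ha | ha
    · exact Or.inl (D.inv_mem ha)
    · refine Or.inr ?_
      have h := D.mul_mem (D.inv_mem hv2) (hv _ (D.inv_mem ha))
      have e : (v * v)⁻¹ * (v * (a * v⁻¹)⁻¹ * v⁻¹) = a⁻¹ * v⁻¹ := by group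
      rwa [e] at h

theorem mem_zassExt {G : Type*} [Group G] (D : Subgroup G) (v : G)
    (hv : ∀ d ∈ D, v * d * v⁻¹ ∈ D) (hv2 : v * v ∈ D) (g : G) :
    g ∈ zassExt D v hv hv2 ↔ g ∈ D ∨ g * v⁻¹ ∈ D := Iff.rfl

theorem le_zassExt {G : Type*} [Group G] (D : Subgroup G) (v : G)
    (hv : ∀ d ∈ D, v * d * v⁻¹ ∈ D) (hv2 : v * v ∈ D) : D ≤ zassExt D v hv hv2 :=
  fun _ hg => Or.inl hg

theorem self_mem_zassExt {G : Type*} [Group G] (D : Subgroup G) (v : G)
    (hv : ∀ d ∈ D, v * d * v⁻¹ ∈ D) (hv2 : v * v ∈ D) : v ∈ zassExt D v hv hv2 :=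
  Or.inr (by rw [mul_inv_cancel]; exact D.one_mem)

theorem zassExt_le {G : Type*} [Group G] (D : Subgroup G) (v : G)
    (hv : ∀ d ∈ D, v * d * v⁻¹ ∈ D) (hv2 : v * v ∈ D) (N : Subgroup G) (hD : D ≤ N)
    (hvN : v ∈ N) : zassExt D v hv hv2 ≤ N := by
  intro g hg
  rcases hg with hg | hg
  · exact hD hg
  · have h := N.mul_mem (hD hg) hvN
    rwa [inv_mul_cancel_right] at h

theorem card_zassExt {G : Type*} [Group G] (D : Subgroup G) (v : G)
    (hv : ∀ d ∈ D, v * d * v⁻¹ ∈ D) (hv2 : v * v ∈ D) (hvD : v ∉ D) :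
    Nat.card (zassExt D v hv hv2) = 2 * Nat.card D := by
  have hle := le_zassExt D v hv hv2
  have hidx : (D.subgroupOf (zassExt D v hv hv2)).index = 2 := by
    rw [Subgroup.index_eq_two_iff]
    refine ⟨⟨v⁻¹, (zassExt D v hv hv2).inv_mem (self_mem_zassExt D v hv hv2)⟩, ?_⟩
    intro b
    rw [Subgroup.mem_subgroupOf, Subgroup.mem_subgroupOf]
    have hb := b.2
    rcases hb with hb | hb
    · refine Or.inr ⟨hb, ?_⟩
      intro h
      apply hvD
      have h2 := D.mul_mem (D.inv_mem h) hb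
      have e : ((b : G) * v⁻¹)⁻¹ * (b : G) = v := by group
      have e' : ((((b * ⟨v⁻¹, (zassExt D v hv hv2).inv_mem (self_mem_zassExt D v hv hv2)⟩ :
          zassExt D v hv hv2)) : G))⁻¹ * (b : G) = v := e
      rwa [e'] at h2
    · refine Or.inl ⟨hb, ?_⟩
      intro h
      apply hvD
      have h2 := D.mul_mem (D.inv_mem hb) h
      have e : ((b : G) * v⁻¹)⁻¹ * (b : G) = v := by group
      rwa [e] at h2
  have h1 := Subgroup.card_mul_index (D.subgroupOf (zassExt D v hv hv2))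
  rw [hidx, Nat.card_congr (Subgroup.subgroupOfEquivOfLe hle).toEquiv] at h1
  omega

section std

variable {G : Type*} [Group G] {u v x : G}

theorem std_orderOf_u (hs : Std u v x) : orderOf u = 4 := by
  have h := orderOf_eq_prime_pow (p := 2) (n := 1) (x := u) (by simpa using hs.u2)
    (by simpa using hs.u4)
  simpa using h

theorem std_conj_zpowers (hs : Std u v x) : ∀ d ∈ Subgroup.zpowers u,
    v * d * v⁻¹ ∈ Subgroup.zpowers u := by
  intro d hd
  obtain ⟨i, rfl⟩ := Subgroup.mem_zpowers_iff.1 hd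
  rw [← conj_zpow, hs.vu]
  exact Subgroup.zpow_mem _ (Subgroup.inv_mem _ (Subgroup.mem_zpowers u)) i

theorem std_sq_mem (hs : Std u v x) : v * v ∈ Subgroup.zpowers u := by
  rw [← pow_two, hs.v2]
  exact Subgroup.pow_mem _ (Subgroup.mem_zpowers u) 2

theorem std_v_notMem (hs : Std u v x) : v ∉ Subgroup.zpowers u := by
  intro hv
  obtain ⟨i, hi⟩ := Subgroup.mem_zpowers_iff.1 hv
  have hc : v * u = u * v := by
    rw [← hi]
    exact ((Commute.refl u).zpow_left i).eq
  have h1 := hs.vu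
  rw [hc, mul_inv_cancel_right] at h1
  apply hs.u2
  rw [pow_two]
  nth_rewrite 1 [h1]
  exact inv_mul_cancel u

/-- The quaternion subgroup `⟨u, v⟩ = ⟨u⟩ ∪ ⟨u⟩ v` of a standard triple. -/
def zassQ (hs : Std u v x) : Subgroup G :=
  zassExt (Subgroup.zpowers u) v (std_conj_zpowers hs) (std_sq_mem hs)

theorem mem_zassQ (hs : Std u v x) (g : G) :
    g ∈ zassQ hs ↔ g ∈ Subgroup.zpowers u ∨ g * v⁻¹ ∈ Subgroup.zpowers u := Iff.rfl

theorem u_mem_zassQ (hs : Std u v x) : u ∈ zassQ hs :=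
  le_zassExt _ _ _ _ (Subgroup.mem_zpowers u)

theorem v_mem_zassQ (hs : Std u v x) : v ∈ zassQ hs :=
  self_mem_zassExt _ _ _ _

theorem zassQ_le (hs : Std u v x) (N : Subgroup G) (hu : u ∈ N) (hv : v ∈ N) : zassQ hs ≤ N :=
  zassExt_le _ _ _ _ N (Subgroup.zpowers_le.2 hu) hv

theorem card_zassQ (hs : Std u v x) : Nat.card (zassQ hs) = 8 := by
  unfold zassQ
  rw [card_zassExt _ _ _ _ (std_v_notMem hs), Nat.card_zpowers, std_orderOf_u hs]

theorem zassQ_eq_closure (hs : Std u v x) : zassQ hs = Subgroup.closure {u, v} := by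
  apply le_antisymm
  · apply zassQ_le
    · exact Subgroup.subset_closure (by simp)
    · exact Subgroup.subset_closure (by simp)
  · rw [Subgroup.closure_le]
    intro g hg
    rcases hg with rfl | rfl
    · exact u_mem_zassQ hs
    · exact v_mem_zassQ hs

end std

end Cfsg.Agent.Lib.helper77
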