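import Mathlib
import Cfsg.Agent.Lib.helper15.ZassDefs
import Cfsg.Agent.Lib.helper77.ZassQ

/-!
# S0690 piece I (`tgrp`)

In a group of order `24`, `48` or `120` containing a standard triple `u, v, x`, an element of odd
order which commutes with `u` and is inverted by `v` is trivial.
-/

set_option autoImplicit false

namespace Cfsg.Agent.Lib.helper77

open Cfsg.Agent.Lib.helper15.Zass

/-- An odd prime dividing `24`, `48` or `120` is `3` or `5`; `5` only divides `120`. -/
theorem tgrp_prime (n p : ℕ) (hn : n = 24 ∨ n = 48 ∨ n = 120) (hp : p.Prime) (hodd : Odd p)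
    (hdvd : p ∣ n) : p = 3 ∨ (p = 5 ∧ n = 120) := by
  have hle : p ≤ 120 := by
    rcases hn with rfl | rfl | rfl
    · exact (Nat.le_of_dvd (by norm_num) hdvd).trans (by norm_num)
    · exact (Nat.le_of_dvd (by norm_num) hdvd).trans (by norm_num)
    · exact Nat.le_of_dvd (by norm_num) hdvd
  have h2 : p ≠ 2 := by
    rintro rfl
    exact absurd hodd (by decide)
  have h235 : p ∣ 2 ∨ p ∣ 3 ∨ p ∣ 5 := by
    have h120 : p ∣ 2 ^ 4 * (3 * 5) := by
      rcases hn with rfl | rfl | rfl
      · exact hdvd.trans (by norm_num)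
      · exact hdvd.trans (by norm_num)
      · exact hdvd.trans (by norm_num)
    rcases (Nat.Prime.dvd_mul hp).1 h120 with h | h
    · exact Or.inl (hp.dvd_of_dvd_pow h)
    · rcases (Nat.Prime.dvd_mul hp).1 h with h | h
      · exact Or.inr (Or.inl h)
      · exact Or.inr (Or.inr h)
  rcases h235 with h | h | h
  · exact absurd ((Nat.prime_dvd_prime_iff_eq hp Nat.prime_two).1 h) h2
  · exact Or.inl ((Nat.prime_dvd_prime_iff_eq hp Nat.prime_three).1 h)
  · have h5 : p = 5 := (Nat.prime_dvd_prime_iff_eq hp Nat.prime_five).1 h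
    refine Or.inr ⟨h5, ?_⟩
    subst h5
    rcases hn with rfl | rfl | rfl
    · exact absurd hdvd (by norm_num)
    · exact absurd hdvd (by norm_num)
    · rfl

/-- The number of Sylow `p`-subgroups is `1` in the situation of `tgrp`. -/
theorem tgrp_index (n p c i : ℕ) (hn : n = 24 ∨ n = 48 ∨ n = 120)
    (hp : p = 3 ∨ (p = 5 ∧ n = 120)) (h8 : 8 ∣ c) (hpc : p ∣ c) (hic : i * c = n)
    (hmod : i ≡ 1 [MOD p]) : i = 1 := by
  rcases hp with rfl | ⟨rfl, rfl⟩
  · have h24 : 24 ∣ c := Nat.Coprime.mul_dvd_of_dvd_of_dvd (by norm_num) h8 hpc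
    obtain ⟨m, rfl⟩ := h24
    have hi : i * m * 24 = n := by rw [← hic]; ring
    have hm : i * m = 1 ∨ i * m = 2 ∨ i * m = 5 := by
      rcases hn with rfl | rfl | rfl <;> omega
    have hi5 : i ≤ 5 := by
      rcases hm with h | h | h
      · exact (Nat.le_of_dvd (by norm_num) (Dvd.intro m h)).trans (by norm_num)
      · exact (Nat.le_of_dvd (by norm_num) (Dvd.intro m h)).trans (by norm_num)
      · exact Nat.le_of_dvd (by norm_num) (Dvd.intro m h)
    have hid : i ∣ 1 ∨ i ∣ 2 ∨ i ∣ 5 := by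
      rcases hm with h | h | h
      · exact Or.inl (Dvd.intro m h)
      · exact Or.inr (Or.inl (Dvd.intro m h))
      · exact Or.inr (Or.inr (Dvd.intro m h))
    unfold Nat.ModEq at hmod
    interval_cases i <;> simp_all
  · have h40 : 40 ∣ c := Nat.Coprime.mul_dvd_of_dvd_of_dvd (by norm_num) h8 hpc
    obtain ⟨m, rfl⟩ := h40
    have hm : i * m = 3 := by
      have : i * m * 40 = 120 := by rw [← hic]; ring
      omega
    have hi3 : i ≤ 3 := Nat.le_of_dvd (by norm_num) (Dvd.intro m hm)
    unfold Nat.ModEq at hmod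
    interval_cases i <;> simp_all

/-- A criterion for membership in the normalizer of a cyclic subgroup. -/
theorem tgrp_mem_normalizer {H : Type*} [Group H] (g k : H)
    (h1 : g * k * g⁻¹ ∈ Subgroup.zpowers k) (h2 : g⁻¹ * k * g ∈ Subgroup.zpowers k) :
    g ∈ Subgroup.normalizer ((Subgroup.zpowers k : Subgroup H) : Set H) := by
  rw [Subgroup.mem_normalizer_iff]
  intro h
  constructor
  · intro hh
    obtain ⟨i, rfl⟩ := Subgroup.mem_zpowers_iff.1 hh
    rw [← conj_zpow]
    exact Subgroup.zpow_mem _ h1 i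
  · intro hh
    obtain ⟨i, hi⟩ := Subgroup.mem_zpowers_iff.1 hh
    have e : h = (g⁻¹ * k * g) ^ i := by
      have e1 := conj_zpow (a := g⁻¹) (b := k) (i := i)
      rw [inv_inv] at e1
      rw [e1, hi]
      group
    rw [e]
    exact Subgroup.zpow_mem _ h2 i

/-- The prime order case of `tgrp`. -/
theorem tgrp_prime_case {H : Type*} [Group H] [Finite H]
    (hH : Nat.card H = 24 ∨ Nat.card H = 48 ∨ Nat.card H = 120)
    (u v x k : H) (hs : Std u v x) (hku : k * u = u * k) (hvk : v * k * v⁻¹ = k⁻¹)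
    (p : ℕ) (hp : p.Prime) (hodd : Odd p) (hk : orderOf k = p) : False := by
  have hfp : Fact p.Prime := ⟨hp⟩
  have hk1 : k ≠ 1 := by
    intro h
    rw [h, orderOf_one] at hk
    exact hp.one_lt.ne hk
  have hpH : p ∣ Nat.card H := hk ▸ orderOf_dvd_natCard k
  have hp35 := tgrp_prime (Nat.card H) p hH hp hodd hpH
  -- the Sylow subgroup
  have hpg : IsPGroup p (Subgroup.zpowers k) := by
    apply IsPGroup.of_card (n := 1)
    rw [Nat.card_zpowers, hk, pow_one]
  obtain ⟨P, hP⟩ := hpg.exists_le_sylow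
  have hPcard : Nat.card P = p := by
    obtain ⟨n, hn⟩ := IsPGroup.iff_card.1 P.isPGroup'
    have hdvd : p ^ n ∣ Nat.card H := hn ▸ Subgroup.card_subgroup_dvd_card (P : Subgroup H)
    have hle : p ≤ p ^ n := by
      have h1 := Subgroup.card_dvd_of_le hP
      rw [Nat.card_zpowers, hk, hn] at h1
      exact Nat.le_of_dvd (pow_pos hp.pos n) h1
    have hn1 : n = 1 := by
      rcases Nat.lt_or_ge n 2 with h | h
      · interval_cases n
        · have := hp.one_lt
          simp at hle
          omega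
        · rfl
      · exfalso
        have h2 : p ^ 2 ∣ Nat.card H := (pow_dvd_pow p h).trans hdvd
        rcases hp35 with rfl | ⟨rfl, h120⟩
        · rcases hH with h | h | h <;> rw [h] at h2 <;> norm_num at h2
        · rw [h120] at h2
          norm_num at h2
    rw [hn, hn1, pow_one]
  have hPeq : (P : Subgroup H) = Subgroup.zpowers k := by
    symm
    apply Subgroup.eq_of_le_of_card_ge hP
    rw [hPcard, Nat.card_zpowers, hk]
  -- the normalizer
  have hkinv : v⁻¹ * k * v = k⁻¹ := by
    have e : v⁻¹ * k * v = (v⁻¹ * (v * k * v⁻¹) * v)⁻¹ := by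
      rw [hvk]
      group
    rw [e]
    group
  have huN : u ∈ Subgroup.normalizer ((P : Subgroup H) : Set H) := by
    rw [hPeq]
    apply tgrp_mem_normalizer
    · rw [← hku, mul_inv_cancel_right]
      exact Subgroup.mem_zpowers k
    · have e : u⁻¹ * k * u = k := by
        rw [mul_assoc, hku, inv_mul_cancel_left]
      rw [e]
      exact Subgroup.mem_zpowers k
  have hvN : v ∈ Subgroup.normalizer ((P : Subgroup H) : Set H) := by
    rw [hPeq]
    apply tgrp_mem_normalizer
    · rw [hvk]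
      exact Subgroup.inv_mem _ (Subgroup.mem_zpowers k)
    · rw [hkinv]
      exact Subgroup.inv_mem _ (Subgroup.mem_zpowers k)
  have h8 : 8 ∣ Nat.card (Subgroup.normalizer ((P : Subgroup H) : Set H)) := by
    rw [← card_zassQ hs]
    exact Subgroup.card_dvd_of_le (zassQ_le hs _ huN hvN)
  have hpN : p ∣ Nat.card (Subgroup.normalizer ((P : Subgroup H) : Set H)) := by
    have h1 := Subgroup.card_dvd_of_le (Subgroup.le_normalizer (H := (P : Subgroup H)))
    rwa [hPcard] at h1
  have hmod : (Subgroup.normalizer ((P : Subgroup H) : Set H)).index ≡ 1 [MOD p] := by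
    have h1 := card_sylow_modEq_one p H
    rwa [Sylow.card_eq_index_normalizer P] at h1
  have hidx := tgrp_index (Nat.card H) p
    (Nat.card (Subgroup.normalizer ((P : Subgroup H) : Set H)))
    (Subgroup.normalizer ((P : Subgroup H) : Set H)).index hH hp35 h8 hpN
    (Subgroup.index_mul_card _) hmod
  have hNtop : Subgroup.normalizer ((P : Subgroup H) : Set H) = ⊤ :=
    Subgroup.index_eq_one.1 hidx
  have hvu : v ≠ u := by
    intro h
    have h1 := hs.vu
    rw [h, mul_inv_cancel_right] at h1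
    apply hs.u2
    rw [pow_two]
    nth_rewrite 1 [h1]
    exact inv_mul_cancel u
  rcases hp35 with rfl | ⟨rfl, _⟩
  · -- `p = 3`: `x` lies in the unique Sylow `3`-subgroup
    have hx3 : IsPGroup 3 (Subgroup.zpowers x) := by
      intro y
      refine ⟨1, ?_⟩
      obtain ⟨i, hi⟩ := Subgroup.mem_zpowers_iff.1 y.2
      apply Subtype.ext
      rw [Subgroup.coe_pow, ← hi, pow_one, ← zpow_natCast, ← zpow_mul, mul_comm, zpow_mul,
        zpow_natCast, hs.x3, one_zpow]
      rfl
    obtain ⟨P', hP'⟩ := hx3.exists_le_sylow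
    have hone : Nat.card (Sylow 3 H) = 1 :=
      (Sylow.card_eq_index_normalizer P).trans hidx
    have hsub : Subsingleton (Sylow 3 H) := (Nat.card_eq_one_iff_unique.1 hone).1
    have hPP : P' = P := Subsingleton.elim _ _
    have hxP : x ∈ Subgroup.zpowers k := by
      rw [← hPeq, ← hPP]
      exact hP' (Subgroup.mem_zpowers x)
    obtain ⟨i, hi⟩ := Subgroup.mem_zpowers_iff.1 hxP
    have hxu : x * u = u * x := by
      rw [← hi]
      exact ((Commute.zpow_left (show Commute k u from hku) i)).eq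
    apply hvu
    rw [← hs.xu, hxu, mul_inv_cancel_right]
  · -- `p = 5`: `x` normalizes and hence centralizes `⟨k⟩`
    have hxN : x ∈ Subgroup.normalizer ((P : Subgroup H) : Set H) := by
      rw [hNtop]
      exact Subgroup.mem_top x
    rw [hPeq, Subgroup.mem_normalizer_iff] at hxN
    have hxk := (hxN k).1 (Subgroup.mem_zpowers k)
    obtain ⟨j, hj⟩ := Subgroup.mem_zpowers_iff.1 hxk
    obtain ⟨i, hi5, hi⟩ : ∃ i : ℕ, i < 5 ∧ k ^ i = x * k * x⁻¹ := by
      refine ⟨(j % 5).toNat, ?_, ?_⟩
      · have := Int.emod_lt_of_pos j (show (0 : ℤ) < 5 by norm_num)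
        omega
      · rw [← zpow_natCast, Int.toNat_of_nonneg (Int.emod_nonneg _ (by norm_num)), ← hj]
        have h5 : ((orderOf k : ℕ) : ℤ) = 5 := by
          rw [hk]
          rfl
        rw [← h5, zpow_mod_orderOf]
    have hconj : ∀ m : ℕ, x * k ^ m * x⁻¹ = k ^ (i * m) := by
      intro m
      rw [← conj_pow, ← hi, ← pow_mul]
    have c1 : x * k * x⁻¹ = k ^ i := hi.symm
    have c2 : x * (x * k * x⁻¹) * x⁻¹ = k ^ (i * i) := by rw [c1, hconj]
    have c3 : x * (x * (x * k * x⁻¹) * x⁻¹) * x⁻¹ = k ^ (i * (i * i)) := by rw [c2, hconj]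
    have e : x * (x * (x * k * x⁻¹) * x⁻¹) * x⁻¹ = x ^ 3 * k * (x ^ 3)⁻¹ := by
      simp only [pow_succ, pow_zero, one_mul, mul_inv_rev, mul_assoc]
    rw [e, hs.x3, one_mul, inv_one, mul_one] at c3
    have h3 : k ^ (i * (i * i)) = k ^ 1 := by rw [← c3, pow_one]
    rw [pow_eq_pow_iff_modEq, hk] at h3
    have hi1 : i = 1 := by
      unfold Nat.ModEq at h3
      interval_cases i <;> omega
    rw [hi1, pow_one] at hi
    -- `k` commutes with `v`
    have hkv : v * k * v⁻¹ = k := by
      have e : v * k * v⁻¹ = x * (u * k * u⁻¹) * x⁻¹ := by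
        rw [← hs.xu]
        nth_rewrite 1 [hi]
        group
      rw [e, ← hku, mul_inv_cancel_right, ← hi]
    rw [hvk] at hkv
    have hk2 : k ^ 2 = 1 := by
      rw [pow_two]
      nth_rewrite 1 [← hkv]
      exact inv_mul_cancel k
    have hdvd := orderOf_dvd_of_pow_eq_one hk2
    rw [hk] at hdvd
    norm_num at hdvd

/-- PIECE I. -/
theorem tgrp {H : Type*} [Group H] [Finite H]
    (hH : Nat.card H = 24 ∨ Nat.card H = 48 ∨ Nat.card H = 120)
    (u v x k : H) (hs : Std u v x) (hku : k * u = u * k) (hvk : v * k * v⁻¹ = k⁻¹)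
    (hodd : Odd (orderOf k)) : k = 1 := by
  by_contra hk1
  have ho : orderOf k ≠ 1 := fun h => hk1 (orderOf_eq_one_iff.1 h)
  obtain ⟨p, hp, hpo⟩ := Nat.exists_prime_and_dvd ho
  have hpodd : Odd p := by
    obtain ⟨m, hm⟩ := hpo
    rw [hm] at hodd
    exact (Nat.odd_mul.1 hodd).1
  have hk' : orderOf (k ^ (orderOf k / p)) = p :=
    orderOf_pow_orderOf_div (orderOf_pos k).ne' hpo
  refine tgrp_prime_case hH u v x (k ^ (orderOf k / p)) hs ?_ ?_ p hp hpodd hk'
  · exact ((Commute.pow_left (show Commute k u from hku) _)).eq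
  · rw [← conj_pow, hvk, inv_pow]
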