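import Mathlib

/-!
# S0690 piece N, part 1: generic lemmas

* `zn_decomp`: an element of a finite group is a product of powers of its `2`-part and its
  odd part.
* `zn_conj_iter`: iterating a conjugation `n y n⁻¹ = y ^ t`.
* `zn_aut_cyclic`: an element of order prime to `p` normalizing a cyclic `p`-group `⟨y⟩` and
  centralizing its subgroup of order `p` centralizes `y`.
-/

set_option autoImplicit false

namespace Cfsg.Agent.Lib.helper77

theorem zn_decomp {G : Type*} [Group G] [Finite G] (g : G) :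
    ∃ a r : ℕ, Odd r ∧ (g ^ r) ^ (2 ^ a) = 1 ∧ (g ^ (2 ^ a)) ^ r = 1 ∧
      ∃ x y : ℤ, g = (g ^ r) ^ y * (g ^ (2 ^ a)) ^ x := by
  obtain ⟨a, r, hr, ho⟩ := Nat.exists_eq_two_pow_mul_odd (orderOf_pos g).ne'
  refine ⟨a, r, hr, ?_, ?_, ?_⟩
  · rw [← pow_mul, mul_comm, ← ho, pow_orderOf_eq_one]
  · rw [← pow_mul, ← ho, pow_orderOf_eq_one]
  · have hcop : Nat.Coprime (2 ^ a) r := Nat.Coprime.pow_left a (Nat.coprime_two_left.2 hr)
    have hb := Int.gcd_eq_gcd_ab ((2 ^ a : ℕ) : ℤ) (r : ℤ)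
    rw [Int.gcd_natCast_natCast, hcop] at hb
    refine ⟨Int.gcdA ((2 ^ a : ℕ) : ℤ) (r : ℤ), Int.gcdB ((2 ^ a : ℕ) : ℤ) (r : ℤ), ?_⟩
    rw [← zpow_natCast g r, ← zpow_natCast g (2 ^ a), ← zpow_mul, ← zpow_mul, ← zpow_add]
    have e : (r : ℤ) * Int.gcdB ((2 ^ a : ℕ) : ℤ) (r : ℤ)
        + ((2 ^ a : ℕ) : ℤ) * Int.gcdA ((2 ^ a : ℕ) : ℤ) (r : ℤ) = 1 := by
      have h1 : ((1 : ℕ) : ℤ) = 1 := rfl
      rw [h1] at hb
      linarith
    rw [e, zpow_one]

theorem zn_conj_iter {G : Type*} [Group G] (n y : G) (t : ℕ) (h : n * y * n⁻¹ = y ^ t) (i : ℕ) :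
    n ^ i * y * (n ^ i)⁻¹ = y ^ (t ^ i) := by
  induction i with
  | zero => simp
  | succ i ih =>
    have e : n ^ (i + 1) * y * (n ^ (i + 1))⁻¹ = n * (n ^ i * y * (n ^ i)⁻¹) * n⁻¹ := by
      rw [pow_succ']
      group
    rw [e, ih, ← conj_pow, h, ← pow_mul, pow_succ']

theorem zn_aut_cyclic {G : Type*} [Group G] (p a : ℕ) (hp : p.Prime) (y k n : G) (e t d : ℕ)
    (hy : orderOf y = p ^ (a + 1)) (hk : k = y ^ e) (hko : orderOf k = p)
    (hn : n * y * n⁻¹ = y ^ t) (hd : n ^ d = 1) (hcop : Nat.Coprime d p)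
    (hnk : n * k * n⁻¹ = k) : n * y * n⁻¹ = y := by
  have h1 : t ^ d ≡ 1 [MOD p ^ (a + 1)] := by
    have h := zn_conj_iter n y t hn d
    rw [hd, one_mul, inv_one, mul_one] at h
    rw [← hy, ← pow_eq_pow_iff_modEq, ← h, pow_one]
  have h2 : e * t ≡ e * 1 [MOD p ^ (a + 1)] := by
    have h : y ^ (t * e) = y ^ e := by
      rw [pow_mul, ← hn, conj_pow, ← hk, hnk]
    rw [← hy, ← pow_eq_pow_iff_modEq, mul_one, mul_comm]
    exact h
  have h3 : t ≡ 1 [MOD p] := by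
    have h := Nat.ModEq.cancel_left_div_gcd (pow_pos hp.pos (a + 1)) h2
    have he : e ≠ 0 := by
      intro h0
      rw [h0, pow_zero] at hk
      rw [hk, orderOf_one] at hko
      exact hp.one_lt.ne hko
    have ho : orderOf k = p ^ (a + 1) / Nat.gcd (p ^ (a + 1)) e := by
      rw [hk, orderOf_pow' y he, hy]
    rw [← ho, hko] at h
    exact h
  have h4 : (p : ℤ) ∣ (t : ℤ) - 1 := by
    have h := (Nat.modEq_iff_dvd.1 h3.symm)
    simpa using h
  have h5 := dvd_sub_pow_of_dvd_sub h4 a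
  have h6 : 1 ≡ t ^ (p ^ a) [MOD p ^ (a + 1)] := by
    rw [Nat.modEq_iff_dvd]
    push_cast
    simpa using h5
  have e1 : ((t : ℕ) : ZMod (p ^ (a + 1))) ^ (p ^ a) = 1 := by
    have h := (ZMod.natCast_eq_natCast_iff _ _ _).2 h6
    push_cast at h
    exact h.symm
  have e2 : ((t : ℕ) : ZMod (p ^ (a + 1))) ^ d = 1 := by
    have h := (ZMod.natCast_eq_natCast_iff _ _ _).2 h1
    push_cast at h
    exact h
  have e3 := pow_gcd_eq_one.2 ⟨e2, e1⟩
  rw [Nat.Coprime.pow_right a hcop, pow_one] at e3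
  have h7 : t ≡ 1 [MOD p ^ (a + 1)] := by
    rw [← ZMod.natCast_eq_natCast_iff, e3]
    simp
  rw [hn]
  nth_rewrite 2 [← pow_one y]
  rw [pow_eq_pow_iff_modEq, hy]
  exact h7

end Cfsg.Agent.Lib.helper77
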