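import Mathlib
import Cfsg.Agent.Lib.helper15.ZassDefs
import Cfsg.Agent.Lib.helper77.ZassQ

/-!
# S0690 piece N, part 2: the `2`-elements of `C_G(u)`

Under `ZH G`, `Std u v x` and "all Sylow `2`-subgroups have order `8`": `zassQ hs` is a Sylow
`2`-subgroup, there is no element of order `8`, and a `2`-element commuting with `u` lies in
`⟨u⟩`.
-/

set_option autoImplicit false

namespace Cfsg.Agent.Lib.helper77

open Cfsg.Agent.Lib.helper15.Zass

variable {G : Type*} [Group G] [Finite G] {u v x : G}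

omit [Finite G] in
theorem isPGroup_zassQ (hs : Std u v x) : IsPGroup 2 (zassQ hs) :=
  IsPGroup.of_card (n := 3) (by rw [card_zassQ hs]; norm_num)

theorem zn_sylow_Q (hs : Std u v x) (h8 : ∀ S : Sylow 2 G, Nat.card S = 8) :
    ∃ S : Sylow 2 G, (S : Subgroup G) = zassQ hs := by
  obtain ⟨S, hS⟩ := (isPGroup_zassQ hs).exists_le_sylow
  refine ⟨S, ?_⟩
  symm
  apply Subgroup.eq_of_le_of_card_ge hS
  rw [card_zassQ hs]
  exact (h8 S).le

omit [Finite G] in
theorem std_not_comm (hs : Std u v x) : v * u ≠ u * v := by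
  intro hc
  have h1 := hs.vu
  rw [hc, mul_inv_cancel_right] at h1
  apply hs.u2
  rw [pow_two]
  nth_rewrite 1 [h1]
  exact inv_mul_cancel u

theorem zn_no_order_eight (hs : Std u v x) (h8 : ∀ S : Sylow 2 G, Nat.card S = 8) (c : G)
    (hc : orderOf c = 8) : False := by
  have hpg : IsPGroup 2 (Subgroup.zpowers c) :=
    IsPGroup.of_card (n := 3) (by rw [Nat.card_zpowers, hc]; norm_num)
  obtain ⟨S₁, hS₁⟩ := hpg.exists_le_sylow
  have e₁ : (S₁ : Subgroup G) = Subgroup.zpowers c := by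
    symm
    apply Subgroup.eq_of_le_of_card_ge hS₁
    rw [Nat.card_zpowers, hc]
    exact (h8 S₁).le
  obtain ⟨S₂, e₂⟩ := zn_sylow_Q hs h8
  have hcomm : ∀ a b : S₁, a * b = b * a := by
    intro a b
    have ha : (a : G) ∈ Subgroup.zpowers c := e₁ ▸ a.2
    have hb : (b : G) ∈ Subgroup.zpowers c := e₁ ▸ b.2
    obtain ⟨i, hi⟩ := Subgroup.mem_zpowers_iff.1 ha
    obtain ⟨j, hj⟩ := Subgroup.mem_zpowers_iff.1 hb
    apply Subtype.ext
    rw [Subgroup.coe_mul, Subgroup.coe_mul, ← hi, ← hj, ← zpow_add, ← zpow_add, add_comm]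
  have f := Sylow.equiv S₂ S₁
  have hu : u ∈ (S₂ : Subgroup G) := e₂ ▸ u_mem_zassQ hs
  have hv : v ∈ (S₂ : Subgroup G) := e₂ ▸ v_mem_zassQ hs
  have h1 := hcomm (f ⟨v, hv⟩) (f ⟨u, hu⟩)
  rw [← map_mul, ← map_mul] at h1
  have h2 := congrArg Subtype.val (f.injective h1)
  exact std_not_comm hs h2

theorem zn_two_elt (h : ZH G) (hs : Std u v x) (h8 : ∀ S : Sylow 2 G, Nat.card S = 8)
    (c : G) (hcu : c * u = u * c) (b : ℕ) (hc2 : c ^ (2 ^ b) = 1) :
    c ∈ Subgroup.zpowers u := by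
  have hz2 : (u ^ 2) ^ 2 = 1 := by
    rw [← pow_mul]
    exact hs.u4
  have key : ∀ w : G, w ^ 2 = 1 → w = 1 ∨ w = u ^ 2 := by
    intro w hw
    by_cases h1 : w = 1
    · exact Or.inl h1
    · exact Or.inr (h.invol w (u ^ 2) h1 hs.u2 hw hz2)
  have hc4 : c ^ 4 = 1 := by
    have ho : orderOf c ∣ 2 ^ b := orderOf_dvd_of_pow_eq_one hc2
    obtain ⟨j, _, hoj⟩ := (Nat.dvd_prime_pow Nat.prime_two).1 ho
    have hpg : IsPGroup 2 (Subgroup.zpowers c) :=
      IsPGroup.of_card (n := j) (by rw [Nat.card_zpowers, hoj])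
    obtain ⟨S, hS⟩ := hpg.exists_le_sylow
    have hdvd : 2 ^ j ∣ 2 ^ 3 := by
      have h1 := Subgroup.card_dvd_of_le hS
      rw [Nat.card_zpowers, hoj, h8 S] at h1
      exact h1
    have hj3 : j ≤ 3 := (Nat.pow_dvd_pow_iff_le_right (by norm_num)).1 hdvd
    have hj2 : j ≤ 2 := by
      by_contra hcon
      have hj : j = 3 := by omega
      rw [hj] at hoj
      exact zn_no_order_eight hs h8 c (by rw [hoj]; norm_num)
    have h4 : orderOf c ∣ 4 := by
      rw [hoj]
      exact pow_dvd_pow 2 hj2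
    exact orderOf_dvd_iff_pow_eq_one.1 h4
  rcases key (c ^ 2) (by rw [← pow_mul]; exact hc4) with h1 | h1
  · rcases key c h1 with h2 | h2
    · rw [h2]
      exact Subgroup.one_mem _
    · rw [h2]
      exact Subgroup.pow_mem _ (Subgroup.mem_zpowers u) 2
  · have hd : (c * u⁻¹) ^ 2 = 1 := by
      have hcomm : Commute c u⁻¹ := (show Commute c u from hcu).inv_right
      rw [hcomm.mul_pow, h1, inv_pow, mul_inv_cancel]
    rcases key (c * u⁻¹) hd with h2 | h2
    · rw [mul_inv_eq_one] at h2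
      rw [h2]
      exact Subgroup.mem_zpowers u
    · have e : c = u ^ 2 * u := by
        rw [← h2, inv_mul_cancel_right]
      rw [e]
      exact Subgroup.mul_mem _ (Subgroup.pow_mem _ (Subgroup.mem_zpowers u) 2)
        (Subgroup.mem_zpowers u)

end Cfsg.Agent.Lib.helper77
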