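import Mathlib
import Cfsg.Agent.Lib.helper15.ZassDefs
import Cfsg.Agent.Lib.helper77.ZassQ
import Cfsg.Agent.Lib.helper77.ZassN1
import Cfsg.Agent.Lib.helper77.ZassN2
import Cfsg.Agent.Lib.helper2.Transfer

/-!
# S0690 piece N, part 3: an element of `C_G(u)` acting nontrivially on `⟨k⟩`
-/

set_option autoImplicit false

namespace Cfsg.Agent.Lib.helper77

open Cfsg.Agent.Lib.helper15.Zass

variable {G : Type*} [Group G] {u v x : G}

theorem std_xinv_v (hs : Std u v x) : x⁻¹ * v * x = u := by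
  rw [← hs.xu]
  group

theorem std_vuv (hs : Std u v x) : v * (u * v) = u := by
  have e : v * (u * v) = (v * u * v⁻¹) * (v * v) := by group
  rw [e, hs.vu, ← pow_two, hs.v2]
  group

theorem std_x_uv (hs : Std u v x) : x * (u * v) * x⁻¹ = u := by
  have e : x * (u * v) * x⁻¹ = (x * u * x⁻¹) * (x * v * x⁻¹) := by group
  rw [e, hs.xu, hs.xv, std_vuv hs]

theorem std_v4 (hs : Std u v x) : v ^ 4 = 1 := by
  have e : v ^ 4 = (v ^ 2) ^ 2 := by rw [← pow_mul]
  rw [e, hs.v2, ← pow_mul]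
  exact hs.u4

theorem std_vinv_u (hs : Std u v x) : v⁻¹ * u * v = u⁻¹ := by
  have h1 : u = v⁻¹ * u⁻¹ * v := by
    rw [← hs.vu]
    group
  have h2 : u⁻¹ = (v⁻¹ * u⁻¹ * v)⁻¹ := congrArg (·⁻¹) h1
  rw [h2]
  group

/-- Conjugating an element of order `4` of `⟨u, v⟩` to `u` inside `⟨u, v, x⟩`. -/
theorem zn_adjust (hs : Std u v x) (k w : G) (hku : k * u = u * k) (hkv : k * v = v * k)
    (hkx : k * x = x * k) (hw : w ∈ zassQ hs) (hw2 : w ^ 2 ≠ 1) :
    ∃ l : G, l * k = k * l ∧ l * w * l⁻¹ = u := by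
  have _h := hku
  have hfin : IsOfFinOrder u := isOfFinOrder_iff_pow_eq_one.2 ⟨4, by norm_num, hs.u4⟩
  have hkxi : x⁻¹ * k = k * x⁻¹ := by
    have e : x⁻¹ * k = x⁻¹ * (k * x) * x⁻¹ := by group
    rw [e, hkx]
    group
  have hpow : ∀ g : G, g ∈ Subgroup.zpowers u → ∃ j : ℕ, j < 4 ∧ g = u ^ j := by
    intro g hg
    have hg' := (hfin.mem_powers_iff_mem_zpowers).2 hg
    obtain ⟨j, rfl⟩ := (Submonoid.mem_powers_iff _ _).1 hg'
    refine ⟨j % 4, Nat.mod_lt _ (by norm_num), ?_⟩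
    rw [← std_orderOf_u hs, pow_mod_orderOf]
  rcases (mem_zassQ hs w).1 hw with h1 | h1
  · obtain ⟨j, hj, rfl⟩ := hpow w h1
    interval_cases j
    · exact absurd (by simp) hw2
    · exact ⟨1, by simp, by simp⟩
    · exfalso
      apply hw2
      rw [← pow_mul]
      exact hs.u4
    · refine ⟨v, hkv.symm, ?_⟩
      rw [← conj_pow, hs.vu, inv_pow]
      apply inv_eq_of_mul_eq_one_right
      rw [← pow_succ]
      exact hs.u4
  · obtain ⟨j, hj, hj'⟩ := hpow _ h1
    have hwj : w = u ^ j * v := by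
      rw [← hj', inv_mul_cancel_right]
    subst hwj
    interval_cases j
    · refine ⟨x⁻¹, hkxi, ?_⟩
      rw [pow_zero, one_mul, inv_inv]
      exact std_xinv_v hs
    · refine ⟨x, hkx.symm, ?_⟩
      rw [pow_one]
      exact std_x_uv hs
    · refine ⟨v * x⁻¹, ?_, ?_⟩
      · rw [mul_assoc, hkxi, ← mul_assoc, ← hkv, mul_assoc]
      · have e1 : u ^ 2 * v = v⁻¹ := by
          rw [← hs.v2, ← pow_succ]
          symm
          apply inv_eq_of_mul_eq_one_right
          rw [← pow_succ']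
          exact std_v4 hs
        rw [e1]
        have e2 : v * x⁻¹ * v⁻¹ * (v * x⁻¹)⁻¹ = (v * (x⁻¹ * v * x) * v⁻¹)⁻¹ := by group
        rw [e2, std_xinv_v hs, hs.vu, inv_inv]
    · refine ⟨v * x, ?_, ?_⟩
      · rw [mul_assoc, ← hkx, ← mul_assoc, ← hkv, mul_assoc]
      · have e1 : v * x * (u ^ 3 * v) * (v * x)⁻¹
            = v * ((x * u * x⁻¹) ^ 3 * (x * v * x⁻¹)) * v⁻¹ := by
          rw [conj_pow]
          group
        have e2 : v ^ 3 = v⁻¹ := by
          symm
          apply inv_eq_of_mul_eq_one_right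
          rw [← pow_succ']
          exact std_v4 hs
        rw [e1, hs.xu, hs.xv, e2]
        have e3 : v * (v⁻¹ * (u * v)) * v⁻¹ = v * (v⁻¹ * u * v) * v⁻¹ := by group
        rw [e3, std_vinv_u hs]
        have e4 : v * u⁻¹ * v⁻¹ = (v * u * v⁻¹)⁻¹ := by group
        rw [e4, hs.vu, inv_inv]

/-- A perfect group has no Sylow subgroup that is cyclic, nontrivial and central in its
normalizer. -/
theorem zn_not_nc [Finite G] (hperf : commutator G = ⊤) (p : ℕ) [Fact p.Prime] (P : Sylow p G)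
    (hcomm : ∀ a b : P, a * b = b * a) (k : G) (hkP : k ∈ (P : Subgroup G)) (hk1 : k ≠ 1) :
    ¬ Subgroup.normalizer ((P : Subgroup G) : Set G) ≤ Subgroup.centralizer ((P : Subgroup G) : Set G) := by
  intro hNC
  have hcompl := MonoidHom.ker_transferSylow_isComplement' P hNC
  have hker : (MonoidHom.transferSylow P hNC).ker = ⊤ := by
    rw [eq_top_iff, ← hperf, commutator_def, Subgroup.commutator_le]
    intro g₁ _ g₂ _
    rw [MonoidHom.mem_ker, commutatorElement_def, map_mul, map_mul, map_mul, map_inv, map_inv,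
      hcomm (MonoidHom.transferSylow P hNC g₁) (MonoidHom.transferSylow P hNC g₂)]
    group
  rw [hker, Subgroup.isComplement'_top_left] at hcompl
  rw [hcompl, Subgroup.mem_bot] at hkP
  exact hk1 hkP

end Cfsg.Agent.Lib.helper77
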