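import Mathlib
import Cfsg.Agent.Lib.helper15.ZassDefs
import Cfsg.Agent.Lib.helper77.ZassQ
import Cfsg.Agent.Lib.helper77.ZassN1
import Cfsg.Agent.Lib.helper77.ZassN2
import Cfsg.Agent.Lib.helper77.ZassN3
import Cfsg.Agent.Lib.helper2.Transfer

/-!
# S0690 piece N, part 4: the element `c₀` of `C_G(u)` acting nontrivially on `⟨k⟩`
-/

set_option autoImplicit false

namespace Cfsg.Agent.Lib.helper77

open Cfsg.Agent.Lib.helper15.Zass

variable {G : Type*} [Group G] {u v x : G}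

/-- An element `g` with `g ^ o = 1`, `o` prime to `p - 1`, normalizing a group `⟨k⟩` of prime
order `p`, centralizes `k`. -/
theorem zn_pow_fix (p : ℕ) (hp : p.Prime) (k g : G) (t o : ℕ) (hko : orderOf k = p)
    (hg : g * k * g⁻¹ = k ^ t) (ho : g ^ o = 1) (ho0 : o ≠ 0) (hcop : Nat.Coprime o (p - 1)) :
    g * k * g⁻¹ = k := by
  have : Fact p.Prime := ⟨hp⟩
  have h1 : t ^ o ≡ 1 [MOD p] := by
    have h := zn_conj_iter g k t hg o
    rw [ho, one_mul, inv_one, mul_one] at h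
    rw [← hko, ← pow_eq_pow_iff_modEq, ← h, pow_one]
  have e1 : ((t : ℕ) : ZMod p) ^ o = 1 := by
    have h := (ZMod.natCast_eq_natCast_iff _ _ _).2 h1
    push_cast at h
    exact h
  have hne : ((t : ℕ) : ZMod p) ≠ 0 := by
    intro h0
    rw [h0, zero_pow ho0] at e1
    exact zero_ne_one e1
  have e2 : ((t : ℕ) : ZMod p) ^ (p - 1) = 1 := ZMod.pow_card_sub_one_eq_one hne
  have e3 := pow_gcd_eq_one.2 ⟨e1, e2⟩
  rw [hcop, pow_one] at e3
  have h7 : t ≡ 1 [MOD p] := by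
    rw [← ZMod.natCast_eq_natCast_iff, e3]
    simp
  rw [hg]
  nth_rewrite 2 [← pow_one k]
  rw [pow_eq_pow_iff_modEq, hko]
  exact h7

theorem zn_exists_c0 [Finite G] (h : ZH G) (hperf : commutator G = ⊤) (hs : Std u v x)
    (h8 : ∀ S : Sylow 2 G, Nat.card S = 8) (p : ℕ) (hp : p.Prime) (hp2 : p ≠ 2) (k : G)
    (hko : orderOf k = p) (hku : k * u = u * k) (hkv : k * v = v * k) (hkx : k * x = x * k) :
    ∃ c₀ : G, c₀ * u = u * c₀ ∧ (∃ t : ℕ, c₀ * k * c₀⁻¹ = k ^ t) ∧ c₀ * k * c₀⁻¹ ≠ k := by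
  have : Fact p.Prime := ⟨hp⟩
  have hk1 : k ≠ 1 := by
    intro h1
    rw [h1, orderOf_one] at hko
    exact hp.one_lt.ne hko
  have hkp : IsPGroup p (Subgroup.zpowers k) :=
    IsPGroup.of_card (n := 1) (by rw [Nat.card_zpowers, hko, pow_one])
  obtain ⟨P, hP⟩ := hkp.exists_le_sylow
  have hkP : k ∈ (P : Subgroup G) := hP (Subgroup.mem_zpowers k)
  have hcyc : IsCyclic (P : Subgroup G) := by
    rcases h.pgrp p (P : Subgroup G) P.isPGroup' with h1 | h1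
    · exact h1
    · exact absurd h1.1 hp2
  obtain ⟨y, hy⟩ := hcyc.exists_generator
  -- every element of `P` is a natural power of `y`
  have hpow : ∀ g : G, g ∈ (P : Subgroup G) → ∃ j : ℕ, g = (y : G) ^ j := by
    intro g hg
    have h1 : (⟨g, hg⟩ : (P : Subgroup G)) ∈ Subgroup.zpowers y := hy ⟨g, hg⟩
    rw [← mem_powers_iff_mem_zpowers] at h1
    obtain ⟨j, hj⟩ := (Submonoid.mem_powers_iff _ _).1 h1
    refine ⟨j, ?_⟩
    have h2 := congrArg Subtype.val hj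
    simpa using h2.symm
  have hcomm : ∀ a b : (P : Subgroup G), a * b = b * a := by
    intro a b
    obtain ⟨i, hi⟩ := hpow a a.2
    obtain ⟨j, hj⟩ := hpow b b.2
    apply Subtype.ext
    rw [Subgroup.coe_mul, Subgroup.coe_mul, hi, hj, ← pow_add, ← pow_add, add_comm]
  have hPc : IsMulCommutative (P : Subgroup G) := ⟨⟨hcomm⟩⟩
  have hnc := zn_not_nc hperf p P hcomm k hkP hk1
  have hex : ∃ r : ℕ, r.Prime ∧ r ≠ p ∧ ∃ R : Subgroup G, IsPGroup r R ∧
      R ≤ Subgroup.normalizer ((P : Subgroup G) : Set G) ∧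
      ¬ R ≤ Subgroup.centralizer ((P : Subgroup G) : Set G) := by
    by_contra hcon
    apply hnc
    apply Cfsg.Agent.Lib.helper2.normalizer_le_centralizer_of_forall_isPGroup P hPc
    intro r hr hrp R hR hRN
    by_contra hRC
    exact hcon ⟨r, hr, hrp, R, hR, hRN, hRC⟩
  obtain ⟨r, hr, hrp, R, hR, hRN, hRC⟩ := hex
  obtain ⟨n₁, hn₁R, hn₁C⟩ := SetLike.not_le_iff_exists.1 hRC
  obtain ⟨b, hb⟩ := hR ⟨n₁, hn₁R⟩
  have hn₁b : n₁ ^ (r ^ b) = 1 := by
    have h1 := congrArg Subtype.val hb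
    simpa using h1
  have hn₁N := hRN hn₁R
  rw [Subgroup.mem_normalizer_iff] at hn₁N
  -- the order of `y`
  obtain ⟨m, hm⟩ := P.isPGroup'.exists_card_eq
  have hyo : orderOf (y : G) = p ^ m := by
    rw [Subgroup.orderOf_coe, orderOf_eq_card_of_forall_mem_zpowers hy]
    exact hm
  have hm0 : m ≠ 0 := by
    intro h0
    rw [h0, pow_zero] at hyo
    have hy1 : (y : G) = 1 := orderOf_eq_one_iff.1 hyo
    obtain ⟨e, he⟩ := hpow k hkP
    rw [hy1, one_pow] at he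
    exact hk1 he
  obtain ⟨a, rfl⟩ := Nat.exists_eq_succ_of_ne_zero hm0
  obtain ⟨e, he⟩ := hpow k hkP
  obtain ⟨t, ht⟩ := hpow (n₁ * (y : G) * n₁⁻¹) ((hn₁N _).1 y.2)
  have hny : n₁ * (y : G) * n₁⁻¹ ≠ (y : G) := by
    intro heq
    apply hn₁C
    rw [Subgroup.mem_centralizer_iff]
    intro g hg
    obtain ⟨j, rfl⟩ := hpow g hg
    have hc : Commute n₁ (y : G) := by
      have h1 : n₁ * (y : G) = (y : G) * n₁ := by
        nth_rewrite 2 [← heq]
        group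
      exact h1
    exact (hc.pow_right j).eq.symm
  have hnk : n₁ * k * n₁⁻¹ ≠ k := by
    intro heq
    apply hny
    exact zn_aut_cyclic p a hp (y : G) k n₁ e t (r ^ b) hyo he hko ht hn₁b
      (Nat.Coprime.pow_left b ((Nat.coprime_primes hr hp).2 hrp)) heq
  have hnkt : n₁ * k * n₁⁻¹ = k ^ t := by
    rw [he, ← conj_pow, ht, ← pow_mul, ← pow_mul, mul_comm]
  -- a Sylow `2`-subgroup
  obtain ⟨S, hS⟩ := zn_sylow_Q hs h8
  have hkS : ∀ g ∈ zassQ hs, g * k = k * g := by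
    have hle : zassQ hs ≤ Subgroup.centralizer {k} := by
      apply zassQ_le
      · rw [Subgroup.mem_centralizer_iff]
        intro g hg
        rw [Set.mem_singleton_iff] at hg
        rw [hg]
        exact hku
      · rw [Subgroup.mem_centralizer_iff]
        intro g hg
        rw [Set.mem_singleton_iff] at hg
        rw [hg]
        exact hkv
    intro g hg
    have h1 := hle hg
    rw [Subgroup.mem_centralizer_iff] at h1
    exact (h1 k rfl).symm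
  have hkC : k ∈ Subgroup.centralizer ((S : Subgroup G) : Set G) := by
    rw [Subgroup.mem_centralizer_iff]
    intro g hg
    have hg' : g ∈ zassQ hs := by
      rw [← hS]
      exact hg
    exact hkS g hg'
  have hktC : n₁⁻¹⁻¹ * k * n₁⁻¹ ∈ Subgroup.centralizer ((S : Subgroup G) : Set G) := by
    rw [inv_inv, hnkt]
    exact Subgroup.pow_mem _ hkC t
  obtain ⟨n₂, hn₂N, hn₂⟩ := Sylow.conj_eq_normalizer_conj_of_mem_centralizer S k n₁⁻¹ hkC hktC
  rw [inv_inv] at hn₂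
  have hmN : n₂⁻¹ ∈ Subgroup.normalizer ((S : Subgroup G) : Set G) := Subgroup.inv_mem _ hn₂N
  rw [Subgroup.mem_normalizer_iff] at hmN
  have hw : n₂⁻¹ * u * n₂⁻¹⁻¹ ∈ zassQ hs := by
    rw [← hS]
    exact (hmN u).1 (by rw [hS]; exact u_mem_zassQ hs)
  have hw2 : (n₂⁻¹ * u * n₂⁻¹⁻¹) ^ 2 ≠ 1 := by
    rw [conj_pow]
    intro h1
    apply hs.u2
    have e : u ^ 2 = n₂⁻¹⁻¹ * (n₂⁻¹ * u ^ 2 * n₂⁻¹⁻¹) * n₂⁻¹ := by group
    rw [e, h1]
    group
  obtain ⟨l, hlk, hlw⟩ := zn_adjust hs k _ hku hkv hkx hw hw2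
  have hlk' : l⁻¹ * k * l = k := by
    rw [mul_assoc, ← hlk, inv_mul_cancel_left]
  refine ⟨l * n₂⁻¹, ?_, ⟨t, ?_⟩, ?_⟩
  · have e : l * n₂⁻¹ * u = (l * (n₂⁻¹ * u * n₂⁻¹⁻¹) * l⁻¹) * (l * n₂⁻¹) := by group
    rw [e, hlw]
  · have e : l * n₂⁻¹ * k * (l * n₂⁻¹)⁻¹ = l * (n₂⁻¹ * k * n₂) * l⁻¹ := by group
    rw [e, ← hn₂, hnkt, ← conj_pow, hlk, mul_inv_cancel_right]
  · have e : l * n₂⁻¹ * k * (l * n₂⁻¹)⁻¹ = l * (n₂⁻¹ * k * n₂) * l⁻¹ := by group
    rw [e, ← hn₂]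
    intro heq
    apply hnk
    have e2 : n₁ * k * n₁⁻¹ = l⁻¹ * (l * (n₁ * k * n₁⁻¹) * l⁻¹) * l := by group
    rw [e2, heq]
    exact hlk'

end Cfsg.Agent.Lib.helper77
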