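import Mathlib
import Cfsg.Agent.Lib.helper15.ZassDefs
import Cfsg.Agent.Lib.helper77.ZassQ
import Cfsg.Agent.Lib.helper77.ZassN1
import Cfsg.Agent.Lib.helper77.ZassN2
import Cfsg.Agent.Lib.helper77.ZassN3
import Cfsg.Agent.Lib.helper77.ZassN4

/-!
# S0690 piece N: `C_G(u) = ⟨u⟩`
-/

set_option autoImplicit false

namespace Cfsg.Agent.Lib.helper77

open Cfsg.Agent.Lib.helper15.Zass

/-- Odd-order elements of `C_G(u)` are trivial. -/
theorem zn_odd_trivial {G : Type*} [Group G] [Finite G] (h : ZH G) (hperf : commutator G = ⊤)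
    (u v x : G) (hs : Std u v x)
    (hc : ∀ g : G, g * u = u * g → Odd (orderOf g) → g * v = v * g ∧ g * x = x * g)
    (h8 : ∀ S : Sylow 2 G, Nat.card S = 8) (g : G) (hgu : g * u = u * g)
    (hgo : Odd (orderOf g)) : g = 1 := by
  classical
  by_contra hg1
  have key : ∀ g' : G, g' * u = u * g' → Odd (orderOf g') →
      ∀ q : ℕ, q.Prime → q ∣ orderOf g' → q ≠ 2 ∧ ∃ k : G, orderOf k = q ∧ k * u = u * k := by
    intro g' hg'u hg'o q hq hqd
    refine ⟨?_, g' ^ (orderOf g' / q), orderOf_pow_orderOf_div (orderOf_pos g').ne' hqd, ?_⟩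
    · rintro rfl
      exact (Nat.not_even_iff_odd.2 hg'o) (even_iff_two_dvd.2 hqd)
    · exact ((show Commute g' u from hg'u).pow_left _).eq
  have hex : ∃ q : ℕ, q.Prime ∧ q ≠ 2 ∧ ∃ k : G, orderOf k = q ∧ k * u = u * k := by
    have hne : orderOf g ≠ 1 := fun h1 => hg1 (orderOf_eq_one_iff.1 h1)
    obtain ⟨q, hq, hqd⟩ := Nat.exists_prime_and_dvd hne
    exact ⟨q, hq, key g hgu hgo q hq hqd⟩
  have hmin : ∀ q : ℕ, q < Nat.find hex →
      ¬ (q.Prime ∧ q ≠ 2 ∧ ∃ k : G, orderOf k = q ∧ k * u = u * k) :=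
    fun q hq => Nat.find_min hex hq
  obtain ⟨hp, hp2, k, hko, hku⟩ := Nat.find_spec hex
  generalize Nat.find hex = p at hmin hp hp2 hko
  have hkodd : Odd (orderOf k) := by
    rw [hko]
    exact hp.odd_of_ne_two hp2
  obtain ⟨hkv, hkx⟩ := hc k hku hkodd
  -- odd-order elements of `C_G(u)` normalizing `⟨k⟩` centralize `k`
  have B1 : ∀ g' : G, g' * u = u * g' → Odd (orderOf g') → ∀ t : ℕ, g' * k * g'⁻¹ = k ^ t →
      g' * k * g'⁻¹ = k := by
    intro g' hg'u hg'o t ht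
    apply zn_pow_fix p hp k g' t (orderOf g') hko ht (pow_orderOf_eq_one g')
      (orderOf_pos g').ne'
    by_contra hcop
    obtain ⟨q, hq, hqd⟩ := Nat.exists_prime_and_dvd hcop
    have hq1 : q ∣ orderOf g' := hqd.trans (Nat.gcd_dvd_left _ _)
    have hq2 : q ∣ p - 1 := hqd.trans (Nat.gcd_dvd_right _ _)
    have hlt : q < p := by
      have h2 := hp.two_le
      have h3 := Nat.le_of_dvd (by omega) hq2
      omega
    exact hmin q hlt ⟨hq, key g' hg'u hg'o q hq hq1⟩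
  -- all elements of `C_G(u)` normalizing `⟨k⟩` centralize `k`
  have B2 : ∀ g' : G, g' * u = u * g' → ∀ t : ℕ, g' * k * g'⁻¹ = k ^ t →
      g' * k * g'⁻¹ = k := by
    intro g' hg'u t ht
    obtain ⟨a, r, hr, h1, h2, xx, yy, hdec⟩ := zn_decomp g'
    have hcg : Commute g' u := hg'u
    have hck : Commute k u := hku
    have hA : g' ^ r ∈ Subgroup.zpowers u :=
      zn_two_elt h hs h8 (g' ^ r) (hcg.pow_left r).eq a h1
    have hAk : Commute (g' ^ r) k := by
      obtain ⟨i, hi⟩ := Subgroup.mem_zpowers_iff.1 hA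
      rw [← hi]
      exact hck.symm.zpow_left i
    have hBo : Odd (orderOf (g' ^ (2 ^ a))) :=
      Odd.of_dvd_nat hr (orderOf_dvd_of_pow_eq_one h2)
    have hBk : Commute (g' ^ (2 ^ a)) k := by
      have h3 := B1 (g' ^ (2 ^ a)) (hcg.pow_left _).eq hBo (t ^ (2 ^ a))
        (zn_conj_iter g' k t ht (2 ^ a))
      have h4 : g' ^ (2 ^ a) * k = k * g' ^ (2 ^ a) := by
        nth_rewrite 2 [← h3]
        group
      exact h4
    have hgk : Commute g' k := by
      rw [hdec]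
      exact (hAk.zpow_left yy).mul_left (hBk.zpow_left xx)
    rw [hgk.eq, mul_inv_cancel_right]
  obtain ⟨c₀, hc₀u, ⟨t, ht⟩, hne⟩ := zn_exists_c0 h hperf hs h8 p hp hp2 k hko hku hkv hkx
  exact hne (B2 c₀ hc₀u t ht)

/-- **S0690 piece N.** -/
theorem cent_u {G : Type*} [Group G] [Finite G] (h : ZH G) (hperf : commutator G = ⊤)
    (u v x : G) (hs : Std u v x)
    (hc : ∀ g : G, g * u = u * g → Odd (orderOf g) → g * v = v * g ∧ g * x = x * g)
    (h8 : ∀ S : Sylow 2 G, Nat.card S = 8) (c : G) (hcu : c * u = u * c) :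
    c ∈ Subgroup.zpowers u := by
  obtain ⟨a, r, hr, h1, h2, xx, yy, hdec⟩ := zn_decomp c
  have hcc : Commute c u := hcu
  have hA : c ^ r ∈ Subgroup.zpowers u :=
    zn_two_elt h hs h8 (c ^ r) (hcc.pow_left r).eq a h1
  have hBo : Odd (orderOf (c ^ (2 ^ a))) :=
    Odd.of_dvd_nat hr (orderOf_dvd_of_pow_eq_one h2)
  have hB : c ^ (2 ^ a) = 1 :=
    zn_odd_trivial h hperf u v x hs hc h8 _ (hcc.pow_left _).eq hBo
  rw [hdec, hB, one_zpow, mul_one]
  exact Subgroup.zpow_mem _ hA yy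

end Cfsg.Agent.Lib.helper77
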