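import Mathlib
import Cfsg.Prelude.Def_Blocks
import Cfsg.Agent.Lib.helper80.InvAlg
import Cfsg.Agent.Lib.helper80.Transport
import Cfsg.Agent.Lib.helper82.CliffordCorr
import Cfsg.Agent.Lib.helper84.CliffordSum
import Cfsg.Agent.Lib.helper20.Induced

/-!
# Blocks and normal subgroups: covering (helper77)

`N` is a normal subgroup of the finite group `G`; blocks are relative to a maximal ideal `M` of
the algebraic integers (`Cfsg.IsPBlock`).

* `cjIrr N g θ` : the `g`-conjugate of an irreducible character of `N` (an `IrrCharacter N`),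
  `cjEquiv`, `sameBlock_cjIrr`;
* `orbitUnion N b` : the union of the `G`-conjugates of a set `b` of irreducible characters of
  `N`; `blockCoeff_conj_of_stable`, `memLocalRing_blockCoeff_of_union`;
* `sum_mul_restrict_eq`, `om_extFun_of_constituent` : for `χ ∈ Irr(G)` lying over `θ ∈ Irr(N)`
  and a `G`-invariant function `a` on `N`, `om χ (extFun N a) = om θ a`;
* `mem_orbitUnion_of_cover` : if a block `B` of `G` covers the block `b` of `N`, every
  irreducible constituent of `χ|N`, `χ ∈ B`, lies in a `G`-conjugate of `b`.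
-/

set_option autoImplicit false

namespace Cfsg.Agent.Lib.helper77

open Cfsg
open scoped ComplexConjugate

universe u

section Union

variable {K : Type u} [Group K] [Fintype K]

/-- The idempotent coefficients of a union of blocks are local integers. -/
theorem memLocalRing_blockCoeff_of_union {M : Ideal AlgInt} (hM : M.IsPrime)
    (U : Set (IrrCharacter K)) (hU : ∀ θ ∈ U, blockOf M (θ : K → ℂ) ⊆ U) (k : K) :
    MemLocalRing M (blockCoeff U k) := by
  classical
  let 𝔅 : Finset (Set (IrrCharacter K)) := (helper80.blocks M K).filter (fun B => B ⊆ U)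
  have hUeq : (⋃ B ∈ 𝔅, B) = U := by
    apply Set.eq_of_subset_of_subset
    · intro θ hθ
      simp only [Set.mem_iUnion] at hθ
      obtain ⟨B, hB, hθB⟩ := hθ
      exact (Finset.mem_filter.mp hB).2 hθB
    · intro θ hθ
      simp only [Set.mem_iUnion]
      refine ⟨blockOf M (θ : K → ℂ), Finset.mem_filter.mpr ⟨?_, hU θ hθ⟩, ?_⟩
      · exact helper80.mem_blocks.mpr (helper80.isPBlock_blockOf M θ)
      · exact helper80.mem_blockOf_self hM θ
  have hd : ∀ B ∈ 𝔅, ∀ B' ∈ 𝔅, B ≠ B' → Disjoint B B' := by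
    intro B hB B' hB' hne
    exact helper80.blocks_disjoint hM B (Finset.mem_filter.mp hB).1 B'
      (Finset.mem_filter.mp hB').1 hne
  rw [← hUeq, ← helper80.sum_blockCoeff_of_pairwiseDisjoint 𝔅 hd k]
  apply helper20.memLocalRing_sum hM
  intro B hB
  exact helper81.memLocalRing_blockCoeff hM
    (helper80.mem_blocks.mp (Finset.mem_filter.mp hB).1) k

end Union

section Cover

variable {G : Type u} [Group G] [Fintype G] (N : Subgroup G) [hN : N.Normal] [Fintype N]

/-- The conjugate of an irreducible character of the normal subgroup `N` by `g : G`; its value at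
`g * n * g⁻¹` is the value of `θ` at `n`. -/
noncomputable def cjIrr (g : G) (θ : IrrCharacter N) : IrrCharacter N :=
  ⟨helper82.cconj N g (θ : N → ℂ), helper82.isIrrCharacter_cconj N g θ.2⟩

omit [Fintype G] [Fintype N] in
theorem cjIrr_coe (g : G) (θ : IrrCharacter N) :
    (cjIrr N g θ : N → ℂ) = helper82.cconj N g (θ : N → ℂ) := rfl

omit [Fintype G] [Fintype N] in
theorem cjIrr_apply_conj (g : G) (θ : IrrCharacter N) (n : N) :
    (cjIrr N g θ : N → ℂ) ⟨g * n * g⁻¹, hN.conj_mem n n.2 g⟩ = (θ : N → ℂ) n :=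
  helper82.cconj_apply_conj N g _ n

omit [Fintype G] [Fintype N] in
theorem cjIrr_one_apply (g : G) (θ : IrrCharacter N) :
    (cjIrr N g θ : N → ℂ) 1 = (θ : N → ℂ) 1 :=
  helper82.cconj_apply_one N g _

omit [Fintype G] [Fintype N] in
theorem cjIrr_one (θ : IrrCharacter N) : cjIrr N 1 θ = θ :=
  Subtype.ext (helper82.cconj_one N _)

omit [Fintype G] [Fintype N] in
theorem cjIrr_mul (g h : G) (θ : IrrCharacter N) :
    cjIrr N (g * h) θ = cjIrr N g (cjIrr N h θ) :=
  Subtype.ext (helper82.cconj_mul N g h _)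

omit [Fintype G] [Fintype N] in
theorem cjIrr_inv_cjIrr (g : G) (θ : IrrCharacter N) : cjIrr N g⁻¹ (cjIrr N g θ) = θ :=
  Subtype.ext (helper82.cconj_inv_cconj N g _)

omit [Fintype G] [Fintype N] in
theorem cjIrr_cjIrr_inv (g : G) (θ : IrrCharacter N) : cjIrr N g (cjIrr N g⁻¹ θ) = θ :=
  Subtype.ext (helper82.cconj_cconj_inv N g _)

/-- Conjugation by `g` as a permutation of the irreducible characters of `N`. -/
noncomputable def cjEquiv (g : G) : IrrCharacter N ≃ IrrCharacter N where
  toFun := cjIrr N g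
  invFun := cjIrr N g⁻¹
  left_inv := cjIrr_inv_cjIrr N g
  right_inv := cjIrr_cjIrr_inv N g

omit [Fintype G] [Fintype N] in
theorem mem_normalizer_of_normal (g : G) : g ∈ Subgroup.normalizer (N : Set G) := by
  rw [Subgroup.normalizer_eq_top_iff.mpr hN]
  exact Subgroup.mem_top g

omit [Fintype G] [Fintype N] in
theorem cjIrr_eq_conjIrr (g : G) (θ : IrrCharacter N) :
    cjIrr N g θ = helper80.conjIrr N g (mem_normalizer_of_normal N g) θ := by
  apply helper80.eq_conjIrr_of_isConjCharOf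
  intro k k' h
  have h1 : k' = ⟨g * k * g⁻¹, hN.conj_mem k k.2 g⟩ := Subtype.ext h
  rw [h1]
  exact cjIrr_apply_conj N g θ k

omit [Fintype G] [Fintype N] in
/-- Conjugation preserves blocks. -/
theorem sameBlock_cjIrr {M : Ideal AlgInt} (g : G) {θ θ' : IrrCharacter N}
    (h : SameBlock M (θ : N → ℂ) (θ' : N → ℂ)) :
    SameBlock M (cjIrr N g θ : N → ℂ) (cjIrr N g θ' : N → ℂ) := by
  rw [cjIrr_eq_conjIrr, cjIrr_eq_conjIrr]
  exact helper80.sameBlock_conjIrr N g _ h

/-- The union of the `G`-conjugates of a set of irreducible characters of `N`. -/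
def orbitUnion (b : Set (IrrCharacter N)) : Set (IrrCharacter N) :=
  {θ | ∃ g : G, cjIrr N g θ ∈ b}

omit [Fintype G] [Fintype N] in
theorem orbitUnion_stable (b : Set (IrrCharacter N)) :
    ∀ g : G, ∀ θ ∈ orbitUnion N b, cjIrr N g θ ∈ orbitUnion N b := by
  rintro g θ ⟨x, hx⟩
  refine ⟨x * g⁻¹, ?_⟩
  rw [cjIrr_mul, cjIrr_inv_cjIrr]
  exact hx

omit [Fintype G] [Fintype N] in
theorem subset_orbitUnion (b : Set (IrrCharacter N)) : b ⊆ orbitUnion N b := by
  intro θ hθ
  refine ⟨1, ?_⟩
  rw [cjIrr_one]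
  exact hθ

omit [Fintype G] [Fintype N] in
theorem orbitUnion_union_blocks {M : Ideal AlgInt} (hM : M.IsPrime) {b : Set (IrrCharacter N)}
    (hb : IsPBlock M b) :
    ∀ θ ∈ orbitUnion N b, blockOf M (θ : N → ℂ) ⊆ orbitUnion N b := by
  rintro θ ⟨g, hg⟩ θ' hθ'
  exact ⟨g, helper81.mem_of_sameBlock hM hb hg (sameBlock_cjIrr N g hθ')⟩

omit [Fintype G] in
/-- The idempotent coefficients of a `G`-stable set of characters of `N` are `G`-invariant. -/
theorem blockCoeff_conj_of_stable (U : Set (IrrCharacter N))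
    (hU : ∀ g : G, ∀ θ ∈ U, cjIrr N g θ ∈ U) (g : G) (n : N) :
    blockCoeff U ⟨g * n * g⁻¹, hN.conj_mem n n.2 g⟩ = blockCoeff U n := by
  classical
  rw [helper80.blockCoeff_eq_sum, helper80.blockCoeff_eq_sum]
  congr 1
  refine (Fintype.sum_equiv (cjEquiv N g) _ _ (fun θ => ?_)).symm
  have hiff : cjIrr N g θ ∈ U ↔ θ ∈ U := by
    constructor
    · intro h
      have h1 := hU g⁻¹ _ h
      rwa [cjIrr_inv_cjIrr] at h1
    · exact hU g θ
  have hcj : (cjEquiv N g) θ = cjIrr N g θ := rfl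
  rw [hcj, cjIrr_one_apply, cjIrr_apply_conj]
  by_cases hθ : θ ∈ U
  · rw [if_pos hθ, if_pos (hiff.mpr hθ)]
  · rw [if_neg hθ, if_neg (fun h => hθ (hiff.mp h))]

/-- For `χ` lying over `θ` and a `G`-invariant function `a` on `N`:
`(∑ a χ) θ(1) = (∑ a θ) χ(1)`. -/
theorem sum_mul_restrict_eq {χ : IrrCharacter G} {θ : IrrCharacter N}
    (h : classInner (fun n : N => (χ : G → ℂ) n) (θ : N → ℂ) ≠ 0) (a : N → ℂ)
    (ha : ∀ (g : G) (n : N), a ⟨g * n * g⁻¹, hN.conj_mem n n.2 g⟩ = a n) :
    (∑ n : N, a n * (χ : G → ℂ) n) * (θ : N → ℂ) 1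
      = (∑ n : N, a n * (θ : N → ℂ) n) * (χ : G → ℂ) 1 := by
  classical
  obtain ⟨e, he⟩ := helper4.exists_nat_classInner_irr
    (helper4.isCharacter_restrict N (helper83.isCharacter_of_irr χ.2)) θ.2
  have he0 : e ≠ 0 := by
    rintro rfl
    apply h
    rw [he, Nat.cast_zero]
  have hd := helper82.clifford_decomp N χ.2 θ.2 e he he0
  have hdeg := helper82.clifford_degree N χ.2 θ.2 e he he0
  have hs := helper84.sum_cconj_eq N θ.2
  have hidx := Subgroup.index_mul_card (helper82.inertia N (θ : N → ℂ))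
  have hidx' : ((helper82.inertia N (θ : N → ℂ)).index : ℂ)
      * (Nat.card (helper82.inertia N (θ : N → ℂ)) : ℂ) = (Nat.card G : ℂ) := by
    exact_mod_cast hidx
  have hI : (Nat.card (helper82.inertia N (θ : N → ℂ)) : ℂ) ≠ 0 := by
    exact_mod_cast Nat.card_pos.ne'
  have hcard : (Nat.card G : ℂ) = (Fintype.card G : ℂ) := by
    rw [Nat.card_eq_fintype_card]
  -- each conjugate contributes the same sum
  have hconj : ∀ x : G, ∑ n : N, a n * helper82.cconj N x (θ : N → ℂ) n
      = ∑ n : N, a n * (θ : N → ℂ) n := by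
    intro x
    refine (Fintype.sum_equiv (MulAut.conjNormal x : N ≃* N).toEquiv _ _ (fun m => ?_)).symm
    have h1 : (MulAut.conjNormal x : N ≃* N) m = ⟨x * m * x⁻¹, hN.conj_mem m m.2 x⟩ :=
      Subtype.ext (by simp)
    show a m * (θ : N → ℂ) m = a ((MulAut.conjNormal x : N ≃* N) m)
      * helper82.cconj N x (θ : N → ℂ) ((MulAut.conjNormal x : N ≃* N) m)
    rw [h1, ha, helper82.cconj_apply_conj]
  have hsum : (Nat.card (helper82.inertia N (θ : N → ℂ)) : ℂ) * ∑ n : N, a n * (χ : G → ℂ) n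
      = (e : ℂ) * ((Nat.card G : ℂ) * ∑ n : N, a n * (θ : N → ℂ) n) := by
    calc (Nat.card (helper82.inertia N (θ : N → ℂ)) : ℂ) * ∑ n : N, a n * (χ : G → ℂ) n
        = ∑ n : N, a n * ((e : ℂ) * ∑ x : G, helper82.cconj N x (θ : N → ℂ) n) := by
          rw [Finset.mul_sum]
          refine Finset.sum_congr rfl (fun n _ => ?_)
          rw [hd n, hs n]
          ring
      _ = (e : ℂ) * ∑ x : G, ∑ n : N, a n * helper82.cconj N x (θ : N → ℂ) n := by
          rw [Finset.sum_comm, Finset.mul_sum]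
          refine Finset.sum_congr rfl (fun n _ => ?_)
          rw [Finset.mul_sum, Finset.mul_sum, Finset.mul_sum]
          refine Finset.sum_congr rfl (fun x _ => ?_)
          ring
      _ = (e : ℂ) * ((Nat.card G : ℂ) * ∑ n : N, a n * (θ : N → ℂ) n) := by
          rw [Finset.sum_congr rfl (fun x _ => hconj x), Finset.sum_const, Finset.card_univ,
            hcard, nsmul_eq_mul]
  have key : (Nat.card (helper82.inertia N (θ : N → ℂ)) : ℂ)
      * ((∑ n : N, a n * (χ : G → ℂ) n) * (θ : N → ℂ) 1)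
      = (Nat.card (helper82.inertia N (θ : N → ℂ)) : ℂ)
        * ((∑ n : N, a n * (θ : N → ℂ) n) * (χ : G → ℂ) 1) := by
    rw [← mul_assoc, hsum, hdeg, ← hidx']
    ring
  exact mul_left_cancel₀ hI key

/-- For `χ` lying over `θ` and a `G`-invariant function `a` on `N`, the central character of
`χ` on the extension by zero of `a` is the central character of `θ` on `a`. -/
theorem om_extFun_of_constituent {χ : IrrCharacter G} {θ : IrrCharacter N}
    (h : classInner (fun n : N => (χ : G → ℂ) n) (θ : N → ℂ) ≠ 0) (a : N → ℂ)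
    (ha : ∀ (g : G) (n : N), a ⟨g * n * g⁻¹, hN.conj_mem n n.2 g⟩ = a n) :
    helper80.om (χ : G → ℂ) (helper80.extFun N a) = helper80.om (θ : N → ℂ) a := by
  unfold helper80.om
  rw [helper80.sum_extFun_mul]
  rw [div_eq_div_iff (helper81.irr_one_ne_zero χ) (helper81.irr_one_ne_zero θ)]
  exact sum_mul_restrict_eq N h a ha

omit [Fintype G] [Fintype N] in
/-- The extension by zero of a `G`-invariant function on `N` is a class function on `G`. -/
theorem isClassFunction_extFun_of_inv (a : N → ℂ)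
    (ha : ∀ (g : G) (n : N), a ⟨g * n * g⁻¹, hN.conj_mem n n.2 g⟩ = a n) :
    IsClassFunction G (helper80.extFun N a) := by
  intro x g
  refine helper80.extFun_conj N a g (mem_normalizer_of_normal N g) (fun k k' hk => ?_) x
  have h1 : k' = ⟨g * k * g⁻¹, hN.conj_mem k k.2 g⟩ := Subtype.ext hk
  rw [h1, ha]

/-- If the block `B` of `G` covers the block `b` of `N`, then every irreducible constituent of
the restriction to `N` of a member of `B` lies in a `G`-conjugate of `b`. -/
theorem mem_orbitUnion_of_cover {M : Ideal AlgInt} (hM : M.IsPrime)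
    {B : Set (IrrCharacter G)} (hB : IsPBlock M B) {b : Set (IrrCharacter N)}
    (hb : IsPBlock M b) {χ₀ : IrrCharacter G} (hχ₀ : χ₀ ∈ B) {θ₀ : IrrCharacter N}
    (hθ₀ : θ₀ ∈ b) (h₀ : classInner (fun n : N => (χ₀ : G → ℂ) n) (θ₀ : N → ℂ) ≠ 0)
    {χ : IrrCharacter G} (hχ : χ ∈ B) {θ : IrrCharacter N}
    (h : classInner (fun n : N => (χ : G → ℂ) n) (θ : N → ℂ) ≠ 0) : θ ∈ orbitUnion N b := by
  classical
  have ha := blockCoeff_conj_of_stable N (orbitUnion N b) (orbitUnion_stable N b)
  have hcf := isClassFunction_extFun_of_inv N (blockCoeff (orbitUnion N b)) ha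
  have hloc : ∀ g, MemLocalRing M (helper80.extFun N (blockCoeff (orbitUnion N b)) g) :=
    helper80.extFun_memLocalRing hM N _
      (memLocalRing_blockCoeff_of_union hM _ (orbitUnion_union_blocks N hM hb))
  have h1 : helper80.om (χ₀ : G → ℂ) (helper80.extFun N (blockCoeff (orbitUnion N b))) = 1 := by
    rw [om_extFun_of_constituent N h₀ _ ha, helper80.om_blockCoeff,
      if_pos (subset_orbitUnion N b hθ₀)]
  have h2 : helper80.om (χ : G → ℂ) (helper80.extFun N (blockCoeff (orbitUnion N b)))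
      = if θ ∈ orbitUnion N b then 1 else 0 := by
    rw [om_extFun_of_constituent N h _ ha, helper80.om_blockCoeff]
  have h3 := helper80.memLocalIdeal_om_sub hM χ₀ χ (helper80.sameBlock_of_mem hM hB hχ₀ hχ) _
    hcf hloc
  by_contra hθ
  rw [h1, h2, if_neg hθ, sub_zero] at h3
  exact helper20.not_memLocalIdeal_one h3

end Cover

section Corr

variable {G : Type u} [Group G] [Fintype G] (N : Subgroup G) [hN : N.Normal] [Fintype N]
  (T : Subgroup G) [Fintype T]

omit [Fintype G] [Fintype N] [Fintype T] in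
/-- The inertia group inside `T` of the transported character. -/
theorem inertia_subRes (hNT : N ≤ T) (θ : N → ℂ) :
    helper82.inertia (N.subgroupOf T) (helper82.subRes N T θ)
      = (helper82.inertia N θ).subgroupOf T := by
  ext t
  rw [helper82.mem_inertia, Subgroup.mem_subgroupOf, helper82.mem_inertia, helper82.cconj_subRes]
  constructor
  · intro h
    funext n
    have h1 := congrFun h ⟨⟨n, hNT n.2⟩, Subgroup.mem_subgroupOf.mpr n.2⟩
    exact h1
  · intro h
    rw [h]

/-- Clifford's degree formula inside a subgroup `T ≥ N`: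
`ψ 1 = f * |T : I_T(θ)| * θ 1`. -/
theorem clifford_degree_rel (hNT : N ≤ T) {θ : N → ℂ} (hθ : IsIrrCharacter N θ)
    {ψ : T → ℂ} (hψ : IsIrrCharacter T ψ) (f : ℕ)
    (hf : classInner (fun n : N => ψ ⟨n, hNT n.2⟩) θ = f) (hf0 : f ≠ 0) :
    ψ 1 = f * ((helper82.inertia N θ).relIndex T : ℂ) * θ 1 := by
  classical
  have : Fintype (N.subgroupOf T) := Fintype.ofFinite _
  have hθ' := helper82.isIrrCharacter_subRes N T hNT hθ
  have he : classInner (fun x : N.subgroupOf T => ψ x) (helper82.subRes N T θ) = f := by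
    rw [← helper82.subRes_restrict N T hNT ψ, helper82.classInner_subRes N T hNT, hf]
  have h1 := helper82.clifford_degree (N.subgroupOf T) hψ hθ' f he hf0
  rw [inertia_subRes N T hNT θ] at h1
  exact h1

/-- **Clifford correspondence** for a subgroup `T` containing the inertia group of `θ`: an
irreducible character of `T` lying over `θ` induces irreducibly to `G`, with the same
multiplicity of `θ`. -/
theorem clifford_corr_irr_ge (hNT : N ≤ T) {θ : N → ℂ} (hθ : IsIrrCharacter N θ)
    (hT : helper82.inertia N θ ≤ T) {ψ : T → ℂ} (hψ : IsIrrCharacter T ψ)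
    (hψθ : classInner (fun n : N => ψ ⟨n, hNT n.2⟩) θ ≠ 0) :
    IsIrrCharacter G (indFun T ψ) ∧
      classInner (fun n : N => indFun T ψ n) θ =
        classInner (fun n : N => ψ ⟨n, hNT n.2⟩) θ := by
  classical
  obtain ⟨f, hf⟩ := helper4.exists_nat_classInner_irr
    (helper82.isCharacter_restrict_le N T hNT (helper83.isCharacter_of_irr hψ)) hθ
  have hf0 : f ≠ 0 := by
    intro h0
    apply hψθ
    rw [hf, h0]; simp
  have hψ1 := clifford_degree_rel N T hNT hθ hψ f hf hf0
  have hθ1 : θ 1 = (charDegree θ : ℂ) := helper82.irr_one_eq ⟨θ, hθ⟩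
  have hDpos : 0 < charDegree θ := helper82.irr_charDegree_pos ⟨θ, hθ⟩
  have hΘ : IsCharacter G (indFun T ψ) :=
    helper4.isCharacter_indFun T (helper83.isCharacter_of_irr hψ)
  obtain ⟨M, hM, hMg, hM1⟩ := helper82.exists_nat_decomp hΘ
  have hIpos : 0 < (helper82.inertia N θ).index :=
    Nat.pos_of_ne_zero Subgroup.index_ne_zero_of_finite
  have hrel : (helper82.inertia N θ).relIndex T * T.index = (helper82.inertia N θ).index :=
    Subgroup.relIndex_mul_index hT
  have htotal : ∑ χ : IrrCharacter G, M χ * charDegree (χ : G → ℂ) =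
      (helper82.inertia N θ).index * f * charDegree θ := by
    have h1 := helper4.indFun_one T ψ
    rw [hM1, hψ1, hθ1] at h1
    have h2 : ((∑ χ : IrrCharacter G, M χ * charDegree (χ : G → ℂ) : ℕ) : ℂ) =
        (((helper82.inertia N θ).index * f * charDegree θ : ℕ) : ℂ) := by
      rw [h1, ← hrel]; push_cast; ring
    exact_mod_cast h2
  have hne : ∑ χ : IrrCharacter G, M χ * charDegree (χ : G → ℂ) ≠ 0 := by
    rw [htotal]
    exact Nat.mul_ne_zero (Nat.mul_ne_zero hIpos.ne' hf0) hDpos.ne'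
  obtain ⟨χ, -, hχ0⟩ := Finset.exists_ne_zero_of_sum_ne_zero hne
  have hMχ : M χ ≠ 0 := left_ne_zero_of_mul hχ0
  have hχcf : IsClassFunction G (χ : G → ℂ) := helper4.isClassFunction_of_isIrrCharacter χ.2
  have hχψ : classInner (fun t : T => (χ : G → ℂ) t) ψ = M χ := by
    have h1 := helper4.frobenius_reciprocity T ψ hχcf
    rw [hM χ] at h1
    rw [← helper4.classInner_conj_symm, ← h1]
    simp
  obtain ⟨e, he⟩ := helper4.exists_nat_classInner_irr
    (helper4.isCharacter_restrict N (helper83.isCharacter_of_irr χ.2)) hθ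
  have hres : ∀ ψ' : IrrCharacter T, ∃ a : ℕ,
      classInner (fun t : T => (χ : G → ℂ) t) (ψ' : T → ℂ) = a := fun ψ' =>
    helper4.exists_nat_classInner_irr
      (helper4.isCharacter_restrict T (helper83.isCharacter_of_irr χ.2)) ψ'.2
  choose a ha using hres
  have hres2 : ∀ ψ' : IrrCharacter T, ∃ b : ℕ,
      classInner (fun n : N => (ψ' : T → ℂ) ⟨n, hNT n.2⟩) θ = b := fun ψ' =>
    helper4.exists_nat_classInner_irr
      (helper82.isCharacter_restrict_le N T hNT (helper83.isCharacter_of_irr ψ'.2)) hθ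
  choose b hb using hres2
  have hexp : e = ∑ ψ' : IrrCharacter T, a ψ' * b ψ' := by
    have h1 := helper82.classInner_restrict_trans N T hNT hχcf θ
    rw [he] at h1
    simp only [ha, hb] at h1
    exact_mod_cast h1
  have haψ : a ⟨ψ, hψ⟩ = M χ := by
    have h1 := ha ⟨ψ, hψ⟩
    rw [hχψ] at h1
    exact_mod_cast h1.symm
  have hbψ : b ⟨ψ, hψ⟩ = f := by
    have h1 := hb ⟨ψ, hψ⟩
    rw [hf] at h1
    exact_mod_cast h1.symm
  have hege : M χ * f ≤ e := by
    rw [hexp, ← haψ, ← hbψ]
    exact Finset.single_le_sum (f := fun ψ' => a ψ' * b ψ') (fun _ _ => Nat.zero_le _)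
      (Finset.mem_univ _)
  have he0 : e ≠ 0 := by
    intro h0
    rw [h0] at hege
    have : M χ * f ≠ 0 := Nat.mul_ne_zero hMχ hf0
    omega
  have hdχ : charDegree (χ : G → ℂ) = e * (helper82.inertia N θ).index * charDegree θ := by
    have h1 := helper82.clifford_degree N χ.2 hθ e he he0
    rw [helper82.irr_one_eq χ, hθ1] at h1
    exact_mod_cast h1
  rw [← Finset.add_sum_erase _ _ (Finset.mem_univ χ), hdχ] at htotal
  have hMχ1 : 1 ≤ M χ := Nat.one_le_iff_ne_zero.mpr hMχ
  have hf1 : 1 ≤ f := Nat.one_le_iff_ne_zero.mpr hf0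
  have hID : 0 < (helper82.inertia N θ).index * charDegree θ := Nat.mul_pos hIpos hDpos
  have hle : M χ * e ≤ f := by
    have h1 : M χ * e * ((helper82.inertia N θ).index * charDegree θ)
        ≤ f * ((helper82.inertia N θ).index * charDegree θ) := by
      calc M χ * e * ((helper82.inertia N θ).index * charDegree θ)
          = M χ * (e * (helper82.inertia N θ).index * charDegree θ) := by ring
        _ ≤ M χ * (e * (helper82.inertia N θ).index * charDegree θ) +
            ∑ x ∈ Finset.univ.erase χ, M x * charDegree (x : G → ℂ) := Nat.le_add_right _ _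
        _ = (helper82.inertia N θ).index * f * charDegree θ := htotal
        _ = f * ((helper82.inertia N θ).index * charDegree θ) := by ring
    exact Nat.le_of_mul_le_mul_right h1 hID
  have hM1' : M χ = 1 := by
    have h1 : M χ * (M χ * f) ≤ f := le_trans (Nat.mul_le_mul_left _ hege) hle
    by_contra hne1
    have h2 : 2 ≤ M χ := by omega
    nlinarith
  have hef : e = f := by
    rw [hM1', one_mul] at hege hle
    omega
  have hrest : ∀ ψ' ∈ Finset.univ.erase χ, M ψ' = 0 := by
    rw [hM1', hef, one_mul] at htotal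
    have h0 : ∑ x ∈ Finset.univ.erase χ, M x * charDegree (x : G → ℂ) = 0 := by
      have h3 : f * (helper82.inertia N θ).index * charDegree θ
          = (helper82.inertia N θ).index * f * charDegree θ := by ring
      omega
    intro ψ' hψ'
    have h1 := (Finset.sum_eq_zero_iff.mp h0) ψ' hψ'
    rcases Nat.mul_eq_zero.mp h1 with h | h
    · exact h
    · exact absurd h (helper82.irr_charDegree_pos ψ').ne'
  have hΘχ : indFun T ψ = (χ : G → ℂ) := by
    funext g
    rw [hMg g, ← Finset.add_sum_erase _ _ (Finset.mem_univ χ), hM1']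
    rw [Finset.sum_eq_zero (fun ψ' hψ' => by rw [hrest ψ' hψ']; simp)]
    simp
  refine ⟨hΘχ ▸ χ.2, ?_⟩
  rw [hΘχ, he, hf, hef]

/-- **Clifford correspondence**, surjectivity, for `T` containing the inertia group. -/
theorem clifford_corr_surj_ge (hNT : N ≤ T) {θ : N → ℂ} (hθ : IsIrrCharacter N θ)
    (hT : helper82.inertia N θ ≤ T) {χ : G → ℂ} (hχ : IsIrrCharacter G χ)
    (h : classInner (fun n : N => χ n) θ ≠ 0) :
    ∃ ψ : T → ℂ, IsIrrCharacter T ψ ∧ indFun T ψ = χ ∧
      classInner (fun n : N => ψ ⟨n, hNT n.2⟩) θ ≠ 0 := by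
  classical
  have hχcf : IsClassFunction G χ := helper4.isClassFunction_of_isIrrCharacter hχ
  have h1 := helper82.classInner_restrict_trans N T hNT hχcf θ
  rw [h1] at h
  obtain ⟨ψ, -, hψ0⟩ := Finset.exists_ne_zero_of_sum_ne_zero h
  have ha : classInner (fun t : T => χ t) (ψ : T → ℂ) ≠ 0 := left_ne_zero_of_mul hψ0
  have hb : classInner (fun n : N => (ψ : T → ℂ) ⟨n, hNT n.2⟩) θ ≠ 0 := right_ne_zero_of_mul hψ0
  obtain ⟨hirr, -⟩ := clifford_corr_irr_ge N T hNT hθ hT ψ.2 hb
  have heq : indFun T (ψ : T → ℂ) = χ := by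
    by_contra hne
    have h2 := helper4.classInner_irr_ne hirr hχ hne
    rw [helper4.frobenius_reciprocity T (ψ : T → ℂ) hχcf] at h2
    apply ha
    rw [← helper4.classInner_conj_symm, h2]
    simp
  exact ⟨ψ, ψ.2, heq, hb⟩

/-- Uniqueness in the Clifford correspondence: if `χ = ψ^G` with `ψ ∈ Irr(T | θ)`, then `ψ` is
the only irreducible constituent of `χ|T` lying over `θ`. -/
theorem eq_of_constituent_over (hNT : N ≤ T) {θ : N → ℂ} (hθ : IsIrrCharacter N θ)
    (hT : helper82.inertia N θ ≤ T) {ψ ψ' : IrrCharacter T}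
    (h1 : classInner (fun n : N => (ψ : T → ℂ) ⟨n, hNT n.2⟩) θ ≠ 0)
    (h2 : classInner (fun n : N => (ψ' : T → ℂ) ⟨n, hNT n.2⟩) θ ≠ 0)
    (h3 : classInner (fun t : T => indFun T (ψ : T → ℂ) t) (ψ' : T → ℂ) ≠ 0) : ψ' = ψ := by
  classical
  by_contra hne
  obtain ⟨hirr, hmult⟩ := clifford_corr_irr_ge N T hNT hθ hT ψ.2 h1
  have hχcf : IsClassFunction G (indFun T (ψ : T → ℂ)) :=
    helper4.isClassFunction_of_isIrrCharacter hirr
  obtain ⟨f, hf⟩ := helper4.exists_nat_classInner_irr
    (helper82.isCharacter_restrict_le N T hNT (helper83.isCharacter_of_irr ψ.2)) hθ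
  obtain ⟨f', hf'⟩ := helper4.exists_nat_classInner_irr
    (helper82.isCharacter_restrict_le N T hNT (helper83.isCharacter_of_irr ψ'.2)) hθ
  have hf'0 : f' ≠ 0 := by
    intro h0
    apply h2
    rw [hf', h0]; simp
  have hres : ∀ ψ'' : IrrCharacter T, ∃ a : ℕ,
      classInner (fun t : T => indFun T (ψ : T → ℂ) t) (ψ'' : T → ℂ) = a := fun ψ'' =>
    helper4.exists_nat_classInner_irr
      (helper4.isCharacter_restrict T (helper83.isCharacter_of_irr hirr)) ψ''.2
  choose a ha using hres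
  have hres2 : ∀ ψ'' : IrrCharacter T, ∃ b : ℕ,
      classInner (fun n : N => (ψ'' : T → ℂ) ⟨n, hNT n.2⟩) θ = b := fun ψ'' =>
    helper4.exists_nat_classInner_irr
      (helper82.isCharacter_restrict_le N T hNT (helper83.isCharacter_of_irr ψ''.2)) hθ
  choose b hb using hres2
  have hexp : f = ∑ ψ'' : IrrCharacter T, a ψ'' * b ψ'' := by
    have h4 := helper82.classInner_restrict_trans N T hNT hχcf θ
    rw [hmult, hf] at h4
    simp only [ha, hb] at h4
    exact_mod_cast h4
  have haψ : a ψ = 1 := by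
    have h4 := ha ψ
    have h5 := helper4.frobenius_reciprocity T (ψ : T → ℂ) hχcf
    rw [helper4.classInner_irr_self hirr] at h5
    have h6 : classInner (fun t : T => indFun T (ψ : T → ℂ) t) (ψ : T → ℂ) = 1 := by
      rw [← helper4.classInner_conj_symm, ← h5]; simp
    rw [h6] at h4
    exact_mod_cast h4.symm
  have haψ' : 1 ≤ a ψ' := by
    have h4 := ha ψ'
    rw [h4] at h3
    have : a ψ' ≠ 0 := by
      intro h0
      apply h3
      rw [h0]; simp
    omega
  have hbψ : b ψ = f := by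
    have h4 := hb ψ
    rw [hf] at h4
    exact_mod_cast h4.symm
  have hbψ' : b ψ' = f' := by
    have h4 := hb ψ'
    rw [hf'] at h4
    exact_mod_cast h4.symm
  have hge : f + f' ≤ f := by
    conv_rhs => rw [hexp]
    rw [← Finset.add_sum_erase _ _ (Finset.mem_univ ψ),
      ← Finset.add_sum_erase _ _ (Finset.mem_erase.mpr ⟨hne, Finset.mem_univ _⟩),
      haψ, hbψ, hbψ']
    have : f' ≤ a ψ' * f' := Nat.le_mul_of_pos_left _ haψ'
    omega
  omega

end Corr

section Transfer

variable {G : Type u} [Group G] [Fintype G] (N : Subgroup G) [hN : N.Normal] [Fintype N]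
  (T : Subgroup G) [Fintype T]

omit [Fintype G] in
/-- Idempotent coefficients are invariant under an element stabilizing the set. -/
theorem blockCoeff_conj_of_iff (U : Set (IrrCharacter N)) (g : G)
    (hg : ∀ θ : IrrCharacter N, cjIrr N g θ ∈ U ↔ θ ∈ U) (n : N) :
    blockCoeff U ⟨g * n * g⁻¹, hN.conj_mem n n.2 g⟩ = blockCoeff U n := by
  classical
  rw [helper80.blockCoeff_eq_sum, helper80.blockCoeff_eq_sum]
  congr 1
  refine (Fintype.sum_equiv (cjEquiv N g) _ _ (fun θ => ?_)).symm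
  have hcj : (cjEquiv N g) θ = cjIrr N g θ := rfl
  rw [hcj, cjIrr_one_apply, cjIrr_apply_conj]
  by_cases hθ : θ ∈ U
  · rw [if_pos hθ, if_pos ((hg θ).mpr hθ)]
  · rw [if_neg hθ, if_neg (fun h => hθ ((hg θ).mp h))]

omit [Fintype G] [Fintype T] in
/-- The idempotent coefficients of a `T`-stable set of characters of `N` are `T`-invariant. -/
theorem blockCoeff_conj_of_stable_sub (b : Set (IrrCharacter N))
    (hTs : ∀ t ∈ T, ∀ θ ∈ b, cjIrr N t θ ∈ b) :
    ∀ t ∈ T, ∀ n : N, blockCoeff b ⟨t * n * t⁻¹, hN.conj_mem n n.2 t⟩ = blockCoeff b n := by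
  intro t ht n
  apply blockCoeff_conj_of_iff
  intro θ
  constructor
  · intro h
    have h1 := hTs t⁻¹ (T.inv_mem ht) _ h
    rwa [cjIrr_inv_cjIrr] at h1
  · exact hTs t ht θ

/-- The restriction to `T` of the extension by zero of a function on `N`. -/
noncomputable def resExt (a : N → ℂ) : T → ℂ := fun t => helper80.extFun N a (t : G)

omit [Fintype G] [Fintype N] [Fintype T] hN in
theorem resExt_eq (a : N → ℂ) :
    resExt N T a = helper80.extFun (N.subgroupOf T) (helper82.subRes N T a) := by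
  funext t
  by_cases ht : (t : G) ∈ N
  · have ht' : t ∈ N.subgroupOf T := Subgroup.mem_subgroupOf.mpr ht
    rw [helper80.extFun_of_mem _ _ ht']
    show helper80.extFun N a (t : G) = _
    rw [helper80.extFun_of_mem _ _ ht]
    rfl
  · have ht' : t ∉ N.subgroupOf T := fun h => ht (Subgroup.mem_subgroupOf.mp h)
    rw [helper80.extFun_of_not_mem _ _ ht']
    show helper80.extFun N a (t : G) = _
    rw [helper80.extFun_of_not_mem _ _ ht]

omit [Fintype G] [Fintype N] [Fintype T] hN in
theorem memLocalRing_resExt {M : Ideal AlgInt} (hM : M.IsPrime) (a : N → ℂ)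
    (ha : ∀ n, MemLocalRing M (a n)) (t : T) : MemLocalRing M (resExt N T a t) :=
  helper80.extFun_memLocalRing hM N a ha (t : G)

omit [Fintype G] [Fintype N] [Fintype T] in
theorem isClassFunction_resExt (a : N → ℂ)
    (ha : ∀ t ∈ T, ∀ n : N, a ⟨t * n * t⁻¹, hN.conj_mem n n.2 t⟩ = a n) :
    IsClassFunction T (resExt N T a) := by
  rw [resExt_eq]
  exact isClassFunction_extFun_of_inv (N.subgroupOf T) (helper82.subRes N T a)
    (fun t x => ha (t : G) t.2 ⟨(x : T), Subgroup.mem_subgroupOf.mp x.2⟩)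

/-- Relative form of `sum_mul_restrict_eq`: `ψ ∈ Irr(T)` over `θ ∈ Irr(N)`, `a` a `T`-invariant
function on `N`. -/
theorem sum_mul_restrict_eq_rel (hNT : N ≤ T) {ψ : IrrCharacter T} {θ : IrrCharacter N}
    (h : classInner (fun n : N => (ψ : T → ℂ) ⟨n, hNT n.2⟩) (θ : N → ℂ) ≠ 0) (a : N → ℂ)
    (ha : ∀ t ∈ T, ∀ n : N, a ⟨t * n * t⁻¹, hN.conj_mem n n.2 t⟩ = a n) :
    (∑ n : N, a n * (ψ : T → ℂ) ⟨n, hNT n.2⟩) * (θ : N → ℂ) 1
      = (∑ n : N, a n * (θ : N → ℂ) n) * (ψ : T → ℂ) 1 := by
  classical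
  have : Fintype (N.subgroupOf T) := Fintype.ofFinite _
  have hθ' := helper82.isIrrCharacter_subRes N T hNT θ.2
  have h' : classInner (fun x : N.subgroupOf T => (ψ : T → ℂ) x)
      (helper82.subRes N T (θ : N → ℂ)) ≠ 0 := by
    rw [← helper82.subRes_restrict N T hNT (ψ : T → ℂ), helper82.classInner_subRes N T hNT]
    exact h
  have key : (∑ x : N.subgroupOf T, helper82.subRes N T a x * (ψ : T → ℂ) x)
      * helper82.subRes N T (θ : N → ℂ) 1
      = (∑ x : N.subgroupOf T, helper82.subRes N T a x * helper82.subRes N T (θ : N → ℂ) x)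
        * (ψ : T → ℂ) 1 :=
    sum_mul_restrict_eq (N.subgroupOf T) (χ := ψ) (θ := ⟨_, hθ'⟩) h' (helper82.subRes N T a)
      (fun t x => ha (t : G) t.2 ⟨(x : T), Subgroup.mem_subgroupOf.mp x.2⟩)
  have e1 : ∑ x : N.subgroupOf T, helper82.subRes N T a x * (ψ : T → ℂ) x
      = ∑ n : N, a n * (ψ : T → ℂ) ⟨n, hNT n.2⟩ :=
    Fintype.sum_equiv (Subgroup.subgroupOfEquivOfLe hNT).toEquiv _ _ (fun x => rfl)
  have e2 : ∑ x : N.subgroupOf T, helper82.subRes N T a x * helper82.subRes N T (θ : N → ℂ) x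
      = ∑ n : N, a n * (θ : N → ℂ) n :=
    Fintype.sum_equiv (Subgroup.subgroupOfEquivOfLe hNT).toEquiv _ _ (fun x => rfl)
  have e3 : helper82.subRes N T (θ : N → ℂ) 1 = (θ : N → ℂ) 1 := rfl
  rw [e1, e2, e3] at key
  exact key

/-- Relative form of `om_extFun_of_constituent`. -/
theorem om_resExt_of_constituent (hNT : N ≤ T) {ψ : IrrCharacter T} {θ : IrrCharacter N}
    (h : classInner (fun n : N => (ψ : T → ℂ) ⟨n, hNT n.2⟩) (θ : N → ℂ) ≠ 0) (a : N → ℂ)
    (ha : ∀ t ∈ T, ∀ n : N, a ⟨t * n * t⁻¹, hN.conj_mem n n.2 t⟩ = a n) :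
    helper80.om (ψ : T → ℂ) (resExt N T a) = helper80.om (θ : N → ℂ) a := by
  classical
  have : Fintype (N.subgroupOf T) := Fintype.ofFinite _
  unfold helper80.om
  rw [resExt_eq, helper80.sum_extFun_mul]
  have e1 : ∑ x : N.subgroupOf T, helper82.subRes N T a x * (ψ : T → ℂ) x
      = ∑ n : N, a n * (ψ : T → ℂ) ⟨n, hNT n.2⟩ :=
    Fintype.sum_equiv (Subgroup.subgroupOfEquivOfLe hNT).toEquiv _ _ (fun x => rfl)
  rw [e1, div_eq_div_iff (helper81.irr_one_ne_zero ψ) (helper81.irr_one_ne_zero θ)]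
  exact sum_mul_restrict_eq_rel N T hNT h a ha

omit [Fintype G] hN in
/-- The restriction of an irreducible character to a subgroup has an irreducible constituent. -/
theorem exists_constituent_restrict (hNT : N ≤ T) (ψ : IrrCharacter T) :
    ∃ θ : IrrCharacter N, classInner (fun n : N => (ψ : T → ℂ) ⟨n, hNT n.2⟩) (θ : N → ℂ) ≠ 0 := by
  classical
  by_contra hcon
  have h0 : ∀ θ : IrrCharacter N,
      classInner (fun n : N => (ψ : T → ℂ) ⟨n, hNT n.2⟩) (θ : N → ℂ) = 0 := by
    intro θ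
    by_contra h
    exact hcon ⟨θ, h⟩
  have hcf : IsClassFunction N (fun n : N => (ψ : T → ℂ) ⟨n, hNT n.2⟩) := by
    intro g h
    have h1 := helper4.isClassFunction_of_isIrrCharacter ψ.2 ⟨g, hNT g.2⟩ ⟨h, hNT h.2⟩
    exact h1
  have h1 := helper4.classFunction_eq_sum_irr hcf
  have h2 := congrFun h1 1
  rw [Finset.sum_apply] at h2
  simp only [h0, zero_smul, Pi.zero_apply, Finset.sum_const_zero] at h2
  exact helper81.irr_one_ne_zero ψ h2

omit [Fintype G] [Fintype T] in
/-- For `x ∈ T`, conjugating `θ` by `x` does not change its multiplicity in `ψ|N`. -/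
theorem classInner_restrict_cconj_rel (hNT : N ≤ T) (ψ : IrrCharacter T) {x : G} (hx : x ∈ T)
    (θ : N → ℂ) :
    classInner (fun n : N => (ψ : T → ℂ) ⟨n, hNT n.2⟩) (helper82.cconj N x θ)
      = classInner (fun n : N => (ψ : T → ℂ) ⟨n, hNT n.2⟩) θ := by
  have h1 : helper82.cconj N x (fun n : N => (ψ : T → ℂ) ⟨n, hNT n.2⟩)
      = fun n : N => (ψ : T → ℂ) ⟨n, hNT n.2⟩ := by
    funext n
    rw [helper82.cconj_apply]
    have h2 := helper4.isClassFunction_of_isIrrCharacter ψ.2 ⟨n, hNT n.2⟩ (⟨x, hx⟩ : T)⁻¹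
    rw [← h2]
    refine congrArg (ψ : T → ℂ) (Subtype.ext ?_)
    simp
  have h3 := helper82.classInner_cconj N x (fun n : N => (ψ : T → ℂ) ⟨n, hNT n.2⟩) θ
  rw [h1] at h3
  exact h3

/-- If `ψ'` is a constituent of `χ|T` and `θ'` a constituent of `ψ'|N`, then `θ'` is a
constituent of `χ|N`. -/
theorem classInner_restrict_ne_zero_trans (hNT : N ≤ T) (χ : IrrCharacter G)
    (ψ' : IrrCharacter T) (θ' : IrrCharacter N)
    (h1 : classInner (fun t : T => (χ : G → ℂ) t) (ψ' : T → ℂ) ≠ 0)
    (h2 : classInner (fun n : N => (ψ' : T → ℂ) ⟨n, hNT n.2⟩) (θ' : N → ℂ) ≠ 0) :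
    classInner (fun n : N => (χ : G → ℂ) n) (θ' : N → ℂ) ≠ 0 := by
  classical
  have hχcf : IsClassFunction G (χ : G → ℂ) := helper4.isClassFunction_of_isIrrCharacter χ.2
  have hres : ∀ ψ'' : IrrCharacter T, ∃ a : ℕ,
      classInner (fun t : T => (χ : G → ℂ) t) (ψ'' : T → ℂ) = a := fun ψ'' =>
    helper4.exists_nat_classInner_irr
      (helper4.isCharacter_restrict T (helper83.isCharacter_of_irr χ.2)) ψ''.2
  choose a ha using hres
  have hres2 : ∀ ψ'' : IrrCharacter T, ∃ b : ℕ,
      classInner (fun n : N => (ψ'' : T → ℂ) ⟨n, hNT n.2⟩) (θ' : N → ℂ) = b := fun ψ'' =>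
    helper4.exists_nat_classInner_irr
      (helper82.isCharacter_restrict_le N T hNT (helper83.isCharacter_of_irr ψ''.2)) θ'.2
  choose b hb using hres2
  have h3 := helper82.classInner_restrict_trans N T hNT hχcf (θ' : N → ℂ)
  simp only [ha, hb] at h3
  rw [h3]
  have ha' : a ψ' ≠ 0 := by
    intro h0
    apply h1
    rw [ha, h0]; simp
  have hb' : b ψ' ≠ 0 := by
    intro h0
    apply h2
    rw [hb, h0]; simp
  have h4 : 0 < ∑ ψ'' : IrrCharacter T, a ψ'' * b ψ'' := by
    have h5 : a ψ' * b ψ' ≤ ∑ ψ'' : IrrCharacter T, a ψ'' * b ψ'' :=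
      Finset.single_le_sum (f := fun ψ'' => a ψ'' * b ψ'') (fun _ _ => Nat.zero_le _)
        (Finset.mem_univ _)
    have h6 : 0 < a ψ' * b ψ' := Nat.mul_pos (Nat.pos_of_ne_zero ha') (Nat.pos_of_ne_zero hb')
    omega
  have h7 : ((∑ ψ'' : IrrCharacter T, a ψ'' * b ψ'' : ℕ) : ℂ) ≠ 0 := by
    exact_mod_cast h4.ne'
  push_cast at h7
  exact h7

omit [Fintype G] [Fintype N] [Fintype T] in
/-- The inertia group of a member of `b` lies in any subgroup containing the stabilizer of `b`. -/
theorem inertia_le_of_stab (b : Set (IrrCharacter N))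
    (hTc : ∀ g : G, ∀ θ ∈ b, cjIrr N g θ ∈ b → g ∈ T) {θ : IrrCharacter N} (hθ : θ ∈ b) :
    helper82.inertia N (θ : N → ℂ) ≤ T := by
  intro g hg
  apply hTc g θ hθ
  have h1 : cjIrr N g θ = θ := Subtype.ext ((helper82.mem_inertia N _ g).mp hg)
  rw [h1]
  exact hθ

/-- **Transfer formula.**  `b` a set of irreducible characters of `N`, stable under `T`, such
that `T` contains every element of `G` sending a member of `b` into `b`.  For `ψ ∈ Irr(T)` lying
over `θ ∈ b`, `χ = ψ^G`, and a class function `z` on `T`: the central character of `χ` on the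
function induced from `z * e_b` is the central character of `ψ` on `z`. -/
theorem om_indFun_conv (hNT : N ≤ T) (b : Set (IrrCharacter N))
    (hTs : ∀ t ∈ T, ∀ θ ∈ b, cjIrr N t θ ∈ b)
    (hTc : ∀ g : G, ∀ θ ∈ b, cjIrr N g θ ∈ b → g ∈ T)
    {ψ : IrrCharacter T} {θ : IrrCharacter N} (hθ : θ ∈ b)
    (h : classInner (fun n : N => (ψ : T → ℂ) ⟨n, hNT n.2⟩) (θ : N → ℂ) ≠ 0)
    {χ : IrrCharacter G} (hχ : (χ : G → ℂ) = indFun T (ψ : T → ℂ))
    (z : T → ℂ) (hz : IsClassFunction T z) :
    helper80.om (χ : G → ℂ) (indFun T (helper81.conv z (resExt N T (blockCoeff b))))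
      = helper80.om (ψ : T → ℂ) z := by
  classical
  have hinv := blockCoeff_conj_of_stable_sub N T b hTs
  have hFcf : IsClassFunction T (resExt N T (blockCoeff b)) :=
    isClassFunction_resExt N T _ hinv
  have hzF : IsClassFunction T (helper81.conv z (resExt N T (blockCoeff b))) :=
    helper81.conv_classFun hz hFcf
  have hχcf : IsClassFunction G (χ : G → ℂ) := helper4.isClassFunction_of_isIrrCharacter χ.2
  have hIT : helper82.inertia N (θ : N → ℂ) ≤ T := inertia_le_of_stab N T b hTc hθ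
  obtain ⟨hirr, hmult⟩ := clifford_corr_irr_ge N T hNT θ.2 hIT ψ.2 h
  -- the coefficient of ψ in χ|T is one
  have hcψ : classInner (fun t : T => (χ : G → ℂ) t) (ψ : T → ℂ) = 1 := by
    have h5 := helper4.frobenius_reciprocity T (ψ : T → ℂ) hχcf
    rw [← hχ, helper4.classInner_irr_self χ.2] at h5
    rw [← helper4.classInner_conj_symm, ← h5]
    simp
  -- the value of om ψ' on the idempotent
  have hFψ : helper80.om (ψ : T → ℂ) (resExt N T (blockCoeff b)) = 1 := by
    rw [om_resExt_of_constituent N T hNT h _ hinv, helper80.om_blockCoeff, if_pos hθ]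
  -- other constituents do not contribute
  have hother : ∀ ψ' : IrrCharacter T, ψ' ≠ ψ →
      classInner (fun t : T => (χ : G → ℂ) t) (ψ' : T → ℂ)
        * helper80.om (ψ' : T → ℂ) (resExt N T (blockCoeff b)) = 0 := by
    intro ψ' hne
    by_contra hprod
    have hc : classInner (fun t : T => (χ : G → ℂ) t) (ψ' : T → ℂ) ≠ 0 := left_ne_zero_of_mul hprod
    have hom : helper80.om (ψ' : T → ℂ) (resExt N T (blockCoeff b)) ≠ 0 :=
      right_ne_zero_of_mul hprod
    obtain ⟨θ', hθ'⟩ := exists_constituent_restrict N T hNT ψ'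
    rw [om_resExt_of_constituent N T hNT hθ' _ hinv, helper80.om_blockCoeff] at hom
    have hθ'b : θ' ∈ b := by
      by_contra hnb
      rw [if_neg hnb] at hom
      exact hom rfl
    have hχθ' := classInner_restrict_ne_zero_trans N T hNT χ ψ' θ' hc hθ'
    have hχθ : classInner (fun n : N => (χ : G → ℂ) n) (θ : N → ℂ) ≠ 0 := by
      rw [hχ, hmult]
      exact h
    obtain ⟨x, hx⟩ := helper82.clifford_conj N χ.2 θ.2 θ'.2 hχθ hχθ'
    have hxT : x ∈ T := by
      apply hTc x θ hθ
      have h1 : cjIrr N x θ = θ' := Subtype.ext hx.symm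
      rw [h1]
      exact hθ'b
    have hψ'θ : classInner (fun n : N => (ψ' : T → ℂ) ⟨n, hNT n.2⟩) (θ : N → ℂ) ≠ 0 := by
      rw [← classInner_restrict_cconj_rel N T hNT ψ' hxT, ← hx]
      exact hθ'
    apply hne
    apply eq_of_constituent_over N T hNT θ.2 hIT h hψ'θ
    rw [← hχ]
    exact hc
  -- expansion of χ on T
  have hexp : ∀ t : T, (χ : G → ℂ) t = ∑ ψ' : IrrCharacter T,
      classInner (fun t : T => (χ : G → ℂ) t) (ψ' : T → ℂ) * (ψ' : T → ℂ) t := by
    intro t
    have h1 := helper4.classFunction_eq_sum_irr (helper4.isClassFunction_restrict T hχcf)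
    have h2 := congrFun h1 t
    rw [Finset.sum_apply] at h2
    simpa using h2
  have hsumT : ∑ t : T, helper81.conv z (resExt N T (blockCoeff b)) t * (χ : G → ℂ) t
      = helper80.om (ψ : T → ℂ) z * (ψ : T → ℂ) 1 := by
    have h1 : ∑ t : T, helper81.conv z (resExt N T (blockCoeff b)) t * (χ : G → ℂ) t
        = ∑ ψ' : IrrCharacter T, classInner (fun t : T => (χ : G → ℂ) t) (ψ' : T → ℂ)
          * (helper80.om (ψ' : T → ℂ) z * helper80.om (ψ' : T → ℂ) (resExt N T (blockCoeff b))
            * (ψ' : T → ℂ) 1) := by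
      calc ∑ t : T, helper81.conv z (resExt N T (blockCoeff b)) t * (χ : G → ℂ) t
          = ∑ t : T, ∑ ψ' : IrrCharacter T, classInner (fun t : T => (χ : G → ℂ) t) (ψ' : T → ℂ)
              * (helper81.conv z (resExt N T (blockCoeff b)) t * (ψ' : T → ℂ) t) := by
            refine Finset.sum_congr rfl (fun t _ => ?_)
            rw [hexp t, Finset.mul_sum]
            refine Finset.sum_congr rfl (fun ψ' _ => ?_)
            ring
        _ = ∑ ψ' : IrrCharacter T, classInner (fun t : T => (χ : G → ℂ) t) (ψ' : T → ℂ)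
              * ∑ t : T, helper81.conv z (resExt N T (blockCoeff b)) t * (ψ' : T → ℂ) t := by
            rw [Finset.sum_comm]
            refine Finset.sum_congr rfl (fun ψ' _ => ?_)
            rw [Finset.mul_sum]
        _ = _ := by
            refine Finset.sum_congr rfl (fun ψ' _ => ?_)
            congr 1
            rw [← helper80.om_conv ψ' hz hFcf]
            unfold helper80.om
            rw [div_mul_cancel₀ _ (helper81.irr_one_ne_zero ψ')]
    rw [h1, Finset.sum_eq_single ψ]
    · rw [hcψ, hFψ]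
      ring
    · intro ψ' _ hne
      have h2 := hother ψ' hne
      calc classInner (fun t : T => (χ : G → ℂ) t) (ψ' : T → ℂ)
            * (helper80.om (ψ' : T → ℂ) z * helper80.om (ψ' : T → ℂ) (resExt N T (blockCoeff b))
              * (ψ' : T → ℂ) 1)
          = (classInner (fun t : T => (χ : G → ℂ) t) (ψ' : T → ℂ)
              * helper80.om (ψ' : T → ℂ) (resExt N T (blockCoeff b)))
              * (helper80.om (ψ' : T → ℂ) z * (ψ' : T → ℂ) 1) := by ring
        _ = 0 := by rw [h2, zero_mul]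
    · intro hnot
      exact absurd (Finset.mem_univ ψ) hnot
  have hsumG := helper20.sum_indFun_mul T (helper81.conv z (resExt N T (blockCoeff b)))
    (χ : G → ℂ) (fun x y hxy => helper20.isIrrCharacter_conj χ.2 x y hxy)
  unfold helper80.om at hsumT ⊢
  rw [hsumG, hsumT]
  have hχ1 : (χ : G → ℂ) 1 = (T.index : ℂ) * (ψ : T → ℂ) 1 := by
    rw [hχ, helper4.indFun_one]
  have hψ1 := helper81.irr_one_ne_zero ψ
  have hTcard : (Nat.card T : ℂ) ≠ 0 := by exact_mod_cast Nat.card_pos.ne'
  have hidx : ((T.index : ℕ) : ℂ) * (Nat.card T : ℂ) = (Nat.card G : ℂ) := by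
    exact_mod_cast Subgroup.index_mul_card T
  have hidx0 : ((T.index : ℕ) : ℂ) ≠ 0 := by
    exact_mod_cast Subgroup.index_ne_zero_of_finite
  rw [hχ1, ← hidx]
  field_simp

end Transfer

end Cfsg.Agent.Lib.helper77
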