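import Mathlib
import Cfsg.Agent.Lib.helper24.SfoDefs

/-! S5981 split (helper24): piece OTRANS (the isometry group is transitive on each level set
`Q = c`, `c ≠ 0`), via reflections. -/

set_option autoImplicit false

namespace Cfsg.Agent.Lib.helper24

open Module Matrix Cfsg.Geo

/-- The reflection along an anisotropic vector `u`, as an isometry. -/
theorem helper77_sfo_refl {F : Type*} [Field F] {n : ℕ}
    (Q : (Fin n → F) → F) (hQ : IsNondegenerateQuadraticForm Q) (u : Fin n → F) (hu : Q u ≠ 0) :
    ∃ g ∈ sfoIsom Q, ∀ x, (g : Matrix (Fin n) (Fin n) F) *ᵥ x =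
      x - (QuadraticMap.polar Q x u / Q u) • u := by
  classical
  have hB := hQ.polar_bilinear
  let f : (Fin n → F) →ₗ[F] (Fin n → F) :=
    { toFun := fun x => x - (QuadraticMap.polar Q x u / Q u) • u
      map_add' := by
        intro x y
        rw [hB.add_left, add_div, add_smul]
        abel
      map_smul' := by
        intro c x
        rw [hB.smul_left, RingHom.id_apply, smul_sub, smul_smul, mul_div_assoc] }
  have hfx : ∀ x, f x = x - (QuadraticMap.polar Q x u / Q u) • u := fun _ => rfl
  have hQadd : ∀ a b, Q (a + b) = Q a + Q b + QuadraticMap.polar Q a b := by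
    intro a b
    unfold QuadraticMap.polar
    ring
  have hBuu : QuadraticMap.polar Q u u = 2 * Q u := by
    unfold QuadraticMap.polar
    have h1 : u + u = (2 : F) • u := (two_smul F u).symm
    rw [h1, hQ.smul]
    ring
  have hff : ∀ x, f (f x) = x := by
    intro x
    have h1 : QuadraticMap.polar Q (f x) u = - QuadraticMap.polar Q x u := by
      rw [hfx, sub_eq_add_neg, ← neg_smul, hB.add_left, hB.smul_left, hBuu]
      field_simp
      ring
    rw [hfx (f x), h1, hfx, neg_div, neg_smul]
    abel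
  have hQf : ∀ x, Q (f x) = Q x := by
    intro x
    rw [hfx, sub_eq_add_neg, ← neg_smul, hQadd, hQ.smul, hB.smul_right]
    field_simp
    ring
  have hM : ∀ x, (LinearMap.toMatrix' f) *ᵥ x = f x := by
    intro x
    rw [← Matrix.toLin'_apply, Matrix.toLin'_toMatrix']
  have hMM : LinearMap.toMatrix' f * LinearMap.toMatrix' f = 1 := by
    have h1 : f.comp f = LinearMap.id := LinearMap.ext hff
    rw [← LinearMap.toMatrix'_comp, h1, LinearMap.toMatrix'_id]
  refine ⟨⟨LinearMap.toMatrix' f, LinearMap.toMatrix' f, hMM, hMM⟩, ?_, ?_⟩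
  · intro x
    change Q ((LinearMap.toMatrix' f) *ᵥ x) = Q x
    rw [hM]
    exact hQf x
  · intro x
    exact hM x

/-- OTRANS -/
theorem sfo_isom_transitive {F : Type*} [Field F] {n : ℕ} (h2 : (2 : F) ≠ 0)
    (Q : (Fin n → F) → F) (hQ : IsNondegenerateQuadraticForm Q) (v w : Fin n → F)
    (hvw : Q v = Q w) (hv : Q v ≠ 0) :
    ∃ g ∈ sfoIsom Q, (g : Matrix (Fin n) (Fin n) F) *ᵥ v = w := by
  have hB := hQ.polar_bilinear
  have hQadd : ∀ a b, Q (a + b) = Q a + Q b + QuadraticMap.polar Q a b := by
    intro a b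
    unfold QuadraticMap.polar
    ring
  have hBaa : ∀ a, QuadraticMap.polar Q a a = 2 * Q a := by
    intro a
    unfold QuadraticMap.polar
    have h1 : a + a = (2 : F) • a := (two_smul F a).symm
    rw [h1, hQ.smul]
    ring
  have hQneg : ∀ a, Q (-a) = Q a := by
    intro a
    rw [← neg_one_smul F a, hQ.smul]
    ring
  have hBneg : ∀ a b, QuadraticMap.polar Q a (-b) = - QuadraticMap.polar Q a b := by
    intro a b
    rw [← neg_one_smul F b, hB.smul_right]
    ring
  have hQsub : Q (v - w) = 2 * Q v - QuadraticMap.polar Q v w := by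
    rw [sub_eq_add_neg, hQadd, hQneg, hBneg, ← hvw]
    ring
  have hw : Q w ≠ 0 := hvw ▸ hv
  by_cases h : Q (v - w) = 0
  · have hBvw : QuadraticMap.polar Q v w = 2 * Q v := by
      rw [hQsub] at h
      exact (sub_eq_zero.mp h).symm
    have hQp : Q (v + w) = 4 * Q v := by
      rw [hQadd, ← hvw, hBvw]
      ring
    have h4 : (4 : F) ≠ 0 := by
      have h22 : (4 : F) = 2 * 2 := by norm_num
      rw [h22]
      exact mul_ne_zero h2 h2
    have hQp0 : Q (v + w) ≠ 0 := by
      rw [hQp]
      exact mul_ne_zero h4 hv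
    obtain ⟨g1, hg1, hg1x⟩ := helper77_sfo_refl Q hQ (v + w) hQp0
    obtain ⟨g2, hg2, hg2x⟩ := helper77_sfo_refl Q hQ w hw
    refine ⟨g2 * g1, mul_mem hg2 hg1, ?_⟩
    rw [Units.val_mul, ← Matrix.mulVec_mulVec, hg1x]
    have e1 : QuadraticMap.polar Q v (v + w) / Q (v + w) = 1 := by
      rw [hB.add_right, hBaa, hBvw, hQp]
      field_simp
      ring
    have e2 : v - (1 : F) • (v + w) = -w := by
      rw [one_smul]
      abel
    rw [e1, e2, hg2x]
    have e3 : QuadraticMap.polar Q (-w) w / Q w = -2 := by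
      rw [← neg_one_smul F w, hB.smul_left, hBaa]
      field_simp
    rw [e3, neg_smul, two_smul]
    abel
  · obtain ⟨g, hg, hgx⟩ := helper77_sfo_refl Q hQ (v - w) h
    refine ⟨g, hg, ?_⟩
    rw [hgx]
    have e1 : QuadraticMap.polar Q v (v - w) / Q (v - w) = 1 := by
      have e0 : QuadraticMap.polar Q v (v - w) = Q (v - w) := by
        rw [hQsub, sub_eq_add_neg v w, hB.add_right, hBneg, hBaa]
        ring
      rw [e0]
      exact div_self h
    rw [e1, one_smul]
    abel

end Cfsg.Agent.Lib.helper24
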