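import Mathlib
import Cfsg.Agent.Lib.helper24.SfuDefs

/-! S5982 split (helper24): common core for pieces ORDT / ORDS (orthonormal bases and isometries). -/

set_option autoImplicit false

namespace Cfsg.Agent.Lib.helper24

open Module Matrix Cfsg.Geo

/-- Gram expansion in an orthonormal family. -/
theorem helper77_sfu_gram {F : Type*} [Field F] {n : ℕ} (q₀ : ℕ)
    (f : (Fin n → F) → (Fin n → F) → F) (hf : IsUnitaryFormPow q₀ f)
    (hadd2 : ∀ v x y, f v (x + y) = f v x + f v y)
    (hsmul2 : ∀ (c : F) (v x : Fin n → F), f v (c • x) = c ^ q₀ * f v x)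
    (e : Fin n → (Fin n → F)) (he : ∀ i j, f (e i) (e j) = if i = j then 1 else 0)
    (a b : Fin n → F) :
    f (∑ i, a i • e i) (∑ j, b j • e j) = ∑ i, a i * b i ^ q₀ := by
  classical
  have h1 : ∀ (s : Finset (Fin n)) (w : Fin n → F),
      f (∑ i ∈ s, a i • e i) w = ∑ i ∈ s, a i * f (e i) w := by
    intro s w
    induction s using Finset.induction_on with
    | empty =>
      rw [Finset.sum_empty, Finset.sum_empty]
      have h00 := hf.smul_left 0 0 w
      rw [zero_smul, zero_mul] at h00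
      exact h00
    | insert i s hi ih =>
      rw [Finset.sum_insert hi, Finset.sum_insert hi, hf.add_left, hf.smul_left, ih]
  have h0 : ∀ w : Fin n → F, f w 0 = 0 := by
    intro w
    have h00 := hadd2 w 0 0
    rw [add_zero] at h00
    exact left_eq_add.mp h00
  have h2 : ∀ (s : Finset (Fin n)) (w : Fin n → F),
      f w (∑ j ∈ s, b j • e j) = ∑ j ∈ s, b j ^ q₀ * f w (e j) := by
    intro s w
    induction s using Finset.induction_on with
    | empty =>
      rw [Finset.sum_empty, Finset.sum_empty]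
      exact h0 w
    | insert i s hi ih =>
      rw [Finset.sum_insert hi, Finset.sum_insert hi, hadd2, hsmul2, ih]
  rw [h1]
  apply Finset.sum_congr rfl
  intro i _
  rw [h2, Finset.sum_eq_single i]
  · rw [he, if_pos rfl, mul_one]
  · intro j _ hji
    rw [he, if_neg (Ne.symm hji), mul_zero]
  · intro h
    exact absurd (Finset.mem_univ i) h

/-- The invertible matrix whose columns are a given basis. -/
theorem helper77_sfu_colmat {F : Type*} [Field F] {n : ℕ} (e : Fin n → (Fin n → F))
    (hli : LinearIndependent F e) :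
    ∃ B : GL (Fin n) F, ∀ a : Fin n → F,
      (B : Matrix (Fin n) (Fin n) F) *ᵥ a = ∑ i, a i • e i := by
  have hu : IsUnit (Matrix.of e : Matrix (Fin n) (Fin n) F) :=
    Matrix.linearIndependent_rows_iff_isUnit.mp hli
  have hut : IsUnit (Matrix.of e : Matrix (Fin n) (Fin n) F)ᵀ := (Matrix.isUnit_transpose _).mpr hu
  refine ⟨hut.unit, ?_⟩
  intro a
  rw [IsUnit.unit_spec, Matrix.mulVec_transpose, Matrix.vecMul_eq_sum]
  rfl

/-- The isometry carrying one orthonormal basis to another. -/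
theorem helper77_sfu_transitive_core {F : Type*} [Field F] {n : ℕ} (q₀ : ℕ)
    (f : (Fin n → F) → (Fin n → F) → F) (hf : IsUnitaryFormPow q₀ f)
    (hadd2 : ∀ v x y, f v (x + y) = f v x + f v y)
    (hsmul2 : ∀ (c : F) (v x : Fin n → F), f v (c • x) = c ^ q₀ * f v x)
    (e e' : Fin n → (Fin n → F)) (hli : LinearIndependent F e) (hli' : LinearIndependent F e')
    (he : ∀ i j, f (e i) (e j) = if i = j then 1 else 0)
    (he' : ∀ i j, f (e' i) (e' j) = if i = j then 1 else 0) :
    ∃ g ∈ sfuIsom f, ∀ i, (g : Matrix (Fin n) (Fin n) F) *ᵥ e i = e' i := by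
  classical
  obtain ⟨B, hB⟩ := helper77_sfu_colmat e hli
  obtain ⟨B', hB'⟩ := helper77_sfu_colmat e' hli'
  have hBB : ∀ u : Fin n → F, (B : Matrix (Fin n) (Fin n) F) *ᵥ
      (((B⁻¹ : GL (Fin n) F) : Matrix (Fin n) (Fin n) F) *ᵥ u) = u := by
    intro u
    rw [Matrix.mulVec_mulVec, ← Units.val_mul, mul_inv_cancel, Units.val_one, Matrix.one_mulVec]
  refine ⟨B' * B⁻¹, ?_, ?_⟩
  · intro u w
    rw [Units.val_mul, ← Matrix.mulVec_mulVec, ← Matrix.mulVec_mulVec, hB', hB',
      helper77_sfu_gram q₀ f hf hadd2 hsmul2 e' he']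
    have h1 := helper77_sfu_gram q₀ f hf hadd2 hsmul2 e he
      (((B⁻¹ : GL (Fin n) F) : Matrix (Fin n) (Fin n) F) *ᵥ u)
      (((B⁻¹ : GL (Fin n) F) : Matrix (Fin n) (Fin n) F) *ᵥ w)
    rw [← hB, ← hB, hBB, hBB] at h1
    exact h1.symm
  · intro i
    have h1 : e i = (B : Matrix (Fin n) (Fin n) F) *ᵥ Pi.single i 1 := by
      rw [hB, Finset.sum_eq_single i]
      · rw [Pi.single_eq_same, one_smul]
      · intro j _ hji
        rw [Pi.single_eq_of_ne hji, zero_smul]
      · intro h
        exact absurd (Finset.mem_univ i) h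
    have h2 : ((B⁻¹ : GL (Fin n) F) : Matrix (Fin n) (Fin n) F) *ᵥ e i = Pi.single i 1 := by
      rw [h1, Matrix.mulVec_mulVec, ← Units.val_mul, inv_mul_cancel, Units.val_one,
        Matrix.one_mulVec]
    rw [Units.val_mul, ← Matrix.mulVec_mulVec, h2, hB', Finset.sum_eq_single i]
    · rw [Pi.single_eq_same, one_smul]
    · intro j _ hji
      rw [Pi.single_eq_of_ne hji, zero_smul]
    · intro h
      exact absurd (Finset.mem_univ i) h

/-- ORDT, with the sesquilinearity facts and the extension property as hypotheses. -/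
theorem helper77_sfu_isom_transitive_of {F : Type*} [Field F] {n : ℕ} (q₀ : ℕ)
    (f : (Fin n → F) → (Fin n → F) → F) (hf : IsUnitaryFormPow q₀ f)
    (hadd2 : ∀ v x y, f v (x + y) = f v x + f v y)
    (hsmul2 : ∀ (c : F) (v x : Fin n → F), f v (c • x) = c ^ q₀ * f v x)
    (hext : ∀ v : Fin n → F, f v v = 1 → ∃ (e : Fin n → (Fin n → F)) (i₀ : Fin n),
      LinearIndependent F e ∧ (∀ i j, f (e i) (e j) = if i = j then 1 else 0) ∧ e i₀ = v)
    (v w : Fin n → F) (hv : f v v = 1) (hw : f w w = 1) :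
    ∃ g ∈ sfuIsom f, (g : Matrix (Fin n) (Fin n) F) *ᵥ v = w := by
  obtain ⟨e, i₀, hli, he, hev⟩ := hext v hv
  obtain ⟨e', i₁, hli', he', hew⟩ := hext w hw
  -- permute `e'` so that the distinguished indices agree
  let σ : Equiv.Perm (Fin n) := Equiv.swap i₀ i₁
  have hli'' : LinearIndependent F (e' ∘ σ) := hli'.comp σ σ.injective
  have he'' : ∀ i j, f ((e' ∘ σ) i) ((e' ∘ σ) j) = if i = j then 1 else 0 := by
    intro i j
    rw [Function.comp_apply, Function.comp_apply, he']
    by_cases hij : i = j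
    · rw [if_pos hij, if_pos (congrArg σ hij)]
    · rw [if_neg hij, if_neg (fun h => hij (σ.injective h))]
  obtain ⟨g, hg, hge⟩ := helper77_sfu_transitive_core q₀ f hf hadd2 hsmul2 e (e' ∘ σ) hli hli''
    he he''
  refine ⟨g, hg, ?_⟩
  rw [← hev, hge i₀, Function.comp_apply, Equiv.swap_apply_left, hew]

end Cfsg.Agent.Lib.helper24
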