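import Mathlib
import Cfsg.Agent.Lib.helper24.SfoDefs
import Cfsg.Agent.Lib.helper98.SfoOB
import Cfsg.Agent.Lib.helper77.SfuORDcore

/-! S5981 split (helper24): core for pieces CNTO / CNTE (diagonalising a quadratic form and
transporting the point counts). -/

set_option autoImplicit false

namespace Cfsg.Agent.Lib.helper24

open Module Matrix Cfsg.Geo

/-- Evaluation of `Q` in an orthogonal family. -/
theorem helper77_sfo_diag_eval {F : Type*} [Field F] {n : ℕ}
    (Q : (Fin n → F) → F) (hQ : IsNondegenerateQuadraticForm Q) (e : Fin n → (Fin n → F))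
    (horth : ∀ i j, i ≠ j → QuadraticMap.polar Q (e i) (e j) = 0) (a : Fin n → F) :
    Q (∑ i, a i • e i) = ∑ i, Q (e i) * a i ^ 2 := by
  classical
  have hB := hQ.polar_bilinear
  have hQ0 : Q 0 = 0 := by
    have h1 := hQ.smul 0 0
    rw [zero_smul] at h1
    rw [h1]
    ring
  have hQadd : ∀ x y, Q (x + y) = Q x + Q y + QuadraticMap.polar Q x y := by
    intro x y
    unfold QuadraticMap.polar
    ring
  have hpol0 : ∀ x, QuadraticMap.polar Q x 0 = 0 := by
    intro x
    have h1 := hB.smul_right 0 x 0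
    rw [zero_smul, zero_mul] at h1
    exact h1
  have hpol : ∀ (s : Finset (Fin n)) (i : Fin n), i ∉ s →
      QuadraticMap.polar Q (a i • e i) (∑ j ∈ s, a j • e j) = 0 := by
    intro s i hi
    induction s using Finset.induction_on with
    | empty =>
      rw [Finset.sum_empty]
      exact hpol0 _
    | insert j s hj ih =>
      have hij : i ≠ j := by
        rintro rfl
        exact hi (Finset.mem_insert_self _ _)
      rw [Finset.sum_insert hj, hB.add_right, hB.smul_left, hB.smul_right, horth i j hij,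
        ih (fun h => hi (Finset.mem_insert_of_mem h))]
      ring
  have key : ∀ s : Finset (Fin n), Q (∑ i ∈ s, a i • e i) = ∑ i ∈ s, Q (e i) * a i ^ 2 := by
    intro s
    induction s using Finset.induction_on with
    | empty =>
      rw [Finset.sum_empty, Finset.sum_empty]
      exact hQ0
    | insert i s hi ih =>
      rw [Finset.sum_insert hi, Finset.sum_insert hi, hQadd, hQ.smul, ih, hpol s i hi]
      ring
  exact key Finset.univ

/-- Every nondegenerate quadratic form (odd characteristic) has the point counts of a diagonal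
form with nonzero coefficients. -/
theorem helper77_sfo_count_diag {F : Type*} [Field F] [Fintype F] [DecidableEq F] {n : ℕ}
    (h2 : (2 : F) ≠ 0) (Q : (Fin n → F) → F) (hQ : IsNondegenerateQuadraticForm Q) :
    ∃ d : Fin n → F, (∀ j, d j ≠ 0) ∧ ∀ c : F, sfoCount Q c =
      (Finset.univ.filter (fun x : Fin n → F => ∑ j, d j * x j ^ 2 = c)).card := by
  obtain ⟨e, hli, horth, hne⟩ := sfo_orth_basis h2 Q hQ
  obtain ⟨B, hB⟩ := helper77_sfu_colmat e hli
  refine ⟨fun j => Q (e j), hne, ?_⟩
  intro c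
  unfold sfoCount
  rw [← Fintype.card_subtype, ← Nat.card_eq_fintype_card]
  apply Nat.card_congr
  refine (Equiv.subtypeEquiv
    ⟨fun x => (B : Matrix (Fin n) (Fin n) F) *ᵥ x,
     fun v => ((B⁻¹ : GL (Fin n) F) : Matrix (Fin n) (Fin n) F) *ᵥ v, ?_, ?_⟩ ?_).symm
  · intro x
    change ((B⁻¹ : GL (Fin n) F) : Matrix (Fin n) (Fin n) F) *ᵥ
      ((B : Matrix (Fin n) (Fin n) F) *ᵥ x) = x
    rw [Matrix.mulVec_mulVec, ← Units.val_mul, inv_mul_cancel, Units.val_one, Matrix.one_mulVec]
  · intro v
    change (B : Matrix (Fin n) (Fin n) F) *ᵥ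
      (((B⁻¹ : GL (Fin n) F) : Matrix (Fin n) (Fin n) F) *ᵥ v) = v
    rw [Matrix.mulVec_mulVec, ← Units.val_mul, mul_inv_cancel, Units.val_one, Matrix.one_mulVec]
  · intro x
    change (∑ j, Q (e j) * x j ^ 2 = c) ↔ Q ((B : Matrix (Fin n) (Fin n) F) *ᵥ x) = c
    rw [hB, helper77_sfo_diag_eval Q hQ e horth]

end Cfsg.Agent.Lib.helper24
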