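import Mathlib
import Cfsg.Agent.Lib.helper24.SfoDefs
import Cfsg.Agent.Lib.helper57.SfoBINCNT
import Cfsg.Agent.Lib.helper61.SfoCNTDOcore
import Cfsg.Agent.Lib.helper77.SfoCNTcore

/-! S5981 split (helper24): piece CNTO (point counts of a nondegenerate quadratic form in odd
dimension), from the orthogonal-basis transport (`SfoCNTcore`), the diagonal count core of
helper61 and the binary count of helper57. -/

set_option autoImplicit false

namespace Cfsg.Agent.Lib.helper24

open Module Matrix Cfsg.Geo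

/-- CNTO -/
theorem sfo_count_odd {F : Type*} [Field F] [Fintype F] (h2 : (2 : F) ≠ 0) (d k : ℕ)
    (hdk : d = 2 * k + 1) (Q : (Fin d → F) → F) (hQ : IsNondegenerateQuadraticForm Q) :
    ∃ E : ℤ, (E = 1 ∨ E = -1) ∧
      (∀ c : F, c ≠ 0 → IsSquare c →
        (sfoCount Q c : ℤ) = (Fintype.card F : ℤ) ^ k * ((Fintype.card F : ℤ) ^ k + E)) ∧
      (∀ c : F, c ≠ 0 → ¬ IsSquare c →
        (sfoCount Q c : ℤ) = (Fintype.card F : ℤ) ^ k * ((Fintype.card F : ℤ) ^ k - E)) := by
  classical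
  obtain ⟨dd, hdd, hcount⟩ := helper77_sfo_count_diag h2 Q hQ
  obtain ⟨E, hE, h1, h3⟩ := h61_sfo_count_diag_odd_core h2
    (fun a b ha hb => sfo_bin_count h2 a b ha hb) k d hdk dd hdd
  refine ⟨E, hE, ?_, ?_⟩
  · intro c hc hsq
    rw [hcount c]
    exact h1 c hc hsq
  · intro c hc hsq
    rw [hcount c]
    exact h3 c hc hsq

end Cfsg.Agent.Lib.helper24
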