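import Mathlib
import Cfsg.Prelude.Def_Blocks
import Cfsg.Agent.Lib.helper77.BlockCover
import Cfsg.Agent.Lib.helper84.MinMax
import Cfsg.Agent.Lib.helper79.DefectDeg
import Cfsg.Agent.S0932

/-!
# Induced blocks and the Fong–Reynolds correspondence (helper77)

General facts on induced blocks (`IsInducedBlock`):

* `inducedCentralChar_eq_om`, `memLocalIdeal_inducedCentralChar_sub`, `centralChar_indFun`,
  `sameBlock_indFun`, `isInducedBlock_unique`, `isInducedBlock_of_indFun_irr`;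
* `memLocalRing_indFun`: the function induced from a class function with local values has local
  values;
* `charDegree_indFun`, `sInf_image_indFun`, `blockDefect_eq_of_indFun`, `blockHeight_eq_of_indFun`:
  degrees, defects and heights when a block consists of the characters induced from another;
* `isDefectGroup_of_induced_of_defect_eq`: if `b^G = B` and `b`, `B` have the same defect, the
  defect groups of `b` are defect groups of `B`.

Fong–Reynolds for a normal subgroup `N`, a block `b` of `N` and its stabilizer `T`: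
`stab_iff`, `stab_stable`, `stab_contains`, `fr_over`, `fr_irr`, `fr_sameBlock_down`,
`fr_mem_iff`.
-/

set_option autoImplicit false

namespace Cfsg.Agent.Lib.helper77

open Cfsg
open scoped ComplexConjugate

universe u

section ResInd

variable {G : Type u} [Group G] [Fintype G] (H : Subgroup G)

/-- The indicator function of the `G`-class of `g`, restricted to the subgroup `H`. -/
noncomputable def resClassInd (g : G) : H → ℂ := fun h => helper80.classInd g (h : G)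

theorem isClassFunction_resClassInd (g : G) : IsClassFunction H (resClassInd H g) :=
  fun x h => helper80.classInd_classFun g (x : G) (h : G)

theorem memLocalRing_classInd {M : Ideal AlgInt} (hM : M.IsPrime) (g x : G) :
    MemLocalRing M (helper80.classInd g x) := by
  by_cases hc : IsConj g x
  · rw [helper80.classInd_of_isConj hc]
    exact helper20.memLocalRing_one hM
  · rw [helper80.classInd_of_not_isConj hc]
    exact helper20.memLocalRing_zero hM

theorem memLocalRing_resClassInd {M : Ideal AlgInt} (hM : M.IsPrime) (g : G) (h : H) :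
    MemLocalRing M (resClassInd H g h) :=
  memLocalRing_classInd hM g (h : G)

end ResInd

section General

variable {G : Type u} [Group G] [Fintype G] (H : Subgroup G) [Fintype H]

/-- The induced central character is the central character functional applied to the restricted
class indicator. -/
theorem inducedCentralChar_eq_om (ξ : H → ℂ) (g : G) :
    inducedCentralChar H ξ g = helper80.om ξ (resClassInd H g) := by
  classical
  unfold inducedCentralChar helper80.om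
  have hL : ∑ᶠ h ∈ {h : H | IsConj g (h : G)}, ξ h / ξ 1
      = ∑ h ∈ Finset.univ.filter (fun h : H => IsConj g (h : G)), ξ h / ξ 1 := by
    apply finsum_mem_eq_sum_of_subset
    · intro x hx; simpa using hx.1
    · intro x hx; simpa using hx
  rw [hL, ← Finset.sum_div, Finset.sum_filter]
  congr 1
  refine Finset.sum_congr rfl (fun h _ => ?_)
  unfold resClassInd
  by_cases hc : IsConj g (h : G)
  · rw [if_pos hc, helper80.classInd_of_isConj hc, one_mul]
  · rw [if_neg hc, helper80.classInd_of_not_isConj hc, zero_mul]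

/-- Characters in the same block of `H` have congruent induced central characters. -/
theorem memLocalIdeal_inducedCentralChar_sub {M : Ideal AlgInt} (hM : M.IsPrime)
    {ξ ξ' : IrrCharacter H} (h : SameBlock M (ξ : H → ℂ) (ξ' : H → ℂ)) (g : G) :
    MemLocalIdeal M (inducedCentralChar H (ξ : H → ℂ) g - inducedCentralChar H (ξ' : H → ℂ) g) := by
  rw [inducedCentralChar_eq_om, inducedCentralChar_eq_om]
  exact helper80.memLocalIdeal_om_sub hM ξ ξ' h _ (isClassFunction_resClassInd H g)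
    (memLocalRing_resClassInd H hM g)

omit [Fintype H] in
/-- The central character of an induced character is the induced central character. -/
theorem centralChar_indFun (ξ : IrrCharacter H) (g : G) :
    centralChar (indFun H (ξ : H → ℂ)) g = inducedCentralChar H (ξ : H → ℂ) g :=
  (Cfsg.Agent.S0932.result H (ξ : H → ℂ) (helper83.isCharacter_of_irr ξ.2) g).symm

/-- Characters of `H` in the same block induce to characters with congruent central characters. -/
theorem sameBlock_indFun {M : Ideal AlgInt} (hM : M.IsPrime) {ξ ξ' : IrrCharacter H}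
    (h : SameBlock M (ξ : H → ℂ) (ξ' : H → ℂ)) {χ χ' : IrrCharacter G}
    (hχ : (χ : G → ℂ) = indFun H (ξ : H → ℂ)) (hχ' : (χ' : G → ℂ) = indFun H (ξ' : H → ℂ)) :
    SameBlock M (χ : G → ℂ) (χ' : G → ℂ) := by
  intro g
  rw [hχ, hχ', centralChar_indFun, centralChar_indFun]
  exact memLocalIdeal_inducedCentralChar_sub H hM h g

omit [Fintype H] in
/-- A block of `H` induces at most one block of `G`. -/
theorem isInducedBlock_unique {M : Ideal AlgInt} (hM : M.IsPrime) {b : Set (IrrCharacter H)}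
    {B₁ B₂ : Set (IrrCharacter G)} (h₁ : IsInducedBlock M H b B₁)
    (h₂ : IsInducedBlock M H b B₂) : B₁ = B₂ := by
  classical
  have : Fintype H := Fintype.ofFinite H
  obtain ⟨hb, hB₁, h1⟩ := h₁
  obtain ⟨_, hB₂, h2⟩ := h₂
  obtain ⟨ξ, hξ⟩ := helper80.isPBlock_nonempty hM hb
  obtain ⟨χ₁, hχ₁⟩ := helper80.isPBlock_nonempty hM hB₁
  obtain ⟨χ₂, hχ₂⟩ := helper80.isPBlock_nonempty hM hB₂
  have hs : SameBlock M (χ₁ : G → ℂ) (χ₂ : G → ℂ) := by
    intro g
    have e1 := h1 ξ hξ χ₁ hχ₁ g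
    have e2 := h2 ξ hξ χ₂ hχ₂ g
    have e3 := helper20.memLocalIdeal_sub hM e2 e1
    have e4 : inducedCentralChar H (ξ : H → ℂ) g - centralChar (χ₂ : G → ℂ) g
        - (inducedCentralChar H (ξ : H → ℂ) g - centralChar (χ₁ : G → ℂ) g)
        = centralChar (χ₁ : G → ℂ) g - centralChar (χ₂ : G → ℂ) g := by ring
    rwa [e4] at e3
  exact helper80.isPBlock_eq_of_mem hM hB₁ hB₂ (helper81.mem_of_sameBlock hM hB₁ hχ₁ hs) hχ₂

/-- If `ψ₀ ∈ b` induces to an irreducible character `χ₀` of `G`, then `b` induces the block of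
`χ₀`. -/
theorem isInducedBlock_of_indFun_irr {M : Ideal AlgInt} (hM : M.IsPrime)
    {b : Set (IrrCharacter H)} (hb : IsPBlock M b) {ψ₀ : IrrCharacter H} (hψ₀ : ψ₀ ∈ b)
    {χ₀ : IrrCharacter G} (hχ₀ : (χ₀ : G → ℂ) = indFun H (ψ₀ : H → ℂ)) :
    IsInducedBlock M H b (blockOf M (χ₀ : G → ℂ)) := by
  refine ⟨hb, helper80.isPBlock_blockOf M χ₀, ?_⟩
  intro ξ hξ χ hχ g
  have e1 := memLocalIdeal_inducedCentralChar_sub H hM (helper80.sameBlock_of_mem hM hb hξ hψ₀) g
  have e2 : MemLocalIdeal M (centralChar (χ₀ : G → ℂ) g - centralChar (χ : G → ℂ) g) := hχ g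
  rw [hχ₀, centralChar_indFun] at e2
  have e3 := helper20.memLocalIdeal_add hM e1 e2
  have e4 : inducedCentralChar H (ξ : H → ℂ) g - inducedCentralChar H (ψ₀ : H → ℂ) g
      + (inducedCentralChar H (ψ₀ : H → ℂ) g - centralChar (χ : G → ℂ) g)
      = inducedCentralChar H (ξ : H → ℂ) g - centralChar (χ : G → ℂ) g := by ring
  rwa [e4] at e3

omit [Fintype G] [Fintype H] in
/-- The extension by zero of a class function of `H` is invariant under conjugation by `H`. -/
theorem extendByZero_conj_of_mem {ξ : H → ℂ} (hξ : IsClassFunction H ξ) {t : G} (ht : t ∈ H)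
    (y : G) : extendByZero H ξ (t⁻¹ * y * t) = extendByZero H ξ y := by
  by_cases hy : y ∈ H
  · have h1 : t⁻¹ * y * t ∈ H := H.mul_mem (H.mul_mem (H.inv_mem ht) hy) ht
    rw [helper4.extendByZero_apply_mem H ξ h1, helper4.extendByZero_apply_mem H ξ hy]
    have h2 := hξ ⟨y, hy⟩ (⟨t, ht⟩ : H)⁻¹
    rw [← h2]
    refine congrArg ξ (Subtype.ext ?_)
    simp
  · have h1 : t⁻¹ * y * t ∉ H := by
      intro h
      apply hy
      have h2 := H.mul_mem (H.mul_mem ht h) (H.inv_mem ht)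
      simpa [mul_assoc] using h2
    rw [helper4.extendByZero_apply_of_not_mem H ξ h1, helper4.extendByZero_apply_of_not_mem H ξ hy]

omit [Fintype H] in
/-- The function induced from a class function with values in the local ring has values in the
local ring. -/
theorem memLocalRing_indFun {M : Ideal AlgInt} (hM : M.IsPrime) {ξ : H → ℂ}
    (hξ : IsClassFunction H ξ) (hloc : ∀ h, MemLocalRing M (ξ h)) (g : G) :
    MemLocalRing M (indFun H ξ g) := by
  classical
  have hext : ∀ y : G, MemLocalRing M (extendByZero H ξ y) := by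
    intro y
    by_cases hy : y ∈ H
    · rw [helper4.extendByZero_apply_mem H ξ hy]
      exact hloc _
    · rw [helper4.extendByZero_apply_of_not_mem H ξ hy]
      exact helper20.memLocalRing_zero hM
  rw [helper4.indFun_apply]
  obtain ⟨F, hF⟩ : ∃ F : G ⧸ H → ℂ, F = fun q =>
      extendByZero H ξ ((Quotient.out q)⁻¹ * g * Quotient.out q) := ⟨_, rfl⟩
  have h1 : ∀ x : G, extendByZero H ξ (x⁻¹ * g * x) = F (QuotientGroup.mk x) := by
    intro x
    obtain ⟨t, ht⟩ := QuotientGroup.mk_out_eq_mul H x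
    rw [hF]
    show _ = extendByZero H ξ ((Quotient.out (QuotientGroup.mk x : G ⧸ H))⁻¹ * g
      * Quotient.out (QuotientGroup.mk x : G ⧸ H))
    rw [ht, ← extendByZero_conj_of_mem H hξ t.2 (x⁻¹ * g * x)]
    congr 1
    group
  have h2 : ∑ x : G, extendByZero H ξ (x⁻¹ * g * x)
      = (Nat.card H : ℂ) * ∑ q ∈ (Finset.univ : Finset (G ⧸ H)), F q := by
    rw [Finset.sum_congr rfl (fun x _ => h1 x)]
    exact helper84.sum_comp_fiber (fun x : G => (QuotientGroup.mk x : G ⧸ H)) H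
      (fun x y => by rw [eq_comm, QuotientGroup.eq]) Finset.univ
      (fun a => by
        simp only [Finset.mem_univ, true_iff]
        exact QuotientGroup.mk_surjective a) F
  have hcard : (Nat.card H : ℂ) ≠ 0 := by exact_mod_cast Nat.card_pos.ne'
  rw [h2, ← mul_assoc, inv_mul_cancel₀ hcard, one_mul]
  apply helper20.memLocalRing_sum hM
  intro q _
  rw [hF]
  exact hext _

end General

section Degrees

variable {G : Type u} [Group G] [Fintype G] (H : Subgroup G)

omit [Fintype G] in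
/-- The degree of an induced irreducible character. -/
theorem charDegree_indFun [Finite G] {ψ : IrrCharacter H} {χ : IrrCharacter G}
    (hχ : ∀ _ : Fintype G, (χ : G → ℂ) 1 = (H.index : ℂ) * (ψ : H → ℂ) 1) :
    charDegree (χ : G → ℂ) = H.index * charDegree (ψ : H → ℂ) := by
  have : Fintype G := Fintype.ofFinite G
  have h1 := hχ this
  rw [helper82.irr_one_eq χ, helper82.irr_one_eq ψ] at h1
  exact_mod_cast h1

theorem factorization_charDegree_indFun (p : ℕ) {ψ : IrrCharacter H} {χ : IrrCharacter G}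
    (hχ : (χ : G → ℂ) = indFun H (ψ : H → ℂ)) :
    (charDegree (χ : G → ℂ)).factorization p
      = H.index.factorization p + (charDegree (ψ : H → ℂ)).factorization p := by
  have h0 : charDegree (χ : G → ℂ) = H.index * charDegree (ψ : H → ℂ) := by
    apply charDegree_indFun H
    intro _
    rw [hχ]
    convert helper4.indFun_one H (ψ : H → ℂ) using 2
  rw [h0, Nat.factorization_mul Subgroup.index_ne_zero_of_finite
    (helper82.irr_charDegree_pos ψ).ne']
  rfl

/-- If `B` consists of the characters induced from the members of `B'`, the least `p`-part of a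
degree in `B` is that of `B'` shifted by the `p`-part of the index. -/
theorem sInf_image_indFun (p : ℕ) {B' : Set (IrrCharacter H)} {B : Set (IrrCharacter G)}
    (hne : B'.Nonempty)
    (h1 : ∀ ψ ∈ B', ∃ χ ∈ B, (χ : G → ℂ) = indFun H (ψ : H → ℂ))
    (h2 : ∀ χ ∈ B, ∃ ψ ∈ B', (χ : G → ℂ) = indFun H (ψ : H → ℂ)) :
    sInf ((fun χ : IrrCharacter G => (charDegree (χ : G → ℂ)).factorization p) '' B)
      = H.index.factorization p
        + sInf ((fun ψ : IrrCharacter H => (charDegree (ψ : H → ℂ)).factorization p) '' B') := by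
  obtain ⟨S', hS'⟩ : ∃ S' : Set ℕ, S' =
    (fun ψ : IrrCharacter H => (charDegree (ψ : H → ℂ)).factorization p) '' B' := ⟨_, rfl⟩
  obtain ⟨S, hS⟩ : ∃ S : Set ℕ, S =
    (fun χ : IrrCharacter G => (charDegree (χ : G → ℂ)).factorization p) '' B := ⟨_, rfl⟩
  rw [← hS', ← hS]
  have hne' : S'.Nonempty := by
    rw [hS']
    exact hne.image _
  have hm := Nat.sInf_mem hne'
  have hm' := hm
  rw [hS'] at hm'
  obtain ⟨ψ, hψ, hψm⟩ := hm'
  obtain ⟨χ, hχ, hχψ⟩ := h1 ψ hψ
  have hχS : (charDegree (χ : G → ℂ)).factorization p ∈ S := by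
    rw [hS]
    exact ⟨χ, hχ, rfl⟩
  have hneS : S.Nonempty := ⟨_, hχS⟩
  apply le_antisymm
  · have h3 := Nat.sInf_le hχS
    rw [factorization_charDegree_indFun H p hχψ] at h3
    have h4 : (charDegree (ψ : H → ℂ)).factorization p = sInf S' := by
      rw [hS']
      exact hψm
    rw [h4] at h3
    exact h3
  · have hmS := Nat.sInf_mem hneS
    have hmS' := hmS
    rw [hS] at hmS'
    obtain ⟨χ', hχ', hχ'm⟩ := hmS'
    obtain ⟨ψ', hψ', hχψ'⟩ := h2 χ' hχ'
    have h5 : (charDegree (χ' : G → ℂ)).factorization p = sInf S := by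
      rw [hS]
      exact hχ'm
    rw [← h5, factorization_charDegree_indFun H p hχψ']
    have h6 : (charDegree (ψ' : H → ℂ)).factorization p ∈ S' := by
      rw [hS']
      exact ⟨ψ', hψ', rfl⟩
    have h7 := Nat.sInf_le h6
    omega

/-- If `B` consists of the characters induced from the members of `B'`, the two have the same
defect. -/
theorem blockDefect_eq_of_indFun (p : ℕ) {B' : Set (IrrCharacter H)} {B : Set (IrrCharacter G)}
    (hne : B'.Nonempty)
    (h1 : ∀ ψ ∈ B', ∃ χ ∈ B, (χ : G → ℂ) = indFun H (ψ : H → ℂ))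
    (h2 : ∀ χ ∈ B, ∃ ψ ∈ B', (χ : G → ℂ) = indFun H (ψ : H → ℂ)) :
    blockDefect p B = blockDefect p B' := by
  unfold blockDefect
  rw [sInf_image_indFun H p hne h1 h2]
  have h3 : Nat.card G = H.index * Nat.card H := (Subgroup.index_mul_card H).symm
  rw [h3, Nat.factorization_mul Subgroup.index_ne_zero_of_finite Nat.card_pos.ne']
  simp only [Finsupp.add_apply]
  omega

/-- If `B` consists of the characters induced from the members of `B'`, induction preserves
heights. -/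
theorem blockHeight_eq_of_indFun (p : ℕ) {B' : Set (IrrCharacter H)} {B : Set (IrrCharacter G)}
    (hne : B'.Nonempty)
    (h1 : ∀ ψ ∈ B', ∃ χ ∈ B, (χ : G → ℂ) = indFun H (ψ : H → ℂ))
    (h2 : ∀ χ ∈ B, ∃ ψ ∈ B', (χ : G → ℂ) = indFun H (ψ : H → ℂ))
    {ψ : IrrCharacter H} {χ : IrrCharacter G} (hχ : (χ : G → ℂ) = indFun H (ψ : H → ℂ)) :
    blockHeight p B (χ : G → ℂ) = blockHeight p B' (ψ : H → ℂ) := by
  unfold blockHeight
  rw [sInf_image_indFun H p hne h1 h2, factorization_charDegree_indFun H p hχ]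
  omega

/-- If the block `b` of `H` induces the block `B` of `G` and the two have the same defect, then
every defect group of `b` is a defect group of `B`. -/
theorem isDefectGroup_of_induced_of_defect_eq {p : ℕ} [Fact p.Prime] {M : Ideal AlgInt}
    (hM : IsPModular p M) [Fintype H] {b : Set (IrrCharacter H)} {B : Set (IrrCharacter G)}
    (hind : IsInducedBlock M H b B) (hdef : blockDefect p b = blockDefect p B)
    {D : Subgroup H} (hD : IsDefectGroup p M b D) :
    IsDefectGroup p M B (D.map H.subtype) := by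
  classical
  have hMp : M.IsPrime := helper20.isPrime_of_isPModular hM
  obtain ⟨hb, hB, hcong⟩ := hind
  obtain ⟨ξ, hξ⟩ := helper80.isPBlock_nonempty hMp hb
  obtain ⟨χ, hχ⟩ := helper80.isPBlock_nonempty hMp hB
  obtain ⟨g, hg⟩ := helper81.exists_isDefectClass hMp hB
  have h1 : ¬ MemLocalIdeal M (inducedCentralChar H (ξ : H → ℂ) g) := by
    intro hcon
    apply hg.2.2 χ hχ
    have e := helper20.memLocalIdeal_sub hMp hcon (hcong ξ hξ χ hχ g)
    have e' : inducedCentralChar H (ξ : H → ℂ) g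
        - (inducedCentralChar H (ξ : H → ℂ) g - centralChar (χ : G → ℂ) g)
        = centralChar (χ : G → ℂ) g := by ring
    rwa [e'] at e
  have h2 : ∃ t : H, IsConj g (t : G) ∧ ¬ MemLocalIdeal M (centralChar (ξ : H → ℂ) t) := by
    by_contra hcon
    push Not at hcon
    apply h1
    rw [inducedCentralChar_eq_om, helper84.om_eq_sum_classes (ξ : H → ℂ)
      (helper4.isClassFunction_of_isIrrCharacter ξ.2) _ (isClassFunction_resClassInd H g)]
    apply helper20.memLocalIdeal_sum hMp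
    intro c _
    by_cases hc : IsConj g ((Quotient.out c : H) : G)
    · exact helper20.memLocalIdeal_mul_left hMp (memLocalRing_resClassInd H hMp g _) (hcon _ hc)
    · have h3 : resClassInd H g (Quotient.out c) = 0 := helper80.classInd_of_not_isConj hc
      rw [h3, zero_mul]
      exact helper20.memLocalIdeal_zero hMp
  obtain ⟨t, htg, htJ⟩ := h2
  obtain ⟨x, hx⟩ := helper80.IsDefectGroup.exists_conj_mem_centralizer hM hb hD hξ t htJ
  obtain ⟨c, hc⟩ := isConj_iff.mp htg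
  have htdc : IsDefectClass M B (t : G) := by
    rw [← hc]
    exact helper80.IsDefectClass.conj hg c
  obtain ⟨D₁, hD₁⟩ : ∃ D₁ : Subgroup G,
      D₁ = (D.map H.subtype).map (MulAut.conj (x : G)).toMonoidHom := ⟨_, rfl⟩
  have hle : D₁ ≤ Subgroup.centralizer ({(t : G)} : Set G) := by
    rw [hD₁]
    rintro y ⟨y', ⟨d, hd, rfl⟩, rfl⟩
    have h3 := hx d hd
    rw [helper80.mem_centralizer_singleton] at h3 ⊢
    have h4 := congrArg (Subtype.val) h3
    simpa [MulAut.conj_apply] using h4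
  have hcard : Nat.card D₁
      = p ^ (Nat.card (Subgroup.centralizer ({(t : G)} : Set G))).factorization p := by
    rw [← helper79.blockDefect_eq_of_isDefectClass hM hB (t : G) htdc, ← hdef,
      ← helper79.card_eq_of_isDefectGroup hM hb hD, hD₁,
      Subgroup.card_map_of_injective (MulAut.conj (x : G)).injective,
      Subgroup.card_map_of_injective H.subtype_injective]
  have hsyl := helper80.isSylowCent_of_card hle hcard
  have hD₁def : IsDefectGroup p M B D₁ :=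
    (helper80.isDefectGroup_iff p M B D₁).mpr ⟨(t : G), htdc, hsyl⟩
  have hfin := helper80.IsDefectGroup.conj hD₁def (x : G)⁻¹
  have heq : D₁.map (MulAut.conj (x : G)⁻¹).toMonoidHom = D.map H.subtype := by
    rw [hD₁, Subgroup.map_map]
    have h5 : (MulAut.conj (x : G)⁻¹).toMonoidHom.comp (MulAut.conj (x : G)).toMonoidHom
        = MonoidHom.id G := by
      ext y
      simp [MulAut.conj_apply, mul_assoc]
    rw [h5, Subgroup.map_id]
  rwa [heq] at hfin

end Degrees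

section FR

variable {G : Type u} [Group G] [Fintype G] (N : Subgroup G) [hN : N.Normal] [Fintype N]
  (T : Subgroup G) [Fintype T]

omit [Fintype G] [Fintype N] in
/-- The stabilizer condition of the statements in terms of `cjIrr`. -/
theorem stab_iff (b : Set (IrrCharacter N)) (g : G) :
    (∀ θ ∈ b, ∀ θ' : IrrCharacter N,
      (∀ n : N, (θ' : N → ℂ) n = (θ : N → ℂ) ⟨g * n * g⁻¹, hN.conj_mem n n.2 g⟩) → θ' ∈ b)
    ↔ ∀ θ ∈ b, cjIrr N g⁻¹ θ ∈ b := by
  have key : ∀ (θ : IrrCharacter N) (n : N), (cjIrr N g⁻¹ θ : N → ℂ) n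
      = (θ : N → ℂ) ⟨g * n * g⁻¹, hN.conj_mem n n.2 g⟩ := by
    intro θ n
    have h1 := cjIrr_apply_conj N g⁻¹ θ ⟨g * n * g⁻¹, hN.conj_mem n n.2 g⟩
    rw [← h1]
    refine congrArg _ (Subtype.ext ?_)
    simp [mul_assoc]
  constructor
  · intro h θ hθ
    exact h θ hθ _ (key θ)
  · intro h θ hθ θ' hθ'
    have h2 : θ' = cjIrr N g⁻¹ θ := by
      apply Subtype.ext
      funext n
      rw [hθ' n, key θ n]
    rw [h2]
    exact h θ hθ

omit [Fintype G] [Fintype N] [Fintype T] in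
/-- The stabilizer of `b` stabilizes `b`. -/
theorem stab_stable (b : Set (IrrCharacter N))
    (hT : ∀ g : G, g ∈ T ↔ ∀ θ ∈ b, ∀ θ' : IrrCharacter N,
      (∀ n : N, (θ' : N → ℂ) n = (θ : N → ℂ) ⟨g * n * g⁻¹, hN.conj_mem n n.2 g⟩) → θ' ∈ b) :
    ∀ t ∈ T, ∀ θ ∈ b, cjIrr N t θ ∈ b := by
  intro t ht θ hθ
  have h1 := (stab_iff N b t⁻¹).mp ((hT t⁻¹).mp (T.inv_mem ht)) θ hθ
  rwa [inv_inv] at h1

omit [Fintype G] [Fintype T] [Fintype N] in
/-- Every element of `G` sending a member of the block `b` into `b` lies in the stabilizer. -/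
theorem stab_contains {M : Ideal AlgInt} (hM : M.IsPrime) {b : Set (IrrCharacter N)}
    (hb : IsPBlock M b)
    (hT : ∀ g : G, g ∈ T ↔ ∀ θ ∈ b, ∀ θ' : IrrCharacter N,
      (∀ n : N, (θ' : N → ℂ) n = (θ : N → ℂ) ⟨g * n * g⁻¹, hN.conj_mem n n.2 g⟩) → θ' ∈ b) :
    ∀ g : G, ∀ θ ∈ b, cjIrr N g θ ∈ b → g ∈ T := by
  intro g θ hθ hgθ
  have h1 : g⁻¹ ∈ T := by
    rw [hT, stab_iff, inv_inv]
    intro θ' hθ'
    exact helper81.mem_of_sameBlock hM hb hgθ
      (sameBlock_cjIrr N g (helper80.sameBlock_of_mem hM hb hθ hθ'))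
  have h2 := T.inv_mem h1
  rwa [inv_inv] at h2

omit hN in
/-- The restriction of an irreducible character of `G` to `N` has an irreducible constituent. -/
theorem exists_constituent_restrict_top (χ : IrrCharacter G) :
    ∃ θ : IrrCharacter N, classInner (fun n : N => (χ : G → ℂ) n) (θ : N → ℂ) ≠ 0 := by
  classical
  by_contra hcon
  have h0 : ∀ θ : IrrCharacter N,
      classInner (fun n : N => (χ : G → ℂ) n) (θ : N → ℂ) = 0 := by
    intro θ
    by_contra h
    exact hcon ⟨θ, h⟩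
  have hcf : IsClassFunction N (fun n : N => (χ : G → ℂ) n) := by
    intro g h
    exact helper4.isClassFunction_of_isIrrCharacter χ.2 (g : G) (h : G)
  have h1 := helper4.classFunction_eq_sum_irr hcf
  have h2 := congrFun h1 1
  rw [Finset.sum_apply] at h2
  simp only [h0, zero_smul, Pi.zero_apply, Finset.sum_const_zero] at h2
  exact helper81.irr_one_ne_zero χ h2

variable {M : Ideal AlgInt}

/-- Every member of a block of `T` covering `b` lies over a member of `b`. -/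
theorem fr_over (hM : M.IsPrime) (hNT : N ≤ T) {b : Set (IrrCharacter N)} (hb : IsPBlock M b)
    (hTs : ∀ t ∈ T, ∀ θ ∈ b, cjIrr N t θ ∈ b)
    {B' : Set (IrrCharacter T)} (hB' : IsPBlock M B') {ψ₀ : IrrCharacter T} (hψ₀ : ψ₀ ∈ B')
    {θ₀ : IrrCharacter N} (hθ₀ : θ₀ ∈ b)
    (h₀ : classInner (fun n : N => (ψ₀ : T → ℂ) ⟨n, hNT n.2⟩) (θ₀ : N → ℂ) ≠ 0)
    {ψ : IrrCharacter T} (hψ : ψ ∈ B') :
    ∃ θ ∈ b, classInner (fun n : N => (ψ : T → ℂ) ⟨n, hNT n.2⟩) (θ : N → ℂ) ≠ 0 := by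
  classical
  have hinv := blockCoeff_conj_of_stable_sub N T b hTs
  have hFcf : IsClassFunction T (resExt N T (blockCoeff b)) := isClassFunction_resExt N T _ hinv
  have hFloc : ∀ t, MemLocalRing M (resExt N T (blockCoeff b) t) :=
    memLocalRing_resExt N T hM _ (helper81.memLocalRing_blockCoeff hM hb)
  have h1 : helper80.om (ψ₀ : T → ℂ) (resExt N T (blockCoeff b)) = 1 := by
    rw [om_resExt_of_constituent N T hNT h₀ _ hinv, helper80.om_blockCoeff, if_pos hθ₀]
  obtain ⟨θ, hθ⟩ := exists_constituent_restrict N T hNT ψ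
  refine ⟨θ, ?_, hθ⟩
  by_contra hnb
  have h2 : helper80.om (ψ : T → ℂ) (resExt N T (blockCoeff b)) = 0 := by
    rw [om_resExt_of_constituent N T hNT hθ _ hinv, helper80.om_blockCoeff, if_neg hnb]
  have h3 := helper80.memLocalIdeal_om_sub hM ψ₀ ψ (helper80.sameBlock_of_mem hM hB' hψ₀ hψ) _
    hFcf hFloc
  rw [h1, h2, sub_zero] at h3
  exact helper20.not_memLocalIdeal_one h3

/-- Every member of a block of `T` covering `b` induces irreducibly to `G`. -/
theorem fr_irr (hM : M.IsPrime) (hNT : N ≤ T) {b : Set (IrrCharacter N)} (hb : IsPBlock M b)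
    (hTs : ∀ t ∈ T, ∀ θ ∈ b, cjIrr N t θ ∈ b)
    (hTc : ∀ g : G, ∀ θ ∈ b, cjIrr N g θ ∈ b → g ∈ T)
    {B' : Set (IrrCharacter T)} (hB' : IsPBlock M B') {ψ₀ : IrrCharacter T} (hψ₀ : ψ₀ ∈ B')
    {θ₀ : IrrCharacter N} (hθ₀ : θ₀ ∈ b)
    (h₀ : classInner (fun n : N => (ψ₀ : T → ℂ) ⟨n, hNT n.2⟩) (θ₀ : N → ℂ) ≠ 0)
    {ψ : IrrCharacter T} (hψ : ψ ∈ B') : IsIrrCharacter G (indFun T (ψ : T → ℂ)) := by
  obtain ⟨θ, hθ, h⟩ := fr_over N T hM hNT hb hTs hB' hψ₀ hθ₀ h₀ hψ
  exact (clifford_corr_irr_ge N T hNT θ.2 (inertia_le_of_stab N T b hTc hθ) ψ.2 h).1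

/-- **Transfer of blocks.**  If `ψ₁, ψ₂ ∈ Irr(T)` lie over members of `b` and induce to
characters of `G` in the same block, then they lie in the same block of `T`. -/
theorem fr_sameBlock_down (hM : M.IsPrime) (hNT : N ≤ T) {b : Set (IrrCharacter N)}
    (hb : IsPBlock M b) (hTs : ∀ t ∈ T, ∀ θ ∈ b, cjIrr N t θ ∈ b)
    (hTc : ∀ g : G, ∀ θ ∈ b, cjIrr N g θ ∈ b → g ∈ T)
    {ψ₁ ψ₂ : IrrCharacter T} {θ₁ θ₂ : IrrCharacter N} (hθ₁ : θ₁ ∈ b) (hθ₂ : θ₂ ∈ b)
    (h₁ : classInner (fun n : N => (ψ₁ : T → ℂ) ⟨n, hNT n.2⟩) (θ₁ : N → ℂ) ≠ 0)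
    (h₂ : classInner (fun n : N => (ψ₂ : T → ℂ) ⟨n, hNT n.2⟩) (θ₂ : N → ℂ) ≠ 0)
    {χ₁ χ₂ : IrrCharacter G} (hχ₁ : (χ₁ : G → ℂ) = indFun T (ψ₁ : T → ℂ))
    (hχ₂ : (χ₂ : G → ℂ) = indFun T (ψ₂ : T → ℂ))
    (hs : SameBlock M (χ₁ : G → ℂ) (χ₂ : G → ℂ)) :
    SameBlock M (ψ₁ : T → ℂ) (ψ₂ : T → ℂ) := by
  classical
  intro t
  have hinv := blockCoeff_conj_of_stable_sub N T b hTs
  have hFcf : IsClassFunction T (resExt N T (blockCoeff b)) := isClassFunction_resExt N T _ hinv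
  have hFloc : ∀ t, MemLocalRing M (resExt N T (blockCoeff b) t) :=
    memLocalRing_resExt N T hM _ (helper81.memLocalRing_blockCoeff hM hb)
  have hz : IsClassFunction T (helper80.classInd t) := helper80.classInd_classFun t
  have hconvcf := helper81.conv_classFun hz hFcf
  have hconvloc : ∀ u, MemLocalRing M
      (helper81.conv (helper80.classInd t) (resExt N T (blockCoeff b)) u) := by
    intro u
    unfold helper81.conv
    apply helper20.memLocalRing_sum hM
    intro a _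
    exact helper20.memLocalRing_mul hM (memLocalRing_classInd hM t a) (hFloc _)
  have hZcf : IsClassFunction G
      (indFun T (helper81.conv (helper80.classInd t) (resExt N T (blockCoeff b)))) :=
    helper4.isClassFunction_indFun T _
  have hZloc : ∀ g, MemLocalRing M
      (indFun T (helper81.conv (helper80.classInd t) (resExt N T (blockCoeff b))) g) :=
    memLocalRing_indFun T hM hconvcf hconvloc
  have e1 := om_indFun_conv N T hNT b hTs hTc hθ₁ h₁ hχ₁ _ hz
  have e2 := om_indFun_conv N T hNT b hTs hTc hθ₂ h₂ hχ₂ _ hz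
  have h3 := helper80.memLocalIdeal_om_sub hM χ₁ χ₂ hs _ hZcf hZloc
  rw [e1, e2, helper80.om_classInd, helper80.om_classInd] at h3
  exact h3

/-- The block of `G` induced from a block `B'` of `T` covering `b` consists exactly of the
characters induced from the members of `B'`. -/
theorem fr_mem_iff (hM : M.IsPrime) (hNT : N ≤ T) {b : Set (IrrCharacter N)} (hb : IsPBlock M b)
    (hTs : ∀ t ∈ T, ∀ θ ∈ b, cjIrr N t θ ∈ b)
    (hTc : ∀ g : G, ∀ θ ∈ b, cjIrr N g θ ∈ b → g ∈ T)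
    {B' : Set (IrrCharacter T)} (hB' : IsPBlock M B') {ψ₀ : IrrCharacter T} (hψ₀ : ψ₀ ∈ B')
    {θ₀ : IrrCharacter N} (hθ₀ : θ₀ ∈ b)
    (h₀ : classInner (fun n : N => (ψ₀ : T → ℂ) ⟨n, hNT n.2⟩) (θ₀ : N → ℂ) ≠ 0)
    {χ₀ : IrrCharacter G} (hχ₀ : (χ₀ : G → ℂ) = indFun T (ψ₀ : T → ℂ)) (χ : IrrCharacter G) :
    χ ∈ blockOf M (χ₀ : G → ℂ) ↔ ∃ ψ ∈ B', (χ : G → ℂ) = indFun T (ψ : T → ℂ) := by
  constructor
  · intro hχ
    have hB := helper80.isPBlock_blockOf M χ₀
    have hχ₀B := helper80.mem_blockOf_self hM χ₀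
    have hcov₀ : classInner (fun n : N => (χ₀ : G → ℂ) n) (θ₀ : N → ℂ) ≠ 0 := by
      rw [hχ₀, (clifford_corr_irr_ge N T hNT θ₀.2 (inertia_le_of_stab N T b hTc hθ₀) ψ₀.2 h₀).2]
      exact h₀
    obtain ⟨θ', hθ'⟩ := exists_constituent_restrict_top N χ
    obtain ⟨g, hg⟩ := mem_orbitUnion_of_cover N hM hB hb hχ₀B hθ₀ hcov₀ hχ hθ'
    have hχcf := helper4.isClassFunction_of_isIrrCharacter χ.2
    have hχθ : classInner (fun n : N => (χ : G → ℂ) n) (cjIrr N g θ' : N → ℂ) ≠ 0 := by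
      rw [cjIrr_coe, helper82.classInner_restrict_cconj N hχcf g]
      exact hθ'
    obtain ⟨ψf, hψirr, hψind, hψθ⟩ := clifford_corr_surj_ge N T hNT (cjIrr N g θ').2
      (inertia_le_of_stab N T b hTc hg) χ.2 hχθ
    refine ⟨⟨ψf, hψirr⟩, ?_, hψind.symm⟩
    have hs : SameBlock M (χ₀ : G → ℂ) (χ : G → ℂ) := hχ
    have h5 := fr_sameBlock_down N T hM hNT hb hTs hTc (ψ₁ := ψ₀) (ψ₂ := ⟨ψf, hψirr⟩) hθ₀ hg h₀
      hψθ hχ₀ hψind.symm hs
    exact helper81.mem_of_sameBlock hM hB' hψ₀ h5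
  · rintro ⟨ψ, hψ, hχ⟩
    exact sameBlock_indFun T hM (helper80.sameBlock_of_mem hM hB' hψ₀ hψ) hχ₀ hχ

/-- **Fong–Reynolds, part (i).** -/
theorem fr_part_one (hM : M.IsPrime) (hNT : N ≤ T) {b : Set (IrrCharacter N)} (hb : IsPBlock M b)
    (hTs : ∀ t ∈ T, ∀ θ ∈ b, cjIrr N t θ ∈ b)
    (hTc : ∀ g : G, ∀ θ ∈ b, cjIrr N g θ ∈ b → g ∈ T)
    {B' : Set (IrrCharacter T)} (hB' : IsPBlock M B')
    (hcov : ∃ ψ ∈ B', ∃ θ ∈ b,
      classInner (fun n : N => (ψ : T → ℂ) ⟨(n : G), hNT n.2⟩) (θ : N → ℂ) ≠ 0) :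
    ∃ B : Set (IrrCharacter G), IsInducedBlock M T B' B ∧
      (∃ χ ∈ B, ∃ θ ∈ b, classInner (fun n : N => (χ : G → ℂ) n) (θ : N → ℂ) ≠ 0) ∧
      (∀ ψ ∈ B', IsIrrCharacter G (indFun T (ψ : T → ℂ))) ∧
      ∀ χ : IrrCharacter G, χ ∈ B ↔ ∃ ψ ∈ B', (χ : G → ℂ) = indFun T (ψ : T → ℂ) := by
  obtain ⟨ψ₀, hψ₀, θ₀, hθ₀, h₀⟩ := hcov
  have hirr := fun (ψ : IrrCharacter T) (hψ : ψ ∈ B') =>
    fr_irr N T hM hNT hb hTs hTc hB' hψ₀ hθ₀ h₀ hψ
  obtain ⟨χ₀, hχ₀⟩ : ∃ χ₀ : IrrCharacter G, (χ₀ : G → ℂ) = indFun T (ψ₀ : T → ℂ) :=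
    ⟨⟨_, hirr ψ₀ hψ₀⟩, rfl⟩
  refine ⟨blockOf M (χ₀ : G → ℂ), isInducedBlock_of_indFun_irr T hM hB' hψ₀ hχ₀,
    ⟨χ₀, helper80.mem_blockOf_self hM χ₀, θ₀, hθ₀, ?_⟩, hirr,
    fr_mem_iff N T hM hNT hb hTs hTc hB' hψ₀ hθ₀ h₀ hχ₀⟩
  rw [hχ₀, (clifford_corr_irr_ge N T hNT θ₀.2 (inertia_le_of_stab N T b hTc hθ₀) ψ₀.2 h₀).2]
  exact h₀

/-- **Fong–Reynolds, part (ii)**: distinct blocks of `T` covering `b` induce distinct blocks. -/
theorem fr_part_two (hM : M.IsPrime) (hNT : N ≤ T) {b : Set (IrrCharacter N)} (hb : IsPBlock M b)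
    (hTs : ∀ t ∈ T, ∀ θ ∈ b, cjIrr N t θ ∈ b)
    (hTc : ∀ g : G, ∀ θ ∈ b, cjIrr N g θ ∈ b → g ∈ T)
    {B'₁ B'₂ : Set (IrrCharacter T)} (hB'₁ : IsPBlock M B'₁) (hB'₂ : IsPBlock M B'₂)
    (hcov₁ : ∃ ψ ∈ B'₁, ∃ θ ∈ b,
      classInner (fun n : N => (ψ : T → ℂ) ⟨(n : G), hNT n.2⟩) (θ : N → ℂ) ≠ 0)
    (hcov₂ : ∃ ψ ∈ B'₂, ∃ θ ∈ b,
      classInner (fun n : N => (ψ : T → ℂ) ⟨(n : G), hNT n.2⟩) (θ : N → ℂ) ≠ 0)
    {B : Set (IrrCharacter G)} (h₁ : IsInducedBlock M T B'₁ B) (h₂ : IsInducedBlock M T B'₂ B) :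
    B'₁ = B'₂ := by
  obtain ⟨ψ₁, hψ₁, θ₁, hθ₁, hc₁⟩ := hcov₁
  obtain ⟨ψ₂, hψ₂, θ₂, hθ₂, hc₂⟩ := hcov₂
  obtain ⟨χ₁, hχ₁⟩ : ∃ χ₁ : IrrCharacter G, (χ₁ : G → ℂ) = indFun T (ψ₁ : T → ℂ) :=
    ⟨⟨_, fr_irr N T hM hNT hb hTs hTc hB'₁ hψ₁ hθ₁ hc₁ hψ₁⟩, rfl⟩
  obtain ⟨χ₂, hχ₂⟩ : ∃ χ₂ : IrrCharacter G, (χ₂ : G → ℂ) = indFun T (ψ₂ : T → ℂ) :=
    ⟨⟨_, fr_irr N T hM hNT hb hTs hTc hB'₂ hψ₂ hθ₂ hc₂ hψ₂⟩, rfl⟩
  have e1 : blockOf M (χ₁ : G → ℂ) = B :=
    isInducedBlock_unique T hM (isInducedBlock_of_indFun_irr T hM hB'₁ hψ₁ hχ₁) h₁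
  have e2 : blockOf M (χ₂ : G → ℂ) = B :=
    isInducedBlock_unique T hM (isInducedBlock_of_indFun_irr T hM hB'₂ hψ₂ hχ₂) h₂
  have hs : SameBlock M (χ₁ : G → ℂ) (χ₂ : G → ℂ) := by
    have h3 : χ₂ ∈ blockOf M (χ₁ : G → ℂ) := by
      rw [e1, ← e2]
      exact helper80.mem_blockOf_self hM χ₂
    exact h3
  have h4 := fr_sameBlock_down N T hM hNT hb hTs hTc hθ₁ hθ₂ hc₁ hc₂ hχ₁ hχ₂ hs
  exact helper80.isPBlock_eq_of_mem hM hB'₁ hB'₂ (helper81.mem_of_sameBlock hM hB'₁ hψ₁ h4) hψ₂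

/-- **Fong–Reynolds, part (iii)**: every block of `G` covering `b` is induced from a block of `T`
covering `b`. -/
theorem fr_part_three (hM : M.IsPrime) (hNT : N ≤ T) {b : Set (IrrCharacter N)}
    (hTc : ∀ g : G, ∀ θ ∈ b, cjIrr N g θ ∈ b → g ∈ T)
    {B : Set (IrrCharacter G)} (hB : IsPBlock M B)
    (hcov : ∃ χ ∈ B, ∃ θ ∈ b, classInner (fun n : N => (χ : G → ℂ) n) (θ : N → ℂ) ≠ 0) :
    ∃ B' : Set (IrrCharacter T), IsPBlock M B' ∧
      (∃ ψ ∈ B', ∃ θ ∈ b,
        classInner (fun n : N => (ψ : T → ℂ) ⟨(n : G), hNT n.2⟩) (θ : N → ℂ) ≠ 0) ∧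
      IsInducedBlock M T B' B := by
  obtain ⟨χ, hχ, θ, hθ, hc⟩ := hcov
  obtain ⟨ψf, hψirr, hψind, hψθ⟩ := clifford_corr_surj_ge N T hNT θ.2
    (inertia_le_of_stab N T b hTc hθ) χ.2 hc
  obtain ⟨ψ, hψ⟩ : ∃ ψ : IrrCharacter T, (ψ : T → ℂ) = ψf := ⟨⟨ψf, hψirr⟩, rfl⟩
  have hψmem := helper80.mem_blockOf_self hM ψ
  refine ⟨blockOf M (ψ : T → ℂ), helper80.isPBlock_blockOf M ψ, ⟨ψ, hψmem, θ, hθ, ?_⟩, ?_⟩
  · rw [hψ]
    exact hψθ
  · have h1 := isInducedBlock_of_indFun_irr T hM (helper80.isPBlock_blockOf M ψ) hψmem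
      (χ₀ := χ) (by rw [hψ]; exact hψind.symm)
    rwa [← helper80.eq_blockOf_of_mem hM hB hχ] at h1

end FR

end Cfsg.Agent.Lib.helper77
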