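import Mathlib
import Cfsg.Agent.Lib.helper21.M11Defs
import Cfsg.Agent.Lib.helper21.FrobFull
import Cfsg.Agent.Lib.helper75.SimpleOrd
import Cfsg.Agent.Lib.helper82.CharSums
import Cfsg.Agent.Lib.helper73.M11_V
import Cfsg.Agent.Lib.helper42.M11_CL
import Cfsg.Agent.Lib.helper42.M11_D
import Cfsg.Agent.Lib.helper20.M11_M4

set_option autoImplicit false

namespace Cfsg.Agent.Lib.helper77

open Cfsg Cfsg.Agent.Lib.helper4 Cfsg.Agent.Lib.helper21

universe u

private theorem m11e_arith :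
    ∀ a₁ ∈ ([-12, -8, -4, 0, 4, 8, 12] : List ℤ), ∀ a₂ ∈ ([-12, -8, -4, 0, 4, 8, 12] : List ℤ),
    ∀ b₁ ∈ ([-10, -6, -2, 2, 6, 10] : List ℤ), ∀ b₂ ∈ ([-10, -6, -2, 2, 6, 10] : List ℤ),
    ∀ s ∈ ([-3, 1] : List ℤ),
      60 + 5 * (a₁ ^ 2 + a₂ ^ 2) = 6 * (b₁ ^ 2 + b₂ ^ 2) + 12 * s ^ 2 →
        s = 1 + a₁ + a₂ - b₁ - b₂ → a₁ = 0 ∧ a₂ = 0 := by
  decide +kernel

private lemma m11e_mem12 (a : ℤ) (h4 : (4 : ℤ) ∣ 12 - a) (hle : |a| ≤ 12) :
    a ∈ ([-12, -8, -4, 0, 4, 8, 12] : List ℤ) := by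
  obtain ⟨h1, h2⟩ := abs_le.mp hle
  simp only [List.mem_cons, List.not_mem_nil, or_false]
  omega

private lemma m11e_mem10 (a : ℤ) (h4 : (4 : ℤ) ∣ 10 - a) (hle : |a| ≤ 10) :
    a ∈ ([-10, -6, -2, 2, 6, 10] : List ℤ) := by
  obtain ⟨h1, h2⟩ := abs_le.mp hle
  simp only [List.mem_cons, List.not_mem_nil, or_false]
  omega

private lemma m11e_mem5 (a : ℤ) (h4 : (4 : ℤ) ∣ 5 - a) (hle : |a| ≤ 5) (h5 : a ≠ 5) :
    a ∈ ([-3, 1] : List ℤ) := by
  obtain ⟨h1, h2⟩ := abs_le.mp hle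
  simp only [List.mem_cons, List.not_mem_nil, or_false]
  omega

set_option maxHeartbeats 2000000 in
theorem m11_not_patII {G : Type u} [Group G] [Fintype G] [Fintype (IrrCharacter G)]
    [IsSimpleGroup G] (hG : Nat.card G = 7920) (P : Subgroup G) (hP : Nat.card P = 11)
    (hC : Subgroup.centralizer (P : Set G) ≤ P)
    (hN : Nat.card (Subgroup.normalizer (P : Set G)) = 55) (h : M11PatII P) : False := by
  classical
  have h2 : Nat.Prime 2 := Nat.prime_two
  have h5 : Nat.Prime 5 := by norm_num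
  have h11 : Nat.Prime 11 := by norm_num
  have : Fact (Nat.Prime 2) := ⟨h2⟩
  have : Fact (Nat.Prime 5) := ⟨h5⟩
  have : Fact (Nat.Prime 11) := ⟨h11⟩
  have hnp : ¬ (Nat.card G).Prime := by rw [hG]; norm_num
  obtain ⟨α₁, α₂, β₁, β₂, γ₁, γ₂, hnd, hα₁, hα₂, hβ₁, hβ₂, hγ₁, hγ₂, hrest, hPval, hrel⟩ := h
  -- an element of order 11
  obtain ⟨x, hxP, hx11⟩ :=
    Cfsg.Agent.Lib.helper75.exists_mem_orderOf_prime P 11 (by rw [hP])
  have hx1 : x ≠ 1 := by
    rintro rfl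
    simp at hx11
  have hPx : P = Subgroup.zpowers x := by
    symm
    apply Subgroup.eq_of_le_of_card_ge
    · exact (Subgroup.zpowers_le).mpr hxP
    · rw [Nat.card_zpowers, hx11, hP]
  obtain ⟨hα₁x, hα₂x, hβ₁x, hβ₂x, hγx⟩ := hPval x hxP hx1
  have hconj : (starRingEnd ℂ) ((γ₁ : G → ℂ) x) + (starRingEnd ℂ) ((γ₂ : G → ℂ) x) = -1 := by
    rw [← map_add, hγx]
    simp
  have hv11 : ∀ ψ : IrrCharacter G, 11 ∣ charDegree (ψ : G → ℂ) → (ψ : G → ℂ) x = 0 := by
    intro ψ hd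
    exact Cfsg.Agent.Lib.helper73.irr_vanish_of_defect_zero ψ 11 1 h11 (by rw [hG]; norm_num)
      (by rw [hG]; norm_num) (by simpa using hd) x (by rw [hx11])
  have hγ₁ne : γ₁ ≠ trivIrr G := by
    intro h
    rw [h] at hnd
    simp at hnd
  have h0a₁ : trivIrr G ≠ α₁ := by
    intro h
    rw [← h] at hnd
    simp at hnd
  have h0a₂ : trivIrr G ≠ α₂ := by
    intro h
    rw [← h] at hnd
    simp at hnd
  have ha₁a₂ : α₁ ≠ α₂ := by
    intro h
    rw [h] at hnd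
    simp at hnd
  have htriv : ∀ g : G, (trivIrr G : G → ℂ) g = 1 := fun g => rfl
  have hsplit : ∀ f : IrrCharacter G → ℂ,
      (∀ χ, χ ∉ [trivIrr G, α₁, α₂, β₁, β₂, γ₁, γ₂] → f χ = 0) →
      ∑ χ, f χ = f (trivIrr G) + f α₁ + f α₂ + f β₁ + f β₂ + f γ₁ + f γ₂ := by
    intro f hf
    rw [← Finset.sum_add_sum_compl [trivIrr G, α₁, α₂, β₁, β₂, γ₁, γ₂].toFinset]
    rw [Finset.sum_eq_zero (s := [trivIrr G, α₁, α₂, β₁, β₂, γ₁, γ₂].toFinsetᶜ), add_zero,
      List.sum_toFinset _ hnd]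
    · simp only [List.map_cons, List.map_nil, List.sum_cons, List.sum_nil]
      ring
    · intro χ hχ
      rw [Finset.mem_compl, List.mem_toFinset] at hχ
      exact hf χ hχ
  -- values of α₁, α₂ at involutions
  have hinv : ∀ t : G, t ≠ 1 → t * t = 1 → (α₁ : G → ℂ) t = 0 ∧ (α₂ : G → ℂ) t = 0 := by
    intro t ht1 htt
    have hot : orderOf t = 2 := orderOf_eq_prime (by rw [pow_two]; exact htt) ht1
    obtain ⟨a₁, ha₁, ha₁4, ha₁le⟩ :=
      Cfsg.Agent.Lib.helper20.irr_involution_mod_four hnp α₁ t htt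
    obtain ⟨a₂, ha₂, ha₂4, ha₂le⟩ :=
      Cfsg.Agent.Lib.helper20.irr_involution_mod_four hnp α₂ t htt
    obtain ⟨b₁, hb₁, hb₁4, hb₁le⟩ :=
      Cfsg.Agent.Lib.helper20.irr_involution_mod_four hnp β₁ t htt
    obtain ⟨b₂, hb₂, hb₂4, hb₂le⟩ :=
      Cfsg.Agent.Lib.helper20.irr_involution_mod_four hnp β₂ t htt
    obtain ⟨s₁, hs₁, hs₁4, hs₁le⟩ :=
      Cfsg.Agent.Lib.helper20.irr_involution_mod_four hnp γ₁ t htt
    obtain ⟨s₂, hs₂, -, -⟩ :=
      Cfsg.Agent.Lib.helper20.irr_involution_mod_four hnp γ₂ t htt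
    rw [hα₁] at ha₁4 ha₁le
    rw [hα₂] at ha₂4 ha₂le
    rw [hβ₁] at hb₁4 hb₁le
    rw [hβ₂] at hb₂4 hb₂le
    rw [hγ₁] at hs₁4 hs₁le
    have htrel := hrel t (fun hh hmem => by
      exfalso
      have h1 : orderOf (hh * t * hh⁻¹) ∣ Nat.card P := Subgroup.orderOf_dvd_natCard P hmem
      have h2' : orderOf (hh * t * hh⁻¹) = 2 := by
        rw [← hot]
        exact (MulAut.conj hh).orderOf_eq t
      rw [h2', hP] at h1
      norm_num at h1)
    have hs21 : s₂ = s₁ := by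
      have h1 := htrel.2
      rw [hs₂, hs₁] at h1
      exact_mod_cast h1
    have hsrel : s₁ = 1 + a₁ + a₂ - b₁ - b₂ := by
      have h1 := htrel.1
      rw [hs₁, ha₁, ha₂, hb₁, hb₂] at h1
      exact_mod_cast h1
    have hs5 : s₁ ≠ 5 := by
      intro h
      apply Cfsg.Agent.Lib.helper42.irr_apply_ne_degree_of_simple hnp γ₁ hγ₁ne t ht1
      rw [hs₁, Cfsg.Agent.Lib.helper82.irr_one_eq γ₁, hγ₁, h]
      norm_num
    obtain ⟨N, hNeq, hN0⟩ := Cfsg.Agent.Lib.helper42.class_count_mul t t x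
    have hNz : N = 0 := by
      rw [hN0]
      rintro ⟨u, v, hu, hv, huv⟩
      obtain ⟨c, hc⟩ := isConj_iff.mp hu
      obtain ⟨d, hd⟩ := isConj_iff.mp hv
      have huu : u * u = 1 := by
        rw [← hc]
        calc c * t * c⁻¹ * (c * t * c⁻¹) = c * (t * t) * c⁻¹ := by group
          _ = 1 := by rw [htt]; group
      have hvv : v * v = 1 := by
        rw [← hd]
        calc d * t * d⁻¹ * (d * t * d⁻¹) = d * (t * t) * d⁻¹ := by group
          _ = 1 := by rw [htt]; group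
      have hu1 : u ≠ 1 := by
        rintro rfl
        apply ht1
        have h1 : t = c⁻¹ * (c * t * c⁻¹) * c := by group
        rw [h1, hc]
        group
      have huo : orderOf u = 2 := orderOf_eq_prime (by rw [pow_two]; exact huu) hu1
      have huinv : u⁻¹ = u := inv_eq_of_mul_eq_one_left huu
      have hvinv : v⁻¹ = v := inv_eq_of_mul_eq_one_left hvv
      have hux : u * x * u⁻¹ = x⁻¹ := by
        rw [← huv, huinv, mul_inv_rev, hvinv, huinv]
        calc u * (u * v) * u = (u * u) * v * u := by group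
          _ = v * u := by rw [huu, one_mul]
      have hfwd : ∀ w ∈ P, u * w * u⁻¹ ∈ P := by
        intro w hw
        rw [hPx, Subgroup.mem_zpowers_iff] at hw
        obtain ⟨n, rfl⟩ := hw
        have h1 : u * x ^ n * u⁻¹ = (x⁻¹) ^ n := by
          rw [← hux]
          exact (conj_zpow).symm
        rw [h1]
        exact P.zpow_mem (P.inv_mem hxP) n
      have huN : u ∈ Subgroup.normalizer (P : Set G) := by
        rw [Subgroup.mem_normalizer_iff]
        intro w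
        constructor
        · exact hfwd w
        · intro hw
          have h1 := hfwd _ hw
          have h2' : u * (u * w * u⁻¹) * u⁻¹ = w := by
            rw [huinv]
            calc u * (u * w * u) * u = (u * u) * w * (u * u) := by group
              _ = w := by rw [huu, one_mul, mul_one]
          rwa [h2'] at h1
      have h1 := Subgroup.orderOf_dvd_natCard _ huN
      rw [huo, hN] at h1
      norm_num at h1
    have hG0 : (Nat.card G : ℂ) ≠ 0 := by
      rw [hG]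
      norm_num
    have hsum0 : ∑ χ : IrrCharacter G, (χ : G → ℂ) t * (χ : G → ℂ) t *
        (starRingEnd ℂ) ((χ : G → ℂ) x) / (χ : G → ℂ) 1 = 0 := by
      have h1 : (Nat.card G : ℂ) * ∑ χ : IrrCharacter G, (χ : G → ℂ) t * (χ : G → ℂ) t *
          (starRingEnd ℂ) ((χ : G → ℂ) x) / (χ : G → ℂ) 1 = 0 := by
        rw [← hNeq, hNz]
        simp
      exact (mul_eq_zero.mp h1).resolve_left hG0
    have key := hsplit (fun χ => (χ : G → ℂ) t * (χ : G → ℂ) t *
        (starRingEnd ℂ) ((χ : G → ℂ) x) / (χ : G → ℂ) 1)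
      (fun χ hχ => by rw [hv11 χ (hrest χ hχ)]; simp)
    beta_reduce at key
    rw [key] at hsum0
    have e0 : (trivIrr G : G → ℂ) t * (trivIrr G : G → ℂ) t *
        (starRingEnd ℂ) ((trivIrr G : G → ℂ) x) / (trivIrr G : G → ℂ) 1 = 1 := by
      rw [htriv t, htriv x, htriv 1]
      simp
    have e1 : (α₁ : G → ℂ) t * (α₁ : G → ℂ) t *
        (starRingEnd ℂ) ((α₁ : G → ℂ) x) / (α₁ : G → ℂ) 1 = (a₁ : ℂ) ^ 2 / 12 := by
      rw [ha₁, hα₁x, Cfsg.Agent.Lib.helper82.irr_one_eq α₁, hα₁, map_one]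
      push_cast
      ring
    have e2 : (α₂ : G → ℂ) t * (α₂ : G → ℂ) t *
        (starRingEnd ℂ) ((α₂ : G → ℂ) x) / (α₂ : G → ℂ) 1 = (a₂ : ℂ) ^ 2 / 12 := by
      rw [ha₂, hα₂x, Cfsg.Agent.Lib.helper82.irr_one_eq α₂, hα₂, map_one]
      push_cast
      ring
    have e3 : (β₁ : G → ℂ) t * (β₁ : G → ℂ) t *
        (starRingEnd ℂ) ((β₁ : G → ℂ) x) / (β₁ : G → ℂ) 1 = -(b₁ : ℂ) ^ 2 / 10 := by
      rw [hb₁, hβ₁x, Cfsg.Agent.Lib.helper82.irr_one_eq β₁, hβ₁, map_neg, map_one]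
      push_cast
      ring
    have e4 : (β₂ : G → ℂ) t * (β₂ : G → ℂ) t *
        (starRingEnd ℂ) ((β₂ : G → ℂ) x) / (β₂ : G → ℂ) 1 = -(b₂ : ℂ) ^ 2 / 10 := by
      rw [hb₂, hβ₂x, Cfsg.Agent.Lib.helper82.irr_one_eq β₂, hβ₂, map_neg, map_one]
      push_cast
      ring
    have e5 : (γ₁ : G → ℂ) t * (γ₁ : G → ℂ) t *
        (starRingEnd ℂ) ((γ₁ : G → ℂ) x) / (γ₁ : G → ℂ) 1 =
          (s₁ : ℂ) ^ 2 * (starRingEnd ℂ) ((γ₁ : G → ℂ) x) / 5 := by
      rw [hs₁, Cfsg.Agent.Lib.helper82.irr_one_eq γ₁, hγ₁]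
      push_cast
      ring
    have e6 : (γ₂ : G → ℂ) t * (γ₂ : G → ℂ) t *
        (starRingEnd ℂ) ((γ₂ : G → ℂ) x) / (γ₂ : G → ℂ) 1 =
          (s₁ : ℂ) ^ 2 * (starRingEnd ℂ) ((γ₂ : G → ℂ) x) / 5 := by
      rw [hs₂, hs21, Cfsg.Agent.Lib.helper82.irr_one_eq γ₂, hγ₂]
      push_cast
      ring
    rw [e0, e1, e2, e3, e4, e5, e6] at hsum0
    have hint : 60 + 5 * (a₁ ^ 2 + a₂ ^ 2) = 6 * (b₁ ^ 2 + b₂ ^ 2) + 12 * s₁ ^ 2 := by
      have h1 : ((60 + 5 * (a₁ ^ 2 + a₂ ^ 2) : ℤ) : ℂ) =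
          ((6 * (b₁ ^ 2 + b₂ ^ 2) + 12 * s₁ ^ 2 : ℤ) : ℂ) := by
        push_cast
        linear_combination 60 * hsum0 - 12 * (s₁ : ℂ) ^ 2 * hconj
      exact_mod_cast h1
    have hres := m11e_arith a₁ (m11e_mem12 a₁ (by exact_mod_cast ha₁4) (by exact_mod_cast ha₁le))
      a₂ (m11e_mem12 a₂ (by exact_mod_cast ha₂4) (by exact_mod_cast ha₂le))
      b₁ (m11e_mem10 b₁ (by exact_mod_cast hb₁4) (by exact_mod_cast hb₁le))
      b₂ (m11e_mem10 b₂ (by exact_mod_cast hb₂4) (by exact_mod_cast hb₂le))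
      s₁ (m11e_mem5 s₁ (by exact_mod_cast hs₁4) (by exact_mod_cast hs₁le) hs5) hint hsrel
    refine ⟨?_, ?_⟩
    · rw [ha₁, hres.1]
      simp
    · rw [ha₂, hres.2]
      simp
  -- Sylow 5
  obtain ⟨Q⟩ : Nonempty (Sylow 5 G) := inferInstance
  obtain ⟨hQcard, hn1, hmod, ⟨k, hstab, hdk⟩, ⟨e, he, he1, hCe⟩⟩ :=
    Cfsg.Agent.Lib.helper75.sylow_setup 1584 (by rw [hG]) (by norm_num) (by norm_num) Q
  rw [Sylow.stabilizer_eq_normalizer] at hstab hCe
  obtain ⟨y, hyQ, hy5⟩ :=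
    Cfsg.Agent.Lib.helper75.exists_mem_orderOf_prime (Q : Subgroup G) 5 (by rw [hQcard])
  have hQy : (Q : Subgroup G) = Subgroup.zpowers y := by
    symm
    apply Subgroup.eq_of_le_of_card_ge
    · exact (Subgroup.zpowers_le).mpr hyQ
    · rw [Nat.card_zpowers, hy5, hQcard]
  have hCy : Subgroup.centralizer ((Q : Subgroup G) : Set G) =
      Subgroup.centralizer ({y} : Set G) := by
    ext g
    rw [Subgroup.mem_centralizer_iff, Subgroup.mem_centralizer_iff]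
    constructor
    · intro hg z hz
      rw [Set.mem_singleton_iff] at hz
      subst hz
      exact hg z hyQ
    · intro hg z hz
      rw [SetLike.mem_coe, hQy, Subgroup.mem_zpowers_iff] at hz
      obtain ⟨n, rfl⟩ := hz
      have hc : Commute y g := hg y rfl
      exact (hc.zpow_left n).eq
  have hv5 : ∀ ψ : IrrCharacter G, 5 ∣ charDegree (ψ : G → ℂ) → (ψ : G → ℂ) y = 0 := by
    intro ψ hd
    exact Cfsg.Agent.Lib.helper73.irr_vanish_of_defect_zero ψ 5 1 h5 (by rw [hG]; norm_num)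
      (by rw [hG]; norm_num) (by simpa using hd) y (by rw [hy5])
  have hymem : y ∈ Subgroup.centralizer ({y} : Set G) := by
    rw [Subgroup.mem_centralizer_iff]
    intro z hz
    rw [Set.mem_singleton_iff.mp hz]
  have h5y : 5 ∣ Nat.card (Subgroup.centralizer ({y} : Set G)) := by
    rw [← hy5]
    exact Subgroup.orderOf_dvd_natCard _ hymem
  -- no involution commutes with y
  have hnc : ∀ t : G, t ≠ 1 → t * t = 1 → t * y ≠ y * t := by
    intro t ht1 htt hcomm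
    obtain ⟨hat1, hat2⟩ := hinv t ht1 htt
    obtain ⟨N, hNeq, -⟩ := Cfsg.Agent.Lib.helper42.class_count_mul t y x
    have key := hsplit (fun χ => (χ : G → ℂ) t * (χ : G → ℂ) y *
        (starRingEnd ℂ) ((χ : G → ℂ) x) / (χ : G → ℂ) 1)
      (fun χ hχ => by rw [hv11 χ (hrest χ hχ)]; simp)
    beta_reduce at key
    rw [key, htriv t, htriv y, htriv x, htriv 1, hat1, hat2,
      hv5 β₁ (by rw [hβ₁]; norm_num), hv5 β₂ (by rw [hβ₂]; norm_num),
      hv5 γ₁ (by rw [hγ₁]), hv5 γ₂ (by rw [hγ₂]), hG] at hNeq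
    have h5t : 5 ∣ Nat.card (Subgroup.centralizer ({t} : Set G)) := by
      rw [← hy5]
      apply Subgroup.orderOf_dvd_natCard
      rw [Subgroup.mem_centralizer_iff]
      intro z hz
      rw [Set.mem_singleton_iff.mp hz]
      exact hcomm
    obtain ⟨u, hu⟩ := h5t
    obtain ⟨v, hv⟩ := h5y
    have hnat : N * Nat.card (Subgroup.centralizer ({t} : Set G)) *
        Nat.card (Subgroup.centralizer ({y} : Set G)) = 7920 := by
      have h1 : ((N * Nat.card (Subgroup.centralizer ({t} : Set G)) *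
          Nat.card (Subgroup.centralizer ({y} : Set G)) : ℕ) : ℂ) = ((7920 : ℕ) : ℂ) := by
        push_cast
        rw [hNeq]
        simp
      exact_mod_cast h1
    rw [hu, hv] at hnat
    have h25 : 25 ∣ 7920 := ⟨N * u * v, by rw [← hnat]; ring⟩
    norm_num at h25
  have hodd : ¬ 2 ∣ Nat.card (Subgroup.centralizer ({y} : Set G)) := by
    intro hdvd
    obtain ⟨t, ht, hto⟩ := Cfsg.Agent.Lib.helper75.exists_mem_orderOf_prime
      (Subgroup.centralizer ({y} : Set G)) 2 hdvd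
    have ht1 : t ≠ 1 := by
      rintro rfl
      simp at hto
    have htt : t * t = 1 := by
      rw [← pow_two, ← hto]
      exact pow_orderOf_eq_one t
    apply hnc t ht1 htt
    exact (Subgroup.mem_centralizer_iff.mp ht y rfl).symm
  have h11n : ¬ 11 ∣ Nat.card (Subgroup.centralizer ({y} : Set G)) := by
    intro hdvd
    obtain ⟨z, hz, hzo⟩ := Cfsg.Agent.Lib.helper75.exists_mem_orderOf_prime
      (Subgroup.centralizer ({y} : Set G)) 11 hdvd
    have hPp : IsPGroup 11 P := IsPGroup.of_card (n := 1) (by rw [hP]; norm_num)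
    obtain ⟨P₁, hP₁⟩ := hPp.exists_le_sylow
    have hZp : IsPGroup 11 (Subgroup.zpowers z) :=
      IsPGroup.of_card (n := 1) (by rw [Nat.card_zpowers, hzo]; norm_num)
    obtain ⟨P₂, hP₂⟩ := hZp.exists_le_sylow
    have hc1 : Nat.card P₁ = 11 := Cfsg.Agent.Lib.helper75.sylow_card_eq_prime
      (by rw [hG]; norm_num) (by rw [hG]; norm_num) P₁
    have hP₁eq : P = (P₁ : Subgroup G) :=
      Subgroup.eq_of_le_of_card_ge hP₁ (by rw [hc1, hP])
    obtain ⟨g, hg⟩ := MulAction.exists_smul_eq G P₂ P₁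
    have hzP₂ : z ∈ (P₂ : Subgroup G) := hP₂ (Subgroup.mem_zpowers z)
    have hgz : g * z * g⁻¹ ∈ P := by
      rw [hP₁eq, ← hg, Sylow.coe_subgroup_smul]
      exact Subgroup.smul_mem_pointwise_smul z (MulAut.conj g) _ hzP₂
    have hgzo : orderOf (g * z * g⁻¹) = 11 := by
      rw [← hzo]
      exact (MulAut.conj g).orderOf_eq z
    have hPz : P = Subgroup.zpowers (g * z * g⁻¹) := by
      symm
      apply Subgroup.eq_of_le_of_card_ge
      · exact (Subgroup.zpowers_le).mpr hgz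
      · rw [Nat.card_zpowers, hgzo, hP]
    have hyz : y * z = z * y := Subgroup.mem_centralizer_iff.mp hz y rfl
    have hcomm : Commute (g * z * g⁻¹) (g * y * g⁻¹) := by
      show g * z * g⁻¹ * (g * y * g⁻¹) = g * y * g⁻¹ * (g * z * g⁻¹)
      calc g * z * g⁻¹ * (g * y * g⁻¹) = g * (z * y) * g⁻¹ := by group
        _ = g * (y * z) * g⁻¹ := by rw [hyz]
        _ = g * y * g⁻¹ * (g * z * g⁻¹) := by group
    have hyC : g * y * g⁻¹ ∈ Subgroup.centralizer (P : Set G) := by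
      rw [Subgroup.mem_centralizer_iff]
      intro w hw
      rw [SetLike.mem_coe, hPz, Subgroup.mem_zpowers_iff] at hw
      obtain ⟨n, rfl⟩ := hw
      exact (hcomm.zpow_left n).eq
    have hyP := hC hyC
    have h1 := Subgroup.orderOf_dvd_natCard P hyP
    have h2' : orderOf (g * y * g⁻¹) = 5 := by
      rw [← hy5]
      exact (MulAut.conj g).orderOf_eq y
    rw [h2', hP] at h1
    norm_num at h1
  -- arithmetic
  obtain ⟨m, hm⟩ : ∃ m : ℕ, m = Nat.card (Subgroup.centralizer ({y} : Set G)) := ⟨_, rfl⟩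
  rw [← hm] at h5y hodd h11n
  rw [hCy, ← hm] at hCe
  obtain ⟨c, hc⟩ := h5y
  have he24 : e = 2 ∨ e = 4 := by
    have hle : e ≤ 4 := Nat.le_of_dvd (by norm_num) he
    interval_cases e
    · simp at he
    · exact absurd rfl he1
    · left; rfl
    · norm_num at he
    · right; rfl
  have hfin : m = 5 ∧ k = 4 := by
    subst hc
    have hk : k = c * e := by nlinarith
    subst hk
    have hc2 : ¬ 2 ∣ c := fun h => hodd (Dvd.dvd.mul_left h 5)
    have hc11 : ¬ 11 ∣ c := fun h => h11n (Dvd.dvd.mul_left h 5)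
    have hcd : c ∣ 1584 := ⟨Nat.card (Sylow 5 G) * e, by rw [← hdk]; ring⟩
    have hcop16 : Nat.Coprime c 16 := by
      have h1 : Nat.Coprime c 2 := by
        rw [Nat.coprime_comm]
        exact (Nat.Prime.coprime_iff_not_dvd h2).mpr hc2
      exact Nat.Coprime.pow_right 4 h1
    have hc99 : c ∣ 99 := by
      have h1 : c ∣ 99 * 16 := by norm_num; exact hcd
      exact Nat.Coprime.dvd_of_dvd_mul_right hcop16 h1
    have hcop11 : Nat.Coprime c 11 := by
      rw [Nat.coprime_comm]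
      exact (Nat.Prime.coprime_iff_not_dvd h11).mpr hc11
    have hc9 : c ∣ 9 := by
      have h1 : c ∣ 9 * 11 := by norm_num; exact hc99
      exact Nat.Coprime.dvd_of_dvd_mul_right hcop11 h1
    have hcle : c ≤ 9 := Nat.le_of_dvd (by norm_num) hc9
    interval_cases c <;> rcases he24 with rfl | rfl <;> omega
  obtain ⟨hm5', hk4⟩ := hfin
  have hN' : Nat.card (Subgroup.normalizer ((Q : Subgroup G) : Set G)) = 5 * 4 := by
    rw [← hk4]
    exact hstab
  have hle : (Q : Subgroup G) ≤ Subgroup.centralizer ((Q : Subgroup G) : Set G) := by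
    intro a ha
    rw [hCy, Subgroup.mem_centralizer_iff]
    intro z hz
    rw [Set.mem_singleton_iff.mp hz]
    rw [hQy, Subgroup.mem_zpowers_iff] at ha
    obtain ⟨n, rfl⟩ := ha
    exact ((Commute.refl y).zpow_right n).eq
  have heq : (Q : Subgroup G) = Subgroup.centralizer ((Q : Subgroup G) : Set G) := by
    apply Subgroup.eq_of_le_of_card_ge hle
    rw [hCy, ← hm, hm5', hQcard]
  obtain ⟨b, hb1, hbsq, -, hbcong, -⟩ :=
    frob_theta h5 (Q : Subgroup G) hQcard heq.ge hN'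
  have hcg := hbcong (by norm_num)
  have hc1 := hcg α₁
  have hc2 := hcg α₂
  rw [hα₁] at hc1
  rw [hα₂] at hc2
  have hsq1 : 4 ≤ b α₁ ^ 2 := by
    have h1 : b α₁ ≤ -2 ∨ 2 ≤ b α₁ := by omega
    rcases h1 with h | h
    · nlinarith [mul_nonneg_of_nonpos_of_nonpos (by linarith : b α₁ + 2 ≤ 0) (by linarith : b α₁ - 2 ≤ 0)]
    · nlinarith [mul_nonneg (by linarith : 0 ≤ b α₁ - 2) (by linarith : 0 ≤ b α₁ + 2)]
  have hsq2 : 4 ≤ b α₂ ^ 2 := by
    have h1 : b α₂ ≤ -2 ∨ 2 ≤ b α₂ := by omega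
    rcases h1 with h | h
    · nlinarith [mul_nonneg_of_nonpos_of_nonpos (by linarith : b α₂ + 2 ≤ 0) (by linarith : b α₂ - 2 ≤ 0)]
    · nlinarith [mul_nonneg (by linarith : 0 ≤ b α₂ - 2) (by linarith : 0 ≤ b α₂ + 2)]
  have hb1' : b (trivIrr G) = 1 := hb1
  have hsub : b (trivIrr G) ^ 2 + b α₁ ^ 2 + b α₂ ^ 2 ≤ ∑ ψ, b ψ ^ 2 := by
    have h1 : ∑ ψ ∈ ({trivIrr G, α₁, α₂} : Finset (IrrCharacter G)), b ψ ^ 2 =
        b (trivIrr G) ^ 2 + b α₁ ^ 2 + b α₂ ^ 2 := by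
      rw [Finset.sum_insert, Finset.sum_insert, Finset.sum_singleton]
      · ring
      · simpa using ha₁a₂
      · simp only [Finset.mem_insert, Finset.mem_singleton, not_or]
        exact ⟨h0a₁, h0a₂⟩
    rw [← h1]
    exact Finset.sum_le_sum_of_subset_of_nonneg (Finset.subset_univ _) (fun _ _ _ => sq_nonneg _)
  rw [hbsq, hb1'] at hsub
  norm_num at hsub
  linarith

end Cfsg.Agent.Lib.helper77
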