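import Cfsg.Agent.Lib.helper77.M11_F0
import Cfsg.Agent.Lib.helper73.M11_V
import Cfsg.Agent.Lib.helper42.M11_CL

set_option autoImplicit false

namespace Cfsg.Agent.Lib.helper77

open Cfsg Cfsg.Agent.Lib.helper4 Cfsg.Agent.Lib.helper21

universe u

theorem m11_sylow_five_of_patI {G : Type u} [Group G] [Fintype G] [Fintype (IrrCharacter G)]
    [IsSimpleGroup G] (hG : Nat.card G = 7920) (P : Subgroup G) (hP : Nat.card P = 11)
    (h : M11PatI P) (Q : Sylow 5 G) :
    Subgroup.centralizer ((Q : Subgroup G) : Set G) ≤ (Q : Subgroup G) ∧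
      Nat.card (Subgroup.normalizer ((Q : Subgroup G) : Set G)) = 20 :=
  m11_sylow_five_of_patI_of hG P hP h Q
    (fun ψ p n hp hn hn' hdeg x hx =>
      Cfsg.Agent.Lib.helper73.irr_vanish_of_defect_zero ψ p n hp hn hn' hdeg x hx)
    (fun a b c => Cfsg.Agent.Lib.helper42.class_count_mul a b c)

end Cfsg.Agent.Lib.helper77
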