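import Mathlib
import Cfsg.Agent.Lib.helper24.SroDefs
import Cfsg.Agent.Lib.helper13.SroEMB

/-! S5989 piece INV (helper77): an involutory isometry fixes a subspace isometric to `W₀`
inside its larger eigenspace (core lemma with the embedding statement as a hypothesis, then the
exact skeleton statement in the architect's namespace, using piece EMB). -/

set_option autoImplicit false
set_option linter.unusedSectionVars false
set_option linter.unusedVariables false

namespace Cfsg.Agent.Lib.helper77

open Module Cfsg.Agent.Lib.helper24 Cfsg.Agent.Lib.helper45 Cfsg.Agent.Lib.helper49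

universe u

section sroinv

variable {F : Type u} [Field F] [Fintype F]

/-- INV with the embedding statement (piece EMB, `sro_embed`) as a hypothesis. -/
theorem sro_inv_class_of_embed {V V₀ : Type u} [AddCommGroup V] [Module F V]
    [FiniteDimensional F V] [AddCommGroup V₀] [Module F V₀] [FiniteDimensional F V₀]
    (Q : QuadraticForm F V) (hnd : ∀ v, (∀ w, QuadraticMap.polar Q v w = 0) → v = 0)
    (h2 : (2 : F) ≠ 0) (T : Module.End F V) (hT : ∀ v, Q (T v) = Q v) (hT2 : T * T = 1)
    (Q₀ : QuadraticForm F V₀) (W₀ : Submodule F V₀)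
    (hdim : 2 * finrank F W₀ < finrank F V)
    (hemb : ∀ X : Submodule F V, SpNd (QuadraticMap.polarBilin Q) X →
      finrank F W₀ < finrank F X → ∃ W : Submodule F V, W ≤ X ∧ SrIsoTo Q W Q₀ W₀) :
    ∃ W : Submodule F V, SrIsoTo Q W Q₀ W₀ ∧ ∀ w ∈ W, T w ∈ W := by
  have hndω : ∀ v, (∀ w, QuadraticMap.polarBilin Q v w = 0) → v = 0 := by
    intro v hv
    apply hnd v
    intro w
    have := hv w
    rwa [QuadraticMap.polarBilin_apply_apply] at this
  have hTsq : T ^ 2 = 1 := by rw [pow_two, hT2]
  have h2' : ((2 : ℕ) : F) ≠ 0 := by exact_mod_cast h2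
  have hE1 : SpNd (QuadraticMap.polarBilin Q) (LinearMap.ker (T - 1)) :=
    sp_fix_nd (QuadraticMap.polarBilin Q) hndω T (sr_iso_bilin Q T hT) 2 hTsq h2'
  have hTneg : ∀ v, Q ((-T) v) = Q v := by
    intro v
    rw [LinearMap.neg_apply, QuadraticMap.map_neg, hT]
  have hE2 : SpNd (QuadraticMap.polarBilin Q) (LinearMap.ker (-T - 1)) :=
    sp_fix_nd (QuadraticMap.polarBilin Q) hndω (-T) (sr_iso_bilin Q (-T) hTneg) 2
      (by rw [pow_two, neg_mul_neg, hT2]) h2'
  have hTT : ∀ v, T (T v) = v := by
    intro v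
    have h6 := congrArg (fun f : Module.End F V => f v) hT2
    exact h6
  have hdimE : finrank F V ≤ finrank F (LinearMap.ker (T - 1)) +
      finrank F (LinearMap.ker (-T - 1)) := by
    have h1 := LinearMap.finrank_range_add_finrank_ker (T - 1)
    have h3 : LinearMap.range (T - 1) ≤ LinearMap.ker (-T - 1) := by
      rintro _ ⟨v, rfl⟩
      have h6 : (-T - 1) ((T - 1) v) = 0 := by
        simp only [LinearMap.sub_apply, LinearMap.neg_apply, Module.End.one_apply, map_sub, hTT]
        abel
      exact LinearMap.mem_ker.mpr h6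
    have h4 := Submodule.finrank_mono h3
    omega
  by_cases h : finrank F W₀ < finrank F (LinearMap.ker (T - 1))
  · obtain ⟨W, hWX, hiso⟩ := hemb _ hE1 h
    refine ⟨W, hiso, ?_⟩
    intro w hw
    have h6 := hWX hw
    rw [LinearMap.mem_ker, LinearMap.sub_apply, Module.End.one_apply, sub_eq_zero] at h6
    rw [h6]
    exact hw
  · obtain ⟨W, hWX, hiso⟩ := hemb _ hE2 (by omega)
    refine ⟨W, hiso, ?_⟩
    intro w hw
    have h6 := hWX hw
    rw [LinearMap.mem_ker, LinearMap.sub_apply, LinearMap.neg_apply, Module.End.one_apply,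
      sub_eq_zero] at h6
    have h7 : T w = -w := neg_eq_iff_eq_neg.mp h6
    rw [h7]
    exact W.neg_mem hw

end sroinv

end Cfsg.Agent.Lib.helper77

namespace Cfsg.Agent.Lib.helper24

open Module Cfsg.Agent.Lib.helper45 Cfsg.Agent.Lib.helper49

universe u

section sroinvfinal

variable {F : Type u} [Field F] [Fintype F]

/-- An involutory isometry of a nondegenerate space of dimension `> 2 dim W₀` fixes a subspace
isometric to `W₀` (inside its larger eigenspace). -/
theorem sro_inv_class {V V₀ : Type u} [AddCommGroup V] [Module F V] [FiniteDimensional F V]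
    [AddCommGroup V₀] [Module F V₀] [FiniteDimensional F V₀]
    (Q : QuadraticForm F V) (hnd : ∀ v, (∀ w, QuadraticMap.polar Q v w = 0) → v = 0)
    (h2 : (2 : F) ≠ 0) (T : Module.End F V) (hT : ∀ v, Q (T v) = Q v) (hT2 : T * T = 1)
    (Q₀ : QuadraticForm F V₀) (W₀ : Submodule F V₀) (hW₀ : SpNd (QuadraticMap.polarBilin Q₀) W₀)
    (hm : Odd (finrank F W₀)) (hdim : 2 * finrank F W₀ < finrank F V) :
    ∃ W : Submodule F V, SrIsoTo Q W Q₀ W₀ ∧ ∀ w ∈ W, T w ∈ W :=
  Cfsg.Agent.Lib.helper77.sro_inv_class_of_embed Q hnd h2 T hT hT2 Q₀ W₀ hdim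
    (fun X hX hd => sro_embed Q Q₀ h2 W₀ hW₀ hm X hX hd)

end sroinvfinal

end Cfsg.Agent.Lib.helper24
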