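/-
S5972 piece INVC: `sts_inv_bad` -- for `q ≡ 3 (mod 4)` the product of the reflections in `e₀` and
`e₁ + f₁` is an involution of `Ω_{2d+1}(q)` fixing no totally singular `d`-space.
-/
import Mathlib
import Cfsg.Agent.Lib.helper24.SroDefs
import Cfsg.Agent.Lib.helper24.StsDefs
import Cfsg.Agent.Lib.helper49.Spinor

set_option autoImplicit false
set_option linter.unusedSectionVars false
set_option linter.unusedVariables false

namespace Cfsg.Agent.Lib.helper77.StsC

open Module Matrix Cfsg.Agent.Lib.helper45 Cfsg.Agent.Lib.helper49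

/-- The product of two reflections in orthogonal vectors of norm one. -/
theorem helper77_two_refl {F : Type*} [Field F] {ι : Type} [Fintype ι] [DecidableEq ι]
    (Q : QuadraticForm F (ι → F)) (u v : ι → F) (hu : Q u = 1) (hv : Q v = 1)
    (huv : QuadraticMap.polar Q u v = 0) (y : ι → F) :
    (Cfsg.reflectionMatrix ⇑Q u * Cfsg.reflectionMatrix ⇑Q v) *ᵥ y =
      y - QuadraticMap.polar Q v y • v - QuadraticMap.polar Q u y • u := by
  rw [← Matrix.mulVec_mulVec, refl_mulVec, refl_mulVec, hu, hv, inv_one, one_mul, one_mul,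
    QuadraticMap.polar_sub_right, QuadraticMap.polar_smul_right, huv, smul_zero, sub_zero]

/-- `2 ≠ 0` in a finite field of odd order. -/
theorem helper77_two_ne_zero {F : Type*} [Field F] [Fintype F] (hodd : Odd (Fintype.card F)) :
    (2 : F) ≠ 0 := by
  intro h
  have hdvd : ringChar F ∣ 2 := by
    apply ringChar.dvd
    exact_mod_cast h
  have hne : ringChar F ≠ 1 := CharP.ringChar_ne_one
  have h2 : ringChar F = 2 := by
    rcases (Nat.dvd_prime Nat.prime_two).mp hdvd with h1 | h1
    · exact absurd h1 hne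
    · exact h1
  have := FiniteField.even_card_of_char_two h2
  have := Nat.odd_iff.mp hodd
  omega

/-- A sum of two squares vanishes only trivially when `-1` is not a square. -/
theorem helper77_sum_sq {F : Type*} [Field F] [Fintype F] (h4 : Fintype.card F % 4 = 3)
    (a b : F) (h : a ^ 2 + b ^ 2 = 0) : a = 0 ∧ b = 0 := by
  have hns : ¬ IsSquare (-1 : F) := by
    rw [FiniteField.isSquare_neg_one_iff]
    omega
  by_cases ha : a = 0
  · refine ⟨ha, ?_⟩
    rw [ha] at h
    simpa using h
  · exfalso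
    apply hns
    refine ⟨b / a, ?_⟩
    field_simp
    linear_combination -h

end Cfsg.Agent.Lib.helper77.StsC

namespace Cfsg.Agent.Lib.helper24

open Module Cfsg.Agent.Lib.helper45 Cfsg.Agent.Lib.helper49 Cfsg.Agent.Lib.helper77.StsC

universe u

section stsodd

variable {F : Type u} [Field F] [Fintype F]

/-- For `q ≡ 3 (mod 4)`: an involution of `Ω_{2d+1}(q)` (minus one on an anisotropic plane
`⟨u, v⟩`, `Q u = Q v`, `u ⊥ v`) fixing no totally singular `d`-space. -/
theorem sts_inv_bad (hodd : Odd (Fintype.card F)) (h4 : Fintype.card F % 4 = 3) (d : ℕ)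
    (hd : 1 ≤ d) :
    ∃ x : GL (Unit ⊕ (Fin d ⊕ Fin d)) F, x ∈ Cfsg.Geo.omegaGL (Cfsg.quadFormOdd d F) ∧ orderOf x = 2 ∧
      ∀ W : Submodule F ((Unit ⊕ (Fin d ⊕ Fin d)) → F), finrank F W = d → (∀ w ∈ W, Cfsg.quadFormOdd d F w = 0) →
        W.map (Matrix.toLin' (x : Matrix (Unit ⊕ (Fin d ⊕ Fin d)) (Unit ⊕ (Fin d ⊕ Fin d)) F)) ≤ W → False := by
  classical
  have h2 : (2 : F) ≠ 0 := helper77_two_ne_zero hodd
  obtain ⟨Q, hQ⟩ : ∃ Q : QuadraticForm F (Unit ⊕ (Fin d ⊕ Fin d) → F), Q = oddForm d F :=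
    ⟨_, rfl⟩
  have hQc : ∀ y, Q y = Cfsg.quadFormOdd d F y := fun y => by rw [hQ]; rfl
  obtain ⟨u, hudef⟩ : ∃ u : Unit ⊕ (Fin d ⊕ Fin d) → F, u = Pi.single (Sum.inl ()) 1 :=
    ⟨_, rfl⟩
  have i₀ : Fin d := ⟨0, hd⟩
  obtain ⟨v, hvdef⟩ : ∃ v : Unit ⊕ (Fin d ⊕ Fin d) → F,
      v = Pi.single (Sum.inr (Sum.inl i₀)) 1 + Pi.single (Sum.inr (Sum.inr i₀)) 1 :=
    ⟨_, rfl⟩
  have hu : Q u = 1 := by
    rw [hQc, hudef]
    unfold Cfsg.quadFormOdd
    simp
  have hv : Q v = 1 := by
    rw [hQc, hvdef]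
    unfold Cfsg.quadFormOdd
    simp [Pi.single_apply]
  have huv : QuadraticMap.polar Q u v = 0 := by
    rw [hvdef, hudef, QuadraticMap.polar_add_right, hQ, polar_oddForm_single,
      polar_oddForm_single]
    simp [gramOdd]
  have hvu : QuadraticMap.polar Q v u = 0 := by rw [QuadraticMap.polar_comm]; exact huv
  have huu : QuadraticMap.polar Q u u = 2 := by
    rw [QuadraticMap.polar_self, hu]
    simp
  have hvv : QuadraticMap.polar Q v v = 2 := by
    rw [QuadraticMap.polar_self, hv]
    simp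
  have hu0 : Q u ≠ 0 := by rw [hu]; exact one_ne_zero
  have hv0 : Q v ≠ 0 := by rw [hv]; exact one_ne_zero
  obtain ⟨g, hg⟩ : ∃ g : ↥(Cfsg.isometryGroup F ⇑Q), g = reflG Q u hu0 * reflG Q v hv0 :=
    ⟨_, rfl⟩
  have hgval : ((g : GL (Unit ⊕ (Fin d ⊕ Fin d)) F) :
      Matrix (Unit ⊕ (Fin d ⊕ Fin d)) (Unit ⊕ (Fin d ⊕ Fin d)) F) =
      Cfsg.reflectionMatrix ⇑Q u * Cfsg.reflectionMatrix ⇑Q v := by
    rw [hg]
    rfl
  have hact : ∀ y, Matrix.mulVec ((g : GL (Unit ⊕ (Fin d ⊕ Fin d)) F) :
      Matrix (Unit ⊕ (Fin d ⊕ Fin d)) (Unit ⊕ (Fin d ⊕ Fin d)) F) y =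
      y - QuadraticMap.polar Q v y • v - QuadraticMap.polar Q u y • u := by
    intro y
    rw [hgval]
    exact helper77_two_refl Q u v hu hv huv y
  have hgΩ : g ∈ Cfsg.Omega F ⇑Q := by
    rw [spinor_criterion h2 Q g [u, v] (by
      intro w hw
      simp only [List.mem_cons, List.not_mem_nil, or_false] at hw
      rcases hw with rfl | rfl
      · exact hu0
      · exact hv0) (by rw [hgval]; simp)]
    refine ⟨⟨1, rfl⟩, ?_⟩
    simp only [List.map_cons, List.map_nil, List.prod_cons, List.prod_nil, hu, hv, mul_one]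
    exact ⟨1, by simp⟩
  -- the linear map
  obtain ⟨T, hTdef⟩ : ∃ T : Module.End F (Unit ⊕ (Fin d ⊕ Fin d) → F),
      T = Matrix.toLin' ((g : GL (Unit ⊕ (Fin d ⊕ Fin d)) F) :
        Matrix (Unit ⊕ (Fin d ⊕ Fin d)) (Unit ⊕ (Fin d ⊕ Fin d)) F) := ⟨_, rfl⟩
  have hT : ∀ y, T y = y - QuadraticMap.polar Q v y • v - QuadraticMap.polar Q u y • u := by
    intro y
    rw [hTdef, Matrix.toLin'_apply]
    exact hact y
  have hTT : ∀ y, T (T y) = y := by
    intro y
    rw [hT (T y), hT y]
    simp only [QuadraticMap.polar_sub_right, QuadraticMap.polar_smul_right, huv, hvu, huu, hvv,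
      smul_eq_mul, mul_zero, sub_zero]
    ext i
    simp only [Pi.sub_apply, Pi.smul_apply, smul_eq_mul]
    ring
  have hTu : T u = -u := by
    rw [hT u, hvu, huu]
    ext i
    simp only [Pi.sub_apply, Pi.smul_apply, smul_eq_mul, Pi.neg_apply]
    ring
  have hTv : T v = -v := by
    rw [hT v, huv, hvv]
    ext i
    simp only [Pi.sub_apply, Pi.smul_apply, smul_eq_mul, Pi.neg_apply]
    ring
  have hTiso : ∀ y, Q (T y) = Q y := by
    intro y
    rw [hTdef, Matrix.toLin'_apply]
    exact isometry_apply (⇑Q) g y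
  have hTsq : T ^ 2 = 1 := by
    apply LinearMap.ext
    intro y
    rw [pow_two, Module.End.mul_apply, hTT, Module.End.one_apply]
  have hkey : ∀ a b : F, Q (a • v + b • u) = a ^ 2 + b ^ 2 := by
    intro a b
    rw [QuadraticMap.map_add (⇑Q), QuadraticMap.map_smul, QuadraticMap.map_smul, hu, hv,
      QuadraticMap.polar_smul_left, QuadraticMap.polar_smul_right, hvu]
    simp only [smul_eq_mul, mul_one, mul_zero, add_zero]
    ring
  subst hQ
  refine ⟨(g : GL (Unit ⊕ (Fin d ⊕ Fin d)) F), ?_, ?_, ?_⟩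
  · exact Subgroup.mem_map.mpr ⟨g, hgΩ, rfl⟩
  · have hx2 : (g : GL (Unit ⊕ (Fin d ⊕ Fin d)) F) ^ 2 = 1 := by
      apply Units.ext
      apply Matrix.toLin'.injective
      rw [Units.val_pow_eq_pow_val, Units.val_one, pow_two, Matrix.toLin'_mul, ← hTdef,
        Matrix.toLin'_one]
      apply LinearMap.ext
      intro y
      rw [LinearMap.comp_apply, hTT, LinearMap.id_apply]
    have hx1 : (g : GL (Unit ⊕ (Fin d ⊕ Fin d)) F) ≠ 1 := by
      intro h1
      have h3 : T u = u := by
        rw [hTdef, h1, Units.val_one, Matrix.toLin'_one, LinearMap.id_apply]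
      rw [hTu] at h3
      have h5 := congrFun h3 (Sum.inl ())
      rw [hudef] at h5
      simp only [Pi.neg_apply, Pi.single_eq_same] at h5
      apply h2
      linear_combination -h5
    exact orderOf_eq_prime hx2 hx1
  · intro W hWd hW hWinv
    rw [← hTdef] at hWinv
    have hWT : ∀ w ∈ W, T w ∈ W := fun w hw => hWinv (Submodule.mem_map_of_mem hw)
    -- every vector of `W` is orthogonal to `u` and `v`, hence fixed
    have hfix : ∀ w ∈ W, T w = w := by
      intro w hw
      have h5 : QuadraticMap.polar (oddForm d F) v w • v + QuadraticMap.polar (oddForm d F) u w • u ∈ W := by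
        have h6 : QuadraticMap.polar (oddForm d F) v w • v + QuadraticMap.polar (oddForm d F) u w • u = w - T w := by
          rw [hT w]
          abel
        rw [h6]
        exact W.sub_mem hw (hWT w hw)
      have h7 := hW _ h5
      rw [← hQc, hkey] at h7
      obtain ⟨h9, h10⟩ := helper77_sum_sq h4 _ _ h7
      rw [hT w, h9, h10, zero_smul, zero_smul, sub_zero, sub_zero]
    have hnd := srf_nd (F := F) h2 d
    have hK : SpNd (QuadraticMap.polarBilin (oddForm d F)) (LinearMap.ker (T - 1)) := by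
      exact sr_K_nd (oddForm d F) hnd T hTiso 2 hTsq (by exact_mod_cast h2)
    have hWK : W ≤ LinearMap.ker (T - 1) := by
      intro w hw
      rw [LinearMap.mem_ker, LinearMap.sub_apply, Module.End.one_apply, hfix w hw, sub_self]
    have hhalf := sts_ts_half (oddForm d F) (LinearMap.ker (T - 1)) hK W hWK
      (fun w hw => by rw [hQc]; exact hW w hw)
    -- the range of `T - 1` has dimension at least two
    have hli : LinearIndependent F ![u, v] := by
      rw [LinearIndependent.pair_iff]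
      intro s t hst
      have ha := congrFun hst (Sum.inl ())
      have hb := congrFun hst (Sum.inr (Sum.inl i₀))
      rw [hudef, hvdef] at ha hb
      simp at ha hb
      exact ⟨ha, hb⟩
    have hspan : Submodule.span F (Set.range ![u, v]) ≤ LinearMap.range (T - 1) := by
      rw [Submodule.span_le]
      rintro _ ⟨i, rfl⟩
      have hmem : ∀ z, T z = -z → z ∈ LinearMap.range (T - 1) := by
        intro z hz
        refine ⟨(-2 : F)⁻¹ • z, ?_⟩
        rw [map_smul, LinearMap.sub_apply, Module.End.one_apply, hz]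
        have h11 : -z - z = (-2 : F) • z := by
          rw [neg_smul, two_smul]
          abel
        rw [h11, smul_smul, inv_mul_cancel₀ (neg_ne_zero.mpr h2), one_smul]
      fin_cases i
      · exact hmem u hTu
      · exact hmem v hTv
    have hr2 : 2 ≤ finrank F (LinearMap.range (T - 1)) := by
      have h12 := Submodule.finrank_mono hspan
      rw [finrank_span_eq_card hli] at h12
      simpa using h12
    have hrn := LinearMap.finrank_range_add_finrank_ker (T - 1)
    rw [srf_dim] at hrn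
    omega

end stsodd

end Cfsg.Agent.Lib.helper24
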