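/-
S5972 piece INVB: `sts_inv_plus` -- for `q ≡ 1 (mod 4)` the `(-1)`-eigenspace of an involution of
`Ω_{2d+1}(q)` is of plus type (determinant: even dimension; spinor sign = sign of the permutation
induced on `{v | Q v = 1}`).
-/
import Mathlib
import Cfsg.Agent.Lib.helper24.SroDefs
import Cfsg.Agent.Lib.helper24.StsDefs
import Cfsg.Agent.Lib.helper49.Spinor
import Cfsg.Agent.Lib.helper49.WittIso
import Cfsg.Agent.Lib.helper77.StsINVC

set_option autoImplicit false
set_option linter.unusedSectionVars false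
set_option linter.unusedVariables false

namespace Cfsg.Agent.Lib.helper77.StsB

open Module Cfsg.Agent.Lib.helper45 Cfsg.Agent.Lib.helper49 Cfsg.Agent.Lib.helper24

universe u

/-- The eigenspaces of an involution are complementary. -/
theorem helper77_invol_compl {F : Type*} [Field F] {V : Type*} [AddCommGroup V] [Module F V]
    (h2 : (2 : F) ≠ 0) (T : Module.End F V) (hTT : ∀ v, T (T v) = v) :
    IsCompl (LinearMap.ker (T - 1)) (LinearMap.ker (T + 1)) := by
  constructor
  · rw [Submodule.disjoint_def]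
    intro v h1 h2'
    rw [LinearMap.mem_ker, LinearMap.sub_apply, Module.End.one_apply, sub_eq_zero] at h1
    rw [LinearMap.mem_ker, LinearMap.add_apply, Module.End.one_apply, h1] at h2'
    have h3 : (2 : F) • v = 0 := by
      rw [two_smul]
      exact h2'
    exact (smul_eq_zero.mp h3).resolve_left h2
  · rw [codisjoint_iff, eq_top_iff]
    intro v _
    have hv : v = (2 : F)⁻¹ • (v + T v) + (2 : F)⁻¹ • (v - T v) := by
      rw [← smul_add]
      have h3 : v + T v + (v - T v) = (2 : F) • v := by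
        rw [two_smul]
        abel
      rw [h3, smul_smul, inv_mul_cancel₀ h2, one_smul]
    rw [hv]
    apply Submodule.add_mem_sup
    · rw [LinearMap.mem_ker, LinearMap.sub_apply, Module.End.one_apply, map_smul, map_add, hTT,
        sub_eq_zero, add_comm]
    · rw [LinearMap.mem_ker, LinearMap.add_apply, Module.End.one_apply, map_smul, map_sub, hTT,
        ← smul_add]
      have h3 : T v - v + (v - T v) = 0 := by abel
      rw [h3, smul_zero]

/-- The determinant of an involution. -/
theorem helper77_det_invol {F : Type*} [Field F] {V : Type*} [AddCommGroup V] [Module F V]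
    [FiniteDimensional F V] (h2 : (2 : F) ≠ 0) (T : Module.End F V) (hTT : ∀ v, T (T v) = v) :
    LinearMap.det T = (-1) ^ finrank F (LinearMap.ker (T + 1)) := by
  have hc := helper77_invol_compl h2 T hTT
  obtain ⟨e, he⟩ : ∃ e : (↥(LinearMap.ker (T - 1)) × ↥(LinearMap.ker (T + 1))) ≃ₗ[F] V,
      ∀ x, e x = (x.1 : V) + (x.2 : V) :=
    ⟨Submodule.prodEquivOfIsCompl _ _ hc, fun x => rfl⟩
  have hconj : T = e.toLinearMap ∘ₗ
      (LinearMap.prodMap (LinearMap.id : ↥(LinearMap.ker (T - 1)) →ₗ[F] _)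
        ((-1 : F) • (LinearMap.id : ↥(LinearMap.ker (T + 1)) →ₗ[F] _))) ∘ₗ
        e.symm.toLinearMap := by
    apply LinearMap.ext
    intro v
    obtain ⟨⟨a, b⟩, rfl⟩ := e.surjective v
    rw [LinearMap.comp_apply, LinearMap.comp_apply, LinearEquiv.coe_coe, LinearEquiv.coe_coe,
      LinearEquiv.symm_apply_apply, LinearMap.prodMap_apply, he, he, map_add]
    have ha := a.2
    have hb := b.2
    rw [LinearMap.mem_ker, LinearMap.sub_apply, Module.End.one_apply, sub_eq_zero] at ha
    rw [LinearMap.mem_ker, LinearMap.add_apply, Module.End.one_apply] at hb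
    rw [ha, eq_neg_of_add_eq_zero_left hb]
    simp
  have h := LinearMap.det_conj
    (LinearMap.prodMap (LinearMap.id : ↥(LinearMap.ker (T - 1)) →ₗ[F] _)
      ((-1 : F) • (LinearMap.id : ↥(LinearMap.ker (T + 1)) →ₗ[F] _))) e
  rw [← hconj] at h
  rw [h, LinearMap.det_prodMap, LinearMap.det_id, LinearMap.det_smul, LinearMap.det_id, one_mul,
    mul_one]

/-- The sizes of the fibres of a map add up to the size of the domain. -/
theorem helper77_sum_fiber {α β : Type*} [Finite α] [Fintype β] (f : α → β) :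
    ∑ b : β, Nat.card {a : α // f a = b} = Nat.card α := by
  rw [← Nat.card_sigma]
  exact Nat.card_congr (Equiv.sigmaFiberEquiv f)

/-- The parity computation. -/
theorem helper77_arith (q e a N Np : ℕ) (s : ℤ) (hs : s = -(q : ℤ) ^ e) (hq : q % 4 = 1)
    (ha : 1 ≤ a) (hNp : Even Np) (hle : Np ≤ N)
    (h : (q : ℤ) * (N : ℤ) = (s ^ 2 - s) * (q : ℤ) ^ a + s * ((q : ℤ) * (Np : ℤ))) :
    Odd ((N - Np) / 2) := by
  have hq0 : (q : ℤ) ≠ 0 := by
    intro h0
    have : q = 0 := by exact_mod_cast h0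
    omega
  obtain ⟨a', rfl⟩ : ∃ a', a = a' + 1 := ⟨a - 1, by omega⟩
  have hN : (N : ℤ) = (s ^ 2 - s) * (q : ℤ) ^ a' + s * (Np : ℤ) := by
    apply mul_left_cancel₀ hq0
    rw [h]
    ring
  have hpow : ∀ k : ℕ, ∃ j : ℤ, (q : ℤ) ^ k = 4 * j + 1 := by
    intro k
    have h1 : q ^ k % 4 = 1 := by
      rw [Nat.pow_mod, hq, one_pow]
      norm_num
    refine ⟨((q ^ k / 4 : ℕ) : ℤ), ?_⟩
    have h3 := Nat.div_add_mod (q ^ k) 4
    rw [h1] at h3
    have h4 : ((q ^ k : ℕ) : ℤ) = 4 * ((q ^ k / 4 : ℕ) : ℤ) + 1 := by exact_mod_cast h3.symm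
    rw [← h4]
    push_cast
    rfl
  obtain ⟨k₁, hk₁⟩ := hpow e
  obtain ⟨k₂, hk₂⟩ := hpow a'
  obtain ⟨k₃, hk₃⟩ := hNp
  have hk₃' : (Np : ℤ) = 2 * (k₃ : ℤ) := by
    rw [hk₃]
    push_cast
    ring
  have hz : (N : ℤ) - (Np : ℤ) =
      4 * (2 * k₁ * (8 * k₁ * k₂ + 2 * k₁ + 2 * k₂ - k₃) + k₁ +
        (8 * k₁ * k₂ + 2 * k₁ + 2 * k₂ - k₃)) + 2 := by
    rw [hN, hs, hk₁, hk₂, hk₃']
    ring
  rw [Nat.odd_iff]
  omega

/-- The number of vectors of norm one, as a value distribution. -/
theorem helper77_card_level {F : Type u} [Field F] [Fintype F] {ι : Type} [Fintype ι]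
    [DecidableEq ι] (Q : QuadraticForm F (ι → F)) (W : Submodule F (ι → F))
    (hW : ∀ v, v ∈ W) : Nat.card (Level (⇑Q) 1) = srNu Q W 1 := by
  unfold srNu
  apply Nat.card_congr
  exact
    { toFun := fun x => ⟨⟨x.1, hW x.1⟩, x.2⟩
      invFun := fun w => ⟨w.1.1, w.2⟩
      left_inv := fun x => rfl
      right_inv := fun w => rfl }

/-- The fixed points of an isometry on the vectors of norm one. -/
theorem helper77_card_fixed {F : Type u} [Field F] [Fintype F] {ι : Type} [Fintype ι]
    [DecidableEq ι] (Q : QuadraticForm F (ι → F)) (g : ↥(Cfsg.isometryGroup F ⇑Q)) :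
    Nat.card ↥(Function.fixedPoints (permHom (⇑Q) 1 g)) =
      srNu Q (LinearMap.ker (Matrix.toLin' ((g : GL ι F) : Matrix ι ι F) - 1)) 1 := by
  unfold srNu
  apply Nat.card_congr
  have hiff : ∀ x : Level (⇑Q) 1, x ∈ Function.fixedPoints (permHom (⇑Q) 1 g) ↔
      x.1 ∈ LinearMap.ker (Matrix.toLin' ((g : GL ι F) : Matrix ι ι F) - 1) := by
    intro x
    rw [Function.mem_fixedPoints, Function.IsFixedPt, LinearMap.mem_ker, LinearMap.sub_apply,
      Module.End.one_apply, sub_eq_zero, Matrix.toLin'_apply]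
    constructor
    · intro h
      exact congrArg Subtype.val h
    · intro h
      exact Subtype.ext h
  exact
    { toFun := fun x => ⟨⟨x.1.1, (hiff x.1).1 x.2⟩, x.1.2⟩
      invFun := fun w => ⟨⟨w.1.1, w.2⟩, (hiff ⟨w.1.1, w.2⟩).2 w.1.2⟩
      left_inv := fun x => rfl
      right_inv := fun w => rfl }

/-- The number of vectors of norm one in a subspace is even. -/
theorem helper77_even_nu {F : Type u} [Field F] [Fintype F] {V : Type u} [AddCommGroup V]
    [Module F V] [FiniteDimensional F V] (h2 : (2 : F) ≠ 0) (Q : QuadraticForm F V)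
    (W : Submodule F V) : Even (srNu Q W 1) := by
  have : Finite V := Module.finite_of_finite F
  have : Fact (Nat.Prime 2) := ⟨Nat.prime_two⟩
  unfold srNu
  have hneg : ∀ w : {w : W // (Q.comp W.subtype) w = 1}, (Q.comp W.subtype) (-w.1) = 1 := by
    intro w
    rw [QuadraticMap.map_neg]
    exact w.2
  have h := sr_fixed_mod (α := {w : W // (Q.comp W.subtype) w = 1})
    (fun w => ⟨-w.1, hneg w⟩) 2 (by
      intro w
      apply Subtype.ext
      exact neg_neg w.1)
  have h0 : Nat.card {a : {w : W // (Q.comp W.subtype) w = 1} //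
      (⟨-a.1, hneg a⟩ : {w : W // (Q.comp W.subtype) w = 1}) = a} = 0 := by
    rw [Nat.card_eq_zero]
    left
    refine ⟨fun ⟨a, ha⟩ => ?_⟩
    have h3 : -a.1 = a.1 := congrArg Subtype.val ha
    have h5 : (2 : F) • a.1 = 0 := by
      rw [two_smul]
      nth_rewrite 1 [← h3]
      exact neg_add_cancel a.1
    have h6 : a.1 = 0 := (smul_eq_zero.mp h5).resolve_left h2
    have h7 := a.2
    rw [h6, QuadraticMap.map_zero] at h7
    exact zero_ne_one h7
  rw [h0] at h
  exact Nat.even_iff.mpr (Nat.mod_eq_zero_of_dvd ((Nat.modEq_zero_iff_dvd).mp h))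

/-- The core of INVB for a general quadratic form on `ι → F`. -/
theorem helper77_inv_plus_core {F : Type u} [Field F] [Fintype F] {ι : Type} [Fintype ι]
    [DecidableEq ι] (h2 : (2 : F) ≠ 0) (h4 : Fintype.card F % 4 = 1)
    (Q : QuadraticForm F (ι → F)) (hQ : (QuadraticMap.polarBilin Q).Nondegenerate)
    (hnd : ∀ v, (∀ w, QuadraticMap.polar Q v w = 0) → v = 0)
    (hdimodd : Odd (finrank F (ι → F)))
    (g : ↥(Cfsg.isometryGroup F ⇑Q)) (hgΩ : g ∈ Cfsg.Omega F ⇑Q) (hg2 : g * g = 1) :
    ∃ U : Submodule F (ι → F),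
      U ≤ LinearMap.ker (Matrix.toLin' ((g : GL ι F) : Matrix ι ι F) + 1) ∧
      (∀ u ∈ U, Q u = 0) ∧
      2 * finrank F U =
        finrank F (LinearMap.ker (Matrix.toLin' ((g : GL ι F) : Matrix ι ι F) + 1)) := by
  classical
  obtain ⟨hdet, hsign⟩ := (mem_Omega_iff_det_spinor h2 Q hQ g).mp hgΩ
  obtain ⟨T, hTdef⟩ : ∃ T : Module.End F (ι → F),
      T = Matrix.toLin' ((g : GL ι F) : Matrix ι ι F) := ⟨_, rfl⟩
  rw [← hTdef]
  have hTiso : ∀ y, Q (T y) = Q y := by
    intro y
    rw [hTdef, Matrix.toLin'_apply]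
    exact isometry_apply (⇑Q) g y
  have hMM : ((g : GL ι F) : Matrix ι ι F) * ((g : GL ι F) : Matrix ι ι F) = 1 := by
    have h1 := congrArg (fun z : ↥(Cfsg.isometryGroup F ⇑Q) => ((z : GL ι F) : Matrix ι ι F)) hg2
    exact h1
  have hTT : ∀ y, T (T y) = y := by
    intro y
    rw [hTdef, Matrix.toLin'_apply, Matrix.toLin'_apply, Matrix.mulVec_mulVec, hMM,
      Matrix.one_mulVec]
  have hTsq : T ^ 2 = 1 := by
    apply LinearMap.ext
    intro y
    rw [pow_two, Module.End.mul_apply, hTT, Module.End.one_apply]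
  have hnegiso : ∀ y, Q ((-T) y) = Q y := by
    intro y
    rw [LinearMap.neg_apply, QuadraticMap.map_neg, hTiso]
  have hnegsq : (-T) ^ 2 = 1 := by
    apply LinearMap.ext
    intro y
    rw [pow_two, Module.End.mul_apply, LinearMap.neg_apply, LinearMap.neg_apply, map_neg,
      neg_neg, hTT, Module.End.one_apply]
  have h2' : ((2 : ℕ) : F) ≠ 0 := by exact_mod_cast h2
  have hKp : SpNd (QuadraticMap.polarBilin Q) (LinearMap.ker (T - 1)) :=
    sr_K_nd Q hnd T hTiso 2 hTsq h2'
  have hKm : SpNd (QuadraticMap.polarBilin Q) (LinearMap.ker (T + 1)) := by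
    have h1 : SpNd (QuadraticMap.polarBilin Q) (LinearMap.ker (-T - 1)) :=
      sr_K_nd Q hnd (-T) hnegiso 2 hnegsq h2'
    have h3 : -T - 1 = -(T + 1) := by abel
    rw [h3, LinearMap.ker_neg] at h1
    exact h1
  have hc := helper77_invol_compl h2 T hTT
  -- the determinant: the `(-1)`-eigenspace has even dimension
  have hdetT : LinearMap.det T = 1 := by
    rw [hTdef, LinearMap.det_toLin']
    have h1 := congrArg Units.val hdet
    rw [detHom, MonoidHom.comp_apply, Matrix.GeneralLinearGroup.val_det_apply] at h1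
    simpa using h1
  have heven : Even (finrank F (LinearMap.ker (T + 1))) := by
    have h := helper77_det_invol h2 T hTT
    rw [hdetT] at h
    by_contra hne
    rw [Nat.not_even_iff_odd] at hne
    rw [hne.neg_one_pow] at h
    apply h2
    linear_combination h
  obtain ⟨e, he⟩ := heven
  have hdim : finrank F (LinearMap.ker (T + 1)) = 2 * e := by omega
  rcases sr_ty_or Q (LinearMap.ker (T + 1)) hKm e hdim with hty | hty
  · exact sr_ty_plus Q _ hKm ⟨e, he⟩ hty
  · exfalso
    have hcdim := Submodule.finrank_add_eq_of_isCompl hc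
    have ha1 : 1 ≤ finrank F (LinearMap.ker (T - 1)) := by
      obtain ⟨k, hk⟩ := hdimodd
      omega
    -- orthogonality of the eigenspaces
    have horth : ∀ a ∈ LinearMap.ker (T - 1), ∀ b ∈ LinearMap.ker (T + 1),
        QuadraticMap.polar Q a b = 0 := by
      intro a ha b hb
      rw [LinearMap.mem_ker, LinearMap.sub_apply, Module.End.one_apply, sub_eq_zero] at ha
      rw [LinearMap.mem_ker, LinearMap.add_apply, Module.End.one_apply] at hb
      have h := sr_iso_polar Q T hTiso a b
      rw [ha, eq_neg_of_add_eq_zero_left hb, QuadraticMap.polar_neg_right] at h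
      have h3 : (2 : F) * QuadraticMap.polar Q a b = 0 := by linear_combination -h
      exact (mul_eq_zero.mp h3).resolve_left h2
    have hsup : ∀ v, v ∈ LinearMap.ker (T - 1) ⊔ LinearMap.ker (T + 1) := by
      intro v
      rw [hc.sup_eq_top]
      exact Submodule.mem_top
    have hsum := sr_nu_sum Q _ _ horth hc.inf_eq_bot
    have hN : Nat.card (Level (⇑Q) 1) =
        vconv (srNu Q (LinearMap.ker (T - 1))) (srNu Q (LinearMap.ker (T + 1))) 1 := by
      rw [helper77_card_level Q _ hsup, hsum]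
    have hNp : Nat.card ↥(Function.fixedPoints (permHom (⇑Q) 1 g)) =
        srNu Q (LinearMap.ker (T - 1)) 1 := by
      rw [hTdef]
      exact helper77_card_fixed Q g
    -- the value distribution of the `(-1)`-eigenspace
    have hU : ∀ c : F, (Fintype.card F : ℤ) * (srNu Q (LinearMap.ker (T + 1)) c : ℤ) =
        (-(Fintype.card F : ℤ) ^ e) ^ 2 + (-(Fintype.card F : ℤ) ^ e) *
          ((if c = 0 then (Fintype.card F : ℤ) else 0) - 1) := by
      intro c
      have h1 := hty c
      have h3 : finrank F (LinearMap.ker (T + 1)) / 2 = e := by omega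
      rw [h3, neg_one_mul] at h1
      exact h1
    have htot : ∑ a : F, srNu Q (LinearMap.ker (T - 1)) a =
        Fintype.card F ^ finrank F (LinearMap.ker (T - 1)) := by
      have : Finite (ι → F) := Module.finite_of_finite F
      unfold srNu
      rw [helper77_sum_fiber, Module.natCard_eq_pow_finrank (K := F), Nat.card_eq_fintype_card]
    have hcount : (Fintype.card F : ℤ) * (Nat.card (Level (⇑Q) 1) : ℤ) =
        ((-(Fintype.card F : ℤ) ^ e) ^ 2 - (-(Fintype.card F : ℤ) ^ e)) *
          (Fintype.card F : ℤ) ^ finrank F (LinearMap.ker (T - 1)) +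
        (-(Fintype.card F : ℤ) ^ e) * ((Fintype.card F : ℤ) *
          (Nat.card ↥(Function.fixedPoints (permHom (⇑Q) 1 g)) : ℤ)) := by
      rw [hN, hNp]
      unfold vconv
      push_cast
      rw [Finset.mul_sum]
      have hterm : ∀ a : F, (Fintype.card F : ℤ) * ((srNu Q (LinearMap.ker (T - 1)) a : ℤ) *
          (srNu Q (LinearMap.ker (T + 1)) (1 - a) : ℤ)) =
          ((-(Fintype.card F : ℤ) ^ e) ^ 2 - (-(Fintype.card F : ℤ) ^ e)) *
            (srNu Q (LinearMap.ker (T - 1)) a : ℤ) +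
          (-(Fintype.card F : ℤ) ^ e) * (Fintype.card F : ℤ) *
            (if a = 1 then (srNu Q (LinearMap.ker (T - 1)) a : ℤ) else 0) := by
        intro a
        have h1 := hU (1 - a)
        have h3 : (Fintype.card F : ℤ) * ((srNu Q (LinearMap.ker (T - 1)) a : ℤ) *
            (srNu Q (LinearMap.ker (T + 1)) (1 - a) : ℤ)) =
            (srNu Q (LinearMap.ker (T - 1)) a : ℤ) *
              ((Fintype.card F : ℤ) * (srNu Q (LinearMap.ker (T + 1)) (1 - a) : ℤ)) := by ring
        rw [h3, h1]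
        by_cases ha : a = 1
        · subst ha
          simp only [sub_self, if_true]
          ring
        · have ha' : ¬ (1 - a = 0) := fun h => ha (sub_eq_zero.mp h).symm
          simp only [ha, ha', if_false]
          ring
      rw [Finset.sum_congr rfl (fun a _ => hterm a), Finset.sum_add_distrib, ← Finset.mul_sum,
        ← Finset.mul_sum, Finset.sum_ite_eq' Finset.univ (1 : F), if_pos (Finset.mem_univ _)]
      have htot' : ∑ a : F, (srNu Q (LinearMap.ker (T - 1)) a : ℤ) =
          (Fintype.card F : ℤ) ^ finrank F (LinearMap.ker (T - 1)) := by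
        exact_mod_cast htot
      rw [htot']
      ring
    -- the sign of the induced permutation
    have hσ2 : (permHom (⇑Q) 1 g) ^ 2 = 1 := by
      rw [← map_pow, pow_two, hg2, map_one]
    have hs := Equiv.Perm.sign_of_pow_two_eq_one hσ2
    have hsp : spinorSign (⇑Q) g = Equiv.Perm.sign (permHom (⇑Q) 1 g) := rfl
    rw [hsp, hs, ← Nat.card_eq_fintype_card, ← Nat.card_eq_fintype_card] at hsign
    have hle : Nat.card ↥(Function.fixedPoints (permHom (⇑Q) 1 g)) ≤ Nat.card (Level (⇑Q) 1) :=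
      Nat.card_le_card_of_injective Subtype.val Subtype.val_injective
    have hodd' := helper77_arith (Fintype.card F) e (finrank F (LinearMap.ker (T - 1)))
      (Nat.card (Level (⇑Q) 1)) (Nat.card ↥(Function.fixedPoints (permHom (⇑Q) 1 g)))
      (-(Fintype.card F : ℤ) ^ e) rfl h4 ha1
      (by rw [hNp]; exact helper77_even_nu h2 Q _) hle hcount
    rw [hodd'.neg_one_pow] at hsign
    exact absurd hsign (by decide)

end Cfsg.Agent.Lib.helper77.StsB

namespace Cfsg.Agent.Lib.helper24

open Module Cfsg.Agent.Lib.helper45 Cfsg.Agent.Lib.helper49 Cfsg.Agent.Lib.helper77.StsB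
  Cfsg.Agent.Lib.helper77.StsC

universe u

section stsodd

variable {F : Type u} [Field F] [Fintype F]

/-- For `q ≡ 1 (mod 4)` the `(-1)`-eigenspace of an involution of `Ω_{2d+1}(q)` is of plus type:
it contains a totally singular subspace of half its dimension (spinor sign = sign of the
permutation induced on `{v | Q v = 1}`). -/
theorem sts_inv_plus (hodd : Odd (Fintype.card F)) (h4 : Fintype.card F % 4 = 1) (d : ℕ)
    (hd : 1 ≤ d) (x : GL (Unit ⊕ (Fin d ⊕ Fin d)) F) (hx : x ∈ Cfsg.Geo.omegaGL (Cfsg.quadFormOdd d F))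
    (hx2 : x * x = 1) :
    ∃ U : Submodule F ((Unit ⊕ (Fin d ⊕ Fin d)) → F), U ≤ LinearMap.ker (Matrix.toLin' (x : Matrix (Unit ⊕ (Fin d ⊕ Fin d)) (Unit ⊕ (Fin d ⊕ Fin d)) F) + 1) ∧
      (∀ u ∈ U, Cfsg.quadFormOdd d F u = 0) ∧
      2 * finrank F U = finrank F (LinearMap.ker (Matrix.toLin' (x : Matrix (Unit ⊕ (Fin d ⊕ Fin d)) (Unit ⊕ (Fin d ⊕ Fin d)) F) + 1)) := by
  classical
  have h2 : (2 : F) ≠ 0 := helper77_two_ne_zero hodd
  have hnd := srf_nd (F := F) h2 d
  have hQ : (QuadraticMap.polarBilin (oddForm d F)).Nondegenerate :=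
    nondegenerate_of_gram (oddForm d F) (gramOdd d F) (gramOddInv d F)
      (gramOdd_mul_inv d h2) (polar_oddForm d)
  obtain ⟨g, hgΩ, hgx⟩ := Subgroup.mem_map.mp hx
  subst hgx
  have hg2 : g * g = 1 := by
    apply Subtype.ext
    exact hx2
  have hdimodd : Odd (finrank F (Unit ⊕ (Fin d ⊕ Fin d) → F)) := by
    rw [srf_dim]
    exact ⟨d, rfl⟩
  exact helper77_inv_plus_core h2 h4 (oddForm d F) hQ hnd hdimodd g hgΩ hg2

end stsodd

end Cfsg.Agent.Lib.helper24
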