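/-
S5973 piece R2SA: `stp_inv_suff` -- `q` odd: an involution of `Ω⁺_{2d}(q)` fixes a totally
singular `m`-space if `q ≡ 1 (mod 4)` or `m ≤ d - 2` (eigenspaces `E₊ ⊥ E₋` of even dimensions
and of the same type; for `q ≡ 1 (mod 4)` the type `-1` is excluded by the spinor sign).
-/
import Mathlib
import Cfsg.Agent.Lib.helper24.SroDefs
import Cfsg.Agent.Lib.helper24.StsDefs
import Cfsg.Agent.Lib.helper24.SroReal
import Cfsg.Agent.Lib.helper49.Spinor
import Cfsg.Agent.Lib.helper49.WittIso
import Cfsg.Agent.Lib.helper49.PlusOmega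
import Cfsg.Agent.Lib.helper77.StsINVC
import Cfsg.Agent.Lib.helper77.StsINVB

set_option autoImplicit false
set_option linter.unusedSectionVars false
set_option linter.unusedVariables false

namespace Cfsg.Agent.Lib.helper77.StpA

open Module Cfsg.Agent.Lib.helper45 Cfsg.Agent.Lib.helper49 Cfsg.Agent.Lib.helper24
  Cfsg.Agent.Lib.helper77.StsB Cfsg.Agent.Lib.helper77.StsC

universe u

/-- Subspaces of every smaller dimension. -/
theorem helper77_exists_sub_finrank {F : Type*} [Field F] {V : Type*} [AddCommGroup V]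
    [Module F V] [FiniteDimensional F V] (E : Submodule F V) (m : ℕ) (hm : m ≤ finrank F E) :
    ∃ W : Submodule F V, W ≤ E ∧ finrank F W = m := by
  classical
  obtain ⟨b, -⟩ : ∃ b : Basis (Fin (finrank F E)) F E, b = Module.finBasis F E := ⟨_, rfl⟩
  obtain ⟨f, hf⟩ : ∃ f : Fin m → V, f = fun i => ((b (Fin.castLE hm i) : E) : V) := ⟨_, rfl⟩
  have hli : LinearIndependent F f := by
    have h1 : LinearIndependent F (fun i : Fin m => b (Fin.castLE hm i)) :=
      b.linearIndependent.comp _ (Fin.castLE_injective hm)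
    have h2 := h1.map' E.subtype (Submodule.ker_subtype E)
    rw [hf]
    exact h2
  refine ⟨Submodule.span F (Set.range f), ?_, ?_⟩
  · rw [Submodule.span_le]
    rintro _ ⟨i, rfl⟩
    rw [hf]
    exact (b (Fin.castLE hm i)).2
  · rw [finrank_span_eq_card hli, Fintype.card_fin]

/-- `q ≡ 1 (mod 4)`: the `(-1)`-eigenspace of an involution in `Ω(Q)` with a nonzero fixed
vector is not of type `-1` (spinor sign). -/
theorem helper77_minus_ty_false {F : Type u} [Field F] [Fintype F] {ι : Type} [Fintype ι]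
    [DecidableEq ι] (h2 : (2 : F) ≠ 0) (h4 : Fintype.card F % 4 = 1)
    (Q : QuadraticForm F (ι → F)) (hQ : (QuadraticMap.polarBilin Q).Nondegenerate)
    (g : ↥(Cfsg.isometryGroup F ⇑Q)) (hgΩ : g ∈ Cfsg.Omega F ⇑Q) (hg2 : g * g = 1)
    (T : Module.End F (ι → F)) (hTdef : T = Matrix.toLin' ((g : GL ι F) : Matrix ι ι F))
    (ha1 : 1 ≤ finrank F (LinearMap.ker (T - 1)))
    (e : ℕ) (hdim : finrank F (LinearMap.ker (T + 1)) = 2 * e)
    (hty : SrTy Q (LinearMap.ker (T + 1)) (-1)) : False := by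
  classical
  obtain ⟨hdet, hsign⟩ := (mem_Omega_iff_det_spinor h2 Q hQ g).mp hgΩ
  have hTiso : ∀ y, Q (T y) = Q y := by
    intro y
    rw [hTdef, Matrix.toLin'_apply]
    exact isometry_apply (⇑Q) g y
  have hMM : ((g : GL ι F) : Matrix ι ι F) * ((g : GL ι F) : Matrix ι ι F) = 1 := by
    have h1 := congrArg (fun z : ↥(Cfsg.isometryGroup F ⇑Q) => ((z : GL ι F) : Matrix ι ι F)) hg2
    exact h1
  have hTT : ∀ y, T (T y) = y := by
    intro y
    rw [hTdef, Matrix.toLin'_apply, Matrix.toLin'_apply, Matrix.mulVec_mulVec, hMM,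
      Matrix.one_mulVec]
  have hc := helper77_invol_compl h2 T hTT
  -- orthogonality of the eigenspaces
  have horth : ∀ a ∈ LinearMap.ker (T - 1), ∀ b ∈ LinearMap.ker (T + 1),
      QuadraticMap.polar Q a b = 0 := by
    intro a ha b hb
    rw [LinearMap.mem_ker, LinearMap.sub_apply, Module.End.one_apply, sub_eq_zero] at ha
    rw [LinearMap.mem_ker, LinearMap.add_apply, Module.End.one_apply] at hb
    have h := sr_iso_polar Q T hTiso a b
    rw [ha, eq_neg_of_add_eq_zero_left hb, QuadraticMap.polar_neg_right] at h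
    have h3 : (2 : F) * QuadraticMap.polar Q a b = 0 := by linear_combination -h
    exact (mul_eq_zero.mp h3).resolve_left h2
  have hsup : ∀ v, v ∈ LinearMap.ker (T - 1) ⊔ LinearMap.ker (T + 1) := by
    intro v
    rw [hc.sup_eq_top]
    exact Submodule.mem_top
  have hsum := sr_nu_sum Q _ _ horth hc.inf_eq_bot
  have hN : Nat.card (Level (⇑Q) 1) =
      vconv (srNu Q (LinearMap.ker (T - 1))) (srNu Q (LinearMap.ker (T + 1))) 1 := by
    rw [helper77_card_level Q _ hsup, hsum]
  have hNp : Nat.card ↥(Function.fixedPoints (permHom (⇑Q) 1 g)) =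
      srNu Q (LinearMap.ker (T - 1)) 1 := by
    rw [hTdef]
    exact helper77_card_fixed Q g
  -- the value distribution of the `(-1)`-eigenspace
  have hU : ∀ c : F, (Fintype.card F : ℤ) * (srNu Q (LinearMap.ker (T + 1)) c : ℤ) =
      (-(Fintype.card F : ℤ) ^ e) ^ 2 + (-(Fintype.card F : ℤ) ^ e) *
        ((if c = 0 then (Fintype.card F : ℤ) else 0) - 1) := by
    intro c
    have h1 := hty c
    have h3 : finrank F (LinearMap.ker (T + 1)) / 2 = e := by omega
    rw [h3, neg_one_mul] at h1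
    exact h1
  have htot : ∑ a : F, srNu Q (LinearMap.ker (T - 1)) a =
      Fintype.card F ^ finrank F (LinearMap.ker (T - 1)) := by
    have : Finite (ι → F) := Module.finite_of_finite F
    unfold srNu
    rw [helper77_sum_fiber, Module.natCard_eq_pow_finrank (K := F), Nat.card_eq_fintype_card]
  have hcount : (Fintype.card F : ℤ) * (Nat.card (Level (⇑Q) 1) : ℤ) =
      ((-(Fintype.card F : ℤ) ^ e) ^ 2 - (-(Fintype.card F : ℤ) ^ e)) *
        (Fintype.card F : ℤ) ^ finrank F (LinearMap.ker (T - 1)) +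
      (-(Fintype.card F : ℤ) ^ e) * ((Fintype.card F : ℤ) *
        (Nat.card ↥(Function.fixedPoints (permHom (⇑Q) 1 g)) : ℤ)) := by
    rw [hN, hNp]
    unfold vconv
    push_cast
    rw [Finset.mul_sum]
    have hterm : ∀ a : F, (Fintype.card F : ℤ) * ((srNu Q (LinearMap.ker (T - 1)) a : ℤ) *
        (srNu Q (LinearMap.ker (T + 1)) (1 - a) : ℤ)) =
        ((-(Fintype.card F : ℤ) ^ e) ^ 2 - (-(Fintype.card F : ℤ) ^ e)) *
          (srNu Q (LinearMap.ker (T - 1)) a : ℤ) +
        (-(Fintype.card F : ℤ) ^ e) * (Fintype.card F : ℤ) *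
          (if a = 1 then (srNu Q (LinearMap.ker (T - 1)) a : ℤ) else 0) := by
      intro a
      have h1 := hU (1 - a)
      have h3 : (Fintype.card F : ℤ) * ((srNu Q (LinearMap.ker (T - 1)) a : ℤ) *
          (srNu Q (LinearMap.ker (T + 1)) (1 - a) : ℤ)) =
          (srNu Q (LinearMap.ker (T - 1)) a : ℤ) *
            ((Fintype.card F : ℤ) * (srNu Q (LinearMap.ker (T + 1)) (1 - a) : ℤ)) := by ring
      rw [h3, h1]
      by_cases ha : a = 1
      · subst ha
        simp only [sub_self, if_true]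
        ring
      · have ha' : ¬ (1 - a = 0) := fun h => ha (sub_eq_zero.mp h).symm
        simp only [ha, ha', if_false]
        ring
    rw [Finset.sum_congr rfl (fun a _ => hterm a), Finset.sum_add_distrib, ← Finset.mul_sum,
      ← Finset.mul_sum, Finset.sum_ite_eq' Finset.univ (1 : F), if_pos (Finset.mem_univ _)]
    have htot' : ∑ a : F, (srNu Q (LinearMap.ker (T - 1)) a : ℤ) =
        (Fintype.card F : ℤ) ^ finrank F (LinearMap.ker (T - 1)) := by
      exact_mod_cast htot
    rw [htot']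
    ring
  -- the sign of the induced permutation
  have hσ2 : (permHom (⇑Q) 1 g) ^ 2 = 1 := by
    rw [← map_pow, pow_two, hg2, map_one]
  have hs := Equiv.Perm.sign_of_pow_two_eq_one hσ2
  have hsp : spinorSign (⇑Q) g = Equiv.Perm.sign (permHom (⇑Q) 1 g) := rfl
  rw [hsp, hs, ← Nat.card_eq_fintype_card, ← Nat.card_eq_fintype_card] at hsign
  have hle : Nat.card ↥(Function.fixedPoints (permHom (⇑Q) 1 g)) ≤ Nat.card (Level (⇑Q) 1) :=
    Nat.card_le_card_of_injective Subtype.val Subtype.val_injective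
  have hodd' := helper77_arith (Fintype.card F) e (finrank F (LinearMap.ker (T - 1)))
    (Nat.card (Level (⇑Q) 1)) (Nat.card ↥(Function.fixedPoints (permHom (⇑Q) 1 g)))
    (-(Fintype.card F : ℤ) ^ e) rfl h4 ha1
    (by rw [hNp]; exact helper77_even_nu h2 Q _) hle hcount
  rw [hodd'.neg_one_pow] at hsign
  exact absurd hsign (by decide)

/-- The core of R2SA for a general quadratic form of plus type on `ι → F`. -/
theorem helper77_inv_suff_core {F : Type u} [Field F] [Fintype F] {ι : Type} [Fintype ι]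
    [DecidableEq ι] (h2 : (2 : F) ≠ 0)
    (Q : QuadraticForm F (ι → F)) (hQ : (QuadraticMap.polarBilin Q).Nondegenerate)
    (hnd : ∀ v, (∀ w, QuadraticMap.polar Q v w = 0) → v = 0)
    (d : ℕ) (hdimV : finrank F (ι → F) = 2 * d) (htop : SrTy Q ⊤ 1)
    (g : ↥(Cfsg.isometryGroup F ⇑Q)) (hgΩ : g ∈ Cfsg.Omega F ⇑Q) (hg2 : g * g = 1)
    (m : ℕ) (hcond : (Fintype.card F % 4 = 1 ∧ m ≤ d) ∨ m + 2 ≤ d) :
    ∃ W : Submodule F (ι → F), finrank F W = m ∧ (∀ w ∈ W, Q w = 0) ∧
      W.map (Matrix.toLin' ((g : GL ι F) : Matrix ι ι F)) ≤ W := by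
  classical
  obtain ⟨hdet, -⟩ := (mem_Omega_iff_det_spinor h2 Q hQ g).mp hgΩ
  obtain ⟨T, hTdef⟩ : ∃ T : Module.End F (ι → F),
      T = Matrix.toLin' ((g : GL ι F) : Matrix ι ι F) := ⟨_, rfl⟩
  rw [← hTdef]
  have hTiso : ∀ y, Q (T y) = Q y := by
    intro y
    rw [hTdef, Matrix.toLin'_apply]
    exact isometry_apply (⇑Q) g y
  have hMM : ((g : GL ι F) : Matrix ι ι F) * ((g : GL ι F) : Matrix ι ι F) = 1 := by
    have h1 := congrArg (fun z : ↥(Cfsg.isometryGroup F ⇑Q) => ((z : GL ι F) : Matrix ι ι F)) hg2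
    exact h1
  have hTT : ∀ y, T (T y) = y := by
    intro y
    rw [hTdef, Matrix.toLin'_apply, Matrix.toLin'_apply, Matrix.mulVec_mulVec, hMM,
      Matrix.one_mulVec]
  have hTsq : T ^ 2 = 1 := by
    apply LinearMap.ext
    intro y
    rw [pow_two, Module.End.mul_apply, hTT, Module.End.one_apply]
  have hnegiso : ∀ y, Q ((-T) y) = Q y := by
    intro y
    rw [LinearMap.neg_apply, QuadraticMap.map_neg, hTiso]
  have hnegsq : (-T) ^ 2 = 1 := by
    apply LinearMap.ext
    intro y
    rw [pow_two, Module.End.mul_apply, LinearMap.neg_apply, LinearMap.neg_apply, map_neg,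
      neg_neg, hTT, Module.End.one_apply]
  have h2' : ((2 : ℕ) : F) ≠ 0 := by exact_mod_cast h2
  have hKp : SpNd (QuadraticMap.polarBilin Q) (LinearMap.ker (T - 1)) :=
    sr_K_nd Q hnd T hTiso 2 hTsq h2'
  have hKm : SpNd (QuadraticMap.polarBilin Q) (LinearMap.ker (T + 1)) := by
    have h1 : SpNd (QuadraticMap.polarBilin Q) (LinearMap.ker (-T - 1)) :=
      sr_K_nd Q hnd (-T) hnegiso 2 hnegsq h2'
    have h3 : -T - 1 = -(T + 1) := by abel
    rw [h3, LinearMap.ker_neg] at h1
    exact h1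
  have hc := helper77_invol_compl h2 T hTT
  have hdetT : LinearMap.det T = 1 := by
    rw [hTdef, LinearMap.det_toLin']
    have h1 := congrArg Units.val hdet
    rw [detHom, MonoidHom.comp_apply, Matrix.GeneralLinearGroup.val_det_apply] at h1
    simpa using h1
  have heven : Even (finrank F (LinearMap.ker (T + 1))) := by
    have h := helper77_det_invol h2 T hTT
    rw [hdetT] at h
    by_contra hne
    rw [Nat.not_even_iff_odd] at hne
    rw [hne.neg_one_pow] at h
    apply h2
    linear_combination h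
  obtain ⟨e, he⟩ := heven
  have hdimm : finrank F (LinearMap.ker (T + 1)) = 2 * e := by omega
  have hcdim := Submodule.finrank_add_eq_of_isCompl hc
  rw [hdimV, hdimm] at hcdim
  obtain ⟨a, hae⟩ : ∃ a, d = a + e := ⟨d - e, by omega⟩
  have hdimp : finrank F (LinearMap.ker (T - 1)) = 2 * a := by omega
  have horth : ∀ u ∈ LinearMap.ker (T - 1), ∀ v ∈ LinearMap.ker (T + 1),
      QuadraticMap.polar Q u v = 0 := by
    intro u hu v hv
    rw [LinearMap.mem_ker, LinearMap.sub_apply, Module.End.one_apply, sub_eq_zero] at hu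
    rw [LinearMap.mem_ker, LinearMap.add_apply, Module.End.one_apply] at hv
    have h := sr_iso_polar Q T hTiso u v
    rw [hu, eq_neg_of_add_eq_zero_left hv, QuadraticMap.polar_neg_right] at h
    have h3 : (2 : F) * QuadraticMap.polar Q u v = 0 := by linear_combination -h
    exact (mul_eq_zero.mp h3).resolve_left h2
  -- totally singular subspaces of the eigenspaces
  have hclaim : ∃ Ap Am : Submodule F (ι → F), Ap ≤ LinearMap.ker (T - 1) ∧
      Am ≤ LinearMap.ker (T + 1) ∧ (∀ u ∈ Ap, Q u = 0) ∧ (∀ u ∈ Am, Q u = 0) ∧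
      m ≤ finrank F Ap + finrank F Am := by
    rcases hcond with ⟨h4, hmd⟩ | hmd
    · -- both eigenspaces are of plus type
      have htym : SrTy Q (LinearMap.ker (T + 1)) 1 := by
        rcases Nat.eq_zero_or_pos a with ha0 | ha0
        · have h1 : LinearMap.ker (T - 1) = ⊥ := by
            apply Submodule.finrank_eq_zero.mp
            rw [hdimp, ha0]
          have h3 : LinearMap.ker (T + 1) = ⊤ := by
            have := hc.sup_eq_top
            rwa [h1, bot_sup_eq] at this
          rw [h3]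
          exact htop
        · rcases sr_ty_or Q (LinearMap.ker (T + 1)) hKm e hdimm with hty | hty
          · exact hty
          · exact (helper77_minus_ty_false h2 h4 Q hQ g hgΩ hg2 T hTdef (by omega) e hdimm
              hty).elim
      have htyp : SrTy Q (LinearMap.ker (T - 1)) 1 := by
        rcases sr_ty_or Q (LinearMap.ker (T - 1)) hKp a hdimp with hty | hty
        · exact hty
        · exfalso
          have h1 := sr_ty_sum Q _ _ horth hc.inf_eq_bot (-1) 1 hty htym ⟨a, by omega⟩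
            ⟨e, by omega⟩
          rw [hc.sup_eq_top] at h1
          have h3 := Unif.unique htop h1
          have h5 : (-1 : ℤ) * 1 = -1 := by norm_num
          rw [h5, neg_one_mul] at h3
          exact sr_pow_ne (F := F) _ h3
      obtain ⟨Ap, hAp, hApQ, hApd⟩ := sr_ty_plus Q _ hKp ⟨a, by omega⟩ htyp
      obtain ⟨Am, hAm, hAmQ, hAmd⟩ := sr_ty_plus Q _ hKm ⟨e, by omega⟩ htym
      exact ⟨Ap, Am, hAp, hAm, hApQ, hAmQ, by omega⟩
    · have hsub : ∀ (K : Submodule F (ι → F)) (k : ℕ),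
          SpNd (QuadraticMap.polarBilin Q) K → finrank F K = 2 * k →
          ∃ A : Submodule F (ι → F), A ≤ K ∧ (∀ u ∈ A, Q u = 0) ∧ k ≤ finrank F A + 1 := by
        intro K k hK hk
        rcases Nat.eq_zero_or_pos k with hk0 | hk0
        · refine ⟨⊥, bot_le, ?_, by omega⟩
          intro u hu
          rw [(Submodule.mem_bot F).mp hu, QuadraticMap.map_zero]
        · obtain ⟨A, hAK, hAd, hAQ⟩ := sts_witt Q h2 K hK (k - 1) (by omega)
          exact ⟨A, hAK, hAQ, by omega⟩
      obtain ⟨Ap, hAp, hApQ, hApd⟩ := hsub _ a hKp hdimp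
      obtain ⟨Am, hAm, hAmQ, hAmd⟩ := hsub _ e hKm hdimm
      exact ⟨Ap, Am, hAp, hAm, hApQ, hAmQ, by omega⟩
  obtain ⟨Ap, Am, hAp, hAm, hApQ, hAmQ, hsumdim⟩ := hclaim
  obtain ⟨Bp, hBp, hBpd⟩ := helper77_exists_sub_finrank Ap (min m (finrank F Ap))
    (min_le_right _ _)
  obtain ⟨Bm, hBm, hBmd⟩ := helper77_exists_sub_finrank Am (m - min m (finrank F Ap)) (by omega)
  have hBpK : Bp ≤ LinearMap.ker (T - 1) := hBp.trans hAp
  have hBmK : Bm ≤ LinearMap.ker (T + 1) := hBm.trans hAm
  refine ⟨Bp ⊔ Bm, ?_, ?_, ?_⟩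
  · have h1 := Submodule.finrank_sup_add_finrank_inf_eq Bp Bm
    have h3 : Bp ⊓ Bm = ⊥ := by
      apply le_bot_iff.mp
      rw [← hc.inf_eq_bot]
      exact inf_le_inf hBpK hBmK
    rw [h3, finrank_bot, add_zero] at h1
    omega
  · intro w hw
    obtain ⟨u, hu, v, hv, rfl⟩ := Submodule.mem_sup.mp hw
    have h1 : Q (u + v) = Q u + Q v + QuadraticMap.polar Q u v := by
      unfold QuadraticMap.polar
      ring
    rw [h1, hApQ u (hBp hu), hAmQ v (hBm hv), horth u (hBpK hu) v (hBmK hv)]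
    ring
  · rintro _ ⟨w, hw, rfl⟩
    obtain ⟨u, hu, v, hv, rfl⟩ := Submodule.mem_sup.mp hw
    have hu' := hBpK hu
    have hv' := hBmK hv
    rw [LinearMap.mem_ker, LinearMap.sub_apply, Module.End.one_apply, sub_eq_zero] at hu'
    rw [LinearMap.mem_ker, LinearMap.add_apply, Module.End.one_apply] at hv'
    rw [map_add, hu', eq_neg_of_add_eq_zero_left hv']
    exact Submodule.add_mem _ (Submodule.mem_sup_left hu)
      (Submodule.mem_sup_right (Bm.neg_mem hv))

end Cfsg.Agent.Lib.helper77.StpA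

namespace Cfsg.Agent.Lib.helper24

open Module Cfsg.Agent.Lib.helper45 Cfsg.Agent.Lib.helper49 Cfsg.Agent.Lib.helper77.StsB
  Cfsg.Agent.Lib.helper77.StsC Cfsg.Agent.Lib.helper77.StpA

universe u

section stpplus

variable {F : Type u} [Field F] [Fintype F]

/-- `q` odd: an involution `x` of `Ω⁺_{2d}(q)` (or `x = 1`) fixes a totally singular `m`-space if
`q ≡ 1 (mod 4)` or `m ≤ d - 2`. -/
theorem stp_inv_suff (hodd : Odd (Fintype.card F)) (d m : ℕ) (hd : 4 ≤ d) (hm : 1 ≤ m)
    (hmd : m < d) (hcond : Fintype.card F % 4 = 1 ∨ m + 2 ≤ d)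
    (x : GL (Fin d ⊕ Fin d) F) (hx : x ∈ Cfsg.Geo.omegaGL (Cfsg.quadFormPlus d F))
    (hx2 : x * x = 1) :
    ∃ W : Submodule F (Fin d ⊕ Fin d → F), finrank F W = m ∧
      (∀ w ∈ W, Cfsg.quadFormPlus d F w = 0) ∧
      W.map (Matrix.toLin' (x : Matrix (Fin d ⊕ Fin d) (Fin d ⊕ Fin d) F)) ≤ W := by
  classical
  have h2 : (2 : F) ≠ 0 := helper77_two_ne_zero hodd
  have hQ : (QuadraticMap.polarBilin (plusForm d F)).Nondegenerate := nondegenerate_plusForm
  have hnd : ∀ v, (∀ w, QuadraticMap.polar (plusForm d F) v w = 0) → v = 0 :=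
    forall_of_nondegenerate _ hQ
  have hdimV : finrank F (Fin d ⊕ Fin d → F) = 2 * d := by
    rw [Module.finrank_fintype_fun_eq_card, Fintype.card_sum, Fintype.card_fin]
    omega
  have htop : SrTy (plusForm d F) ⊤ 1 := by
    unfold SrTy
    have h1 : finrank F (⊤ : Submodule F (Fin d ⊕ Fin d → F)) / 2 = d := by
      rw [finrank_top, hdimV]
      omega
    rw [h1, one_mul, sro_nu_top]
    exact unif_plus_std d
  obtain ⟨g, hgΩ, hgx⟩ := Subgroup.mem_map.mp hx
  subst hgx
  have hg2 : g * g = 1 := by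
    apply Subtype.ext
    exact hx2
  exact helper77_inv_suff_core h2 (plusForm d F) hQ hnd d hdimV htop g hgΩ hg2 m
    (by
      rcases hcond with h | h
      · exact Or.inl ⟨h, by omega⟩
      · exact Or.inr h)

end stpplus

end Cfsg.Agent.Lib.helper24
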