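import Mathlib
import Cfsg.Agent.Lib.helper62.ElemAbGL

set_option autoImplicit false

namespace Cfsg.Agent.Lib.helper77.Hup

/-- Hand-off H3 for S3360: if `N / M` is elementary abelian of order `r ^ k` and `N` is the
full centralizer of `N / M` in `G`, then `|G : N|` divides `|GL_k(r)|`. -/
theorem index_dvd_card_GL {G : Type*} [Group G] [Finite G] (r k : ℕ) [Fact r.Prime]
    (M N : Subgroup G) (hMn : M.Normal) (hNn : N.Normal) (hMN : M ≤ N)
    (hcomm : ∀ g ∈ N, ∀ h ∈ N, g * h * g⁻¹ * h⁻¹ ∈ M)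
    (hexp : ∀ g ∈ N, g ^ r ∈ M)
    (hcard : Nat.card N = Nat.card M * r ^ k)
    (hinner : ∀ g : G, (∀ h ∈ N, g * h * g⁻¹ * h⁻¹ ∈ M) → g ∈ N) :
    N.index ∣ Nat.card (GL (Fin k) (ZMod r)) := by
  classical
  have hMn' : M.Normal := hMn
  have hNn' : N.Normal := hNn
  set π := QuotientGroup.mk' M with hπ
  have hπsurj : Function.Surjective π := QuotientGroup.mk'_surjective M
  have hπ1 : ∀ g : G, π g = 1 ↔ g ∈ M := fun g => QuotientGroup.eq_one_iff g
  set A : Subgroup (G ⧸ M) := N.map π with hA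
  have hAn : A.Normal := Subgroup.Normal.map hNn π hπsurj
  have hcomm' : ∀ g h : G, (π g * π h = π h * π g ↔ g * h * g⁻¹ * h⁻¹ ∈ M) := by
    intro g h
    rw [← hπ1, map_mul, map_mul, map_mul, map_inv, map_inv]
    constructor
    · intro e
      rw [e]; group
    · intro e
      have : π g * π h = (π g * π h * (π g)⁻¹ * (π h)⁻¹) * (π h * π g) := by group
      rw [this, e, one_mul]
  have hAcomm : IsMulCommutative A := by
    refine ⟨⟨?_⟩⟩
    rintro ⟨a, ha⟩ ⟨b, hb⟩
    obtain ⟨g, hg, rfl⟩ := ha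
    obtain ⟨h, hh, rfl⟩ := hb
    apply Subtype.ext
    change π g * π h = π h * π g
    exact (hcomm' g h).mpr (hcomm g hg h hh)
  have hAexp : ∀ x ∈ A, x ^ r = 1 := by
    rintro _ ⟨g, hg, rfl⟩
    rw [← map_pow]
    exact (hπ1 _).mpr (hexp g hg)
  have hAcard : Nat.card A = r ^ k := by
    have h1 : A.index = N.index := by
      rw [hA, Subgroup.index_map, QuotientGroup.ker_mk', sup_eq_left.mpr hMN,
        MonoidHom.range_eq_top.mpr hπsurj, Subgroup.index_top, mul_one]
    have h2 : Nat.card A * A.index = Nat.card (G ⧸ M) := Subgroup.card_mul_index A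
    have h3 : Nat.card N * N.index = Nat.card G := Subgroup.card_mul_index N
    have h4 : Nat.card M * M.index = Nat.card G := Subgroup.card_mul_index M
    have h5 : Nat.card (G ⧸ M) = M.index := rfl
    have hNpos : 0 < N.index := Nat.pos_of_ne_zero Subgroup.index_ne_zero_of_finite
    have hMpos : 0 < Nat.card M := Nat.card_pos
    have h6 : Nat.card M * Nat.card A * N.index = Nat.card M * r ^ k * N.index := by
      rw [← hcard, h3, mul_assoc, ← h1, h2, h5, h4]
    have h7 := Nat.eq_of_mul_eq_mul_right hNpos h6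
    exact Nat.eq_of_mul_eq_mul_left hMpos h7
  obtain ⟨φ, hφ⟩ := Cfsg.Agent.Lib.helper62.exists_hom_GL_ker_centralizer A r k hAexp hAcard
  have hker : (φ.comp π).ker = N := by
    ext g
    rw [MonoidHom.mem_ker, MonoidHom.comp_apply, ← MonoidHom.mem_ker, hφ,
      Subgroup.mem_centralizer_iff]
    constructor
    · intro h
      apply hinner
      intro x hx
      exact (hcomm' g x).mp (h (π x) ⟨x, hx, rfl⟩).symm
    · intro hg a ha
      obtain ⟨x, hx, rfl⟩ := ha
      exact ((hcomm' g x).mpr (hcomm g hg x hx)).symm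
  rw [← hker, Subgroup.index_ker]
  exact Subgroup.card_subgroup_dvd_card _

end Cfsg.Agent.Lib.helper77.Hup
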