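import Mathlib
import Cfsg.Agent.Lib.helper44.PresDefs

/-! S2286 piece MATa: relations between the matrices `mU`, `mT`, `mH` in `SL₂(F)`. -/

set_option autoImplicit false

namespace Cfsg.Agent.Lib.helper77.PresMATa

open Polynomial Cfsg.Agent.Lib.helper44.Pres

theorem helper77_mU_val {F : Type*} [Field F] (a : F) :
    (mU F a : Matrix (Fin 2) (Fin 2) F) = !![1, a; 0, 1] := rfl

theorem helper77_mT_val {F : Type*} [Field F] :
    (mT F : Matrix (Fin 2) (Fin 2) F) = !![0, 1; -1, 0] := rfl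

theorem helper77_mH_val {F : Type*} [Field F] (z : Fˣ) :
    (mH z : Matrix (Fin 2) (Fin 2) F) = !![(z : F), 0; 0, ((z⁻¹ : Fˣ) : F)] := rfl

theorem helper77_mT_inv_val {F : Type*} [Field F] :
    (((mT F)⁻¹ : Matrix.SpecialLinearGroup (Fin 2) F) : Matrix (Fin 2) (Fin 2) F) = !![0, -1; 1, 0] := by
  rw [Matrix.SpecialLinearGroup.coe_inv, helper77_mT_val, Matrix.adjugate_fin_two_of]
  simp

theorem helper77_mH_inv_val {F : Type*} [Field F] (z : Fˣ) :
    (((mH z)⁻¹ : Matrix.SpecialLinearGroup (Fin 2) F) : Matrix (Fin 2) (Fin 2) F) =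
      !![((z⁻¹ : Fˣ) : F), 0; 0, (z : F)] := by
  rw [Matrix.SpecialLinearGroup.coe_inv, helper77_mH_val, Matrix.adjugate_fin_two_of]
  simp

theorem helper77_mH_mul {F : Type*} [Field F] (z w : Fˣ) : mH z * mH w = mH (z * w) := by
  apply Subtype.ext
  rw [Matrix.SpecialLinearGroup.coe_mul, helper77_mH_val, helper77_mH_val, helper77_mH_val]
  rw [Matrix.mul_fin_two]
  simp [mul_comm]

theorem helper77_mH_one {F : Type*} [Field F] : mH (1 : Fˣ) = (1 : Matrix.SpecialLinearGroup (Fin 2) F) := by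
  apply Subtype.ext
  rw [helper77_mH_val]
  simp [Matrix.one_fin_two]

theorem helper77_mH_pow {F : Type*} [Field F] (z : Fˣ) (k : ℕ) : mH z ^ k = mH (z ^ k) := by
  induction k with
  | zero => simp [helper77_mH_one]
  | succ k ih => rw [pow_succ, ih, helper77_mH_mul, pow_succ]

theorem helper77_mH_conj {F : Type*} [Field F] (z : Fˣ) (a : F) :
    mH z * mU F a * (mH z)⁻¹ = mU F ((z : F) ^ 2 * a) := by
  apply Subtype.ext
  rw [Matrix.SpecialLinearGroup.coe_mul, Matrix.SpecialLinearGroup.coe_mul, helper77_mH_inv_val,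
    helper77_mH_val, helper77_mU_val, helper77_mU_val, Matrix.mul_fin_two, Matrix.mul_fin_two]
  have h1 : (z : F) * ((z⁻¹ : Fˣ) : F) = 1 := by
    rw [← Units.val_mul, mul_inv_cancel, Units.val_one]
  have h2 : ((z⁻¹ : Fˣ) : F) * (z : F) = 1 := by rw [mul_comm, h1]
  simp only [mul_zero, add_zero, zero_add, mul_one, zero_mul, h1, h2]
  have h3 : (z : F) * a * (z : F) = (z : F) ^ 2 * a := by ring
  rw [h3]

end Cfsg.Agent.Lib.helper77.PresMATa

namespace Cfsg.Agent.Lib.helper44.Pres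

open Polynomial Cfsg.Agent.Lib.helper77.PresMATa

-- MAT
theorem mU_mul {F : Type*} [Field F] (a b : F) : mU F a * mU F b = mU F (a + b) := by
  apply Subtype.ext
  rw [Matrix.SpecialLinearGroup.coe_mul, helper77_mU_val, helper77_mU_val, helper77_mU_val,
    Matrix.mul_fin_two]
  simp [add_comm]

-- MAT
theorem mU_pow {F : Type*} [Field F] (a : F) (k : ℕ) : mU F a ^ k = mU F (k • a) := by
  induction k with
  | zero =>
    apply Subtype.ext
    rw [pow_zero, zero_smul, helper77_mU_val]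
    simp [Matrix.one_fin_two]
  | succ k ih => rw [pow_succ, ih, mU_mul, succ_nsmul]

-- MAT
theorem mH_pow_conj {F : Type*} [Field F] (ζ : Fˣ) (k : ℕ) (a : F) :
    mH ζ ^ k * mU F a * (mH ζ ^ k)⁻¹ = mU F (((ζ : F) ^ 2) ^ k * a) := by
  rw [helper77_mH_pow, helper77_mH_conj, Units.val_pow_eq_pow_val, ← pow_mul, ← pow_mul, mul_comm k 2]

-- MAT
theorem polyWord_mU {F : Type*} [Field F] {p : ℕ} [Fact p.Prime] [Algebra (ZMod p) F] (ζ : Fˣ)
    (i : ℕ) (f : (ZMod p)[X]) :
    polyWord (mH ζ ^ i) (mU F 1) f = mU F (aeval (((ζ : F) ^ 2) ^ i) f) := by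
  have hp : NeZero p := ⟨(Fact.out : p.Prime).ne_zero⟩
  have key : ∀ N : ℕ, ((List.range N).map fun n =>
      ((mH ζ ^ i) ^ n * mU F 1 * ((mH ζ ^ i) ^ n)⁻¹) ^ (f.coeff n).val).prod =
      mU F (∑ n ∈ Finset.range N, algebraMap (ZMod p) F (f.coeff n) * (((ζ : F) ^ 2) ^ i) ^ n) := by
    intro N
    induction N with
    | zero =>
      apply Subtype.ext
      simp [helper77_mU_val, Matrix.one_fin_two]
    | succ N ih =>
      rw [List.range_succ, List.map_append, List.prod_append, ih, Finset.sum_range_succ]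
      simp only [List.map_cons, List.map_nil, List.prod_cons, List.prod_nil, mul_one]
      have hconj : (mH ζ ^ i) ^ N * mU F 1 * ((mH ζ ^ i) ^ N)⁻¹ =
          mU F ((((ζ : F) ^ 2) ^ i) ^ N) := by
        rw [← pow_mul, mH_pow_conj, mul_one, pow_mul]
      rw [hconj, mU_pow, mU_mul]
      congr 2
      have h1 : algebraMap (ZMod p) F (f.coeff N) = ((f.coeff N).val : F) := by
        conv_lhs => rw [← ZMod.natCast_zmod_val (f.coeff N)]
        rw [map_natCast]
      rw [h1, nsmul_eq_mul]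
  unfold polyWord
  rw [key, aeval_eq_sum_range]
  congr 1
  apply Finset.sum_congr rfl
  intro n _
  rw [Algebra.smul_def]

-- MAT
theorem mT_mH {F : Type*} [Field F] (ζ : Fˣ) : mT F * mH ζ * (mT F)⁻¹ = (mH ζ)⁻¹ := by
  apply Subtype.ext
  rw [Matrix.SpecialLinearGroup.coe_mul, Matrix.SpecialLinearGroup.coe_mul, helper77_mH_inv_val,
    helper77_mT_inv_val, helper77_mH_val, helper77_mT_val, Matrix.mul_fin_two, Matrix.mul_fin_two]
  simp

-- MAT
theorem mat_rel6 {F : Type*} [Field F] : mU F 1 * mT F * mU F 1 * (mT F)⁻¹ * mU F 1 = mT F := by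
  apply Subtype.ext
  rw [Matrix.SpecialLinearGroup.coe_mul, Matrix.SpecialLinearGroup.coe_mul,
    Matrix.SpecialLinearGroup.coe_mul, Matrix.SpecialLinearGroup.coe_mul,
    helper77_mT_inv_val, helper77_mU_val, helper77_mT_val, Matrix.mul_fin_two, Matrix.mul_fin_two,
    Matrix.mul_fin_two, Matrix.mul_fin_two]
  simp

-- MAT
theorem mat_rel7 {F : Type*} [Field F] (ζ : Fˣ) :
    mU F (ζ : F) * mT F * mU F ((ζ⁻¹ : Fˣ) : F) * (mT F)⁻¹ * mU F (ζ : F) = mH ζ * mT F := by
  apply Subtype.ext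
  rw [Matrix.SpecialLinearGroup.coe_mul, Matrix.SpecialLinearGroup.coe_mul,
    Matrix.SpecialLinearGroup.coe_mul, Matrix.SpecialLinearGroup.coe_mul,
    Matrix.SpecialLinearGroup.coe_mul,
    helper77_mT_inv_val, helper77_mU_val, helper77_mU_val, helper77_mT_val, helper77_mH_val,
    Matrix.mul_fin_two, Matrix.mul_fin_two, Matrix.mul_fin_two, Matrix.mul_fin_two,
    Matrix.mul_fin_two]
  have h1 : (ζ : F) * ((ζ⁻¹ : Fˣ) : F) = 1 := by
    rw [← Units.val_mul, mul_inv_cancel, Units.val_one]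
  simp

end Cfsg.Agent.Lib.helper44.Pres
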