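import Mathlib
import Cfsg.Agent.Lib.helper44.PresDefs
import Cfsg.Agent.Lib.helper44.Circle
import Cfsg.Agent.Lib.helper77.PresMATa

/-! S2286 piece MATb: `mT² = mH^((q-1)/2)`, centrality of `mT²`, `mH^(q-1) = 1`, `|PSL₂(q)|`. -/

set_option autoImplicit false

namespace Cfsg.Agent.Lib.helper77.PresMATb

open Polynomial Cfsg.Agent.Lib.helper44.Pres Cfsg.Agent.Lib.helper77.PresMATa

theorem helper77_mT_sq_val {F : Type*} [Field F] :
    ((mT F * mT F : Matrix.SpecialLinearGroup (Fin 2) F) : Matrix (Fin 2) (Fin 2) F) =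
      !![-1, 0; 0, -1] := by
  rw [Matrix.SpecialLinearGroup.coe_mul, helper77_mT_val, Matrix.mul_fin_two]
  simp

theorem helper77_gen_pow_half {F : Type*} [Field F] [Fintype F] (hodd : Odd (Fintype.card F))
    (ζ : Fˣ) (hζ : ∀ y : Fˣ, y ∈ Subgroup.zpowers ζ) :
    ζ ^ ((Fintype.card F - 1) / 2) = -1 := by
  classical
  obtain ⟨m, hm⟩ := hodd
  have hq2 : 2 ≤ Fintype.card F := Fintype.one_lt_card
  have hM : (Fintype.card F - 1) / 2 = m := by omega
  have hm1 : 1 ≤ m := by omega
  rw [hM]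
  have hord : orderOf ζ = Fintype.card F - 1 := by
    rw [orderOf_eq_card_of_forall_mem_zpowers hζ, Nat.card_eq_fintype_card, Fintype.card_units]
  have hsq : (ζ ^ m) * (ζ ^ m) = 1 := by
    rw [← pow_add]
    have : m + m = orderOf ζ := by omega
    rw [this, pow_orderOf_eq_one]
  have hne : ζ ^ m ≠ 1 := by
    intro h1
    have hdvd := orderOf_dvd_of_pow_eq_one h1
    have := Nat.le_of_dvd (by omega) hdvd
    omega
  have h2 : ((ζ ^ m : Fˣ) : F) * ((ζ ^ m : Fˣ) : F) = 1 := by
    rw [← Units.val_mul, hsq, Units.val_one]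
  rcases mul_self_eq_one_iff.mp h2 with h3 | h3
  · exact absurd (Units.ext (by rw [h3, Units.val_one])) hne
  · exact Units.ext (by rw [h3, Units.val_neg, Units.val_one])

theorem helper77_card_center_le {F : Type*} [Field F] :
    Nat.card (Subgroup.center (Matrix.SpecialLinearGroup (Fin 2) F)) ≤ 2 := by
  have e := Matrix.SpecialLinearGroup.center_equiv_rootsOfUnity (n := Fin 2) (R := F)
  rw [Nat.card_congr e.toEquiv]
  have h2 : max (Fintype.card (Fin 2)) 1 = 2 := by simp
  rw [h2]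
  exact card_rootsOfUnity F 2

end Cfsg.Agent.Lib.helper77.PresMATb

namespace Cfsg.Agent.Lib.helper44.Pres

open Polynomial Cfsg.Agent.Lib.helper77.PresMATa Cfsg.Agent.Lib.helper77.PresMATb

-- MAT
theorem mT_sq_eq {F : Type*} [Field F] [Fintype F] (hodd : Odd (Fintype.card F)) (ζ : Fˣ)
    (hζ : ∀ y : Fˣ, y ∈ Subgroup.zpowers ζ) :
    mT F * mT F = mH ζ ^ ((Fintype.card F - 1) / 2) := by
  rw [helper77_mH_pow, helper77_gen_pow_half hodd ζ hζ]
  apply Subtype.ext
  rw [helper77_mT_sq_val, helper77_mH_val]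
  simp

-- MAT
theorem mT_sq_mem_center {F : Type*} [Field F] :
    mT F * mT F ∈ Subgroup.center (Matrix.SpecialLinearGroup (Fin 2) F) := by
  rw [Matrix.SpecialLinearGroup.mem_center_iff]
  refine ⟨-1, by simp, ?_⟩
  rw [helper77_mT_sq_val]
  ext i j
  fin_cases i <;> fin_cases j <;> simp

-- MAT
theorem mH_pow_card {F : Type*} [Field F] [Fintype F] (ζ : Fˣ) :
    mH ζ ^ (Fintype.card F - 1) = 1 := by
  have h1 : ζ ^ (Fintype.card F - 1) = 1 := by
    apply Units.ext
    rw [Units.val_pow_eq_pow_val, Units.val_one]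
    exact FiniteField.pow_card_sub_one_eq_one _ (Units.ne_zero ζ)
  rw [helper77_mH_pow, h1, helper77_mH_one]

-- MAT
theorem card_psl_ge {F : Type*} [Field F] [Fintype F] (hodd : Odd (Fintype.card F)) :
    (Fintype.card F - 1) / 2 * Fintype.card F * (Fintype.card F + 1) ≤
      Nat.card (Matrix.ProjectiveSpecialLinearGroup (Fin 2) F) := by
  have h1 := Cfsg.Agent.Lib.helper44.card_SL2 (K := F)
  have h2 := Subgroup.card_eq_card_quotient_mul_card_subgroup
    (Subgroup.center (Matrix.SpecialLinearGroup (Fin 2) F))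
  have h3 := helper77_card_center_le (F := F)
  have h4 : Nat.card (Matrix.ProjectiveSpecialLinearGroup (Fin 2) F) =
      Nat.card (Matrix.SpecialLinearGroup (Fin 2) F ⧸
        Subgroup.center (Matrix.SpecialLinearGroup (Fin 2) F)) := rfl
  rw [h4]
  obtain ⟨m, hm⟩ := hodd
  have hM : (Fintype.card F - 1) / 2 = m := by omega
  have hq1 : Fintype.card F - 1 = 2 * m := by omega
  rw [hM]
  rw [h1, hq1] at h2
  set Q := Nat.card (Matrix.SpecialLinearGroup (Fin 2) F ⧸
        Subgroup.center (Matrix.SpecialLinearGroup (Fin 2) F)) with hQ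
  set c := Nat.card (Subgroup.center (Matrix.SpecialLinearGroup (Fin 2) F)) with hc
  have h5 : Q * c ≤ Q * 2 := Nat.mul_le_mul_left Q h3
  have h6 : 2 * (m * Fintype.card F * (Fintype.card F + 1)) ≤ 2 * Q := by
    calc 2 * (m * Fintype.card F * (Fintype.card F + 1))
        = Fintype.card F * (2 * m) * (Fintype.card F + 1) := by ring
      _ = Q * c := h2
      _ ≤ Q * 2 := h5
      _ = 2 * Q := by ring
  exact Nat.le_of_mul_le_mul_left h6 (by norm_num)

end Cfsg.Agent.Lib.helper44.Pres
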