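import Cfsg.Agent.Lib.helper95.APDefs

/-! S2276 split (architect helper95), piece RED, core: the reduction to a good pair on an
invariant subset, with the PLUMB and RESTRICT pieces taken as hypotheses. -/

set_option autoImplicit false

namespace Cfsg.Agent.Lib.helper95.AP

open Equiv

/-- core of [RED]: `hplumb` is the conclusion of PLUMB, `hrestrict` is RESTRICT for this `U`, `a` -/
theorem helper77_red_core (p : ℕ) {n m : ℕ} (U W : Perm (Fin n)) (a b : Perm (Fin m))
    (hplumb : ∃ (ι : Fin m ↪ Fin n) (g : Perm (Fin n)),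
      (∀ i, U (ι i) = ι (a i)) ∧ (∀ i, (g * W * g⁻¹) (ι i) = ι (b i)))
    (hrestrict : ∀ (W' : Perm (Fin n)) (b' : Perm (Fin m)) (ι : Fin m ↪ Fin n),
      (∀ i, U (ι i) = ι (a i)) → (∀ i, W' (ι i) = ι (b' i)) → Good p a b' → Good p U W')
    (h : GoodBoth p a b) :
    ∃ g : Perm (Fin n), Perm.sign g = 1 ∧ Good p U (g * W * g⁻¹) := by
  obtain ⟨ι, g, hU, hW⟩ := hplumb
  obtain ⟨hgood, τ, hτ, hgood'⟩ := h
  rcases Int.units_eq_one_or (Perm.sign g) with hs | hs
  · exact ⟨g, hs, hrestrict _ b ι hU hW hgood⟩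
  · refine ⟨τ.viaFintypeEmbedding ι * g, ?_, ?_⟩
    · rw [Perm.sign_mul, Equiv.Perm.viaFintypeEmbedding_sign, hτ, hs]
      rfl
    · refine hrestrict _ (τ * b * τ⁻¹) ι hU ?_ hgood'
      intro i
      have hT : ∀ j, τ.viaFintypeEmbedding ι (ι j) = ι (τ j) := fun j =>
        Equiv.Perm.viaFintypeEmbedding_apply_image τ ι j
      have hTinv : (τ.viaFintypeEmbedding ι)⁻¹ (ι i) = ι (τ⁻¹ i) := by
        rw [Perm.inv_eq_iff_eq, hT]
        exact congrArg ι (show i = τ (τ⁻¹ i) from (τ.apply_symm_apply i).symm)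
      have h1 : (τ.viaFintypeEmbedding ι * g * W * (τ.viaFintypeEmbedding ι * g)⁻¹) (ι i) =
          τ.viaFintypeEmbedding ι ((g * W * g⁻¹) ((τ.viaFintypeEmbedding ι)⁻¹ (ι i))) := by
        rw [mul_inv_rev]
        simp only [Perm.mul_apply]
      rw [h1, hTinv, hW, hT]
      simp only [Perm.mul_apply]

end Cfsg.Agent.Lib.helper95.AP
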