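import Cfsg.Agent.Lib.helper95.APDefs
import Cfsg.Agent.Lib.helper58.APPLUMB
import Cfsg.Agent.Lib.helper7.APRESTRICT
import Cfsg.Agent.Lib.helper77.APREDcore

/-! S2276 split (architect helper95), piece RED: the reduction to a good pair on an invariant
subset (from PLUMB and RESTRICT). -/

set_option autoImplicit false

namespace Cfsg.Agent.Lib.helper95.AP

open Equiv

/-- [RED] the reduction; uses PLUMB, RESTRICT -/
theorem red (p : ℕ) (hp : p.Prime) {n m : ℕ} (U W : Perm (Fin n)) (a b : Perm (Fin m))
    (ha : a.cycleType ≤ U.cycleType) (ha' : m - a.support.card ≤ n - U.support.card)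
    (hb : b.cycleType ≤ W.cycleType) (hb' : m - b.support.card ≤ n - W.support.card)
    (h : GoodBoth p a b) :
    ∃ g : Perm (Fin n), Perm.sign g = 1 ∧ Good p U (g * W * g⁻¹) :=
  helper77_red_core p U W a b (plumb U W a b ha ha' hb hb')
    (fun W' b' ι hU hW hg => restrict p hp U W' a b' ι hU hW hg) h

end Cfsg.Agent.Lib.helper95.AP
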