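/-
S2522 (Lev) piece GLUEA: `ru_block` -- a block upper triangular matrix with regular unipotent
diagonal blocks is regular unipotent as soon as the corner sends the fixed vectors of the second
block outside the image of the first block minus one.
-/
import Mathlib
import Cfsg.Agent.Lib.helper51.LevDefs

set_option autoImplicit false

namespace Cfsg.Agent.Lib.helper77.LevA

open Matrix Cfsg.Agent.Lib.helper51.Lev

variable {K : Type*} [Field K]

/-- Rank-nullity for a square matrix. -/
theorem helper77_rank_add_ker {ι : Type} [Fintype ι] [DecidableEq ι] (N : Matrix ι ι K) :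
    N.rank + Module.finrank K (LinearMap.ker N.mulVecLin) = Fintype.card ι := by
  have h := LinearMap.finrank_range_add_finrank_ker N.mulVecLin
  rw [Module.finrank_fintype_fun_eq_card] at h
  exact h

/-- Corank one means that the kernel is a line. -/
theorem helper77_corank_one_iff {ι : Type} [Fintype ι] [DecidableEq ι] (N : Matrix ι ι K) :
    N.rank + 1 = Fintype.card ι ↔
      ∃ v : ι → K, v ≠ 0 ∧ N *ᵥ v = 0 ∧ ∀ w : ι → K, N *ᵥ w = 0 → ∃ c : K, w = c • v := by
  have h := helper77_rank_add_ker N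
  have h1 : N.rank + 1 = Fintype.card ι ↔
      Module.finrank K (LinearMap.ker N.mulVecLin) = 1 := by omega
  rw [h1, finrank_eq_one_iff']
  constructor
  · rintro ⟨⟨v, hv⟩, hv0, hsp⟩
    refine ⟨v, ?_, ?_, ?_⟩
    · intro h0
      apply hv0
      exact Subtype.ext h0
    · simpa using hv
    · intro w hw
      obtain ⟨c, hc⟩ := hsp ⟨w, by simpa using hw⟩
      exact ⟨c, by simpa using (congrArg Subtype.val hc).symm⟩
  · rintro ⟨v, hv0, hv, hsp⟩
    refine ⟨⟨v, by simpa using hv⟩, ?_, ?_⟩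
    · intro h0
      exact hv0 (congrArg Subtype.val h0)
    · rintro ⟨w, hw⟩
      obtain ⟨c, hc⟩ := hsp w (by simpa using hw)
      exact ⟨c, Subtype.ext hc.symm⟩

/-- Powers of a block upper triangular matrix. -/
theorem helper77_fromBlocks_pow {ι κ : Type} [Fintype ι] [DecidableEq ι] [Fintype κ]
    [DecidableEq κ] (N₁ : Matrix ι ι K) (N₂ : Matrix κ κ K) (X : Matrix ι κ K) (k : ℕ) :
    ∃ Y : Matrix ι κ K, (fromBlocks N₁ X 0 N₂) ^ k = fromBlocks (N₁ ^ k) Y 0 (N₂ ^ k) := by
  induction k with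
  | zero => exact ⟨0, by simp [fromBlocks_one]⟩
  | succ k ih =>
    obtain ⟨Y, hY⟩ := ih
    refine ⟨N₁ ^ k * X + Y * N₂, ?_⟩
    rw [pow_succ, hY, fromBlocks_multiply]
    simp [pow_succ]

/-- A block upper triangular matrix with nilpotent diagonal blocks is nilpotent. -/
theorem helper77_fromBlocks_nilpotent {ι κ : Type} [Fintype ι] [DecidableEq ι] [Fintype κ]
    [DecidableEq κ] (N₁ : Matrix ι ι K) (N₂ : Matrix κ κ K) (X : Matrix ι κ K)
    (h₁ : IsNilpotent N₁) (h₂ : IsNilpotent N₂) : IsNilpotent (fromBlocks N₁ X 0 N₂) := by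
  obtain ⟨a, ha⟩ := h₁
  obtain ⟨b, hb⟩ := h₂
  refine ⟨a + b, ?_⟩
  obtain ⟨Y, hY⟩ := helper77_fromBlocks_pow N₁ N₂ X a
  obtain ⟨Y', hY'⟩ := helper77_fromBlocks_pow N₁ N₂ X b
  rw [pow_add, hY, hY', ha, hb, fromBlocks_multiply]
  simp

end Cfsg.Agent.Lib.helper77.LevA

namespace Cfsg.Agent.Lib.helper51.Lev

open Matrix Cfsg.Agent.Lib.helper77.LevA

variable {K : Type*} [Field K]

/-- PIECE GLUEA: a block upper triangular matrix with regular unipotent diagonal blocks is
regular unipotent as soon as the corner sends the fixed vectors of `A₂` outside `im (A₁ - 1)`. -/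
theorem ru_block {ι κ : Type} [Fintype ι] [DecidableEq ι] [Fintype κ] [DecidableEq κ]
    (A₁ : Matrix ι ι K) (A₂ : Matrix κ κ K) (X : Matrix ι κ K) (h₁ : RU A₁) (h₂ : RU A₂)
    (hX : ∀ u : κ → K, A₂ *ᵥ u = u → u ≠ 0 → ∀ w : ι → K, (A₁ - 1) *ᵥ w ≠ X *ᵥ u) :
    RU (fromBlocks A₁ X 0 A₂) := by
  have hsub : fromBlocks A₁ X 0 A₂ - 1 = fromBlocks (A₁ - 1) X 0 (A₂ - 1) := by
    ext (i | i) (j | j) <;> simp [Matrix.one_apply]
  refine ⟨?_, ?_⟩
  · rw [hsub]
    exact helper77_fromBlocks_nilpotent _ _ X h₁.1 h₂.1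
  · rw [hsub, helper77_corank_one_iff]
    obtain ⟨v₁, hv0, hv, hsp⟩ := (helper77_corank_one_iff (A₁ - 1)).1 h₁.2
    refine ⟨Sum.elim v₁ 0, ?_, ?_, ?_⟩
    · intro h0
      apply hv0
      funext i
      have := congrFun h0 (Sum.inl i)
      simpa using this
    · rw [fromBlocks_mulVec]
      have e1 : (Sum.elim v₁ (0 : κ → K)) ∘ Sum.inl = v₁ := by funext i; simp
      have e2 : (Sum.elim v₁ (0 : κ → K)) ∘ Sum.inr = 0 := by funext i; simp
      rw [e1, e2, hv]
      funext i
      rcases i with i | i <;> simp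
    · intro w hw
      rw [fromBlocks_mulVec] at hw
      have hw1 : (A₁ - 1) *ᵥ (w ∘ Sum.inl) + X *ᵥ (w ∘ Sum.inr) = 0 := by
        funext i
        have := congrFun hw (Sum.inl i)
        simpa using this
      have hw2 : (A₂ - 1) *ᵥ (w ∘ Sum.inr) = 0 := by
        funext i
        have := congrFun hw (Sum.inr i)
        simpa using this
      have hz : w ∘ Sum.inr = 0 := by
        by_contra hne
        have hfix : A₂ *ᵥ (w ∘ Sum.inr) = w ∘ Sum.inr := by
          rw [sub_mulVec, one_mulVec] at hw2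
          exact sub_eq_zero.1 hw2
        refine hX _ hfix hne (-(w ∘ Sum.inl)) ?_
        rw [mulVec_neg]
        exact neg_eq_of_add_eq_zero_right hw1
      rw [hz, mulVec_zero, add_zero] at hw1
      obtain ⟨c, hc⟩ := hsp _ hw1
      refine ⟨c, ?_⟩
      funext i
      rcases i with i | i
      · have := congrFun hc i
        simpa using this
      · have := congrFun hz i
        simpa using this

end Cfsg.Agent.Lib.helper51.Lev
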