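/-
S2522 (Lev) piece BORD: `border` -- lifting a factorization of the Schur complement `D` to the
bordered matrix.
-/
import Mathlib
import Cfsg.Agent.Lib.helper51.LevDefs
import Cfsg.Agent.Lib.helper77.LevGLUEA

set_option autoImplicit false

namespace Cfsg.Agent.Lib.helper77.LevA

open Matrix Cfsg.Agent.Lib.helper51.Lev

variable {K : Type*} [Field K]

/-- Powers commute with reindexing along an equivalence. -/
theorem helper77_submatrix_pow {ι κ : Type} [Fintype ι] [DecidableEq ι] [Fintype κ]
    [DecidableEq κ] (e : κ ≃ ι) (N : Matrix ι ι K) (k : ℕ) :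
    (N.submatrix e e) ^ k = (N ^ k).submatrix e e := by
  induction k with
  | zero => simp
  | succ k ih => rw [pow_succ, ih, pow_succ, Matrix.submatrix_mul_equiv]

/-- `RU` is invariant under reindexing along an equivalence. -/
theorem helper77_ru_submatrix {ι κ : Type} [Fintype ι] [DecidableEq ι] [Fintype κ]
    [DecidableEq κ] (e : κ ≃ ι) (A : Matrix ι ι K) (h : RU A) : RU (A.submatrix e e) := by
  have hsub : A.submatrix e e - 1 = (A - 1).submatrix e e := by
    ext i j
    simp [Matrix.sub_apply, Matrix.one_apply]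
  refine ⟨?_, ?_⟩
  · rw [hsub]
    obtain ⟨k, hk⟩ := h.1
    exact ⟨k, by rw [helper77_submatrix_pow, hk]; simp⟩
  · rw [hsub, Matrix.rank_submatrix, h.2]
    exact (Fintype.card_congr e).symm

/-- The `1 × 1` identity matrix is regular unipotent. -/
theorem helper77_ru_one_unit : RU (1 : Matrix Unit Unit K) := by
  refine ⟨?_, ?_⟩
  · rw [sub_self]
    exact IsNilpotent.zero
  · rw [sub_self, Matrix.rank_zero]
    simp

end Cfsg.Agent.Lib.helper77.LevA

namespace Cfsg.Agent.Lib.helper51.Lev

open Matrix Cfsg.Agent.Lib.helper77.LevA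

variable {K : Type*} [Field K]

/-- PIECE BORD: bordering. -/
theorem border {κ : Type} [Fintype κ] [DecidableEq κ] (D : Matrix κ κ K) (c₁ r₁ : κ → K)
    (h : PS D c₁ r₁) (c r : Unit ⊕ κ → K) (hc : c (Sum.inl ()) ≠ 0) (hr : r (Sum.inl ()) ≠ 0) :
    PS (fromBlocks (1 : Matrix Unit Unit K) (replicateRow Unit r₁) (replicateCol Unit c₁)
      (D + vecMulVec c₁ r₁)) c r := by
  obtain ⟨A', B', hA, hB, hD, hAc, hBr⟩ := h
  refine ⟨fromBlocks 1 0 (replicateCol Unit c₁) A', fromBlocks 1 (replicateRow Unit r₁) 0 B',
    ?_, ?_, ?_, ?_, ?_⟩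
  · -- `RU Â`
    have h1 : RU (fromBlocks A' (replicateCol Unit c₁) 0 (1 : Matrix Unit Unit K)) := by
      refine ru_block A' 1 (replicateCol Unit c₁) hA helper77_ru_one_unit ?_
      intro u _ hu w hw
      have hu0 : u () ≠ 0 := by
        intro h0
        apply hu
        funext i
        cases i
        exact h0
      apply hAc ((u ())⁻¹ • w)
      rw [mulVec_smul, hw]
      funext i
      have hu0' : u PUnit.unit ≠ 0 := hu0
      simp only [Matrix.mulVec, dotProduct, Pi.smul_apply, smul_eq_mul, replicateCol_apply,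
        Finset.univ_unique, Finset.sum_singleton]
      field_simp
    have h2 := helper77_ru_submatrix (Equiv.sumComm Unit κ) _ h1
    have h3 : (fromBlocks A' (replicateCol Unit c₁) 0 (1 : Matrix Unit Unit K)).submatrix
        (Equiv.sumComm Unit κ) (Equiv.sumComm Unit κ) =
        fromBlocks 1 0 (replicateCol Unit c₁) A' := by
      ext (i | i) (j | j) <;> simp
    rw [h3] at h2
    exact h2
  · -- `RU B̂`
    refine ru_block 1 B' (replicateRow Unit r₁) helper77_ru_one_unit hB ?_
    intro u hu hu0 w hw
    apply hBr u hu hu0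
    have := congrFun hw ()
    rw [sub_self, zero_mulVec] at this
    simpa [Matrix.mulVec, dotProduct] using this.symm
  · -- the product
    rw [fromBlocks_multiply, hD]
    congr 1
    · simp
    · simp
    · simp
    · rw [add_comm]
      congr 1
      ext i j
      simp [Matrix.mul_apply, vecMulVec_apply]
  · -- `c` is outside the image of `Â - 1`
    intro w hw
    apply hc
    have := congrFun hw (Sum.inl ())
    rw [← this]
    simp [Matrix.mulVec, dotProduct, Matrix.sub_apply, Matrix.one_apply]
  · -- `r` does not vanish on the fixed vectors of `B̂`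
    intro w hw hw0
    rw [fromBlocks_mulVec] at hw
    have hw1 : r₁ ⬝ᵥ (w ∘ Sum.inr) = 0 := by
      have := congrFun hw (Sum.inl ())
      simpa [Matrix.mulVec, dotProduct] using this
    have hw2 : B' *ᵥ (w ∘ Sum.inr) = w ∘ Sum.inr := by
      funext i
      have := congrFun hw (Sum.inr i)
      simpa using this
    have hz : w ∘ Sum.inr = 0 := by
      by_contra hne
      exact hBr _ hw2 hne hw1
    have hwl : w (Sum.inl ()) ≠ 0 := by
      intro h0
      apply hw0
      funext i
      rcases i with i | i
      · cases i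
        exact h0
      · exact congrFun hz i
    have hdot : r ⬝ᵥ w = r (Sum.inl ()) * w (Sum.inl ()) := by
      rw [dotProduct, Fintype.sum_sum_type]
      have : ∀ j : κ, w (Sum.inr j) = 0 := fun j => congrFun hz j
      simp [this]
    rw [hdot]
    exact mul_ne_zero hr hwl

end Cfsg.Agent.Lib.helper51.Lev
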