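import Cfsg.Agent.Lib.helper42.FGDefs

/-! S1915 split (architect helper42), piece P2: an elementary abelian 2-subgroup of `A` centralized
by a non-identity element of `U` lies in `Γ`, so it has order at most 2. -/

set_option autoImplicit false
set_option linter.unusedSectionVars false

namespace Cfsg.Agent.Lib.helper42.FG

variable {G : Type*} [Group G] [Finite G]

/-- P2 -/
theorem gamma_cent (A U : Subgroup G)
    (hΓ : Cfsg.PRankLE 2 1 ↥(⨆ V : {V : Subgroup G // V ≤ U ∧ V ≠ ⊥},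
      A ⊓ Subgroup.normalizer ((V : Subgroup G) : Set G)))
    (u : G) (hu : u ∈ U) (hu1 : u ≠ 1) (E : Subgroup G) (hEA : E ≤ A)
    (hEu : ∀ e ∈ E, u * e = e * u) (hE : El E) : Nat.card E ≤ 2 := by
  have hV : Subgroup.zpowers u ≤ U ∧ Subgroup.zpowers u ≠ ⊥ := by
    refine ⟨(Subgroup.zpowers_le).2 hu, ?_⟩
    intro h0
    exact hu1 ((Subgroup.zpowers_eq_bot).1 h0)
  have hEN : E ≤ A ⊓ Subgroup.normalizer ((Subgroup.zpowers u : Subgroup G) : Set G) := by
    intro e he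
    refine Subgroup.mem_inf.2 ⟨hEA he, ?_⟩
    have hcomm : ∀ x ∈ Subgroup.zpowers u, e * x * e⁻¹ = x := by
      intro x hx
      obtain ⟨k, rfl⟩ := Subgroup.mem_zpowers_iff.1 hx
      have h1 : Commute e u := (hEu e he).symm
      have h2 : e * u ^ k = u ^ k * e := (h1.zpow_right k).eq
      rw [h2, mul_assoc, mul_inv_cancel, mul_one]
    rw [Subgroup.mem_normalizer_iff]
    intro x
    constructor
    · intro hx
      rw [hcomm x hx]
      exact hx
    · intro hx
      have h3 : e⁻¹ * (e * x * e⁻¹) * e = x := by group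
      have h4 : e * (e * x * e⁻¹) * e⁻¹ = e * x * e⁻¹ := hcomm _ hx
      have h5 : e * x * e⁻¹ = x := by
        have h6 : e⁻¹ * (e * (e * x * e⁻¹) * e⁻¹) * e = e⁻¹ * (e * x * e⁻¹) * e := by rw [h4]
        have h7 : e⁻¹ * (e * (e * x * e⁻¹) * e⁻¹) * e = e * x * e⁻¹ := by group
        rw [h7, h3] at h6
        exact h6
      rw [← h5]
      exact hx
  set Γ : Subgroup G := ⨆ V : {V : Subgroup G // V ≤ U ∧ V ≠ ⊥},
      A ⊓ Subgroup.normalizer ((V : Subgroup G) : Set G) with hΓdef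
  have hEΓ : E ≤ Γ := le_trans hEN
    (le_iSup (fun V : {V : Subgroup G // V ≤ U ∧ V ≠ ⊥} =>
      A ⊓ Subgroup.normalizer ((V : Subgroup G) : Set G)) ⟨Subgroup.zpowers u, hV⟩)
  have hc : IsMulCommutative (E.subgroupOf Γ) := by
    refine ⟨⟨?_⟩⟩
    rintro ⟨x, hx⟩ ⟨y, hy⟩
    apply Subtype.ext
    apply Subtype.ext
    exact hE.1 x.1 (Subgroup.mem_subgroupOf.1 hx) y.1 (Subgroup.mem_subgroupOf.1 hy)
  have he : ∀ a ∈ E.subgroupOf Γ, a ^ 2 = 1 := by
    intro a ha
    apply Subtype.ext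
    exact hE.2 a.1 (Subgroup.mem_subgroupOf.1 ha)
  have h3 := hΓ (E.subgroupOf Γ) hc he
  have h4 : Nat.card (E.subgroupOf Γ) = Nat.card E :=
    Nat.card_congr (Subgroup.subgroupOfEquivOfLe hEΓ).toEquiv
  rw [h4, pow_one] at h3
  exact h3

end Cfsg.Agent.Lib.helper42.FG
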