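import Cfsg.Agent.Lib.helper42.FGDefs

/-! S1915 split (architect helper42), piece P3: a group of 2-rank `> 1` has an elementary abelian
2-subgroup of order `> 2`. -/

set_option autoImplicit false
set_option linter.unusedSectionVars false

namespace Cfsg.Agent.Lib.helper42.FG

variable {G : Type*} [Group G] [Finite G]

/-- P3 -/
theorem exists_el_of_not_rank1 (A : Subgroup G) (h : ¬ Cfsg.PRankLE 2 1 ↥A) :
    ∃ E : Subgroup G, E ≤ A ∧ El E ∧ 2 < Nat.card E := by
  unfold Cfsg.PRankLE at h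
  push Not at h
  obtain ⟨E', hcomm, hexp, hcard⟩ := h
  refine ⟨E'.map A.subtype, Subgroup.map_subtype_le E', ⟨?_, ?_⟩, ?_⟩
  · rintro x ⟨a, ha, rfl⟩ y ⟨b, hb, rfl⟩
    have h1 : (⟨a, ha⟩ : E') * ⟨b, hb⟩ = ⟨b, hb⟩ * ⟨a, ha⟩ := hcomm.is_comm.comm _ _
    have h2 : a * b = b * a := congrArg Subtype.val h1
    rw [← map_mul, ← map_mul, h2]
  · rintro x ⟨a, ha, rfl⟩
    rw [← map_pow, hexp a ha, map_one]
  · have h4 : Nat.card (E'.map A.subtype) = Nat.card E' :=
      Nat.card_congr (E'.equivMapOfInjective A.subtype A.subtype_injective).toEquiv.symm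
    rw [h4]
    rw [pow_one] at hcard
    exact hcard

end Cfsg.Agent.Lib.helper42.FG
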