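import Mathlib

set_option autoImplicit false

namespace Cfsg.Agent.Lib.helper77

open Polynomial

private lemma lnp_pow_conj {A : Type*} [Monoid A] {x n n' : A} (hn : n * n' = 1)
    (hn' : n' * n = 1) (m : ℕ) : (n * x * n') ^ m = n * x ^ m * n' := by
  induction m with
  | zero => simp [hn]
  | succ m ih =>
    rw [pow_succ, ih, pow_succ]
    calc n * x ^ m * n' * (n * x * n') = n * x ^ m * (n' * n) * x * n' := by
          simp only [mul_assoc]
      _ = n * (x ^ m * x) * n' := by rw [hn', mul_one, mul_assoc n]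

private lemma lnp_aeval_conj {K A : Type*} [Field K] [Ring A] [Algebra K A]
    {x n n' : A} (hn : n * n' = 1) (hn' : n' * n = 1) (f : K[X]) :
    aeval (n * x * n') f = n * aeval x f * n' := by
  rw [Polynomial.aeval_eq_sum_range, Polynomial.aeval_eq_sum_range, Finset.mul_sum,
    Finset.sum_mul]
  refine Finset.sum_congr rfl (fun i _ => ?_)
  rw [lnp_pow_conj hn hn', mul_smul_comm, smul_mul_assoc]

private lemma lnp_pow_eq_of_modEq {A : Type*} [Monoid A] {x : A} {p a b : ℕ}
    (hx : x ^ p = 1) (h : a ≡ b [MOD p]) : x ^ a = x ^ b := by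
  rw [pow_eq_pow_mod a hx, pow_eq_pow_mod b hx]
  exact congrArg _ h

theorem lin_norm_pow {K : Type*} [Field K] [Fintype K] {V : Type*} [AddCommGroup V] [Module K V] [Module.Finite K V] {p : ℕ} [hp : Fact p.Prime] (hq : ¬ p ∣ Fintype.card K) (hord : ∀ i : ℕ, p ∣ Fintype.card K ^ i - 1 → 6 ∣ i) (h7 : Module.finrank K V = 7) {x n n' : Module.End K V} (hx : x ^ p = 1) (hx1 : x ≠ 1) (hn : n * n' = 1) (hn' : n' * n = 1) (k : ℕ) (hk : n * x * n' = x ^ k) : ∃ i : ℕ, i < 6 ∧ x ^ k = x ^ (Fintype.card K ^ i) := by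
  classical
  set q := Fintype.card K with hqdef
  have hqpos : 0 < q := Fintype.card_pos
  set μ := minpoly K x with hμ
  have hint : IsIntegral K x := Algebra.IsIntegral.isIntegral x
  have hμ0 : μ ≠ 0 := minpoly.ne_zero hint
  have hdeg : μ.natDegree ≤ 7 := by
    have h1 : μ ∣ x.charpoly := LinearMap.minpoly_dvd_charpoly x
    have h2 := Polynomial.natDegree_le_of_dvd h1 (LinearMap.charpoly_monic x).ne_zero
    rwa [LinearMap.charpoly_natDegree, h7] at h2
  have hcop : Nat.Coprime p q := (Nat.Prime.coprime_iff_not_dvd hp.out).mpr hq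
  have hpK : (p : K) ≠ 0 := by
    intro h0
    have hic : IsCoprime (p : ℤ) (q : ℤ) := Nat.isCoprime_iff_coprime.mpr hcop
    obtain ⟨a, b, hab⟩ := hic
    have h1 : ((a * p + b * q : ℤ) : K) = 1 := by rw [hab]; simp
    have h2 : ((q : ℕ) : K) = 0 := Nat.cast_card_eq_zero K
    push_cast at h1
    rw [h0, h2] at h1
    simp at h1
  let L := AlgebraicClosure K
  have hpL : (p : L) ≠ 0 := by
    intro h0
    apply hpK
    apply (algebraMap K L).injective
    rw [map_natCast, h0, map_zero]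
  obtain ⟨ξ, hξμ, hξ1, hξp⟩ : ∃ ξ : L, aeval ξ μ = 0 ∧ ξ ≠ 1 ∧ ξ ^ p = 1 := by
    set Φ : K[X] := ∑ i ∈ Finset.range p, X ^ i with hΦ
    have hΦmul : (X - 1) * Φ = X ^ p - 1 := mul_geom_sum X p
    have hμdvd : μ ∣ (X - 1) * Φ := by
      rw [hΦmul]
      apply minpoly.dvd
      simp [hx]
    set d := EuclideanDomain.gcd μ Φ with hd
    have hdμ : d ∣ μ := EuclideanDomain.gcd_dvd_left μ Φ
    have hdΦ : d ∣ Φ := EuclideanDomain.gcd_dvd_right μ Φ
    have hdunit : ¬ IsUnit d := by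
      intro hu
      have hcop' : IsCoprime μ Φ := EuclideanDomain.gcd_isUnit_iff.mp hu
      have h1 : μ ∣ X - 1 := hcop'.dvd_of_dvd_mul_right hμdvd
      have h0 : aeval x (X - 1 : K[X]) = 0 := by
        obtain ⟨c, hc⟩ := h1
        rw [hc, map_mul, minpoly.aeval, zero_mul]
      simp only [map_sub, aeval_X, map_one, sub_eq_zero] at h0
      exact hx1 h0
    have hddeg : d.degree ≠ 0 := by
      intro h
      exact hdunit (Polynomial.isUnit_iff_degree_eq_zero.mpr h)
    obtain ⟨ξ, hξ⟩ := IsAlgClosed.exists_aeval_eq_zero L d hddeg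
    have hξΦ : aeval ξ Φ = 0 := by
      obtain ⟨c, hc⟩ := hdΦ
      rw [hc, map_mul, hξ, zero_mul]
    refine ⟨ξ, ?_, ?_, ?_⟩
    · obtain ⟨c, hc⟩ := hdμ
      rw [hc, map_mul, hξ, zero_mul]
    · rintro rfl
      simp [hΦ] at hξΦ
      exact hpL hξΦ
    · have h1 : aeval ξ ((X - 1) * Φ) = 0 := by rw [map_mul, hξΦ, mul_zero]
      rw [hΦmul] at h1
      simpa [sub_eq_zero] using h1
  have hordξ : orderOf ξ = p := orderOf_eq_prime hξp hξ1
  set R : Finset L := (μ.aroots L).toFinset with hR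
  have hRcard : R.card ≤ 7 := by
    refine (Multiset.toFinset_card_le _).trans ?_
    refine (Polynomial.card_roots' _).trans ?_
    exact (Polynomial.natDegree_map_le).trans hdeg
  have hRmem : ∀ y : L, aeval y μ = 0 → y ∈ R := by
    intro y hy
    simp [hR, hμ0, hy]
  have hfrob : ∀ y : L, aeval y μ = 0 → aeval (y ^ q) μ = 0 := by
    intro y hy
    rw [← Polynomial.expand_aeval, FiniteField.expand_card, map_pow, hy,
      zero_pow hqpos.ne']
  have hkcl : ∀ y : L, aeval y μ = 0 → aeval (y ^ k) μ = 0 := by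
    intro y hy
    have h1 : aeval x (expand K k μ) = 0 := by
      rw [Polynomial.expand_aeval, ← hk, lnp_aeval_conj hn hn', minpoly.aeval]
      simp
    obtain ⟨c, hc⟩ := minpoly.dvd K x h1
    rw [← Polynomial.expand_aeval, hc, map_mul, hy, zero_mul]
  have hA : ∀ i : ℕ, aeval (ξ ^ (q ^ i)) μ = 0 := by
    intro i
    induction i with
    | zero => simpa using hξμ
    | succ i ih => rw [pow_succ, pow_mul]; exact hfrob _ ih
  have hB : ∀ i : ℕ, aeval (ξ ^ (k * q ^ i)) μ = 0 := by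
    intro i
    rw [mul_comm, pow_mul]
    exact hkcl _ (hA i)
  have hpow : ∀ a b : ℕ, ξ ^ a = ξ ^ b → a ≡ b [MOD p] := by
    have hξ0 : ξ ≠ 0 := by
      rintro rfl
      simp [hp.out.ne_zero] at hξp
    have key : ∀ a b : ℕ, a ≤ b → ξ ^ a = ξ ^ b → a ≡ b [MOD p] := by
      intro a b hab h
      have h1 : ξ ^ (b - a) = 1 := by
        have h2 : ξ ^ a * ξ ^ (b - a) = ξ ^ a * 1 := by
          rw [← pow_add, Nat.add_sub_cancel' hab, mul_one, h]
        exact mul_left_cancel₀ (pow_ne_zero _ hξ0) h2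
      have h2 : p ∣ b - a := by
        rw [← hordξ]
        exact orderOf_dvd_of_pow_eq_one h1
      exact (Nat.modEq_iff_dvd' hab).mpr h2
    intro a b h
    rcases le_total a b with hab | hab
    · exact key a b hab h
    · exact (key b a hab h.symm).symm
  -- cancellation
  have hcancel : ∀ i j : ℕ, i < j → q ^ i ≡ q ^ j [MOD p] → 1 ≡ q ^ (j - i) [MOD p] := by
    intro i j hij h
    have h2 : q ^ i * 1 ≡ q ^ i * q ^ (j - i) [MOD p] := by
      rw [mul_one, ← pow_add, Nat.add_sub_cancel' hij.le]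
      exact h
    exact Nat.ModEq.cancel_left_of_coprime (Nat.Coprime.pow_right i hcop) h2
  have hqij : ∀ i j : ℕ, i < j → q ^ i ≡ q ^ j [MOD p] → 6 ∣ j - i := by
    intro i j hij h
    apply hord
    exact (Nat.modEq_iff_dvd' (Nat.one_le_pow _ _ hqpos)).mp (hcancel i j hij h)
  have hq6 : q ^ 6 ≡ 1 [MOD p] := by
    obtain ⟨i, j, hij, heq⟩ : ∃ i j : Fin 8, i ≠ j ∧ ξ ^ (q ^ (i : ℕ)) = ξ ^ (q ^ (j : ℕ)) := by
      by_contra hcon
      push Not at hcon
      have hinj : Function.Injective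
          (fun i : Fin 8 => (⟨ξ ^ (q ^ (i : ℕ)), hRmem _ (hA i)⟩ : R)) := by
        intro i j hij
        by_contra hne
        exact hcon i j hne (congrArg Subtype.val hij)
      have h8 := Fintype.card_le_of_injective _ hinj
      simp only [Fintype.card_fin, Fintype.card_coe] at h8
      omega
    have key : ∀ i j : Fin 8, (i : ℕ) < j → ξ ^ (q ^ (i : ℕ)) = ξ ^ (q ^ (j : ℕ)) →
        q ^ 6 ≡ 1 [MOD p] := by
      intro i j hlt heq
      have h1 := hpow _ _ heq
      have h6 := hqij i j hlt h1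
      have hj : (j : ℕ) - i = 6 := by
        have := j.2
        obtain ⟨c, hc⟩ := h6
        omega
      have h2 := hcancel i j hlt h1
      rw [hj] at h2
      exact h2.symm
    rcases lt_or_gt_of_ne (fun h : (i : ℕ) = j => hij (Fin.ext h)) with hlt | hlt
    · exact key i j hlt heq
    · exact key j i hlt heq.symm
  have hpk : ¬ p ∣ k := by
    rintro ⟨c, rfl⟩
    rw [pow_mul, hx, one_pow] at hk
    apply hx1
    calc x = n' * (n * x * n') * n := by
            rw [← mul_assoc, ← mul_assoc, hn', one_mul, mul_assoc, hn', mul_one]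
      _ = 1 := by rw [hk, mul_one, hn']
  have hcopk : Nat.Coprime p k := (Nat.Prime.coprime_iff_not_dvd hp.out).mpr hpk
  have hqinj : ∀ a b : ℕ, a < 6 → b < 6 → q ^ a ≡ q ^ b [MOD p] → a = b := by
    intro a b ha hb h
    by_contra hne
    rcases lt_or_gt_of_ne hne with hlt | hlt
    · obtain ⟨c, hc⟩ := hqij a b hlt h
      omega
    · obtain ⟨c, hc⟩ := hqij b a hlt h.symm
      omega
  obtain ⟨i, j, hi, hj, hmix⟩ : ∃ i j : ℕ, i < 6 ∧ j < 6 ∧ q ^ i ≡ k * q ^ j [MOD p] := by
    by_contra hcon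
    push Not at hcon
    let f : Fin 6 ⊕ Fin 6 → R := fun s => match s with
      | Sum.inl i => ⟨ξ ^ (q ^ (i : ℕ)), hRmem _ (hA i)⟩
      | Sum.inr i => ⟨ξ ^ (k * q ^ (i : ℕ)), hRmem _ (hB i)⟩
    have hinj : Function.Injective f := by
      rintro (a | a) (b | b) hab
      · have h1 := hpow _ _ (congrArg Subtype.val hab)
        have := hqinj a b a.2 b.2 h1
        exact congrArg Sum.inl (Fin.ext this)
      · exfalso
        exact hcon a b a.2 b.2 (hpow _ _ (congrArg Subtype.val hab))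
      · exfalso
        exact hcon b a b.2 a.2 (hpow _ _ (congrArg Subtype.val hab)).symm
      · have h1 := hpow _ _ (congrArg Subtype.val hab)
        have h2 : q ^ (a : ℕ) ≡ q ^ (b : ℕ) [MOD p] :=
          Nat.ModEq.cancel_left_of_coprime hcopk h1
        have := hqinj a b a.2 b.2 h2
        exact congrArg Sum.inr (Fin.ext this)
    have h12 := Fintype.card_le_of_injective f hinj
    simp only [Fintype.card_sum, Fintype.card_fin, Fintype.card_coe] at h12
    omega
  refine ⟨(i + (6 - j)) % 6, Nat.mod_lt _ (by norm_num), ?_⟩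
  apply lnp_pow_eq_of_modEq hx
  -- k ≡ k * q^6 = k * q^j * q^(6-j) ≡ q^i * q^(6-j) = q^(i+(6-j))
  have h1 : k * q ^ 6 ≡ q ^ (i + (6 - j)) [MOD p] := by
    have : k * q ^ 6 = k * q ^ j * q ^ (6 - j) := by
      rw [mul_assoc, ← pow_add, Nat.add_sub_cancel' hj.le]
    rw [this, pow_add]
    exact Nat.ModEq.mul_right _ hmix.symm
  have h2 : k * q ^ 6 ≡ k [MOD p] := by
    simpa using Nat.ModEq.mul_left k hq6
  have h3 : ∀ t m : ℕ, q ^ (6 * t + m) ≡ q ^ m [MOD p] := by
    intro t m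
    rw [pow_add, pow_mul]
    simpa using Nat.ModEq.mul_right (q ^ m) (hq6.pow t)
  have h4 : q ^ (i + (6 - j)) ≡ q ^ ((i + (6 - j)) % 6) [MOD p] := by
    have := h3 ((i + (6 - j)) / 6) ((i + (6 - j)) % 6)
    rwa [Nat.div_add_mod] at this
  exact h2.symm.trans (h1.trans h4)

end Cfsg.Agent.Lib.helper77
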