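import Mathlib
import Cfsg.Agent.Lib.helper45.RUDefs

/-! S2279 split (helper45), piece N: `all_single`. -/

set_option autoImplicit false

namespace Cfsg.Agent.Lib.helper45.RU

open Matrix Cfsg.Agent.Lib.helper44

variable {n : ℕ} {F : Type*} [Field F] {S : Set (Matrix (Fin n) (Fin n) F)}

/-- N -/
theorem all_single (hn : 2 ≤ n) (hS : MatGrp S) (hJ : jm F n ∈ S) (hL : (jm F n)ᵀ ∈ S)
    (z l : Fin n) (hz : z.val = 0) (hl : l.val + 1 = n)
    (h : ∀ x : F, 1 + Matrix.single l z x ∈ S) :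
    ∀ i j : Fin n, i ≠ j → ∀ x : F, 1 + Matrix.single i j x ∈ S := by
  have hS' := hS.transpose
  have hJ' : jm F n ∈ {M : Matrix (Fin n) (Fin n) F | Mᵀ ∈ S} := hL
  have hL' : (jm F n)ᵀ ∈ {M : Matrix (Fin n) (Fin n) F | Mᵀ ∈ S} := by
    show (jm F n)ᵀᵀ ∈ S
    rw [Matrix.transpose_transpose]
    exact hJ
  intro i j hij x
  have hc : 1 + Matrix.single z l x ∈ {M : Matrix (Fin n) (Fin n) F | Mᵀ ∈ S} := by
    show (1 + Matrix.single z l x)ᵀ ∈ S
    rw [transpose_one_add_single]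
    exact h x
  have key := all_of_corner hn hS' hJ' hL' x z l hz hl hc j i (Ne.symm hij)
  change (1 + Matrix.single j i x)ᵀ ∈ S at key
  rw [transpose_one_add_single] at key
  exact key

end Cfsg.Agent.Lib.helper45.RU
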