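import Mathlib
import Cfsg.Agent.Lib.helper49.SPEDefs

/-! S2333 split (architect helper49), piece GADD: the pairing `gam` is biadditive. -/

set_option autoImplicit false

namespace Cfsg.Agent.Lib.helper49.SPE

open Matrix

/-- GADD (S) -/
theorem gam_add {F : Type*} [Field F] {n : ℕ} (y y' a a' : Matrix (Fin n) (Fin n) F) :
    gam y (a + a') = gam y a + gam y a' ∧ gam (y - y') a = gam y a - gam y' a ∧ gam y 0 = 0 := by
  refine ⟨?_, ?_, ?_⟩
  · unfold gam
    rw [← Finset.sum_add_distrib]
    apply Finset.sum_congr rfl
    intro i _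
    rw [← Finset.sum_add_distrib]
    apply Finset.sum_congr rfl
    intro j _
    rw [Matrix.add_apply, mul_add]
  · unfold gam
    rw [← Finset.sum_sub_distrib]
    apply Finset.sum_congr rfl
    intro i _
    rw [← Finset.sum_sub_distrib]
    apply Finset.sum_congr rfl
    intro j _
    unfold upT
    by_cases h : i ≤ j
    · rw [if_pos h, if_pos h, if_pos h, Matrix.sub_apply, sub_mul]
    · rw [if_neg h, if_neg h, if_neg h, zero_mul, sub_zero]
  · unfold gam
    apply Finset.sum_eq_zero
    intro i _
    apply Finset.sum_eq_zero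
    intro j _
    rw [Matrix.zero_apply, mul_zero]

end Cfsg.Agent.Lib.helper49.SPE
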