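/-
S2522 (Lev) piece GLUEB: `glue` -- block upper triangular gluing of two products of regular
unipotent matrices.
-/
import Mathlib
import Cfsg.Agent.Lib.helper51.LevDefs
import Cfsg.Agent.Lib.helper77.LevGLUEA

set_option autoImplicit false

namespace Cfsg.Agent.Lib.helper77.LevA

open Matrix Cfsg.Agent.Lib.helper51.Lev

variable {K : Type*} [Field K]

/-- A left null vector of a corank one matrix. -/
theorem helper77_left_null {ι : Type} [Fintype ι] [DecidableEq ι] (N : Matrix ι ι K)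
    (h : N.rank + 1 = Fintype.card ι) :
    ∃ α : ι → K, α ≠ 0 ∧ ∀ w : ι → K, α ⬝ᵥ (N *ᵥ w) = 0 := by
  have h' : Nᵀ.rank + 1 = Fintype.card ι := by
    rw [Matrix.rank_transpose]
    exact h
  obtain ⟨α, hα0, hα, -⟩ := (helper77_corank_one_iff Nᵀ).1 h'
  refine ⟨α, hα0, fun w => ?_⟩
  rw [Matrix.dotProduct_mulVec, ← Matrix.mulVec_transpose, hα, zero_dotProduct]

/-- A vector on which a nonzero functional does not vanish. -/
theorem helper77_exists_dot_ne {ι : Type} [Fintype ι] [DecidableEq ι] (α : ι → K) (h : α ≠ 0) :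
    ∃ a : ι → K, α ⬝ᵥ a ≠ 0 := by
  obtain ⟨i, hi⟩ := Function.ne_iff.1 h
  exact ⟨Pi.single i 1, by simpa using hi⟩

/-- A functional not vanishing at two given nonzero vectors. -/
theorem helper77_two_nonzero {κ : Type} [Fintype κ] [DecidableEq κ] (u u' : κ → K)
    (hu : u ≠ 0) (hu' : u' ≠ 0) : ∃ ψ : κ → K, ψ ⬝ᵥ u ≠ 0 ∧ ψ ⬝ᵥ u' ≠ 0 := by
  obtain ⟨i, hi⟩ := Function.ne_iff.1 hu
  obtain ⟨j, hj⟩ := Function.ne_iff.1 hu'
  by_cases h1 : u' i = 0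
  · by_cases h2 : u j = 0
    · refine ⟨Pi.single i 1 + Pi.single j 1, ?_, ?_⟩
      · rw [add_dotProduct, single_dotProduct, single_dotProduct, h2]
        simpa using hi
      · rw [add_dotProduct, single_dotProduct, single_dotProduct, h1]
        simpa using hj
    · exact ⟨Pi.single j 1, by simpa using h2, by simpa using hj⟩
  · exact ⟨Pi.single i 1, by simpa using hi, by simpa using h1⟩

end Cfsg.Agent.Lib.helper77.LevA

namespace Cfsg.Agent.Lib.helper51.Lev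

open Matrix Cfsg.Agent.Lib.helper77.LevA

variable {K : Type*} [Field K]

/-- PIECE GLUE: block upper triangular gluing. -/
theorem glue (hK : 3 ≤ Cardinal.mk K) {ι κ : Type} [Fintype ι] [DecidableEq ι] [Fintype κ]
    [DecidableEq κ] (g₁ : Matrix ι ι K) (g₂ : Matrix κ κ K) (Z : Matrix ι κ K)
    (h₁ : PP g₁) (h₂ : PP g₂) : PP (fromBlocks g₁ Z 0 g₂) := by
  obtain ⟨A₁, B₁, hA₁, hB₁, rfl⟩ := h₁
  obtain ⟨A₂, B₂, hA₂, hB₂, rfl⟩ := h₂
  -- the inverse of `A₁`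
  have hunit : IsUnit A₁ := by
    have := hA₁.1.isUnit_add_one
    simpa using this
  obtain ⟨A₁', hA₁'⟩ := hunit.exists_right_inv
  have hA₁'' : A₁' * A₁ = 1 := mul_eq_one_comm.1 hA₁'
  -- kernel vectors and left null vectors
  obtain ⟨u, hu0, hu1, husp⟩ := (helper77_corank_one_iff (A₂ - 1)).1 hA₂.2
  obtain ⟨u', hu'0, hu'1, hu'sp⟩ := (helper77_corank_one_iff (B₂ - 1)).1 hB₂.2
  obtain ⟨α, hα0, hα⟩ := helper77_left_null (A₁ - 1) hA₁.2
  obtain ⟨β, hβ0, hβ⟩ := helper77_left_null (B₁ - 1) hB₁.2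
  obtain ⟨ψ, hψ, hψ'⟩ := helper77_two_nonzero u u' hu0 hu'0
  have hβ'0 : β ᵥ* A₁' ≠ 0 := by
    intro h0
    apply hβ0
    have : (β ᵥ* A₁') ᵥ* A₁ = β := by rw [vecMul_vecMul, hA₁'', vecMul_one]
    rw [← this, h0, zero_vecMul]
  obtain ⟨a₀, ha₀⟩ := helper77_exists_dot_ne α hα0
  obtain ⟨a₁, ha₁⟩ := helper77_exists_dot_ne (β ᵥ* A₁') hβ'0
  -- the choice of the scalar `t`
  obtain ⟨t, ht1, ht2⟩ := Cardinal.exists_ne_ne_of_three_le hK (-(α ⬝ᵥ a₀) / (α ⬝ᵥ a₁))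
    (((β ᵥ* A₁') ⬝ᵥ (Z *ᵥ u') / (ψ ⬝ᵥ u') - (β ᵥ* A₁') ⬝ᵥ a₀) / ((β ᵥ* A₁') ⬝ᵥ a₁))
  have hαa : α ⬝ᵥ (a₀ + t • a₁) ≠ 0 := by
    rw [dotProduct_add, dotProduct_smul, smul_eq_mul]
    intro h0
    by_cases hq : α ⬝ᵥ a₁ = 0
    · rw [hq, mul_zero, add_zero] at h0
      exact ha₀ h0
    · apply ht1
      field_simp
      linear_combination h0
  have hβa : (ψ ⬝ᵥ u') * ((β ᵥ* A₁') ⬝ᵥ (a₀ + t • a₁)) ≠ (β ᵥ* A₁') ⬝ᵥ (Z *ᵥ u') := by
    rw [dotProduct_add, dotProduct_smul, smul_eq_mul]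
    intro h0
    apply ht2
    field_simp
    linear_combination h0
  have hXu : ∀ v : κ → K, vecMulVec (a₀ + t • a₁) ψ *ᵥ v = (ψ ⬝ᵥ v) • (a₀ + t • a₁) := by
    intro v
    rw [vecMulVec_mulVec]
    funext i
    simp only [Pi.smul_apply, Pi.add_apply, MulOpposite.smul_eq_mul_unop, MulOpposite.unop_op,
      smul_eq_mul]
    ring
  have hfixA : ∀ v : κ → K, A₂ *ᵥ v = v → ∃ c : K, v = c • u := by
    intro v hv
    apply husp
    rw [sub_mulVec, one_mulVec, hv, sub_self]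
  have hfixB : ∀ v : κ → K, B₂ *ᵥ v = v → ∃ c : K, v = c • u' := by
    intro v hv
    apply hu'sp
    rw [sub_mulVec, one_mulVec, hv, sub_self]
  have hu'fix : B₂ *ᵥ u' = u' := by
    rw [sub_mulVec, one_mulVec] at hu'1
    exact sub_eq_zero.1 hu'1
  refine ⟨fromBlocks A₁ (vecMulVec (a₀ + t • a₁) ψ) 0 A₂,
    fromBlocks B₁ (A₁' * (Z - vecMulVec (a₀ + t • a₁) ψ * B₂)) 0 B₂, ?_, ?_, ?_⟩
  · refine ru_block A₁ A₂ _ hA₁ hA₂ ?_
    intro v hv hv0 w hw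
    obtain ⟨c, rfl⟩ := hfixA v hv
    have hc : c ≠ 0 := by
      rintro rfl
      exact hv0 (zero_smul _ _)
    have h1 := hα w
    rw [hw, hXu, dotProduct_smul, dotProduct_smul, smul_eq_mul, smul_eq_mul] at h1
    exact mul_ne_zero (mul_ne_zero hc hψ) hαa h1
  · refine ru_block B₁ B₂ _ hB₁ hB₂ ?_
    intro v hv hv0 w hw
    obtain ⟨c, rfl⟩ := hfixB v hv
    have hc : c ≠ 0 := by
      rintro rfl
      exact hv0 (zero_smul _ _)
    have h1 := hβ w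
    rw [hw, mulVec_smul, dotProduct_smul, ← mulVec_mulVec, dotProduct_mulVec, sub_mulVec,
      ← mulVec_mulVec, hu'fix, hXu, dotProduct_sub, dotProduct_smul, smul_eq_mul,
      smul_eq_mul] at h1
    rcases mul_eq_zero.1 h1 with h2 | h2
    · exact hc h2
    · exact hβa (sub_eq_zero.1 h2).symm
  · rw [fromBlocks_multiply]
    congr 1
    · simp
    · rw [← Matrix.mul_assoc, hA₁', Matrix.one_mul, sub_add_cancel]
    · simp
    · simp

end Cfsg.Agent.Lib.helper51.Lev
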