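/-
S2522 (Lev) piece JORD: `ru_to_J` -- a regular unipotent matrix is conjugate to the standard
(upper) Jordan block.
-/
import Mathlib
import Cfsg.Agent.Lib.helper51.LevDefs
import Cfsg.Agent.Lib.helper77.LevGLUEA

set_option autoImplicit false

namespace Cfsg.Agent.Lib.helper77.LevA

open Matrix Cfsg.Agent.Lib.helper51.Lev

variable {K : Type*} [Field K]

/-- The kernels of the powers of a matrix grow by at most the dimension of the kernel. -/
theorem helper77_ker_growth {ι : Type} [Fintype ι] [DecidableEq ι] (N : Matrix ι ι K) (k : ℕ) :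
    Module.finrank K (LinearMap.ker (N ^ (k + 1)).mulVecLin) ≤
      Module.finrank K (LinearMap.ker (N ^ k).mulVecLin) +
        Module.finrank K (LinearMap.ker N.mulVecLin) := by
  have hmaps : ∀ x ∈ LinearMap.ker (N ^ (k + 1)).mulVecLin,
      (N ^ k).mulVecLin x ∈ LinearMap.ker N.mulVecLin := by
    intro x hx
    rw [LinearMap.mem_ker, Matrix.mulVecLin_apply] at hx ⊢
    rw [Matrix.mulVecLin_apply, Matrix.mulVec_mulVec, ← pow_succ']
    exact hx
  have h1 := LinearMap.finrank_range_add_finrank_ker ((N ^ k).mulVecLin.restrict hmaps)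
  have h2 : Module.finrank K (LinearMap.range ((N ^ k).mulVecLin.restrict hmaps)) ≤
      Module.finrank K (LinearMap.ker N.mulVecLin) := Submodule.finrank_le _
  have hle : LinearMap.ker (N ^ k).mulVecLin ≤ LinearMap.ker (N ^ (k + 1)).mulVecLin := by
    intro x hx
    rw [LinearMap.mem_ker, Matrix.mulVecLin_apply] at hx ⊢
    rw [pow_succ', ← Matrix.mulVec_mulVec, hx, Matrix.mulVec_zero]
  have h3 : Module.finrank K (LinearMap.ker ((N ^ k).mulVecLin.restrict hmaps)) =
      Module.finrank K (LinearMap.ker (N ^ k).mulVecLin) := by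
    rw [LinearMap.ker_restrict]
    exact (Submodule.comapSubtypeEquivOfLe hle).finrank_eq
  omega

/-- If the kernel of `N` is a line, the kernel of `N ^ k` has dimension at most `k`. -/
theorem helper77_ker_pow_le {ι : Type} [Fintype ι] [DecidableEq ι] (N : Matrix ι ι K)
    (h : Module.finrank K (LinearMap.ker N.mulVecLin) = 1) (k : ℕ) :
    Module.finrank K (LinearMap.ker (N ^ k).mulVecLin) ≤ k := by
  induction k with
  | zero => rw [pow_zero, Matrix.mulVecLin_one, LinearMap.ker_id, finrank_bot]
  | succ k ih =>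
    have := helper77_ker_growth N k
    omega

/-- The chain `v, N v, ..., N ^ (m - 1) v` is linearly independent when `N ^ m v = 0` and
`N ^ (m - 1) v ≠ 0`. -/
theorem helper77_chain_indep {ι : Type} [Fintype ι] [DecidableEq ι] (N : Matrix ι ι K)
    (v : ι → K) (m : ℕ) (hm : (N ^ m) *ᵥ v = 0) (hv : (N ^ (m - 1)) *ᵥ v ≠ 0) :
    LinearIndependent K (fun j : Fin m => (N ^ (j : ℕ)) *ᵥ v) := by
  rw [Fintype.linearIndependent_iff]
  intro c hc
  have key : ∀ i : ℕ, ∀ hi : i < m, c ⟨i, hi⟩ = 0 := by
    intro i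
    induction i using Nat.strong_induction_on with
    | _ i ih =>
      intro hi
      have h1 := congrArg (fun w => (N ^ (m - 1 - i)) *ᵥ w) hc
      simp only [mulVec_sum, mulVec_smul, mulVec_mulVec, mulVec_zero, ← pow_add] at h1
      rw [Finset.sum_eq_single ⟨i, hi⟩] at h1
      · have e : m - 1 - i + i = m - 1 := by omega
        rw [e] at h1
        exact (smul_eq_zero.1 h1).resolve_right hv
      · intro j _ hj
        have hne : j.val ≠ i := fun h => hj (Fin.ext h)
        rcases lt_or_gt_of_ne hne with h | h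
        · have := ih j.val h j.isLt
          rw [this, zero_smul]
        · have h0 : N ^ (m - 1 - i + j.val) *ᵥ v = 0 := by
            obtain ⟨d, hd⟩ : ∃ d, m - 1 - i + j.val = d + m := ⟨j.val - i - 1, by omega⟩
            rw [hd, pow_add, ← mulVec_mulVec, hm, mulVec_zero]
          rw [h0, smul_zero]
      · intro h
        exact absurd (Finset.mem_univ _) h
  intro i
  exact key i.val i.isLt

/-- Right multiplication by the upper Jordan block. -/
theorem helper77_mul_J (n : ℕ) (J x : Matrix (Fin n) (Fin n) K)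
    (hJ : ∀ i j : Fin n, J i j = if i = j then 1 else if j.val = i.val + 1 then 1 else 0)
    (i j : Fin n) :
    (x * J) i j = x i j +
      (if 0 < j.val then x i ⟨j.val - 1, lt_of_le_of_lt (Nat.sub_le _ _) j.isLt⟩ else 0) := by
  rw [Matrix.mul_apply]
  have hterm : ∀ l : Fin n, x i l * J l j =
      (if l = j then x i j else 0) + (if j.val = l.val + 1 then x i l else 0) := by
    intro l
    rw [hJ]
    by_cases h1 : l = j
    · subst h1
      simp
    · by_cases h2 : j.val = l.val + 1
      · simp [h1, h2]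
      · simp [h1, h2]
  simp_rw [hterm, Finset.sum_add_distrib]
  congr 1
  · simp
  · by_cases hj : 0 < j.val
    · rw [if_pos hj]
      rw [Finset.sum_eq_single ⟨j.val - 1, lt_of_le_of_lt (Nat.sub_le _ _) j.isLt⟩]
      · rw [if_pos]
        simp only
        omega
      · intro l _ hl
        rw [if_neg]
        intro h
        apply hl
        apply Fin.ext
        simp only
        omega
      · intro h
        exact absurd (Finset.mem_univ _) h
    · rw [if_neg hj]
      apply Finset.sum_eq_zero
      intro l _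
      rw [if_neg]
      omega

end Cfsg.Agent.Lib.helper77.LevA

namespace Cfsg.Agent.Lib.helper51.Lev

open Matrix Cfsg.Agent.Lib.helper77.LevA

variable {K : Type*} [Field K]

/-- PIECE JORD: a regular unipotent matrix is conjugate to the standard Jordan block. -/
theorem ru_to_J (n : ℕ) (J : GL (Fin n) K)
    (hJ : ∀ i j : Fin n, (J : Matrix (Fin n) (Fin n) K) i j =
      if i = j then 1 else if j.val = i.val + 1 then 1 else 0)
    (A : Matrix (Fin n) (Fin n) K) (hA : RU A) :
    ∃ x : GL (Fin n) K, A = ((x * J * x⁻¹ : GL (Fin n) K) : Matrix (Fin n) (Fin n) K) := by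
  obtain ⟨hnil, hrk⟩ := hA
  rw [Fintype.card_fin] at hrk
  have hker : Module.finrank K (LinearMap.ker (A - 1).mulVecLin) = 1 := by
    have := helper77_rank_add_ker (A - 1)
    rw [Fintype.card_fin] at this
    omega
  -- the nilpotency index is `n`
  obtain ⟨v, hv, hNn⟩ : ∃ v : Fin n → K, ((A - 1) ^ (n - 1)) *ᵥ v ≠ 0 ∧ (A - 1) ^ n = 0 := by
    classical
    have hex : ∃ m, (A - 1) ^ m = 0 := hnil
    obtain ⟨m, hm, hmin⟩ : ∃ m, (A - 1) ^ m = 0 ∧ ∀ k < m, (A - 1) ^ k ≠ 0 :=
      ⟨Nat.find hex, Nat.find_spec hex, fun k hk => Nat.find_min hex hk⟩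
    have hnm : n ≤ m := by
      have h1 := helper77_ker_pow_le (A - 1) hker m
      rw [hm, Matrix.mulVecLin_zero, LinearMap.ker_zero, finrank_top,
        Module.finrank_fintype_fun_eq_card, Fintype.card_fin] at h1
      exact h1
    have hm1 : (A - 1) ^ (m - 1) ≠ 0 := hmin (m - 1) (by omega)
    obtain ⟨v, hv⟩ : ∃ v : Fin n → K, ((A - 1) ^ (m - 1)) *ᵥ v ≠ 0 := by
      by_contra hcon
      apply hm1
      rw [Matrix.ext_iff_mulVec]
      intro w
      rw [Matrix.zero_mulVec]
      by_contra hw
      exact hcon ⟨w, hw⟩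
    have hind := helper77_chain_indep (A - 1) v m (by rw [hm, Matrix.zero_mulVec]) hv
    have hmn : m ≤ n := by
      have := hind.fintype_card_le_finrank
      rw [Fintype.card_fin, Module.finrank_fintype_fun_eq_card, Fintype.card_fin] at this
      exact this
    obtain rfl : m = n := le_antisymm hmn hnm
    exact ⟨v, hv, hm⟩
  have hind : LinearIndependent K (fun j : Fin n => ((A - 1) ^ (j : ℕ)) *ᵥ v) :=
    helper77_chain_indep (A - 1) v n (by rw [hNn, Matrix.zero_mulVec]) hv
  -- the conjugating matrix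
  have hxu : IsUnit (Matrix.of (fun i j : Fin n => (((A - 1) ^ (n - 1 - j.val)) *ᵥ v) i)) := by
    rw [← Matrix.linearIndependent_cols_iff_isUnit]
    have h1 := hind.comp Fin.rev Fin.rev_injective
    convert h1 using 1
    funext j
    funext i
    have e : n - (j.val + 1) = n - 1 - j.val := by omega
    simp [Matrix.col_apply, Fin.val_rev, e]
  have hAx : A * Matrix.of (fun i j : Fin n => (((A - 1) ^ (n - 1 - j.val)) *ᵥ v) i) =
      Matrix.of (fun i j : Fin n => (((A - 1) ^ (n - 1 - j.val)) *ᵥ v) i) *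
        (J : Matrix (Fin n) (Fin n) K) := by
    ext i j
    rw [helper77_mul_J n _ _ hJ i j]
    have h1 : (A * Matrix.of (fun i j : Fin n => (((A - 1) ^ (n - 1 - j.val)) *ᵥ v) i)) i j =
        (A *ᵥ (((A - 1) ^ (n - 1 - j.val)) *ᵥ v)) i := rfl
    have hA2 : A *ᵥ (((A - 1) ^ (n - 1 - j.val)) *ᵥ v) =
        ((A - 1) ^ (n - 1 - j.val + 1)) *ᵥ v + ((A - 1) ^ (n - 1 - j.val)) *ᵥ v := by
      rw [pow_succ', ← Matrix.mulVec_mulVec, Matrix.sub_mulVec, Matrix.one_mulVec,
        sub_add_cancel]
    rw [h1, hA2, Pi.add_apply, add_comm]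
    congr 1
    have hjn := j.isLt
    by_cases hj : 0 < j.val
    · rw [if_pos hj]
      have e : n - 1 - j.val + 1 = n - 1 - (j.val - 1) := by omega
      rw [e]
      rfl
    · rw [if_neg hj]
      have e : n - 1 - j.val + 1 = n := by omega
      rw [e, hNn, Matrix.zero_mulVec]
      rfl
  refine ⟨hxu.unit, ?_⟩
  have hinv : Matrix.of (fun i j : Fin n => (((A - 1) ^ (n - 1 - j.val)) *ᵥ v) i) *
      ((hxu.unit⁻¹ : GL (Fin n) K) : Matrix (Fin n) (Fin n) K) = 1 := by
    have := Units.mul_inv hxu.unit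
    rwa [IsUnit.unit_spec] at this
  rw [Units.val_mul, Units.val_mul, IsUnit.unit_spec, ← hAx, Matrix.mul_assoc, hinv,
    Matrix.mul_one]

end Cfsg.Agent.Lib.helper51.Lev
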