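import Mathlib

/-!
# S2930 piece D1 (helper77): a 3-group of permutations of `Fin n`, `3 ∣ n`, commutes with a
fixed-point-free permutation of order dividing 3.
-/

set_option autoImplicit false
open Equiv Equiv.Perm MulAction

namespace Cfsg.Agent.Lib.helper77.S2930

/-- `(3k)! / (3^k k!)` -/
def tripleFac : ℕ → ℕ
  | 0 => 1
  | (k + 1) => (3 * k + 1) * (3 * k + 2) * tripleFac k

theorem tripleFac_spec (k : ℕ) :
    (3 * k).factorial = 3 ^ k * k.factorial * tripleFac k := by
  induction k with
  | zero => simp [tripleFac]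
  | succ k ih =>
    rw [show 3 * (k + 1) = (3 * k + 2) + 1 by ring, Nat.factorial_succ, Nat.factorial_succ,
      Nat.factorial_succ, ih, Nat.factorial_succ, tripleFac]
    ring

theorem tripleFac_not_dvd (k : ℕ) : ¬ 3 ∣ tripleFac k := by
  induction k with
  | zero => simp [tripleFac]
  | succ k ih =>
    rw [tripleFac]
    intro h
    rcases (Nat.Prime.dvd_mul Nat.prime_three).mp h with h1 | h1
    · rcases (Nat.Prime.dvd_mul Nat.prime_three).mp h1 with h2 | h2
      · omega
      · omega
    · exact ih h1

/-- The number of fixed-point-free permutations of cycle type `3^k` of a set with `3k` elements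
is not divisible by 3. -/
theorem card_cycleType_replicate_three {α : Type*} [Fintype α] [DecidableEq α] (k : ℕ)
    (hα : Fintype.card α = 3 * k) :
    ¬ 3 ∣ Fintype.card {g : Perm α // g.cycleType = Multiset.replicate k 3} := by
  rcases Nat.eq_zero_or_pos k with hk | hk
  · subst hk
    have : Fintype.card {g : Perm α // g.cycleType = Multiset.replicate 0 3} = 1 := by
      rw [Fintype.card_eq_one_iff]
      refine ⟨⟨1, by simp⟩, ?_⟩
      rintro ⟨g, hg⟩
      apply Subtype.ext
      simpa using hg
    rw [this]
    omega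
  have h := card_of_cycleType_mul_eq α (Multiset.replicate k 3)
  have hsum : (Multiset.replicate k 3).sum = 3 * k := by
    rw [Multiset.sum_replicate]; simp [mul_comm]
  have hprod : (Multiset.replicate k 3).prod = 3 ^ k := by
    rw [Multiset.prod_replicate]
  have htf : (Multiset.replicate k 3).toFinset = {3} := by
    rw [Multiset.toFinset_replicate]; simp [hk.ne']
  rw [if_pos, hsum, hprod, htf, hα] at h
  · simp only [Nat.sub_self, Nat.factorial_zero, one_mul, Finset.prod_singleton,
      Multiset.count_replicate_self] at h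
    rw [tripleFac_spec k, mul_comm] at h
    have h3 := Nat.eq_of_mul_eq_mul_left (by positivity) h
    rw [Fintype.card_subtype, h3]
    exact tripleFac_not_dvd k
  · refine ⟨by rw [hsum, hα], ?_⟩
    intro a ha
    rw [Multiset.eq_of_mem_replicate ha]
    norm_num

/-- PIECE D1. -/
theorem exists_fpf_three_comm (n : ℕ) (hn : 3 ∣ n) (P : Subgroup (Perm (Fin n)))
    (hP : IsPGroup 3 P) :
    ∃ z : Perm (Fin n), (∀ x, z x ≠ x) ∧ z ^ 3 = 1 ∧ ∀ g ∈ P, g * z = z * g := by
  classical
  obtain ⟨k, rfl⟩ := hn
  have hα : Fintype.card (Fin (3 * k)) = 3 * k := Fintype.card_fin _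
  let T := {g : Perm (Fin (3 * k)) // g.cycleType = Multiset.replicate k 3}
  let _inst : MulAction P T :=
    { smul := fun p g => ⟨(p : Perm (Fin (3 * k))) * g.1 * (p : Perm (Fin (3 * k)))⁻¹, by
        rw [cycleType_conj]; exact g.2⟩
      one_smul := fun g => by
        apply Subtype.ext
        show ((1 : P) : Perm (Fin (3 * k))) * g.1 * ((1 : P) : Perm (Fin (3 * k)))⁻¹ = g.1
        simp
      mul_smul := fun p q g => by
        apply Subtype.ext
        show ((p * q : P) : Perm (Fin (3 * k))) * g.1 * ((p * q : P) : Perm (Fin (3 * k)))⁻¹ =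
          (p : Perm (Fin (3 * k))) * ((q : Perm (Fin (3 * k))) * g.1 *
            (q : Perm (Fin (3 * k)))⁻¹) * (p : Perm (Fin (3 * k)))⁻¹
        simp [mul_assoc] }
  have hnd : ¬ 3 ∣ Nat.card T := by
    rw [Nat.card_eq_fintype_card]
    exact card_cycleType_replicate_three k hα
  have hne : (fixedPoints P T).Nonempty := by
    have : Fact (Nat.Prime 3) := ⟨Nat.prime_three⟩
    exact hP.nonempty_fixed_point_of_prime_not_dvd_card T hnd
  obtain ⟨⟨τ, hτ⟩, hfix⟩ := hne
  refine ⟨τ, ?_, ?_, ?_⟩
  · intro x
    have hs : τ.support.card = Fintype.card (Fin (3 * k)) := by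
      rw [← sum_cycleType, hτ, Multiset.sum_replicate, hα]; simp [mul_comm]
    have : τ.support = Finset.univ := Finset.eq_univ_of_card _ hs
    have hx : x ∈ τ.support := by rw [this]; exact Finset.mem_univ x
    exact mem_support.mp hx
  · have hl : ∀ i : ℕ, (Multiset.replicate i 3).lcm ∣ 3 := by
      intro i
      induction i with
      | zero => simp
      | succ i ih =>
        rw [Multiset.replicate_succ, Multiset.lcm_cons]
        exact lcm_dvd dvd_rfl ih
    have ho : orderOf τ ∣ 3 := by
      rw [← lcm_cycleType, hτ]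
      exact hl _
    exact orderOf_dvd_iff_pow_eq_one.mp ho
  · intro p hp
    have h1 := hfix ⟨p, hp⟩
    have h2 : (p : Perm (Fin (3 * k))) * τ * (p : Perm (Fin (3 * k)))⁻¹ = τ :=
      congrArg Subtype.val h1
    calc p * τ = p * τ * p⁻¹ * p := by group
      _ = τ * p := by rw [h2]

end Cfsg.Agent.Lib.helper77.S2930
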