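import Mathlib
import Cfsg.Agent.Lib.helper37.ThreeCyc

/-!
# S2930 piece D3 (helper77): the centralizer of a fixed-point-free permutation of order 3
does not contain the alternating group (degree at least 5).
-/

set_option autoImplicit false
open Equiv Equiv.Perm

namespace Cfsg.Agent.Lib.helper77.S2930

open Cfsg.Agent.Lib.helper37

/-- PIECE D3. -/
theorem cent_not_alt (n : ℕ) (hn : 5 ≤ n) (z : Perm (Fin n)) (hz : ∀ x, z x ≠ x)
    (hz3 : z ^ 3 = 1) : ¬ alternatingGroup (Fin n) ≤ Subgroup.centralizer {z} := by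
  classical
  intro hle
  have _h3 := hz3
  let x : Fin n := ⟨0, by omega⟩
  obtain ⟨y, -, hy⟩ := Finset.exists_mem_notMem_of_card_lt_card
    (s := ({x, z x, z (z x)} : Finset (Fin n))) (t := Finset.univ) (by
      calc _ ≤ 3 := Finset.card_le_three
        _ < Fintype.card (Fin n) := by rw [Fintype.card_fin]; omega
        _ = Finset.univ.card := Finset.card_univ.symm)
  simp only [Finset.mem_insert, Finset.mem_singleton, not_or] at hy
  obtain ⟨hyx, hyz, hyzz⟩ := hy
  have hxz : x ≠ z x := fun h => hz x h.symm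
  have hc : c3 x (z x) y ∈ alternatingGroup (Fin n) :=
    (isThreeCycle_c3 hxz (Ne.symm hyx) (Ne.symm hyz)).mem_alternatingGroup
  have h1 := hle hc
  rw [Subgroup.mem_centralizer_iff] at h1
  have h2 := h1 z (Set.mem_singleton z)
  have h3 := congrArg (fun f : Perm (Fin n) => f x) h2
  simp only [Perm.mul_apply] at h3
  rw [c3_apply_left hxz (Ne.symm hyx), c3_apply_mid (Ne.symm hyx) (Ne.symm hyz)] at h3
  exact hyzz h3.symm

end Cfsg.Agent.Lib.helper77.S2930
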