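import Mathlib

/-!
# S2930 piece G3 (helper77): an automorphism of `A_6` of 3-power order preserves 3-cycles.

In `A_6` the elements of order 3 are the 40 three-cycles and the 40 double three-cycles; an
automorphism either preserves the two classes or swaps them, and an automorphism of odd order
cannot swap them.
-/

set_option autoImplicit false
open Equiv Equiv.Perm

namespace Cfsg.Agent.Lib.helper77.S2930

theorem a6_card_three :
    (Finset.univ.filter (fun g : Perm (Fin 6) => g.cycleType = {3})).card = 40 := by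
  rw [Equiv.Perm.card_of_cycleType]
  simp
  decide

theorem a6_card_three_three :
    (Finset.univ.filter (fun g : Perm (Fin 6) => g.cycleType = {3, 3})).card = 40 := by
  rw [Equiv.Perm.card_of_cycleType]
  simp
  decide

theorem a6_mem_alt_of_three_three (g : Perm (Fin 6)) (hg : g.cycleType = {3, 3}) :
    g ∈ alternatingGroup (Fin 6) := by
  rw [Equiv.Perm.mem_alternatingGroup, Equiv.Perm.sign_of_cycleType, hg]
  decide

theorem a6_card_filter_sub (m : Multiset ℕ)
    (hm : ∀ g : Perm (Fin 6), g.cycleType = m → g ∈ alternatingGroup (Fin 6)) :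
    ((Finset.univ : Finset ↥(alternatingGroup (Fin 6))).filter
        (fun x : ↥(alternatingGroup (Fin 6)) => (x : Perm (Fin 6)).cycleType = m)).card =
      (Finset.univ.filter (fun g : Perm (Fin 6) => g.cycleType = m)).card := by
  apply Finset.card_bij (fun (x : ↥(alternatingGroup (Fin 6))) _ => (x : Perm (Fin 6)))
  · intro x hx
    rw [Finset.mem_filter] at hx ⊢
    exact ⟨Finset.mem_univ _, hx.2⟩
  · intro x _ y _ h
    exact Subtype.ext h
  · intro g hg
    rw [Finset.mem_filter] at hg
    exact ⟨⟨g, hm g hg.2⟩, Finset.mem_filter.mpr ⟨Finset.mem_univ _, hg.2⟩, rfl⟩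

theorem a6_cycleType_of_order_three (g : Perm (Fin 6)) (hg : orderOf g = 3) :
    g.cycleType = {3} ∨ g.cycleType = {3, 3} := by
  obtain ⟨n, hn⟩ := Equiv.Perm.cycleType_prime_order (σ := g) (by rw [hg]; exact Nat.prime_three)
  rw [hg] at hn
  have hsum : g.cycleType.sum ≤ 6 := by
    rw [sum_cycleType]
    calc g.support.card ≤ Fintype.card (Fin 6) := Finset.card_le_univ _
      _ = 6 := Fintype.card_fin 6
  rw [hn, Multiset.sum_replicate] at hsum
  have hn1 : n = 0 ∨ n = 1 := by
    simp only [smul_eq_mul] at hsum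
    omega
  rcases hn1 with rfl | rfl
  · left; rw [hn]; rfl
  · right; rw [hn]; rfl

/-- PIECE G3. -/
theorem aut6_isThreeCycle (φ : ↥(alternatingGroup (Fin 6)) ≃* ↥(alternatingGroup (Fin 6)))
    (k : ℕ) (hφ : ∀ x, (⇑φ)^[3 ^ k] x = x) (x : ↥(alternatingGroup (Fin 6)))
    (hx : IsThreeCycle (x : Perm (Fin 6))) :
    IsThreeCycle ((φ x : ↥(alternatingGroup (Fin 6))) : Perm (Fin 6)) := by
  let T : ↥(alternatingGroup (Fin 6)) → Prop := fun y => (y : Perm (Fin 6)).cycleType = {3}
  let D : ↥(alternatingGroup (Fin 6)) → Prop := fun y => (y : Perm (Fin 6)).cycleType = {3, 3}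
  have hTD : ∀ y, T y → ¬ D y := by
    intro y h1 h2
    have h3 : ({3} : Multiset ℕ) = {3, 3} := h1.symm.trans h2
    exact absurd h3 (by decide)
  have hord : ∀ y : ↥(alternatingGroup (Fin 6)), (T y ∨ D y) →
      orderOf (y : Perm (Fin 6)) = 3 := by
    rintro y (h | h)
    · exact IsThreeCycle.orderOf h
    · rw [← lcm_cycleType, h]
      rfl
  have hTDφ : ∀ y : ↥(alternatingGroup (Fin 6)), (T y ∨ D y) → (T (φ y) ∨ D (φ y)) := by
    intro y hy
    apply a6_cycleType_of_order_three
    rw [Subgroup.orderOf_coe, MulEquiv.orderOf_eq, ← Subgroup.orderOf_coe]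
    exact hord y hy
  by_contra hcon
  have hxT : T x := hx
  have c1 : ∀ y, T y → D (φ y) := by
    intro y hy
    rcases hTDφ y (Or.inl hy) with h | h
    · exfalso
      obtain ⟨g, hg⟩ := isConj_iff.mp
        (alternatingGroup.isThreeCycle_isConj (by rw [Nat.card_fin]; norm_num) hy hx)
      apply hcon
      have h1 : φ x = φ g * φ y * (φ g)⁻¹ := by
        rw [← hg]
        simp
      show ((φ x : ↥(alternatingGroup (Fin 6))) : Perm (Fin 6)).cycleType = {3}
      rw [h1, Subgroup.coe_mul, Subgroup.coe_mul, Subgroup.coe_inv, cycleType_conj]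
      exact h
    · exact h
  let Tf : Finset ↥(alternatingGroup (Fin 6)) :=
    Finset.univ.filter (fun y : ↥(alternatingGroup (Fin 6)) => (y : Perm (Fin 6)).cycleType = {3})
  let Df : Finset ↥(alternatingGroup (Fin 6)) :=
    Finset.univ.filter
      (fun y : ↥(alternatingGroup (Fin 6)) => (y : Perm (Fin 6)).cycleType = {3, 3})
  have hTc : Tf.card = 40 :=
    (a6_card_filter_sub {3} (fun g hg => IsThreeCycle.mem_alternatingGroup hg)).trans
      a6_card_three
  have hDc : Df.card = 40 :=
    (a6_card_filter_sub {3, 3} a6_mem_alt_of_three_three).trans a6_card_three_three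
  have himg : Tf.image φ = Df := by
    apply Finset.eq_of_subset_of_card_le
    · intro y hy
      rw [Finset.mem_image] at hy
      obtain ⟨w, hw, rfl⟩ := hy
      rw [Finset.mem_filter] at hw ⊢
      exact ⟨Finset.mem_univ _, c1 w hw.2⟩
    · rw [Finset.card_image_of_injective _ φ.injective, hTc, hDc]
  have c2 : ∀ y, D y → T (φ y) := by
    intro y hy
    rcases hTDφ y (Or.inr hy) with h | h
    · exact h
    · exfalso
      have h1 : φ y ∈ Tf.image φ := by
        rw [himg, Finset.mem_filter]
        exact ⟨Finset.mem_univ _, h⟩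
      rw [Finset.mem_image] at h1
      obtain ⟨w, hw, hwy⟩ := h1
      have h2 := φ.injective hwy
      subst h2
      exact hTD w (Finset.mem_filter.mp hw).2 hy
  have c3 : ∀ m : ℕ, ∀ y, T y → T ((⇑φ)^[2 * m] y) := by
    intro m
    induction m with
    | zero => intro y hy; exact hy
    | succ m ih =>
      intro y hy
      rw [show 2 * (m + 1) = 2 * m + 2 by ring, Function.iterate_add_apply]
      exact ih _ (c2 _ (c1 _ hy))
  obtain ⟨m, hm⟩ : ∃ m, 3 ^ k = 2 * m + 1 := by
    have hodd : Odd (3 ^ k) := Odd.pow (by decide)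
    exact hodd
  have h1 := hφ x
  rw [hm, Function.iterate_succ_apply'] at h1
  have h2 : D (φ ((⇑φ)^[2 * m] x)) := c1 _ (c3 m x hxT)
  rw [h1] at h2
  exact hTD x hxT h2

end Cfsg.Agent.Lib.helper77.S2930
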