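import Mathlib
import Cfsg.Agent.Lib.helper37.ThreeCyc

/-!
# S2930 piece G4 (helper77): a permutation commuting with the alternating group of degree at
least 4 is trivial.
-/

set_option autoImplicit false
open Equiv Equiv.Perm

namespace Cfsg.Agent.Lib.helper77.S2930

open Cfsg.Agent.Lib.helper37

/-- PIECE G4. -/
theorem perm_eq_one_of_commute_alt (n : ℕ) (hn : 4 ≤ n) (τ : Perm (Fin n))
    (h : ∀ x ∈ alternatingGroup (Fin n), τ * x = x * τ) : τ = 1 := by
  classical
  by_contra hne
  obtain ⟨a, ha⟩ : ∃ a, τ a ≠ a := by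
    by_contra h'
    push Not at h'
    exact hne (Equiv.Perm.ext h')
  obtain ⟨c, -, hc⟩ := Finset.exists_mem_notMem_of_card_lt_card
    (s := ({a, τ a} : Finset (Fin n))) (t := Finset.univ) (by
      calc _ ≤ 2 := Finset.card_le_two
        _ < Fintype.card (Fin n) := by rw [Fintype.card_fin]; omega
        _ = Finset.univ.card := Finset.card_univ.symm)
  obtain ⟨d, -, hd⟩ := Finset.exists_mem_notMem_of_card_lt_card
    (s := ({a, τ a, c} : Finset (Fin n))) (t := Finset.univ) (by
      calc _ ≤ 3 := Finset.card_le_three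
        _ < Fintype.card (Fin n) := by rw [Fintype.card_fin]; omega
        _ = Finset.univ.card := Finset.card_univ.symm)
  simp only [Finset.mem_insert, Finset.mem_singleton, not_or] at hc hd
  obtain ⟨hca, hcs⟩ := hc
  obtain ⟨hda, hds, hdc⟩ := hd
  -- the 3-cycle `τ a ↦ c ↦ d ↦ τ a` fixes `a`
  have hmem : c3 (τ a) c d ∈ alternatingGroup (Fin n) :=
    (isThreeCycle_c3 (Ne.symm hcs) (Ne.symm hds) (Ne.symm hdc)).mem_alternatingGroup
  have h1 := congrArg (fun f : Perm (Fin n) => f a) (h _ hmem)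
  simp only [Perm.mul_apply] at h1
  rw [c3_apply_of_ne ha.symm (Ne.symm hca) (Ne.symm hda),
    c3_apply_left (Ne.symm hcs) (Ne.symm hds)] at h1
  exact hcs h1.symm

end Cfsg.Agent.Lib.helper77.S2930
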