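import Cfsg.Agent.Lib.helper95.APDefs

/-! S2276 split (architect helper95), piece PPOW: the cycles of a permutation of `p`-power order
have `p`-power lengths. -/

set_option autoImplicit false

namespace Cfsg.Agent.Lib.helper95.AP

open Equiv

/-- [PPOW] the cycles of an element of `p`-power order have `p`-power lengths -/
theorem ppow (p : ℕ) (hp : p.Prime) {n : ℕ} (U : Perm (Fin n)) (hU : ∃ k : ℕ, orderOf U = p ^ k) :
    ∀ c ∈ U.cycleType, ∃ j : ℕ, 1 ≤ j ∧ c = p ^ j := by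
  intro c hc
  obtain ⟨k, hk⟩ := hU
  have h1 : c ∣ p ^ k := hk ▸ Equiv.Perm.dvd_of_mem_cycleType hc
  obtain ⟨j, -, hj⟩ := (Nat.dvd_prime_pow hp).1 h1
  have h2 : 2 ≤ c := Equiv.Perm.two_le_of_mem_cycleType hc
  refine ⟨j, ?_, hj⟩
  by_contra h0
  have hj0 : j = 0 := by omega
  rw [hj, hj0, pow_zero] at h2
  omega

end Cfsg.Agent.Lib.helper95.AP
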