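import Mathlib

set_option autoImplicit false

namespace Cfsg.Agent.Lib.helper77.Hup

/-- Orbit counting for a linear automorphism of prime order `ℓ` on an invariant subspace. -/
theorem card_invariant_modEq {q : ℕ} [Fact q.Prime] {V : Type*} [AddCommGroup V]
    [Module (ZMod q) V] [Finite V] (x : V ≃ₗ[ZMod q] V) (ℓ : ℕ) (hℓ : ℓ.Prime) (hx : x ^ ℓ = 1)
    (W : Submodule (ZMod q) V) (hW : ∀ v ∈ W, x v ∈ W) :
    Nat.card W ≡ Nat.card
      (W ⊓ LinearMap.ker ((x : V →ₗ[ZMod q] V) - LinearMap.id) : Submodule (ZMod q) V)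
      [MOD ℓ] := by
  classical
  have : Fact ℓ.Prime := ⟨hℓ⟩
  have : Fintype W := Fintype.ofFinite W
  let f : Function.End W := fun w => ⟨x w, hW w w.2⟩
  have hpow : ∀ (n : ℕ) (w : W), (((f ^ n) w : W) : V) = (x ^ n) w := by
    intro n
    induction n with
    | zero => intro w; rw [pow_zero, pow_zero]; rfl
    | succ n ih =>
      intro w
      rw [pow_succ, pow_succ]
      change (((f ^ n) (f w) : W) : V) = (x ^ n) (x w)
      rw [ih]
  have hf : f ^ ℓ ^ 1 = 1 := by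
    funext w
    apply Subtype.ext
    rw [pow_one, hpow, hx]
    rfl
  have key := Equiv.Perm.card_fixedPoints_modEq (p := ℓ) (n := 1) hf
  have hmem : ∀ v : V, v ∈ LinearMap.ker ((x : V →ₗ[ZMod q] V) - LinearMap.id) ↔ x v = v := by
    intro v
    simp [LinearMap.mem_ker, sub_eq_zero]
  have e : Function.fixedPoints (f : W → W) ≃
      (W ⊓ LinearMap.ker ((x : V →ₗ[ZMod q] V) - LinearMap.id) : Submodule (ZMod q) V) :=
    { toFun := fun w => ⟨(w.1 : V), ⟨w.1.2, (hmem _).mpr (congrArg Subtype.val w.2)⟩⟩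
      invFun := fun v => ⟨⟨v.1, v.2.1⟩, Subtype.ext ((hmem _).mp v.2.2)⟩
      left_inv := fun w => rfl
      right_inv := fun v => rfl }
  rw [Nat.card_eq_fintype_card, ← Nat.card_congr e, Nat.card_eq_fintype_card]
  convert key

/-- Arithmetic: `q ^ k ≡ q ^ k₀ (mod ℓ)` with `k₀ ≤ k` and `ℓ ≠ q` primes gives
`ℓ ∣ q ^ (k - k₀) - 1`. -/
theorem dvd_pow_sub_one_of_modEq {q ℓ k k₀ : ℕ} (hq : q.Prime) (hℓ : ℓ.Prime) (hℓq : ℓ ≠ q)
    (hk : k₀ ≤ k) (h : q ^ k ≡ q ^ k₀ [MOD ℓ]) : ℓ ∣ q ^ (k - k₀) - 1 := by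
  have hle : q ^ k₀ ≤ q ^ k := Nat.pow_le_pow_right hq.pos hk
  have h1 : ℓ ∣ q ^ k - q ^ k₀ := (Nat.modEq_iff_dvd' hle).mp h.symm
  have h2 : q ^ k - q ^ k₀ = q ^ k₀ * (q ^ (k - k₀) - 1) := by
    rw [Nat.mul_sub, mul_one, ← pow_add, Nat.add_sub_cancel' hk]
  rw [h2] at h1
  have hcop : Nat.Coprime ℓ (q ^ k₀) :=
    Nat.Coprime.pow_right _ ((Nat.coprime_primes hℓ hq).mpr hℓq)
  exact hcop.dvd_of_dvd_mul_left h1

/-- Hand-off H10 for S3360: an element of prime order `ℓ ≠ q` of `GL(V)`, `V` over `ZMod q`,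
with `ℓ` a primitive prime divisor of `q ^ finrank V - 1`, is fixed-point-free and
irreducible. -/
theorem ppd_element {q : ℕ} [Fact q.Prime] {V : Type*} [AddCommGroup V] [Module (ZMod q) V]
    [Finite V] [Nontrivial V]
    (x : V ≃ₗ[ZMod q] V) (ℓ : ℕ) (hℓ : ℓ.Prime) (hx : x ^ ℓ = 1)
    (hx1 : x ≠ 1) (hℓq : ℓ ≠ q)
    (hppd : ∀ k, 0 < k → k < Module.finrank (ZMod q) V → ¬ ℓ ∣ q ^ k - 1) :
    (∀ v : V, x v = v → v = 0) ∧
    (∀ W : Submodule (ZMod q) V, (∀ v ∈ W, x v ∈ W) → W = ⊥ ∨ W = ⊤) := by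
  classical
  have hq : q.Prime := Fact.out
  have hfin : Module.Finite (ZMod q) V := Module.Finite.of_finite
  have hcard : ∀ U : Submodule (ZMod q) V, Nat.card U = q ^ Module.finrank (ZMod q) U := by
    intro U
    rw [Module.natCard_eq_pow_finrank (K := ZMod q), Nat.card_zmod]
  set n := Module.finrank (ZMod q) V with hn
  have hnpos : 0 < n := Module.finrank_pos
  -- the fixed space
  set F : Submodule (ZMod q) V := LinearMap.ker ((x : V →ₗ[ZMod q] V) - LinearMap.id) with hF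
  have hFmem : ∀ v : V, v ∈ F ↔ x v = v := by
    intro v
    simp [hF, LinearMap.mem_ker, sub_eq_zero]
  have hfirst : ∀ v : V, x v = v → v = 0 := by
    have h1 := card_invariant_modEq x ℓ hℓ hx ⊤ (fun v _ => Submodule.mem_top)
    rw [top_inf_eq, hcard, hcard, finrank_top] at h1
    have hk0 : Module.finrank (ZMod q) F ≤ n := Submodule.finrank_le F
    have h2 := dvd_pow_sub_one_of_modEq hq hℓ hℓq hk0 h1
    have h3 : Module.finrank (ZMod q) F = 0 ∨ Module.finrank (ZMod q) F = n := by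
      by_contra hcon
      push Not at hcon
      exact hppd (n - Module.finrank (ZMod q) F) (by omega) (by omega) h2
    rcases h3 with h3 | h3
    · intro v hv
      have hbot : F = ⊥ := Submodule.finrank_eq_zero.mp h3
      have : v ∈ F := (hFmem v).mpr hv
      rw [hbot] at this
      exact (Submodule.mem_bot _).mp this
    · exfalso
      have htop : F = ⊤ := Submodule.eq_top_of_finrank_eq h3
      apply hx1
      ext v
      have : v ∈ F := by rw [htop]; exact Submodule.mem_top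
      exact (hFmem v).mp this
  refine ⟨hfirst, ?_⟩
  intro W hW
  have h1 := card_invariant_modEq x ℓ hℓ hx W hW
  have hbot : W ⊓ F = ⊥ := by
    rw [eq_bot_iff]
    intro v hv
    exact (Submodule.mem_bot _).mpr (hfirst v ((hFmem v).mp hv.2))
  rw [hbot, hcard, hcard, finrank_bot] at h1
  have h2 := dvd_pow_sub_one_of_modEq hq hℓ hℓq (Nat.zero_le _) h1
  rw [Nat.sub_zero] at h2
  have hk : Module.finrank (ZMod q) W ≤ n := Submodule.finrank_le W
  have h3 : Module.finrank (ZMod q) W = 0 ∨ Module.finrank (ZMod q) W = n := by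
    by_contra hcon
    push Not at hcon
    exact hppd (Module.finrank (ZMod q) W) (by omega) (by omega) h2
  rcases h3 with h3 | h3
  · exact Or.inl (Submodule.finrank_eq_zero.mp h3)
  · exact Or.inr (Submodule.eq_top_of_finrank_eq h3)

end Cfsg.Agent.Lib.helper77.Hup
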