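import Mathlib

/-! S4471 split (helper68), piece W1: `exists_pow_eq_exp`. -/

set_option autoImplicit false

namespace Cfsg.Agent.Lib.helper68.BL

/-- W1 : every nontrivial `p`-th root of unity has a power equal to `exp(2πi/p)`. -/
theorem exists_pow_eq_exp (p : ℕ) (hp : p.Prime) (ω : ℂ) (h1 : ω ^ p = 1) (h2 : ω ≠ 1) :
    ∃ k : ℕ, ω ^ k = Complex.exp (2 * Real.pi * Complex.I / p) := by
  have hfact : Fact p.Prime := ⟨hp⟩
  have hne : NeZero p := ⟨hp.ne_zero⟩
  have hord : orderOf ω = p := orderOf_eq_prime h1 h2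
  have hprim : IsPrimitiveRoot ω p := by
    have h0 := IsPrimitiveRoot.orderOf ω
    rw [hord] at h0
    exact h0
  have hz : Complex.exp (2 * Real.pi * Complex.I / p) ^ p = 1 :=
    (Complex.isPrimitiveRoot_exp p hp.ne_zero).pow_eq_one
  obtain ⟨i, -, hi⟩ := hprim.eq_pow_of_pow_eq_one hz
  exact ⟨i, hi⟩

end Cfsg.Agent.Lib.helper68.BL
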