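import Mathlib

/-! S4471 split (helper68), piece W2: `exp_facts`. -/

set_option autoImplicit false

namespace Cfsg.Agent.Lib.helper68.BL

/-- W2 : facts on `ζ = exp(2πi/p)`, `p ≥ 7`: in particular `|ζ - 1| = 2 sin(π/p) < 1`. -/
theorem exp_facts (p : ℕ) (h7 : 7 ≤ p) :
    Complex.exp (2 * Real.pi * Complex.I / p) ^ p = 1 ∧
    Complex.exp (2 * Real.pi * Complex.I / p) ≠ 1 ∧
    star (Complex.exp (2 * Real.pi * Complex.I / p)) * Complex.exp (2 * Real.pi * Complex.I / p) = 1 ∧
    ‖Complex.exp (2 * Real.pi * Complex.I / p) - 1‖ < 1 := by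
  have hp0 : p ≠ 0 := by omega
  have hprim := Complex.isPrimitiveRoot_exp p hp0
  have hpow : Complex.exp (2 * Real.pi * Complex.I / p) ^ p = 1 := hprim.pow_eq_one
  refine ⟨hpow, hprim.ne_one (by omega), ?_, ?_⟩
  · have hn : ‖Complex.exp (2 * Real.pi * Complex.I / p)‖ = 1 :=
      Complex.norm_eq_one_of_pow_eq_one hpow hp0
    rw [Complex.star_def, Complex.conj_mul', hn]
    norm_num
  · have hpR : (7 : ℝ) ≤ (p : ℝ) := by exact_mod_cast h7
    have hppos : (0 : ℝ) < (p : ℝ) := by linarith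
    have harg : 2 * (Real.pi : ℂ) * Complex.I / (p : ℂ) =
        Complex.I * ((2 * Real.pi / (p : ℝ) : ℝ) : ℂ) := by
      push_cast
      ring
    rw [harg, Complex.norm_exp_I_mul_ofReal_sub_one]
    have hx : 2 * Real.pi / (p : ℝ) / 2 = Real.pi / (p : ℝ) := by ring
    rw [hx]
    have hpi := Real.pi_pos
    have hpos : 0 < Real.pi / (p : ℝ) := div_pos hpi hppos
    have hlt : Real.pi / (p : ℝ) < Real.pi / 6 := by
      apply div_lt_div_of_pos_left hpi (by norm_num)
      linarith
    have hsin_pos : 0 < Real.sin (Real.pi / (p : ℝ)) := by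
      apply Real.sin_pos_of_pos_of_lt_pi hpos
      have h6 : Real.pi / 6 < Real.pi := by linarith
      linarith
    have hsin_lt : Real.sin (Real.pi / (p : ℝ)) < 1 / 2 := by
      rw [← Real.sin_pi_div_six]
      apply Real.sin_lt_sin_of_lt_of_le_pi_div_two
      · linarith
      · linarith
      · exact hlt
    rw [Real.norm_eq_abs, abs_of_pos (by linarith)]
    linarith

end Cfsg.Agent.Lib.helper68.BL
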