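import Cfsg.Agent.Lib.helper77.W2P_A5a
import Cfsg.Agent.Lib.helper68.W2PA1

/-!
# S0720 piece A5: the identity (P2)
-/

set_option autoImplicit false

namespace Cfsg.Agent.Lib.helper77.W2P

open Finset Cfsg.Agent.Lib.helper68.W2P
open scoped Classical

variable {p : ℕ} [Fact p.Prime] {ι : Type*}

/-- PIECE A5. -/
theorem P2 (D : Scheme p ι) {ζ : ℂ} (hζ : IsPrimitiveRoot ζ p) (j : ι) (hj : j ≠ D.i0)
    (hstr : ∀ k : ZMod p, k ≠ 0 →
      ∑ a, ∑ b, Complex.normSq (hat (D.B j) (ζ ^ k.val) a b) =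
        ((D.mu j : ℤ) : ℝ) ^ 2 +
          Complex.normSq ((hat (D.B j) (ζ ^ k.val)).trace - ((D.mu j : ℤ) : ℂ))) :
    ((D.R j).card : ℤ) = ((D.S j ∩ D.S' j).card : ℤ) + D.mu j ^ 2 :=
  P2_of D hζ j hj (card_S' D j) (card_R' D j) hstr

end Cfsg.Agent.Lib.helper77.W2P
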