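import Cfsg.Agent.Lib.helper68.W2PDefs
import Cfsg.Agent.Lib.helper68.W2PA1
import Cfsg.Agent.Lib.helper36.W2P_L0

/-!
# S0720 piece A6: no fourth colour
-/

set_option autoImplicit false

namespace Cfsg.Agent.Lib.helper77.W2P

open Finset Cfsg.Agent.Lib.helper68.W2P
open scoped Classical

variable {p : ℕ} [Fact p.Prime] {ι : Type*}

/-- `c_j n_j = c_{i0} mu_j` (the relation `Eig` on the diagonal). -/
theorem a6_c_mul_n (D : Scheme p ι) (c : ι → ℚ) (hctr : ∀ j, c (D.tr j) = c j)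
    (hE : D.Eig c) (j : ι) : c j * (D.n j : ℚ) = c D.i0 * (D.mu j : ℚ) := by
  have h := hE j (0, 0) (0, 0)
  have e : ∀ ω'' ∈ univ.filter (fun ω'' => D.col ((0 : ZMod p), (0 : Fin 2)) ω'' = j),
      c (D.col ω'' (0, 0)) = c j := by
    intro ω'' hω''
    rw [D.col_tr (0, 0) ω'', (Finset.mem_filter.1 hω'').2, hctr]
  rw [Finset.sum_congr rfl e, Finset.sum_const, D.valency, nsmul_eq_mul, (D.diag _ _).2 rfl] at h
  linarith

/-- A sum of `ζ ^ s` over a nonempty set of nonzero residues is not zero. -/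
theorem a6_sum_ne_zero {ζ : ℂ} (hζ : IsPrimitiveRoot ζ p) (T : Finset (ZMod p))
    (hT : T.Nonempty) (h0 : (0 : ZMod p) ∉ T) : ∑ s ∈ T, ζ ^ s.val ≠ 0 := by
  intro h
  have h1 := Cfsg.Agent.Lib.helper36.W2P.zeta_indep hζ (fun s => if s ∈ T then (1 : ℚ) else 0)
    (by
      have e : ∀ s : ZMod p, (((if s ∈ T then (1 : ℚ) else 0 : ℚ)) : ℂ) * ζ ^ s.val
          = if s ∈ T then ζ ^ s.val else 0 := by
        intro s
        split_ifs <;> simp
      rw [Finset.sum_congr rfl (fun s _ => e s), Finset.sum_ite_mem, Finset.univ_inter]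
      exact h)
  obtain ⟨s, hs⟩ := hT
  have h2 := h1 s
  simp only [if_pos hs, if_neg h0] at h2
  exact one_ne_zero h2

/-- PIECE A6. -/
theorem no_fourth [Fintype ι] (D : Scheme p ι) (c : ι → ℚ) (hctr : ∀ j, c (D.tr j) = c j)
    (hc0 : 0 < c D.i0) (hE : D.Eig c) {ζ : ℂ} (hζ : IsPrimitiveRoot ζ p)
    (hk : D.kappa c = 2 * c D.i0)
    (hdiag : ∀ j : ι, hat (D.B j) ζ 0 0 - hat (D.B j) ζ 1 1 =
      (2 * hat (D.E c) ζ 0 0 / ((D.kappa c : ℚ) : ℂ) - 1) *
        (2 * ((D.mu j : ℤ) : ℂ) - (hat (D.B j) ζ).trace))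
    (β : ℕ) (ip im : ι) (hβ : 0 < β) (hip : ip ≠ D.i0) (him : im ≠ D.i0) (hne : ip ≠ im)
    (hap : (D.S ip).card = β * (β + 1)) (hbp : (D.R ip).card = β ^ 2)
    (ham : (D.S im).card = β * (β + 1)) (hbm : (D.R im).card = (β + 1) ^ 2)
    (hrest : ∀ j, j ≠ D.i0 → j ≠ ip → j ≠ im → (D.S j).card = (D.R j).card ∧ D.S j = D.S' j) :
    ∀ j : ι, j = D.i0 ∨ j = ip ∨ j = im := by
  have _h1 := him
  have _h2 := hne
  have _h3 := ham
  have _h4 := hbm
  intro j
  by_contra hcon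
  push Not at hcon
  obtain ⟨hj0, hjp, hjm⟩ := hcon
  obtain ⟨hcard, hSS'⟩ := hrest j hj0 hjp hjm
  have hSpos : 0 < (D.S j).card := by
    have h1 := card_S_add_card_R D j
    have h2 := n_pos D j
    omega
  have hsum_ne : ∑ s ∈ D.S j, ζ ^ s.val ≠ 0 :=
    a6_sum_ne_zero hζ (D.S j) (Finset.card_pos.1 hSpos) (zero_notMem_S D j hj0)
  have hmu : D.mu j = 0 := by
    unfold Scheme.mu
    omega
  have hd := hdiag j
  rw [Matrix.trace_fin_two, hatB_00, hatB_11, ← hSS', sub_self, hmu] at hd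
  have hκ : ((D.kappa c : ℚ) : ℂ) ≠ 0 := by
    rw [hk]
    have : (2 * c D.i0 : ℚ) ≠ 0 := by positivity
    exact_mod_cast this
  have h2 : 2 * hat (D.E c) ζ 0 0 / ((D.kappa c : ℚ) : ℂ) - 1 = 0 := by
    rcases mul_eq_zero.1 hd.symm with h | h
    · exact h
    · exfalso
      apply hsum_ne
      have h' : (2 : ℂ) * ∑ s ∈ D.S j, ζ ^ s.val = 0 := by
        push_cast at h
        linear_combination -h
      rcases mul_eq_zero.1 h' with h3 | h3
      · norm_num at h3
      · exact h3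
  have h3 : hat (D.E c) ζ 0 0 = ((c D.i0 : ℚ) : ℂ) := by
    have h := sub_eq_zero.1 h2
    rw [div_eq_iff hκ, one_mul, hk] at h
    push_cast at h
    linear_combination h / 2
  rw [hatE_apply] at h3
  have h4 := Cfsg.Agent.Lib.helper36.W2P.zeta_indep hζ
    (fun s => c (D.col (0, 0) (s, 0)) - if s = 0 then c D.i0 else 0)
    (by
      have e : ∀ s : ZMod p, (((c (D.col (0, 0) (s, 0)) - if s = 0 then c D.i0 else 0 : ℚ)) : ℂ)
          * ζ ^ s.val = ((c (D.col (0, 0) (s, 0)) : ℚ) : ℂ) * ζ ^ s.val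
            - if s = 0 then ((c D.i0 : ℚ) : ℂ) else 0 := by
        intro s
        by_cases hs : s = 0
        · rw [if_pos hs, if_pos hs, hs]
          push_cast
          simp
        · rw [if_neg hs, if_neg hs]
          simp
      rw [Finset.sum_congr rfl (fun s _ => e s), Finset.sum_sub_distrib, Finset.sum_ite_eq',
        if_pos (Finset.mem_univ _), h3, sub_self])
  obtain ⟨s, hs⟩ : (D.S ip).Nonempty := by
    apply Finset.card_pos.1
    rw [hap]
    positivity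
  have hs0 : s ≠ 0 := by
    intro h
    rw [h] at hs
    exact zero_notMem_S D ip hip hs
  have h5 := h4 s
  simp only [if_neg hs0, sub_zero, if_true, col_i0, sub_self] at h5
  have hcol : D.col (0, 0) (s, 0) = ip := by
    simpa [Scheme.S] using hs
  rw [hcol] at h5
  have h6 := a6_c_mul_n D c hctr hE ip
  rw [h5, zero_mul] at h6
  have hmup : (D.mu ip : ℚ) = (β : ℚ) := by
    unfold Scheme.mu
    rw [hap, hbp]
    push_cast
    ring
  rw [hmup] at h6
  have h7 : 0 < c D.i0 * (β : ℚ) := by positivity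
  linarith
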