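import Cfsg.Agent.Lib.helper68.W2PDefs

/-!
# S0720 piece M: the two facts on `2 × 2` complex matrices

`m2_trichotomy`: a matrix with `M * M = κ M` is `0`, `κ`, or has trace `κ`.
`m2_structure`: for a hermitian `M` with `M * M = κ M` of trace `κ` and `N` with
`N M = M N = μ M`, the matrix `N` is `μ P + θ (1 - P)` with `P = M / κ`, `θ = tr N - μ`.
-/

set_option autoImplicit false

namespace Cfsg.Agent.Lib.helper77.W2P

open Finset
open scoped Classical

/-- PIECE M1. -/
theorem m2_trichotomy (M : Matrix (Fin 2) (Fin 2) ℂ) (κ : ℂ) (hκ : κ ≠ 0)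
    (hM : M * M = κ • M) :
    M = 0 ∨ M = κ • (1 : Matrix (Fin 2) (Fin 2) ℂ) ∨ M.trace = κ := by
  have _h := hκ
  have h00 := congrFun (congrFun hM 0) 0
  have h01 := congrFun (congrFun hM 0) 1
  have h10 := congrFun (congrFun hM 1) 0
  have h11 := congrFun (congrFun hM 1) 1
  simp only [Matrix.mul_apply, Fin.sum_univ_two, Matrix.smul_apply, smul_eq_mul]
    at h00 h01 h10 h11
  by_cases htr : M.trace = κ
  · exact Or.inr (Or.inr htr)
  · rw [Matrix.trace_fin_two] at htr
    have hb : M 0 1 = 0 := by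
      have h : M 0 1 * (M 0 0 + M 1 1 - κ) = 0 := by linear_combination h01
      rcases mul_eq_zero.1 h with h | h
      · exact h
      · exact absurd (sub_eq_zero.1 h) htr
    have hc : M 1 0 = 0 := by
      have h : M 1 0 * (M 0 0 + M 1 1 - κ) = 0 := by linear_combination h10
      rcases mul_eq_zero.1 h with h | h
      · exact h
      · exact absurd (sub_eq_zero.1 h) htr
    have ha : M 0 0 * (M 0 0 - κ) = 0 := by
      rw [hb] at h00
      linear_combination h00
    have hd : M 1 1 * (M 1 1 - κ) = 0 := by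
      rw [hb] at h11
      linear_combination h11
    rcases mul_eq_zero.1 ha with ha | ha <;> rcases mul_eq_zero.1 hd with hd | hd
    · left
      ext i j
      fin_cases i <;> fin_cases j <;> simp [ha, hb, hc, hd]
    · exfalso
      apply htr
      rw [ha, sub_eq_zero.1 hd, zero_add]
    · exfalso
      apply htr
      rw [hd, sub_eq_zero.1 ha, add_zero]
    · right
      left
      ext i j
      fin_cases i <;> fin_cases j <;> simp [sub_eq_zero.1 ha, hb, hc, sub_eq_zero.1 hd]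

/-- The entries of `N` in terms of those of `M` (auxiliary to `m2_structure`). -/
theorem m2_entries (a b c d n1 n2 n3 n4 κ μ : ℂ) (hκ : κ ≠ 0) (htr : a + d = κ)
    (e1 : n1 * b + n2 * d = μ * b) (e2 : n3 * a + n4 * c = μ * c)
    (e3 : n3 * b + n4 * d = μ * d)
    (f1 : a * n1 + b * n3 = μ * a) (f2 : a * n2 + b * n4 = μ * b)
    (f3 : c * n1 + d * n3 = μ * c) :
    n1 = (μ * a + (n1 + n4 - μ) * d) / κ ∧ n2 = (2 * μ - n1 - n4) * b / κ ∧
      n3 = (2 * μ - n1 - n4) * c / κ ∧ n4 = (μ * d + (n1 + n4 - μ) * a) / κ := by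
  refine ⟨?_, ?_, ?_, ?_⟩
  · rw [eq_div_iff hκ, ← htr]
    linear_combination f1 - e3
  · rw [eq_div_iff hκ, ← htr]
    linear_combination e1 + f2
  · rw [eq_div_iff hκ, ← htr]
    linear_combination e2 + f3
  · rw [eq_div_iff hκ, ← htr]
    linear_combination e3 - f1

/-- PIECE M2. -/
theorem m2_structure (M N : Matrix (Fin 2) (Fin 2) ℂ) (κ μ : ℝ) (hκ : κ ≠ 0)
    (hH : M.conjTranspose = M) (hM : M * M = (κ : ℂ) • M) (htr : M.trace = (κ : ℂ))
    (hNM : N * M = (μ : ℂ) • M) (hMN : M * N = (μ : ℂ) • M) :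
    (∑ j, ∑ k, Complex.normSq (N j k) = μ ^ 2 + Complex.normSq (N.trace - (μ : ℂ))) ∧
      N 0 0 - N 1 1 = (2 * M 0 0 / (κ : ℂ) - 1) * (2 * (μ : ℂ) - N.trace) := by
  have hκ' : (κ : ℂ) ≠ 0 := by exact_mod_cast hκ
  rw [Matrix.trace_fin_two] at htr
  -- the entries of the hypotheses
  have m00 := congrFun (congrFun hM 0) 0
  have a00 := congrFun (congrFun hNM 0) 0
  have a01 := congrFun (congrFun hNM 0) 1
  have a10 := congrFun (congrFun hNM 1) 0
  have a11 := congrFun (congrFun hNM 1) 1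
  have b00 := congrFun (congrFun hMN 0) 0
  have b01 := congrFun (congrFun hMN 0) 1
  have b10 := congrFun (congrFun hMN 1) 0
  have b11 := congrFun (congrFun hMN 1) 1
  simp only [Matrix.mul_apply, Fin.sum_univ_two, Matrix.smul_apply, smul_eq_mul]
    at m00 a00 a01 a10 a11 b00 b01 b10 b11
  -- hermitian
  have c00 : (starRingEnd ℂ) (M 0 0) = M 0 0 := by
    have h := congrFun (congrFun hH 0) 0
    simpa [Matrix.conjTranspose_apply] using h
  have c11 : (starRingEnd ℂ) (M 1 1) = M 1 1 := by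
    have h := congrFun (congrFun hH 1) 1
    simpa [Matrix.conjTranspose_apply] using h
  have c01 : (starRingEnd ℂ) (M 0 1) = M 1 0 := by
    have h := congrFun (congrFun hH 1) 0
    simpa [Matrix.conjTranspose_apply] using h
  have c10 : (starRingEnd ℂ) (M 1 0) = M 0 1 := by
    have h := congrFun (congrFun hH 0) 1
    simpa [Matrix.conjTranspose_apply] using h
  have hdet : M 0 1 * M 1 0 = M 0 0 * M 1 1 := by
    rw [← htr] at m00
    linear_combination m00
  obtain ⟨h1, h2, h3, h4⟩ := m2_entries (M 0 0) (M 0 1) (M 1 0) (M 1 1) (N 0 0) (N 0 1)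
    (N 1 0) (N 1 1) (κ : ℂ) (μ : ℂ) hκ' htr a01 a10 a11 b00 b01 b10
  rw [Matrix.trace_fin_two]
  constructor
  · -- the norm identity, in `ℂ`
    apply Complex.ofReal_injective
    set θ : ℂ := N 0 0 + N 1 1 - (μ : ℂ) with hθ
    have g1 : (starRingEnd ℂ) (N 0 0)
        = ((μ : ℂ) * M 0 0 + (starRingEnd ℂ) θ * M 1 1) / (κ : ℂ) := by
      conv_lhs => rw [h1]
      simp only [map_div₀, map_add, map_mul, Complex.conj_ofReal, c00, c11]
    have g2 : (starRingEnd ℂ) (N 0 1)
        = ((μ : ℂ) - (starRingEnd ℂ) θ) * M 1 0 / (κ : ℂ) := by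
      conv_lhs => rw [h2]
      simp only [map_div₀, map_add, map_mul, map_sub, Complex.conj_ofReal, c01, hθ, map_ofNat]
      ring
    have g3 : (starRingEnd ℂ) (N 1 0)
        = ((μ : ℂ) - (starRingEnd ℂ) θ) * M 0 1 / (κ : ℂ) := by
      conv_lhs => rw [h3]
      simp only [map_div₀, map_add, map_mul, map_sub, Complex.conj_ofReal, c10, hθ, map_ofNat]
      ring
    have g4 : (starRingEnd ℂ) (N 1 1)
        = ((μ : ℂ) * M 1 1 + (starRingEnd ℂ) θ * M 0 0) / (κ : ℂ) := by
      conv_lhs => rw [h4]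
      simp only [map_div₀, map_add, map_mul, Complex.conj_ofReal, c00, c11]
    simp only [Fin.sum_univ_two]
    push_cast
    simp only [Complex.normSq_eq_conj_mul_self]
    rw [g1, g2, g3, g4]
    have k1 : N 0 0 = ((μ : ℂ) * M 0 0 + θ * M 1 1) / (κ : ℂ) := h1
    have k2 : N 0 1 = ((μ : ℂ) - θ) * M 0 1 / (κ : ℂ) := by
      rw [h2, hθ]
      ring
    have k3 : N 1 0 = ((μ : ℂ) - θ) * M 1 0 / (κ : ℂ) := by
      rw [h3, hθ]
      ring
    have k4 : N 1 1 = ((μ : ℂ) * M 1 1 + θ * M 0 0) / (κ : ℂ) := h4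
    rw [k1, k2, k3, k4]
    generalize (starRingEnd ℂ) θ = θ'
    generalize θ = θ0
    field_simp
    rw [← htr]
    linear_combination (2 * (μ : ℂ) ^ 2 - 2 * (μ : ℂ) * (θ0 + θ') + 2 * θ0 * θ') * hdet
  · have k1 := (eq_div_iff hκ').1 h1
    have k4 := (eq_div_iff hκ').1 h4
    field_simp
    linear_combination k1 - k4 - (2 * (μ : ℂ) - N 0 0 - N 1 1) * htr
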