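import Mathlib

/-!
# S0720 piece T7: the combinatorial endgame

Two partitions `S`, `S'` of `ZMod q` indexed by the colours, with the relations (P2) and (♣):
exactly two colours have `mu ≠ 0`, with `mu = β` and `mu = -(β+1)`.
-/

set_option autoImplicit false

namespace Cfsg.Agent.Lib.helper77.W2P

open Finset
open scoped Classical

/-- A colour with `mu ≠ 0`: its parameters. -/
theorem endgame_F1 {q : ℕ} {κ : Type*} (i0 : κ) (S S' : κ → Finset (ZMod q))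
    (a b : κ → ℕ)
    (hn : ∀ j, j ≠ i0 → 2 ≤ a j + b j)
    (hP2 : ∀ j, j ≠ i0 → (b j : ℤ) = ((S j ∩ S' j).card : ℤ) + ((a j : ℤ) - (b j : ℤ)) ^ 2)
    (hclub : ∀ i j, i ≠ i0 → j ≠ i0 → ∀ s, s ∈ S i → s ∈ S' j →
      ((a i : ℤ) - (b i : ℤ)) * ((a j : ℤ) + (b j : ℤ)) +
        ((a j : ℤ) - (b j : ℤ)) * ((a i : ℤ) + (b i : ℤ)) = 0)
    (j : κ) (hj : j ≠ i0) (hmj : (a j : ℤ) - (b j : ℤ) ≠ 0) :
    (b j : ℤ) = ((a j : ℤ) - (b j : ℤ)) ^ 2 ∧
      (a j : ℤ) = ((a j : ℤ) - (b j : ℤ)) ^ 2 + ((a j : ℤ) - (b j : ℤ)) ∧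
      (a j : ℤ) - (b j : ℤ) ≠ -1 := by
  have hn2 : (2 : ℤ) ≤ (a j : ℤ) + (b j : ℤ) := by exact_mod_cast hn j hj
  have hemp : S j ∩ S' j = ∅ := by
    rw [Finset.eq_empty_iff_forall_notMem]
    intro s hs
    rw [Finset.mem_inter] at hs
    have h := hclub j j hj hj s hs.1 hs.2
    have h' : ((a j : ℤ) - (b j : ℤ)) * ((a j : ℤ) + (b j : ℤ)) = 0 := by linarith
    rcases mul_eq_zero.1 h' with h1 | h1
    · exact hmj h1
    · omega
  have hb := hP2 j hj
  rw [hemp, Finset.card_empty, Nat.cast_zero, zero_add] at hb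
  refine ⟨hb, by linarith, ?_⟩
  intro h1
  rw [h1] at hb
  omega

/-- Two colours meeting in a point, not both with `mu = 0`. -/
theorem endgame_F2 {q : ℕ} {κ : Type*} (i0 : κ) (S S' : κ → Finset (ZMod q))
    (a b : κ → ℕ)
    (hn : ∀ j, j ≠ i0 → 2 ≤ a j + b j)
    (hP2 : ∀ j, j ≠ i0 → (b j : ℤ) = ((S j ∩ S' j).card : ℤ) + ((a j : ℤ) - (b j : ℤ)) ^ 2)
    (hclub : ∀ i j, i ≠ i0 → j ≠ i0 → ∀ s, s ∈ S i → s ∈ S' j →
      ((a i : ℤ) - (b i : ℤ)) * ((a j : ℤ) + (b j : ℤ)) +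
        ((a j : ℤ) - (b j : ℤ)) * ((a i : ℤ) + (b i : ℤ)) = 0)
    (i j : κ) (hi : i ≠ i0) (hj : j ≠ i0) (s : ZMod q) (hsi : s ∈ S i) (hsj : s ∈ S' j)
    (hne : ¬ ((a i : ℤ) - (b i : ℤ) = 0 ∧ (a j : ℤ) - (b j : ℤ) = 0)) :
    (a i : ℤ) - (b i : ℤ) ≠ 0 ∧ (a j : ℤ) - (b j : ℤ) ≠ 0 ∧
      (a j : ℤ) - (b j : ℤ) = -((a i : ℤ) - (b i : ℤ)) - 1 := by
  have h := hclub i j hi hj s hsi hsj
  have hni : (2 : ℤ) ≤ (a i : ℤ) + (b i : ℤ) := by exact_mod_cast hn i hi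
  have hnj : (2 : ℤ) ≤ (a j : ℤ) + (b j : ℤ) := by exact_mod_cast hn j hj
  have hmi : (a i : ℤ) - (b i : ℤ) ≠ 0 := by
    intro h0
    apply hne
    refine ⟨h0, ?_⟩
    rw [h0, zero_mul, zero_add] at h
    rcases mul_eq_zero.1 h with h1 | h1
    · exact h1
    · omega
  have hmj : (a j : ℤ) - (b j : ℤ) ≠ 0 := by
    intro h0
    apply hne
    refine ⟨?_, h0⟩
    rw [h0, zero_mul, add_zero] at h
    rcases mul_eq_zero.1 h with h1 | h1
    · exact h1
    · omega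
  obtain ⟨hbi, hai, _⟩ := endgame_F1 i0 S S' a b hn hP2 hclub i hi hmi
  obtain ⟨hbj, haj, _⟩ := endgame_F1 i0 S S' a b hn hP2 hclub j hj hmj
  refine ⟨hmi, hmj, ?_⟩
  generalize (a i : ℤ) - (b i : ℤ) = mi at *
  generalize (a j : ℤ) - (b j : ℤ) = mj at *
  have h2 : 2 * (mi * mj) * (mi + mj + 1) = 0 := by
    have e1 : (a i : ℤ) + (b i : ℤ) = 2 * mi ^ 2 + mi := by linarith
    have e2 : (a j : ℤ) + (b j : ℤ) = 2 * mj ^ 2 + mj := by linarith
    rw [e1, e2] at h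
    linear_combination h
  rcases mul_eq_zero.1 h2 with h3 | h3
  · exfalso
    rcases mul_eq_zero.1 h3 with h4 | h4
    · norm_num at h4
    · rcases mul_eq_zero.1 h4 with h5 | h5
      · exact hmi h5
      · exact hmj h5
  · linarith

/-- PIECE T7. -/
theorem endgame {q : ℕ} {κ : Type*} [Fintype κ] (i0 : κ) (S S' : κ → Finset (ZMod q)) (a b : κ → ℕ)
    (hS : ∀ j, (S j).card = a j) (hS' : ∀ j, (S' j).card = a j)
    (hdisj : ∀ i j, i ≠ j → Disjoint (S i) (S j))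
    (hdisj' : ∀ i j, i ≠ j → Disjoint (S' i) (S' j))
    (hcov : ∀ s : ZMod q, ∃ j, s ∈ S j) (hcov' : ∀ s : ZMod q, ∃ j, s ∈ S' j)
    (hS0 : S i0 = {0}) (hS0' : S' i0 = {0}) (hb0 : b i0 = 0)
    (hsum : ∑ j, ((a j : ℤ) - (b j : ℤ)) = 0)
    (hn : ∀ j, j ≠ i0 → 2 ≤ a j + b j)
    (hP2 : ∀ j, j ≠ i0 → (b j : ℤ) = ((S j ∩ S' j).card : ℤ) + ((a j : ℤ) - (b j : ℤ)) ^ 2)
    (hclub : ∀ i j, i ≠ i0 → j ≠ i0 → ∀ s, s ∈ S i → s ∈ S' j →
      ((a i : ℤ) - (b i : ℤ)) * ((a j : ℤ) + (b j : ℤ)) +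
        ((a j : ℤ) - (b j : ℤ)) * ((a i : ℤ) + (b i : ℤ)) = 0) :
    ∃ (β : ℕ) (ip im : κ), 0 < β ∧ ip ≠ i0 ∧ im ≠ i0 ∧ ip ≠ im ∧
      a ip = β * (β + 1) ∧ b ip = β ^ 2 ∧ a im = β * (β + 1) ∧ b im = (β + 1) ^ 2 ∧
      ∀ j, j ≠ i0 → j ≠ ip → j ≠ im → a j = b j ∧ S j = S' j := by
  have F1 := endgame_F1 i0 S S' a b hn hP2 hclub
  have F2 := endgame_F2 i0 S S' a b hn hP2 hclub
  obtain ⟨m, hm⟩ : ∃ m : κ → ℤ, ∀ j, m j = (a j : ℤ) - (b j : ℤ) := ⟨_, fun _ => rfl⟩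
  simp only [← hm] at F1 F2 hsum
  have ha0 : a i0 = 1 := by rw [← hS i0, hS0, Finset.card_singleton]
  have hm0 : m i0 = 1 := by rw [hm, ha0, hb0]; norm_num
  have h0S : ∀ j, j ≠ i0 → (0 : ZMod q) ∉ S j := by
    intro j hj h0
    exact Finset.disjoint_left.1 (hdisj j i0 hj) h0 (by rw [hS0]; exact Finset.mem_singleton_self 0)
  have h0S' : ∀ j, j ≠ i0 → (0 : ZMod q) ∉ S' j := by
    intro j hj h0
    exact Finset.disjoint_left.1 (hdisj' j i0 hj) h0
      (by rw [hS0']; exact Finset.mem_singleton_self 0)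
  -- the colour functions
  choose cS hcS using hcov
  choose cS' hcS' using hcov'
  have hcS_iff : ∀ s j, s ∈ S j ↔ cS s = j := by
    intro s j
    constructor
    · intro h
      by_contra hne
      exact Finset.disjoint_left.1 (hdisj (cS s) j hne) (hcS s) h
    · rintro rfl
      exact hcS s
  have hcS'_iff : ∀ s j, s ∈ S' j ↔ cS' s = j := by
    intro s j
    constructor
    · intro h
      by_contra hne
      exact Finset.disjoint_left.1 (hdisj' (cS' s) j hne) (hcS' s) h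
    · rintro rfl
      exact hcS' s
  -- the finite universe
  obtain ⟨U, hU⟩ : ∃ U : Finset (ZMod q), ∀ s, s ∈ U :=
    ⟨Finset.univ.biUnion S, fun s => Finset.mem_biUnion.2 ⟨cS s, Finset.mem_univ _, hcS s⟩⟩
  have fib : ∀ F : κ → ℚ, ∑ s ∈ U, F (cS s) = ∑ j, (a j : ℚ) * F j := by
    intro F
    rw [← Finset.sum_fiberwise_of_maps_to (g := cS) (t := Finset.univ)
      (fun s _ => Finset.mem_univ _)]
    refine Finset.sum_congr rfl (fun j _ => ?_)
    have e : U.filter (fun s => cS s = j) = S j := by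
      ext s
      simp [hU, hcS_iff]
    rw [e, Finset.sum_congr rfl (fun s hs => by rw [(hcS_iff s j).1 hs]), Finset.sum_const, hS j,
      nsmul_eq_mul]
  have fib' : ∀ F : κ → ℚ, ∑ s ∈ U, F (cS' s) = ∑ j, (a j : ℚ) * F j := by
    intro F
    rw [← Finset.sum_fiberwise_of_maps_to (g := cS') (t := Finset.univ)
      (fun s _ => Finset.mem_univ _)]
    refine Finset.sum_congr rfl (fun j _ => ?_)
    have e : U.filter (fun s => cS' s = j) = S' j := by
      ext s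
      simp [hU, hcS'_iff]
    rw [e, Finset.sum_congr rfl (fun s hs => by rw [(hcS'_iff s j).1 hs]), Finset.sum_const,
      hS' j, nsmul_eq_mul]
  -- the weights
  obtain ⟨W, hW⟩ : ∃ W : κ → ℚ, ∀ j, W j = if j = i0 ∨ m j = 0 then 0 else (m j : ℚ) / (a j : ℚ) :=
    ⟨_, fun _ => rfl⟩
  obtain ⟨V, hV⟩ : ∃ V : κ → ℚ, ∀ j, V j = if j = i0 ∨ m j = 0 then 0 else 1 / (a j : ℚ) :=
    ⟨_, fun _ => rfl⟩
  have haQ : ∀ j, j ≠ i0 → m j ≠ 0 → (a j : ℚ) = (m j : ℚ) ^ 2 + (m j : ℚ) ∧ (a j : ℚ) ≠ 0 := by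
    intro j hj hmj
    obtain ⟨_, h2, h3⟩ := F1 j hj hmj
    have e : (a j : ℚ) = (m j : ℚ) ^ 2 + (m j : ℚ) := by exact_mod_cast h2
    refine ⟨e, ?_⟩
    rw [e]
    have e2 : (m j : ℚ) ^ 2 + (m j : ℚ) = (m j : ℚ) * ((m j : ℚ) + 1) := by ring
    rw [e2]
    refine mul_ne_zero (by exact_mod_cast hmj) ?_
    intro h4
    apply h3
    have : ((m j + 1 : ℤ) : ℚ) = 0 := by push_cast; exact h4
    have h5 : m j + 1 = 0 := by exact_mod_cast this
    linarith
  obtain ⟨N0, hN0⟩ : ∃ N0 : Finset κ, N0 = Finset.univ.filter (fun j => j ≠ i0 ∧ m j ≠ 0) :=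
    ⟨_, rfl⟩
  have sumW : ∑ j, (a j : ℚ) * W j = -1 := by
    have e1 : ∀ j, (a j : ℚ) * W j = (m j : ℚ) - (if j = i0 then 1 else 0) := by
      intro j
      rw [hW]
      by_cases hj : j = i0
      · rw [if_pos (Or.inl hj), if_pos hj, hj, hm0]
        norm_num
      · by_cases hmj : m j = 0
        · rw [if_pos (Or.inr hmj), if_neg hj, hmj]
          norm_num
        · rw [if_neg (by tauto), if_neg hj, mul_div_cancel₀ _ (haQ j hj hmj).2, sub_zero]
    rw [Finset.sum_congr rfl (fun j _ => e1 j), Finset.sum_sub_distrib, Finset.sum_ite_eq']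
    have : ∑ j, (m j : ℚ) = 0 := by exact_mod_cast hsum
    rw [this]
    simp
  have sumV : ∑ j, (a j : ℚ) * V j = (N0.card : ℚ) := by
    have e1 : ∀ j, (a j : ℚ) * V j = if j ≠ i0 ∧ m j ≠ 0 then 1 else 0 := by
      intro j
      rw [hV]
      by_cases hj : j = i0
      · rw [if_pos (Or.inl hj), if_neg (by tauto), mul_zero]
      · by_cases hmj : m j = 0
        · rw [if_pos (Or.inr hmj), if_neg (by tauto), mul_zero]
        · rw [if_neg (by tauto), if_pos ⟨hj, hmj⟩, mul_one_div, div_self (haQ j hj hmj).2]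
    rw [Finset.sum_congr rfl (fun j _ => e1 j), hN0, Finset.card_filter]
    push_cast
    rfl
  -- the pointwise relation
  have hpt : ∀ s, W (cS' s) = - W (cS s) - V (cS s) := by
    intro s
    by_cases hi : cS s = i0
    · have hs0 : s = 0 := by
        have h := hcS s
        rw [hi, hS0, Finset.mem_singleton] at h
        exact h
      have hj : cS' s = i0 := by
        rw [← hcS'_iff, hS0', hs0]
        exact Finset.mem_singleton_self 0
      rw [hW, hW, hV, hi, hj]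
      simp
    · have hs0 : s ≠ 0 := by
        intro h
        apply h0S _ hi
        rw [← h]
        exact hcS s
      have hj : cS' s ≠ i0 := by
        intro h
        have h2 := hcS' s
        rw [h, hS0', Finset.mem_singleton] at h2
        exact hs0 h2
      by_cases h00 : m (cS s) = 0 ∧ m (cS' s) = 0
      · rw [hW, hW, hV, if_pos (Or.inr h00.1), if_pos (Or.inr h00.2), if_pos (Or.inr h00.1)]
        norm_num
      · obtain ⟨hmi, hmj, hrel⟩ := F2 (cS s) (cS' s) hi hj s (hcS s) (hcS' s) h00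
        obtain ⟨eai, nai⟩ := haQ _ hi hmi
        obtain ⟨eaj, naj⟩ := haQ _ hj hmj
        rw [hW, hW, hV, if_neg (by tauto), if_neg (by tauto), if_neg (by tauto)]
        have hrelQ : (m (cS' s) : ℚ) = -(m (cS s) : ℚ) - 1 := by exact_mod_cast hrel
        have eaa : (a (cS' s) : ℚ) = (a (cS s) : ℚ) := by
          rw [eai, eaj, hrelQ]
          ring
        rw [eaa, hrelQ]
        field_simp
  have hcard : N0.card = 2 := by
    have h1 : ∑ s ∈ U, W (cS' s) = ∑ s ∈ U, (- W (cS s) - V (cS s)) :=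
      Finset.sum_congr rfl (fun s _ => hpt s)
    rw [Finset.sum_sub_distrib, Finset.sum_neg_distrib, fib' W, fib W, fib V, sumW, sumV] at h1
    have h2 : (N0.card : ℚ) = 2 := by linarith
    exact_mod_cast h2
  obtain ⟨i1, i2, h12, hN⟩ := Finset.card_eq_two.1 hcard
  have hmem : ∀ j, j ∈ N0 ↔ j ≠ i0 ∧ m j ≠ 0 := by
    intro j
    rw [hN0]
    simp
  have hi1 : i1 ≠ i0 ∧ m i1 ≠ 0 := (hmem i1).1 (by rw [hN]; simp)
  have hi2 : i2 ≠ i0 ∧ m i2 ≠ 0 := (hmem i2).1 (by rw [hN]; simp)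
  have hsum12 : m i1 + m i2 = -1 := by
    have e1 : ∀ j, m j = (if j = i0 then 1 else 0) + (if j ∈ N0 then m j else 0) := by
      intro j
      by_cases hj : j = i0
      · rw [if_pos hj, if_neg (by rw [hmem]; tauto), hj, hm0, add_zero]
      · by_cases hmj : m j = 0
        · rw [if_neg hj, if_neg (by rw [hmem]; tauto), hmj, add_zero]
        · rw [if_neg hj, if_pos ((hmem j).2 ⟨hj, hmj⟩), zero_add]
    rw [Finset.sum_congr rfl (fun j _ => e1 j), Finset.sum_add_distrib, Finset.sum_ite_eq',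
      if_pos (Finset.mem_univ _), Finset.sum_ite_mem, Finset.univ_inter, hN,
      Finset.sum_pair h12] at hsum
    linarith
  have hrest : ∀ j, j ≠ i0 → j ≠ i1 → j ≠ i2 → a j = b j ∧ S j = S' j := by
    intro j hj hj1 hj2
    have hmj : m j = 0 := by
      by_contra hne
      have : j ∈ N0 := (hmem j).2 ⟨hj, hne⟩
      rw [hN] at this
      simp at this
      tauto
    have hab : a j = b j := by
      have := hm j
      omega
    refine ⟨hab, ?_⟩
    have hb := hP2 j hj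
    rw [← hm, hmj] at hb
    have hc : (S j ∩ S' j).card = a j := by
      rw [hab]
      have : ((b j : ℕ) : ℤ) = ((S j ∩ S' j).card : ℤ) := by linarith
      exact_mod_cast this.symm
    have e1 : S j ∩ S' j = S j :=
      Finset.eq_of_subset_of_card_le Finset.inter_subset_left (by rw [hc, hS j])
    have e2 : S j ∩ S' j = S' j :=
      Finset.eq_of_subset_of_card_le Finset.inter_subset_right (by rw [hc, hS' j])
    rw [← e1]
    exact e2
  -- the two exceptional colours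
  have key : ∀ ip im : κ, ip ≠ i0 → im ≠ i0 → ip ≠ im → m ip ≠ 0 → m im ≠ 0 →
      m ip + m im = -1 → 0 < m ip →
      (∀ j, j ≠ i0 → j ≠ ip → j ≠ im → a j = b j ∧ S j = S' j) →
      ∃ (β : ℕ) (ip im : κ), 0 < β ∧ ip ≠ i0 ∧ im ≠ i0 ∧ ip ≠ im ∧
        a ip = β * (β + 1) ∧ b ip = β ^ 2 ∧ a im = β * (β + 1) ∧ b im = (β + 1) ^ 2 ∧
        ∀ j, j ≠ i0 → j ≠ ip → j ≠ im → a j = b j ∧ S j = S' j := by
    intro ip im hip him hne hmp hmm hs hpos hr
    obtain ⟨β, hβ⟩ : ∃ β : ℕ, m ip = (β : ℤ) := ⟨(m ip).toNat, (Int.toNat_of_nonneg hpos.le).symm⟩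
    obtain ⟨hbp, hap, _⟩ := F1 ip hip hmp
    obtain ⟨hbm, ham, _⟩ := F1 im him hmm
    have hmim : m im = -(β : ℤ) - 1 := by linarith
    rw [hβ] at hbp hap
    rw [hmim] at hbm ham
    refine ⟨β, ip, im, ?_, hip, him, hne, ?_, ?_, ?_, ?_, hr⟩
    · have : (0 : ℤ) < (β : ℤ) := by rw [← hβ]; exact hpos
      exact_mod_cast this
    · have : (a ip : ℤ) = ((β * (β + 1) : ℕ) : ℤ) := by rw [hap]; push_cast; ring
      exact_mod_cast this
    · exact_mod_cast hbp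
    · have : (a im : ℤ) = ((β * (β + 1) : ℕ) : ℤ) := by rw [ham]; push_cast; ring
      exact_mod_cast this
    · have : (b im : ℤ) = (((β + 1) ^ 2 : ℕ) : ℤ) := by rw [hbm]; push_cast; ring
      exact_mod_cast this
  obtain ⟨_, _, hne1⟩ := F1 i1 hi1.1 hi1.2
  obtain ⟨_, _, hne2⟩ := F1 i2 hi2.1 hi2.2
  by_cases hpos : 0 < m i1
  · exact key i1 i2 hi1.1 hi2.1 h12 hi1.2 hi2.2 hsum12 hpos hrest
  · have hpos2 : 0 < m i2 := by
      have h1 := hi1.2
      omega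
    exact key i2 i1 hi2.1 hi1.1 (Ne.symm h12) hi2.2 hi1.2 (by linarith) hpos2
      (fun j hj hj2 hj1 => hrest j hj hj1 hj2)
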