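import Mathlib
import Cfsg.Prelude.Def_Blocks
import Cfsg.Agent.Lib.helper77.FongReynolds
import Cfsg.Agent.Lib.helper80.InducedBr
import Cfsg.Agent.Lib.helper20.Osima

/-!
# Covering of blocks of a normal subgroup: central character criteria (helper77)

* `om_eq_sum_inducedCentralChar`: for a `G`-invariant function `a` on `N`, the central character
  functional of `θ` on `a` is a combination of induced central characters of `θ`;
* `memLocalIdeal_om_sub_of_inducedCentralChar`;
* `exists_irr_over`: every irreducible character of `N` lies under one of `G`;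
* `blockCoeff_eq_zero_of_not_mem_of_index`: if `G/N` is a `p`-group, block idempotents of `G` are
  supported on `N`;
* `mem_block_of_over_of_index`: if `G/N` is a `p`-group, all characters of `G` over the members of
  a block `b` of `N` lie in the same block.
-/

set_option autoImplicit false

namespace Cfsg.Agent.Lib.helper77

open Cfsg
open scoped ComplexConjugate

universe u

section Cover2

variable {G : Type u} [Group G] [Fintype G] (N : Subgroup G) [hN : N.Normal] [Fintype N]

open Classical in
/-- For a `G`-invariant function `a` on `N`, the central character functional of `θ` at `a` is a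
combination of induced central characters. -/
theorem om_eq_sum_inducedCentralChar (θ : N → ℂ) (a : N → ℂ)
    (ha : ∀ (g : G) (n : N), a ⟨g * n * g⁻¹, hN.conj_mem n n.2 g⟩ = a n) :
    helper80.om θ a = ∑ c : ConjClasses G,
      helper80.extFun N a (Quotient.out c) * inducedCentralChar N θ (Quotient.out c) := by
  have hA := isClassFunction_extFun_of_inv N a ha
  unfold helper80.om
  have h1 : ∀ n : N, a n * θ n = ∑ c : ConjClasses G,
      helper80.extFun N a (Quotient.out c) * (helper80.classInd (Quotient.out c) (n : G) * θ n) := by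
    intro n
    rw [← helper80.extFun_coe N a n, helper80.classFun_eq_sum_classInd hA (n : G), Finset.sum_mul]
    refine Finset.sum_congr rfl (fun c _ => ?_)
    ring
  rw [Finset.sum_congr rfl (fun n _ => h1 n), Finset.sum_comm, Finset.sum_div]
  refine Finset.sum_congr rfl (fun c _ => ?_)
  rw [inducedCentralChar_eq_om, ← Finset.mul_sum]
  unfold helper80.om resClassInd
  rw [mul_div_assoc]

/-- If the induced central characters of `θ'` and `θ` are congruent on `N`, then so are their
central character functionals on `G`-invariant functions with local values. -/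
theorem memLocalIdeal_om_sub_of_inducedCentralChar {M : Ideal AlgInt} (hM : M.IsPrime)
    (θ θ' : N → ℂ)
    (hcong : ∀ n : N, MemLocalIdeal M
      (inducedCentralChar N θ' (n : G) - inducedCentralChar N θ (n : G)))
    (a : N → ℂ) (ha : ∀ (g : G) (n : N), a ⟨g * n * g⁻¹, hN.conj_mem n n.2 g⟩ = a n)
    (hloc : ∀ n, MemLocalRing M (a n)) :
    MemLocalIdeal M (helper80.om θ' a - helper80.om θ a) := by
  classical
  rw [om_eq_sum_inducedCentralChar N θ' a ha, om_eq_sum_inducedCentralChar N θ a ha,
    ← Finset.sum_sub_distrib]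
  apply helper20.memLocalIdeal_sum hM
  intro c _
  rw [← mul_sub]
  by_cases hc : (Quotient.out c : G) ∈ N
  · exact helper20.memLocalIdeal_mul_left hM (helper80.extFun_memLocalRing hM N a hloc _)
      (hcong ⟨Quotient.out c, hc⟩)
  · rw [helper80.extFun_of_not_mem N a hc, zero_mul]
    exact helper20.memLocalIdeal_zero hM

omit hN in
/-- Every irreducible character of a subgroup lies under an irreducible character of `G`. -/
theorem exists_irr_over (θ : IrrCharacter N) :
    ∃ χ : IrrCharacter G, classInner (fun n : N => (χ : G → ℂ) n) (θ : N → ℂ) ≠ 0 := by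
  classical
  by_contra hcon
  have h0 : ∀ χ : IrrCharacter G,
      classInner (indFun N (θ : N → ℂ)) (χ : G → ℂ) = 0 := by
    intro χ
    rw [helper4.frobenius_reciprocity N (θ : N → ℂ)
      (helper4.isClassFunction_of_isIrrCharacter χ.2), ← helper4.classInner_conj_symm]
    have h1 : classInner (fun n : N => (χ : G → ℂ) n) (θ : N → ℂ) = 0 := by
      by_contra h
      exact hcon ⟨χ, h⟩
    rw [h1, map_zero]
  have h1 := helper4.classFunction_eq_sum_irr (helper4.isClassFunction_indFun N (θ : N → ℂ))
  have h2 := congrFun h1 1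
  rw [Finset.sum_apply] at h2
  simp only [h0, zero_smul, Pi.zero_apply, Finset.sum_const_zero] at h2
  rw [helper4.indFun_one] at h2
  have h3 : ((N.index : ℕ) : ℂ) ≠ 0 := by exact_mod_cast Subgroup.index_ne_zero_of_finite
  exact mul_ne_zero h3 (helper81.irr_one_ne_zero θ) h2

omit [Fintype G] [Fintype N] in
/-- If `G/N` is a `p`-group, every element outside `N` has order divisible by `p`. -/
theorem dvd_orderOf_of_not_mem_of_index [Finite G] {p : ℕ} [Fact p.Prime] {k : ℕ}
    (hidx : N.index = p ^ k) {g : G} (hg : g ∉ N) : p ∣ orderOf g := by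
  by_contra hp
  apply hg
  have hpp : p.Prime := Fact.out
  have h1 : orderOf (QuotientGroup.mk g : G ⧸ N) ∣ orderOf g :=
    orderOf_dvd_of_pow_eq_one (by rw [← QuotientGroup.mk_pow, pow_orderOf_eq_one]; rfl)
  have h2 : orderOf (QuotientGroup.mk g : G ⧸ N) ∣ p ^ k := by
    rw [← hidx, Subgroup.index_eq_card]
    exact orderOf_dvd_natCard _
  have h3 : (orderOf (QuotientGroup.mk g : G ⧸ N)).Coprime (p ^ k) := by
    apply Nat.Coprime.pow_right
    exact Nat.Coprime.coprime_dvd_left h1 ((Nat.coprime_comm).mp ((hpp.coprime_iff_not_dvd).mpr hp))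
  have h4 : orderOf (QuotientGroup.mk g : G ⧸ N) = 1 := Nat.Coprime.eq_one_of_dvd h3 h2
  rw [orderOf_eq_one_iff] at h4
  exact (QuotientGroup.eq_one_iff g).mp h4

omit [Fintype N] in
/-- If `G/N` is a `p`-group, the block idempotents of `G` are supported on `N`. -/
theorem blockCoeff_eq_zero_of_not_mem_of_index {p : ℕ} [Fact p.Prime] {M : Ideal AlgInt}
    (hM : IsPModular p M) {k : ℕ} (hidx : N.index = p ^ k) {B : Set (IrrCharacter G)}
    (hB : IsPBlock M B) {g : G} (hg : g ∉ N) : blockCoeff B g = 0 :=
  helper20.blockCoeff_eq_zero_of_singular hM hB g (dvd_orderOf_of_not_mem_of_index N hidx hg)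

/-- If `G/N` is a `p`-group and the block `B` of `G` contains a character lying over `θ₁`, then
every character of `G` lying over a member of the block of `θ₁` is in `B`. -/
theorem mem_block_of_over_of_index {p : ℕ} [Fact p.Prime] {M : Ideal AlgInt}
    (hM : IsPModular p M) {k : ℕ} (hidx : N.index = p ^ k) {B : Set (IrrCharacter G)}
    (hB : IsPBlock M B) {χ₁ χ₂ : IrrCharacter G} {θ₁ θ₂ : IrrCharacter N} (hχ₁ : χ₁ ∈ B)
    (h₁ : classInner (fun n : N => (χ₁ : G → ℂ) n) (θ₁ : N → ℂ) ≠ 0)
    (h₂ : classInner (fun n : N => (χ₂ : G → ℂ) n) (θ₂ : N → ℂ) ≠ 0)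
    (hs : SameBlock M (θ₁ : N → ℂ) (θ₂ : N → ℂ)) : χ₂ ∈ B := by
  classical
  have hMp : M.IsPrime := helper20.isPrime_of_isPModular hM
  obtain ⟨a, ha⟩ : ∃ a : N → ℂ, a = fun n : N => blockCoeff B (n : G) := ⟨_, rfl⟩
  have hainv : ∀ (g : G) (n : N), a ⟨g * n * g⁻¹, hN.conj_mem n n.2 g⟩ = a n := by
    intro g n
    rw [ha]
    exact helper81.blockCoeff_conj B (n : G) g
  have hacf : IsClassFunction N a := by
    intro n h
    rw [ha]
    exact helper81.blockCoeff_conj B (n : G) (h : G)
  have haloc : ∀ n, MemLocalRing M (a n) := by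
    intro n
    rw [ha]
    exact helper81.memLocalRing_blockCoeff hMp hB _
  have hext : helper80.extFun N a = blockCoeff B := by
    funext g
    by_cases hg : g ∈ N
    · rw [helper80.extFun_of_mem N a hg, ha]
    · rw [helper80.extFun_of_not_mem N a hg,
        blockCoeff_eq_zero_of_not_mem_of_index N hM hidx hB hg]
  have e1 : helper80.om (θ₁ : N → ℂ) a = 1 := by
    rw [← om_extFun_of_constituent N h₁ a hainv, hext, helper80.om_blockCoeff, if_pos hχ₁]
  have e2 : helper80.om (θ₂ : N → ℂ) a = if χ₂ ∈ B then 1 else 0 := by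
    rw [← om_extFun_of_constituent N h₂ a hainv, hext, helper80.om_blockCoeff]
  by_contra hcon
  rw [if_neg hcon] at e2
  have h3 := helper80.memLocalIdeal_om_sub hMp θ₁ θ₂ hs a hacf haloc
  rw [e1, e2, sub_zero] at h3
  exact helper20.not_memLocalIdeal_one h3

end Cover2

end Cfsg.Agent.Lib.helper77
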