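import Mathlib
import Cfsg.Prelude.Def_Blocks
import Cfsg.Agent.Lib.helper77.Cover2
import Cfsg.Agent.S0965

/-!
# Blocks covering an invariant block (helper77)

`N` a normal subgroup of `G`, `b` a `G`-invariant block of `N`.

* `card_sup_mul_card_inf`, `card_sup_centralizer`: orders of `H N` and of `N C_G(x)`;
* `inducedCentralChar_congr_of_stable`: for `θ ∈ b` and `x ∈ N`, the induced central character
  of `θ` at `x` is congruent to `[G : N C_G(x)] ω_θ(x)`;
* `exists_good_class`: a defect class `x` of `b` with `p ∤ [G : N C_G(x)]`;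
* `coverSet`, `blockCoeff_coverSet`: the idempotent of `b` is the sum of the idempotents of the
  blocks of `G` covering `b`; `exists_cover_block_of_blockCoeff`;
* `fong_main`: Fong's theorem on the defect groups of a covering block of maximal defect.
-/

set_option autoImplicit false

namespace Cfsg.Agent.Lib.helper77

open Cfsg
open scoped ComplexConjugate Pointwise

universe u

section GroupLemmas

variable {G : Type u} [Group G]

/-- `|H N| |N ∩ H| = |N| |H|` for a normal subgroup `N`. -/
theorem card_sup_mul_card_inf (H N : Subgroup G) [N.Normal] :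
    Nat.card (H ⊔ N : Subgroup G) * Nat.card (N ⊓ H : Subgroup G) = Nat.card N * Nat.card H := by
  have h1 : Nat.card (H ⊔ N : Subgroup G) = Nat.card N * N.relIndex H := by
    rw [← Subgroup.relIndex_bot_left, ← Subgroup.relIndex_bot_left,
      ← Subgroup.relIndex_mul_relIndex ⊥ N (H ⊔ N) bot_le le_sup_right, Subgroup.relIndex_sup_right]
  have h2 : Nat.card H = Nat.card (N ⊓ H : Subgroup G) * N.relIndex H := by
    rw [← Subgroup.relIndex_bot_left, ← Subgroup.relIndex_bot_left,
      ← Subgroup.relIndex_mul_relIndex ⊥ (N ⊓ H) H bot_le inf_le_right, Subgroup.inf_relIndex_right]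
  rw [h1, h2]
  ring

/-- The centralizer in `N` of an element of `N`, as a subgroup of `G`. -/
theorem map_centralizer_subtype (N : Subgroup G) (x : N) :
    (Subgroup.centralizer ({x} : Set N)).map N.subtype
      = N ⊓ Subgroup.centralizer ({(x : G)} : Set G) := by
  ext g
  rw [Subgroup.mem_inf, Subgroup.mem_map]
  constructor
  · rintro ⟨n, hn, rfl⟩
    refine ⟨n.2, ?_⟩
    rw [helper80.mem_centralizer_singleton] at hn
    rw [helper80.mem_centralizer_singleton]
    exact congrArg Subtype.val hn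
  · rintro ⟨hgN, hgC⟩
    refine ⟨⟨g, hgN⟩, ?_, rfl⟩
    rw [helper80.mem_centralizer_singleton] at hgC
    rw [helper80.mem_centralizer_singleton]
    exact Subtype.ext hgC

/-- `|N C_G(x)| = |C_G(x)| [N : C_N(x)]` for `x ∈ N`. -/
theorem card_sup_centralizer [Finite G] (N : Subgroup G) [N.Normal] (x : N) :
    Nat.card (N ⊔ Subgroup.centralizer ({(x : G)} : Set G) : Subgroup G)
      = Nat.card (Subgroup.centralizer ({(x : G)} : Set G))
        * (Subgroup.centralizer ({x} : Set N)).index := by
  have h1 := card_sup_mul_card_inf (Subgroup.centralizer ({(x : G)} : Set G)) N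
  rw [← map_centralizer_subtype N x, Subgroup.card_map_of_injective N.subtype_injective,
    ← Subgroup.card_mul_index (Subgroup.centralizer ({x} : Set N)), sup_comm] at h1
  have hpos : 0 < Nat.card (Subgroup.centralizer ({x} : Set N)) := Nat.card_pos
  have h2 : Nat.card (Subgroup.centralizer ({x} : Set N))
      * Nat.card (N ⊔ Subgroup.centralizer ({(x : G)} : Set G) : Subgroup G)
      = Nat.card (Subgroup.centralizer ({x} : Set N))
        * (Nat.card (Subgroup.centralizer ({(x : G)} : Set G))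
          * (Subgroup.centralizer ({x} : Set N)).index) := by
    rw [mul_comm, h1]
    ring
  exact Nat.eq_of_mul_eq_mul_left hpos h2

/-- The induced central character only depends on the conjugacy class. -/
theorem inducedCentralChar_congr_isConj (H : Subgroup G) (ξ : H → ℂ) {g g' : G}
    (h : IsConj g g') : inducedCentralChar H ξ g = inducedCentralChar H ξ g' := by
  unfold inducedCentralChar
  have h1 : {k : H | IsConj g (k : G)} = {k : H | IsConj g' (k : G)} := by
    ext k
    exact ⟨fun h1 => h.symm.trans h1, fun h1 => h.trans h1⟩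
  rw [h1]

end GroupLemmas

section Invariant

variable {G : Type u} [Group G] [Fintype G] (N : Subgroup G) [hN : N.Normal] [Fintype N]

/-- For a `G`-invariant block `b` of `N`, `θ ∈ b` and `x ∈ N`, the induced central character of
`θ` at `x` is congruent to `[G : N C_G(x)]` times the central character of `θ` at `x`. -/
theorem inducedCentralChar_congr_of_stable {M : Ideal AlgInt} (hM : M.IsPrime)
    {b : Set (IrrCharacter N)} (hb : IsPBlock M b)
    (hst : ∀ g : G, ∀ θ ∈ b, cjIrr N g θ ∈ b) {θ : IrrCharacter N} (hθ : θ ∈ b) (x : N) :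
    MemLocalIdeal M (inducedCentralChar N (θ : N → ℂ) (x : G)
      - ((N ⊔ Subgroup.centralizer ({(x : G)} : Set G)).index : ℂ)
        * centralChar (θ : N → ℂ) x) := by
  classical
  obtain ⟨S, hS⟩ : ∃ S : Subgroup G, S = N ⊔ Subgroup.centralizer ({(x : G)} : Set G) :=
    ⟨_, rfl⟩
  rw [← hS]
  have hkey : ∀ g : G, helper82.cconj N g⁻¹ (θ : N → ℂ) x
      = (θ : N → ℂ) ⟨g * x * g⁻¹, hN.conj_mem x x.2 g⟩ := by
    intro g
    rw [helper82.cconj_apply]
    refine congrArg _ (Subtype.ext ?_)
    simp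
  have hinvS : ∀ (g : G) (s : G), s ∈ S → helper82.cconj N (g * s)⁻¹ (θ : N → ℂ) x
      = helper82.cconj N g⁻¹ (θ : N → ℂ) x := by
    intro g s hs
    rw [hkey, hkey]
    have hs' : s ∈ (N : Set G) * (Subgroup.centralizer ({(x : G)} : Set G) : Set G) := by
      rw [← Subgroup.normal_mul, ← hS]
      exact hs
    obtain ⟨n, hn, c, hc, rfl⟩ := Set.mem_mul.mp hs'
    have hcx : c * (x : G) * c⁻¹ = x := by
      rw [SetLike.mem_coe, helper80.mem_centralizer_singleton] at hc
      rw [← hc]
      group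
    have h1 := helper4.isClassFunction_of_isIrrCharacter θ.2
      ⟨g * x * g⁻¹, hN.conj_mem x x.2 g⟩ ⟨g * n * g⁻¹, hN.conj_mem n hn g⟩
    rw [← h1]
    refine congrArg _ (Subtype.ext ?_)
    show g * (n * c) * x * (g * (n * c))⁻¹ = (g * n * g⁻¹) * (g * x * g⁻¹) * (g * n * g⁻¹)⁻¹
    have h2 : g * (n * c) * x * (g * (n * c))⁻¹ = g * n * (c * x * c⁻¹) * n⁻¹ * g⁻¹ := by group
    rw [h2, hcx]
    group
  have hsum : ∑ g : G, helper82.cconj N g (θ : N → ℂ) x
      = (Nat.card S : ℂ) * ∑ q : G ⧸ S, helper82.cconj N (Quotient.out q)⁻¹ (θ : N → ℂ) x := by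
    rw [← Equiv.sum_comp (Equiv.inv G) (fun g => helper82.cconj N g (θ : N → ℂ) x)]
    simp only [Equiv.inv_apply]
    have h1 : ∀ g : G, helper82.cconj N g⁻¹ (θ : N → ℂ) x
        = (fun q : G ⧸ S => helper82.cconj N (Quotient.out q)⁻¹ (θ : N → ℂ) x)
          (QuotientGroup.mk g) := by
      intro g
      obtain ⟨s, hs⟩ := QuotientGroup.mk_out_eq_mul S g
      show _ = helper82.cconj N (Quotient.out (QuotientGroup.mk g : G ⧸ S))⁻¹ (θ : N → ℂ) x
      rw [hs, hinvS g s s.2]
    rw [Finset.sum_congr rfl (fun g _ => h1 g)]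
    exact helper84.sum_comp_fiber (fun g : G => (QuotientGroup.mk g : G ⧸ S)) S
      (fun a c => by rw [eq_comm, QuotientGroup.eq]) Finset.univ
      (fun a => by
        simp only [Finset.mem_univ, true_iff]
        exact QuotientGroup.mk_surjective a)
      (fun q : G ⧸ S => helper82.cconj N (Quotient.out q)⁻¹ (θ : N → ℂ) x)
  have hterm : ∀ g : G, helper82.cconj N g⁻¹ (θ : N → ℂ) x / (θ : N → ℂ) 1
      * ((Subgroup.centralizer ({x} : Set N)).index : ℂ)
      = centralChar (cjIrr N g⁻¹ θ : N → ℂ) x := by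
    intro g
    unfold centralChar
    rw [cjIrr_one_apply, cjIrr_coe]
    ring
  have hcard : (Nat.card S : ℂ) = (Nat.card (Subgroup.centralizer ({(x : G)} : Set G)) : ℂ)
      * ((Subgroup.centralizer ({x} : Set N)).index : ℂ) := by
    rw [hS]
    exact_mod_cast card_sup_centralizer N x
  have hC0 : (Nat.card (Subgroup.centralizer ({(x : G)} : Set G)) : ℂ) ≠ 0 := by
    exact_mod_cast Nat.card_pos.ne'
  have hθ1 := helper81.irr_one_ne_zero θ
  have hlam : inducedCentralChar N (θ : N → ℂ) (x : G)
      = ∑ q : G ⧸ S, centralChar (cjIrr N (Quotient.out q)⁻¹ θ : N → ℂ) x := by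
    rw [helper84.inducedCentralChar_eq, hsum, hcard, Finset.mul_sum, Finset.mul_sum,
      Finset.sum_div]
    refine Finset.sum_congr rfl (fun q _ => ?_)
    rw [← hterm]
    field_simp
  have hidx : ((S.index : ℕ) : ℂ) = ∑ _q : G ⧸ S, (1 : ℂ) := by
    rw [Finset.sum_const, Finset.card_univ, nsmul_eq_mul, mul_one, Subgroup.index_eq_card,
      Nat.card_eq_fintype_card]
  rw [hlam, hidx, Finset.sum_mul, ← Finset.sum_sub_distrib]
  apply helper20.memLocalIdeal_sum hM
  intro q _
  rw [one_mul]
  exact helper80.sameBlock_of_mem hM hb (hst _ θ hθ) hθ x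

/-- A `G`-invariant block `b` of `N` has a defect class `x` with `p ∤ [G : N C_G(x)]`. -/
theorem exists_good_class {p : ℕ} [Fact p.Prime] {M : Ideal AlgInt} (hM : IsPModular p M)
    {b : Set (IrrCharacter N)} (hb : IsPBlock M b)
    (hst : ∀ g : G, ∀ θ ∈ b, cjIrr N g θ ∈ b) {θ : IrrCharacter N} (hθ : θ ∈ b) :
    ∃ x : N, ¬ MemLocalIdeal M (blockCoeff b x) ∧
      ¬ p ∣ (N ⊔ Subgroup.centralizer ({(x : G)} : Set G)).index ∧
      ¬ MemLocalIdeal M (centralChar (θ : N → ℂ) x) := by
  classical
  have hMp : M.IsPrime := helper20.isPrime_of_isPModular hM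
  by_contra hcon
  push Not at hcon
  have ha := blockCoeff_conj_of_stable N b hst
  have h1 := om_eq_sum_inducedCentralChar N (θ : N → ℂ) (blockCoeff b) ha
  rw [helper80.om_blockCoeff, if_pos hθ] at h1
  apply helper20.not_memLocalIdeal_one (M := M)
  rw [h1]
  apply helper20.memLocalIdeal_sum hMp
  intro c _
  by_cases hc : (Quotient.out c : G) ∈ N
  · obtain ⟨x, hx⟩ : ∃ x : N, x = ⟨Quotient.out c, hc⟩ := ⟨_, rfl⟩
    have hxc : (x : G) = Quotient.out c := by rw [hx]
    rw [helper80.extFun_of_mem N _ hc, ← hx, ← hxc]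
    have hA := inducedCentralChar_congr_of_stable N hMp hb hst hθ x
    have hloc : MemLocalRing M (blockCoeff b x) := helper81.memLocalRing_blockCoeff hMp hb x
    have hωloc : MemLocalRing M (centralChar (θ : N → ℂ) x) :=
      helper80.memLocalRing_centralChar hMp θ x
    have e : blockCoeff b x * inducedCentralChar N (θ : N → ℂ) (x : G)
        = blockCoeff b x * (inducedCentralChar N (θ : N → ℂ) (x : G)
          - ((N ⊔ Subgroup.centralizer ({(x : G)} : Set G)).index : ℂ)
            * centralChar (θ : N → ℂ) x)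
          + blockCoeff b x * (((N ⊔ Subgroup.centralizer ({(x : G)} : Set G)).index : ℂ)
            * centralChar (θ : N → ℂ) x) := by ring
    rw [e]
    apply helper20.memLocalIdeal_add hMp (helper20.memLocalIdeal_mul_left hMp hloc hA)
    by_cases h1 : MemLocalIdeal M (blockCoeff b x)
    · exact helper20.memLocalIdeal_mul_right hMp h1
        (helper20.memLocalRing_mul hMp (helper20.memLocalRing_natCast hMp _) hωloc)
    · by_cases h2 : p ∣ (N ⊔ Subgroup.centralizer ({(x : G)} : Set G)).index
      · exact helper20.memLocalIdeal_mul_left hMp hloc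
          (helper20.memLocalIdeal_mul_right hMp (helper80.memLocalIdeal_natCast hM h2) hωloc)
      · exact helper20.memLocalIdeal_mul_left hMp hloc
          (helper20.memLocalIdeal_mul_left hMp (helper20.memLocalRing_natCast hMp _)
            (hcon x h1 h2))
  · rw [helper80.extFun_of_not_mem N _ hc, zero_mul]
    exact helper20.memLocalIdeal_zero hMp

/-- The irreducible characters of `G` lying over a member of `b`. -/
def coverSet (b : Set (IrrCharacter N)) : Set (IrrCharacter G) :=
  {χ | ∃ θ ∈ b, classInner (fun n : N => (χ : G → ℂ) n) (θ : N → ℂ) ≠ 0}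

/-- The idempotent of a `G`-invariant set `b` of characters of `N`, extended by zero, is the
idempotent of the set of characters of `G` lying over `b`. -/
theorem blockCoeff_coverSet (b : Set (IrrCharacter N))
    (hst : ∀ g : G, ∀ θ ∈ b, cjIrr N g θ ∈ b) (g : G) :
    helper80.extFun N (blockCoeff b) g = blockCoeff (coverSet N b) g := by
  classical
  have ha := blockCoeff_conj_of_stable N b hst
  apply helper80.eq_blockCoeff_of_sum (coverSet N b) _ (isClassFunction_extFun_of_inv N _ ha)
  intro χ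
  obtain ⟨θ, hθ⟩ := exists_constituent_restrict_top N χ
  have h1 := om_extFun_of_constituent N hθ (blockCoeff b) ha
  rw [helper80.om_blockCoeff] at h1
  unfold helper80.om at h1
  rw [div_eq_iff (helper81.irr_one_ne_zero χ)] at h1
  rw [h1]
  by_cases hθb : θ ∈ b
  · rw [if_pos hθb, if_pos ⟨θ, hθb, hθ⟩, one_mul]
  · rw [if_neg hθb, zero_mul, if_neg]
    rintro ⟨θ₁, hθ₁, h₁⟩
    obtain ⟨g', hg'⟩ := helper82.clifford_conj N χ.2 θ₁.2 θ.2 h₁ hθ
    apply hθb
    have h2 : θ = cjIrr N g' θ₁ := Subtype.ext hg'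
    rw [h2]
    exact hst g' θ₁ hθ₁

/-- The set of characters lying over a `G`-invariant block is a union of blocks. -/
theorem coverSet_union_blocks {M : Ideal AlgInt} (hM : M.IsPrime) {b : Set (IrrCharacter N)}
    (hb : IsPBlock M b) (hst : ∀ g : G, ∀ θ ∈ b, cjIrr N g θ ∈ b) :
    ∀ χ ∈ coverSet N b, blockOf M (χ : G → ℂ) ⊆ coverSet N b := by
  rintro χ ⟨θ, hθ, h⟩ ψ hψ
  obtain ⟨θ', hθ'⟩ := exists_constituent_restrict_top N ψ
  obtain ⟨g, hg⟩ := mem_orbitUnion_of_cover N hM (helper80.isPBlock_blockOf M χ) hb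
    (helper80.mem_blockOf_self hM χ) hθ h hψ hθ'
  refine ⟨θ', ?_, hθ'⟩
  have h1 := hst g⁻¹ _ hg
  rwa [cjIrr_inv_cjIrr] at h1

/-- If the idempotent of the invariant block `b` has a coefficient outside the local ideal at
`x`, so does the idempotent of some block of `G` covering `b`. -/
theorem exists_cover_block_of_blockCoeff {M : Ideal AlgInt} (hM : M.IsPrime)
    {b : Set (IrrCharacter N)} (hb : IsPBlock M b)
    (hst : ∀ g : G, ∀ θ ∈ b, cjIrr N g θ ∈ b) (x : N)
    (hx : ¬ MemLocalIdeal M (blockCoeff b x)) :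
    ∃ B₁ : Set (IrrCharacter G), IsPBlock M B₁ ∧ B₁ ⊆ coverSet N b ∧
      ¬ MemLocalIdeal M (blockCoeff B₁ (x : G)) := by
  classical
  by_contra hcon
  push Not at hcon
  apply hx
  have h1 := blockCoeff_coverSet N b hst (x : G)
  rw [helper80.extFun_coe] at h1
  rw [h1]
  have hd : ∀ B ∈ (helper80.blocks M G).filter (fun B => B ⊆ coverSet N b),
      ∀ B' ∈ (helper80.blocks M G).filter (fun B => B ⊆ coverSet N b), B ≠ B' → Disjoint B B' := by
    intro B hB B' hB' hne
    exact helper80.blocks_disjoint hM B (Finset.mem_filter.mp hB).1 B' (Finset.mem_filter.mp hB').1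
      hne
  have hU : (⋃ B ∈ (helper80.blocks M G).filter (fun B => B ⊆ coverSet N b), B)
      = coverSet N b := by
    ext χ
    simp only [Set.mem_iUnion, Finset.mem_filter, exists_prop]
    constructor
    · rintro ⟨B, ⟨-, hBS⟩, hχ⟩
      exact hBS hχ
    · intro hχ
      exact ⟨blockOf M (χ : G → ℂ), ⟨helper80.mem_blocks.mpr (helper80.isPBlock_blockOf M χ),
        coverSet_union_blocks N hM hb hst χ hχ⟩, helper80.mem_blockOf_self hM χ⟩
  rw [← hU, ← helper80.sum_blockCoeff_of_pairwiseDisjoint _ hd]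
  apply helper20.memLocalIdeal_sum hM
  intro B hB
  exact hcon B (helper80.mem_blocks.mp (Finset.mem_filter.mp hB).1) (Finset.mem_filter.mp hB).2

/-- **Fong's theorem.**  `b` a `G`-invariant block of the normal subgroup `N`, `B` a block of `G`
covering `b` of maximal defect among the blocks covering `b`, `P` a defect group of `B`.  Then
`p ∤ [G : P N]`, `P ∩ N` is a defect group of `b`, and `d(B) = d(b) + ν_p [G : N]`. -/
theorem fong_main {p : ℕ} [Fact p.Prime] {M : Ideal AlgInt} (hM : IsPModular p M)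
    {b : Set (IrrCharacter N)} (hb : IsPBlock M b)
    (hst : ∀ g : G, ∀ θ ∈ b, cjIrr N g θ ∈ b)
    {B : Set (IrrCharacter G)} (hB : IsPBlock M B)
    (hcov : ∃ χ ∈ B, ∃ θ ∈ b, classInner (fun n : N => (χ : G → ℂ) n) (θ : N → ℂ) ≠ 0)
    (hmax : ∀ B' : Set (IrrCharacter G), IsPBlock M B' →
      (∃ χ ∈ B', ∃ θ ∈ b, classInner (fun n : N => (χ : G → ℂ) n) (θ : N → ℂ) ≠ 0) →
      blockDefect p B' ≤ blockDefect p B)
    {P : Subgroup G} (hP : IsDefectGroup p M B P) :
    ¬ p ∣ (P ⊔ N).index ∧ IsDefectGroup p M b ((P ⊓ N).subgroupOf N) ∧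
      blockDefect p B = blockDefect p b + N.index.factorization p := by
  classical
  have hMp : M.IsPrime := helper20.isPrime_of_isPModular hM
  have hpp : p.Prime := Fact.out
  obtain ⟨χ, hχ, θ, hθ, hχθ⟩ := hcov
  obtain ⟨x₀, hx₀a, hx₀p, hx₀ω⟩ := exists_good_class N hM hb hst hθ
  -- central characters of covering blocks at `x₀`
  have hcent : ∀ B' : Set (IrrCharacter G), IsPBlock M B' →
      (∃ χ ∈ B', ∃ θ ∈ b, classInner (fun n : N => (χ : G → ℂ) n) (θ : N → ℂ) ≠ 0) →
      ∀ χ' ∈ B', ¬ MemLocalIdeal M (centralChar (χ' : G → ℂ) (x₀ : G)) := by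
    intro B' hB' hcov' χ' hχ' hJ
    have e1 := (Cfsg.Agent.S0965.result p M hM N B' hB' b hb).mp hcov' χ' hχ' θ hθ x₀
    have e2 := inducedCentralChar_congr_of_stable N hMp hb hst hθ x₀
    have e3 := helper20.memLocalIdeal_sub hMp hJ (helper20.memLocalIdeal_add hMp e1 e2)
    have e4 : centralChar (χ' : G → ℂ) (x₀ : G)
        - (centralChar (χ' : G → ℂ) (x₀ : G) - inducedCentralChar N (θ : N → ℂ) (x₀ : G)
          + (inducedCentralChar N (θ : N → ℂ) (x₀ : G)
            - ((N ⊔ Subgroup.centralizer ({(x₀ : G)} : Set G)).index : ℂ)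
              * centralChar (θ : N → ℂ) x₀))
        = ((N ⊔ Subgroup.centralizer ({(x₀ : G)} : Set G)).index : ℂ)
              * centralChar (θ : N → ℂ) x₀ := by ring
    rw [e4] at e3
    exact helper20.not_memLocalIdeal_mul hMp (helper20.memLocalRing_natCast hMp _)
      (helper80.memLocalRing_centralChar hMp θ x₀) (helper80.not_memLocalIdeal_natCast hM hx₀p)
      hx₀ω e3
  -- `x₀` is a defect class of `b`
  have hdcb : IsDefectClass M b x₀ := ⟨helper81.memLocalRing_blockCoeff hMp hb x₀, hx₀a,
    fun θ' hθ' => helper80.not_memLocalIdeal_centralChar_of_mem hMp hb hθ hθ' x₀ hx₀ω⟩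
  have hdb : blockDefect p b
      = (Nat.card (Subgroup.centralizer ({x₀} : Set N))).factorization p :=
    helper79.blockDefect_eq_of_isDefectClass hM hb x₀ hdcb
  -- numerics
  have hfac : ∀ a c : ℕ, a ≠ 0 → c ≠ 0 →
      (a * c).factorization p = a.factorization p + c.factorization p := by
    intro a c ha hc
    rw [Nat.factorization_mul ha hc]
    rfl
  have hGN : (Nat.card G).factorization p
      = (Nat.card N).factorization p + N.index.factorization p := by
    rw [← Subgroup.card_mul_index N]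
    exact hfac _ _ Nat.card_pos.ne' Subgroup.index_ne_zero_of_finite
  have hnum : (Nat.card (Subgroup.centralizer ({(x₀ : G)} : Set G))).factorization p
      = (Nat.card (Subgroup.centralizer ({x₀} : Set N))).factorization p
        + N.index.factorization p := by
    have h1 := card_sup_centralizer N x₀
    have h2 := Subgroup.card_mul_index (N ⊔ Subgroup.centralizer ({(x₀ : G)} : Set G))
    have h4 := Subgroup.card_mul_index (Subgroup.centralizer ({x₀} : Set N))
    have h5 : (Nat.card G).factorization p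
        = (Nat.card (Subgroup.centralizer ({(x₀ : G)} : Set G))).factorization p
          + ((Subgroup.centralizer ({x₀} : Set N)).index).factorization p := by
      rw [← h2, hfac _ _ Nat.card_pos.ne' Subgroup.index_ne_zero_of_finite,
        Nat.factorization_eq_zero_of_not_dvd hx₀p, h1,
        hfac _ _ Nat.card_pos.ne' Subgroup.index_ne_zero_of_finite]
      rfl
    have h6 : (Nat.card N).factorization p
        = (Nat.card (Subgroup.centralizer ({x₀} : Set N))).factorization p
          + ((Subgroup.centralizer ({x₀} : Set N)).index).factorization p := by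
      rw [← h4]
      exact hfac _ _ Nat.card_pos.ne' Subgroup.index_ne_zero_of_finite
    omega
  -- a covering block with defect class `x₀`
  obtain ⟨B₁, hB₁, hB₁sub, hB₁a⟩ := exists_cover_block_of_blockCoeff N hMp hb hst x₀ hx₀a
  obtain ⟨χ₁, hχ₁⟩ := helper80.isPBlock_nonempty hMp hB₁
  have hcov₁ : ∃ χ ∈ B₁, ∃ θ ∈ b,
      classInner (fun n : N => (χ : G → ℂ) n) (θ : N → ℂ) ≠ 0 := ⟨χ₁, hχ₁, hB₁sub hχ₁⟩
  have hdc₁ : IsDefectClass M B₁ (x₀ : G) :=
    ⟨helper81.memLocalRing_blockCoeff hMp hB₁ _, hB₁a, hcent B₁ hB₁ hcov₁⟩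
  have hd₁ : blockDefect p B₁
      = (Nat.card (Subgroup.centralizer ({(x₀ : G)} : Set G))).factorization p :=
    helper79.blockDefect_eq_of_isDefectClass hM hB₁ _ hdc₁
  have hχJ := hcent B hB ⟨χ, hχ, θ, hθ, hχθ⟩ χ hχ
  have hle : blockDefect p B
      ≤ (Nat.card (Subgroup.centralizer ({(x₀ : G)} : Set G))).factorization p :=
    helper79.blockDefect_le_of_centralChar hM hB hχ _ hχJ
  have hge := hmax B₁ hB₁ hcov₁
  have hdB : blockDefect p B
      = (Nat.card (Subgroup.centralizer ({(x₀ : G)} : Set G))).factorization p := by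
    rw [hd₁] at hge
    exact le_antisymm hle hge
  have h3 : blockDefect p B = blockDefect p b + N.index.factorization p := by
    rw [hdB, hnum, hdb]
  -- move the class so that `P` centralizes it
  obtain ⟨y, hy⟩ := helper80.IsDefectGroup.exists_conj_mem_centralizer hM hB hP hχ (x₀ : G) hχJ
  obtain ⟨x₁, hx₁⟩ : ∃ x₁ : N, x₁ = ⟨y⁻¹ * x₀ * y⁻¹⁻¹, hN.conj_mem x₀ x₀.2 y⁻¹⟩ := ⟨_, rfl⟩
  have hx₁G : (x₁ : G) = y⁻¹ * x₀ * y := by
    rw [hx₁]
    simp
  have hconj : IsConj (x₀ : G) (x₁ : G) := by
    rw [isConj_iff]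
    exact ⟨y⁻¹, by rw [hx₁G]; simp⟩
  have hPx₁ : P ≤ Subgroup.centralizer ({(x₁ : G)} : Set G) := by
    intro d hd
    have h5 := hy d hd
    rw [helper80.mem_centralizer_singleton] at h5 ⊢
    rw [hx₁G]
    calc y⁻¹ * (x₀ : G) * y * d = y⁻¹ * ((x₀ : G) * (y * d * y⁻¹)) * y := by group
      _ = y⁻¹ * ((y * d * y⁻¹) * (x₀ : G)) * y := by rw [h5]
      _ = d * (y⁻¹ * (x₀ : G) * y) := by group
  -- `x₁` is a defect class of `b`
  have hx₁a : ¬ MemLocalIdeal M (blockCoeff b x₁) := by
    rw [hx₁, blockCoeff_conj_of_stable N b hst y⁻¹ x₀]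
    exact hx₀a
  have hx₁ω : ∀ θ' ∈ b, ¬ MemLocalIdeal M (centralChar (θ' : N → ℂ) x₁) := by
    intro θ' hθ' hJ
    have e0 := inducedCentralChar_congr_of_stable N hMp hb hst hθ' x₀
    have e1 := inducedCentralChar_congr_of_stable N hMp hb hst hθ' x₁
    rw [← inducedCentralChar_congr_isConj N (θ' : N → ℂ) hconj] at e1
    have e2 : MemLocalIdeal M (((N ⊔ Subgroup.centralizer ({(x₁ : G)} : Set G)).index : ℂ)
        * centralChar (θ' : N → ℂ) x₁) :=
      helper20.memLocalIdeal_mul_left hMp (helper20.memLocalRing_natCast hMp _) hJ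
    have e3 := helper20.memLocalIdeal_add hMp e1 e2
    rw [sub_add_cancel] at e3
    have e4 := helper20.memLocalIdeal_sub hMp e3 e0
    rw [sub_sub_cancel] at e4
    exact helper20.not_memLocalIdeal_mul hMp (helper20.memLocalRing_natCast hMp _)
      (helper80.memLocalRing_centralChar hMp θ' x₀) (helper80.not_memLocalIdeal_natCast hM hx₀p)
      (hdcb.2.2 θ' hθ') e4
  have hdcb₁ : IsDefectClass M b x₁ := ⟨helper81.memLocalRing_blockCoeff hMp hb x₁, hx₁a, hx₁ω⟩
  have hdb₁ : blockDefect p b
      = (Nat.card (Subgroup.centralizer ({x₁} : Set N))).factorization p :=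
    helper79.blockDefect_eq_of_isDefectClass hM hb x₁ hdcb₁
  -- orders
  have hPcard : Nat.card P = p ^ blockDefect p B := helper79.card_eq_of_isDefectGroup hM hB hP
  have hPp : IsPGroup p P := helper80.IsDefectGroup.isPGroup hP
  have hQp : IsPGroup p (P ⊓ N : Subgroup G) := hPp.to_le inf_le_left
  obtain ⟨j, hj⟩ := IsPGroup.iff_card.mp hQp
  have hsubcard : Nat.card ((P ⊓ N).subgroupOf N) = Nat.card (P ⊓ N : Subgroup G) :=
    Nat.card_congr (Subgroup.subgroupOfEquivOfLe inf_le_right).toEquiv
  have hsuble : (P ⊓ N).subgroupOf N ≤ Subgroup.centralizer ({x₁} : Set N) := by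
    intro n hn
    have h5 : (n : G) ∈ P := (Subgroup.mem_subgroupOf.mp hn).1
    have h6 := hPx₁ h5
    rw [helper80.mem_centralizer_singleton] at h6 ⊢
    exact Subtype.ext h6
  have hj1 : j ≤ blockDefect p b := by
    have h5 := Subgroup.card_dvd_of_le hsuble
    rw [hsubcard, hj] at h5
    rw [hdb₁]
    exact (hpp.pow_dvd_iff_le_factorization Nat.card_pos.ne').mp h5
  have hsup := card_sup_mul_card_inf P N
  rw [inf_comm, hj, hPcard] at hsup
  have hsupdvd : Nat.card (P ⊔ N : Subgroup G) ∣ Nat.card G := Subgroup.card_subgroup_dvd_card _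
  have hsupfac : (Nat.card (P ⊔ N : Subgroup G)).factorization p + j
      = (Nat.card N).factorization p + blockDefect p B := by
    have h5 : (Nat.card (P ⊔ N : Subgroup G) * p ^ j).factorization p
        = (Nat.card N * p ^ blockDefect p B).factorization p := by rw [hsup]
    rw [hfac _ _ Nat.card_pos.ne' (pow_ne_zero _ hpp.ne_zero),
      hfac _ _ Nat.card_pos.ne' (pow_ne_zero _ hpp.ne_zero),
      Nat.Prime.factorization_pow hpp, Nat.Prime.factorization_pow hpp] at h5
    simpa using h5
  have hsuple : (Nat.card (P ⊔ N : Subgroup G)).factorization p ≤ (Nat.card G).factorization p :=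
    (Nat.factorization_le_iff_dvd Nat.card_pos.ne' Nat.card_pos.ne').mpr hsupdvd p
  have hjeq : j = blockDefect p b := by omega
  refine ⟨?_, ?_, h3⟩
  · have h5 := Subgroup.card_mul_index (P ⊔ N : Subgroup G)
    have h6 : (Nat.card G).factorization p
        = (Nat.card (P ⊔ N : Subgroup G)).factorization p
          + ((P ⊔ N : Subgroup G).index).factorization p := by
      rw [← h5]
      exact hfac _ _ Nat.card_pos.ne' Subgroup.index_ne_zero_of_finite
    have h7 : ((P ⊔ N : Subgroup G).index).factorization p = 0 := by omega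
    intro hdvd
    have h8 : 0 < ((P ⊔ N : Subgroup G).index).factorization p :=
      hpp.factorization_pos_of_dvd Subgroup.index_ne_zero_of_finite hdvd
    omega
  · refine (helper80.isDefectGroup_iff p M b _).mpr ⟨x₁, hdcb₁, ?_⟩
    apply helper80.isSylowCent_of_card hsuble
    rw [hsubcard, hj, hjeq, hdb₁]

end Invariant

end Cfsg.Agent.Lib.helper77
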