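import Mathlib

/-!
# Nilpotency of a sum of twisted-commuting nilpotent elements (helper77)

A purely ring-theoretic lemma: if finitely many elements `a c` of a ring satisfy the twisted
commutation rule `a d * a c = a c * a d'` and each has a power in a right-ideal-like predicate
`P`, then a power of their sum is in `P`.
-/

set_option autoImplicit false

namespace Cfsg.Agent.Lib.helper77

section Words

variable {A : Type*} [Ring A] {ι : Type*}

/-- Moving a letter past a power of another letter. -/
theorem word_comm_pow (a : ι → A) (hcomm : ∀ c d, ∃ d', a d * a c = a c * a d') (c : ι)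
    (i : ℕ) : ∀ d : ι, ∃ d', a d * a c ^ i = a c ^ i * a d' := by
  induction i with
  | zero => intro d; exact ⟨d, by simp⟩
  | succ i ih =>
    intro d
    obtain ⟨d₁, h₁⟩ := hcomm c d
    obtain ⟨d₂, h₂⟩ := ih d₁
    refine ⟨d₂, ?_⟩
    calc a d * a c ^ (i + 1) = (a d * a c) * a c ^ i := by rw [pow_succ', mul_assoc]
      _ = a c * (a d₁ * a c ^ i) := by rw [h₁, mul_assoc]
      _ = a c ^ (i + 1) * a d₂ := by rw [h₂, ← mul_assoc, ← pow_succ']

/-- Every word is a power of the letter `c`, with exponent the number of occurrences of `c`,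
times another word. -/
theorem word_count [DecidableEq ι] (a : ι → A) (hcomm : ∀ c d, ∃ d', a d * a c = a c * a d')
    (c : ι) (w : List ι) :
    ∃ w' : List ι, (w.map a).prod = a c ^ (w.count c) * (w'.map a).prod := by
  induction w with
  | nil => exact ⟨[], by simp⟩
  | cons d v ih =>
    obtain ⟨w', hw'⟩ := ih
    by_cases hd : d = c
    · subst hd
      refine ⟨w', ?_⟩
      rw [List.map_cons, List.prod_cons, hw', List.count_cons_self, pow_succ', mul_assoc]
    · obtain ⟨d', hd'⟩ := word_comm_pow a hcomm c (v.count c) d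
      refine ⟨d' :: w', ?_⟩
      rw [List.map_cons, List.prod_cons, hw', List.count_cons_of_ne hd, ← mul_assoc, hd',
        mul_assoc, List.map_cons, List.prod_cons]

theorem word_lc (a : ι → A) (Lc : A → Prop) (hL1 : Lc 1)
    (hLmul : ∀ x y, Lc x → Lc y → Lc (x * y)) (ha : ∀ c, Lc (a c)) (w : List ι) :
    Lc ((w.map a).prod) := by
  induction w with
  | nil => simpa using hL1
  | cons d v ih =>
    rw [List.map_cons, List.prod_cons]
    exact hLmul _ _ (ha d) ih

theorem pow_lc (Lc : A → Prop) (hL1 : Lc 1) (hLmul : ∀ x y, Lc x → Lc y → Lc (x * y))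
    {x : A} (hx : Lc x) (n : ℕ) : Lc (x ^ n) := by
  induction n with
  | zero => simpa using hL1
  | succ n ih =>
    rw [pow_succ]
    exact hLmul _ _ ih hx

/-- A sum of finitely many twisted-commuting elements, each with `K`-th power in `P`, has a power
in `P`. -/
theorem word_nilpotent [Fintype ι] [DecidableEq ι] (a : ι → A) (P Lc : A → Prop)
    (hL1 : Lc 1) (hLmul : ∀ x y, Lc x → Lc y → Lc (x * y))
    (hP0 : P 0) (hPadd : ∀ x y, P x → P y → P (x + y))
    (hPmul : ∀ x y, P x → Lc y → P (x * y))
    (ha : ∀ c, Lc (a c)) (hcomm : ∀ c d, ∃ d', a d * a c = a c * a d')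
    (K : ℕ) (hK : ∀ c, P (a c ^ K)) :
    P ((∑ c, a c) ^ (Fintype.card ι * K + 1)) := by
  have hclos : ∀ n : ℕ, (∑ c, a c) ^ n ∈ AddSubmonoid.closure
      {x : A | ∃ w : List ι, w.length = n ∧ x = (w.map a).prod} := by
    intro n
    induction n with
    | zero => exact AddSubmonoid.subset_closure ⟨[], rfl, by simp⟩
    | succ n ih =>
      rw [pow_succ', Finset.sum_mul]
      apply AddSubmonoid.sum_mem
      intro c _
      refine AddSubmonoid.closure_induction
        (motive := fun y _ => a c * y ∈ AddSubmonoid.closure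
          {x : A | ∃ w : List ι, w.length = n + 1 ∧ x = (w.map a).prod}) ?_ ?_ ?_ ih
      · rintro y ⟨w, hw, rfl⟩
        exact AddSubmonoid.subset_closure ⟨c :: w, by simp [hw], by simp⟩
      · rw [mul_zero]
        exact AddSubmonoid.zero_mem _
      · intro x y _ _ hx hy
        rw [mul_add]
        exact AddSubmonoid.add_mem _ hx hy
  have hword : ∀ w : List ι, w.length = Fintype.card ι * K + 1 → P ((w.map a).prod) := by
    intro w hw
    have hex : ∃ c, K ≤ w.count c := by
      by_contra hcon
      push Not at hcon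
      have h1 : ∑ c : ι, w.count c = w.length := by
        have := Multiset.sum_count_eq_card (s := (Finset.univ : Finset ι)) (m := (w : Multiset ι))
          (fun a _ => Finset.mem_univ a)
        simpa using this
      have h2 : ∑ c : ι, w.count c ≤ ∑ _c : ι, K :=
        Finset.sum_le_sum (fun c _ => (hcon c).le)
      rw [h1, hw] at h2
      simp at h2
    obtain ⟨c, hc⟩ := hex
    obtain ⟨w', hw'⟩ := word_count a hcomm c w
    rw [hw']
    have h3 : a c ^ (w.count c) = a c ^ K * a c ^ (w.count c - K) := by
      rw [← pow_add]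
      congr 1
      omega
    rw [h3, mul_assoc]
    exact hPmul _ _ (hK c) (hLmul _ _ (pow_lc Lc hL1 hLmul (ha c) _) (word_lc a Lc hL1 hLmul ha w'))
  exact AddSubmonoid.closure_induction (motive := fun y _ => P y)
    (fun y hy => by
      obtain ⟨w, hw, rfl⟩ := hy
      exact hword w hw) hP0 (fun x y _ _ hx hy => hPadd x y hx hy) (hclos _)

end Words

end Cfsg.Agent.Lib.helper77
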