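import Mathlib
import Cfsg.Prelude.Def_Blocks
import Cfsg.Agent.Lib.helper77.Fong
import Cfsg.Agent.Lib.helper77.Words
import Cfsg.Agent.Lib.helper20.Trunc
import Cfsg.Agent.Lib.helper20.SubAlg
import Cfsg.Agent.Lib.helper20.NormalIdem
import Cfsg.Agent.Lib.helper20.Osima
import Cfsg.Agent.Lib.helper20.SecondMain
import Cfsg.Agent.Lib.helper20.NilTrace
import Cfsg.Agent.Lib.helper81.Blocks
import Cfsg.Agent.Lib.helper80.MinMax
import Cfsg.Agent.Lib.helper80.Brauer
import Cfsg.Agent.Lib.helper84.MinMax

/-!
# Blocks covering a block whose defect group has its centralizer inside the normal subgroup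
(helper77)

`N` a normal subgroup of `G`, `b` a `G`-invariant block of `N` with a defect group `D` such that
`C_G(D) ≤ N`.

* `cosetPart`: the part of an element of the group algebra supported on a coset of `N`;
  `cosetPart_mul_cosetPart`: the parts of a central element commute up to a twist;
* `memLocalIdeal_om_mul_off`: for `N`-invariant `u`, `v` with `u` supported off `N`, the central
  characters of `b` vanish modulo the local ideal on the part of `u * v` inside `N`;
* `exists_pow_jCoeff_off`: a central element supported off `N`, multiplied by the idempotent of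
  `b`, is nilpotent modulo the local ideal;
* `memLocalIdeal_centralChar_of_cover_off`: the central character of a character of `G` lying
  over `b` lies in the local ideal at every element outside `N`.
-/

set_option autoImplicit false

namespace Cfsg.Agent.Lib.helper77

open Cfsg
open scoped ComplexConjugate

universe u

/-- `(x E)^(k+1) = x^(k+1) E` for a central idempotent `E`. -/
theorem mul_idem_pow {A : Type*} [Ring A] (x E : A) (hE : E * E = E)
    (hc : ∀ y : A, E * y = y * E) (k : ℕ) : (x * E) ^ (k + 1) = x ^ (k + 1) * E := by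
  induction k with
  | zero => simp
  | succ k ih =>
    rw [pow_succ, ih, pow_succ x (k + 1)]
    calc x ^ (k + 1) * E * (x * E) = x ^ (k + 1) * (E * x) * E := by noncomm_ring
      _ = x ^ (k + 1) * (x * E) * E := by rw [hc x]
      _ = x ^ (k + 1) * x * (E * E) := by noncomm_ring
      _ = x ^ (k + 1) * x * E := by rw [hE]

section Graded

variable {G : Type u} [Group G] [Fintype G] (N : Subgroup G) [hN : N.Normal]

open scoped Classical in
/-- The part of an element of the group algebra supported on a coset of `N`. -/
noncomputable def cosetPart (c : G ⧸ N) (a : MonoidAlgebra ℂ G) : MonoidAlgebra ℂ G :=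
  ∑ g ∈ Finset.univ.filter (fun g : G => (g : G ⧸ N) = c), MonoidAlgebra.single g (a.coeff g)

omit hN in
open scoped Classical in
theorem coeff_cosetPart (c : G ⧸ N) (a : MonoidAlgebra ℂ G) (g : G) :
    (cosetPart N c a).coeff g = if (g : G ⧸ N) = c then a.coeff g else 0 := by
  unfold cosetPart
  rw [MonoidAlgebra.coeff_sum, Finsupp.finsetSum_apply]
  simp_rw [MonoidAlgebra.coeff_single, Finsupp.single_apply]
  rw [Finset.sum_ite_eq']
  simp

omit hN in
theorem sum_cosetPart [Fintype (G ⧸ N)] (a : MonoidAlgebra ℂ G) :
    ∑ c : G ⧸ N, cosetPart N c a = a := by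
  classical
  apply MonoidAlgebra.coeff_injective
  ext g
  rw [MonoidAlgebra.coeff_sum, Finsupp.finsetSum_apply]
  simp_rw [coeff_cosetPart]
  rw [Finset.sum_ite_eq]
  simp

omit hN in
theorem localCoeff_cosetPart {M : Ideal AlgInt} (hM : M.IsPrime) (c : G ⧸ N)
    {a : MonoidAlgebra ℂ G} (ha : helper20.LocalCoeff M a) :
    helper20.LocalCoeff M (cosetPart N c a) := by
  classical
  intro g
  rw [coeff_cosetPart]
  split_ifs
  · exact ha g
  · exact helper20.memLocalRing_zero hM

/-- The coset parts of a central element commute with the elements of `N`. -/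
theorem cosetPart_commute_single {a : MonoidAlgebra ℂ G} (ha : helper20.IsCentralElt a)
    (c : G ⧸ N) {n : G} (hn : n ∈ N) :
    MonoidAlgebra.single n 1 * cosetPart N c a = cosetPart N c a * MonoidAlgebra.single n 1 := by
  classical
  apply MonoidAlgebra.coeff_injective
  ext g
  rw [MonoidAlgebra.coeff_single_mul_apply, MonoidAlgebra.coeff_mul_single_apply, one_mul, mul_one,
    coeff_cosetPart, coeff_cosetPart]
  have h1 : ((n⁻¹ * g : G) : G ⧸ N) = (g : G ⧸ N) := by
    rw [QuotientGroup.mk_mul, QuotientGroup.mk_inv, (QuotientGroup.eq_one_iff n).mpr hn, inv_one,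
      one_mul]
  have h2 : ((g * n⁻¹ : G) : G ⧸ N) = (g : G ⧸ N) := by
    rw [QuotientGroup.mk_mul, QuotientGroup.mk_inv, (QuotientGroup.eq_one_iff n).mpr hn, inv_one,
      mul_one]
  rw [h1, h2]
  have h3 : a.coeff (n⁻¹ * g) = a.coeff (g * n⁻¹) := by
    have := (helper20.isCentralElt_iff a).mp ha (n⁻¹ * g) n
    rw [← this]
    congr 1
    group
  rw [h3]

/-- The coset parts of a central element commute up to a twist. -/
theorem cosetPart_mul_cosetPart {a : MonoidAlgebra ℂ G} (ha : helper20.IsCentralElt a)
    (c d : G ⧸ N) :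
    cosetPart N d a * cosetPart N c a = cosetPart N c a * cosetPart N (c⁻¹ * d * c) a := by
  classical
  apply MonoidAlgebra.coeff_injective
  ext g
  rw [helper20.coeff_mul_eq_sum, helper20.coeff_mul_eq_sum]
  apply Fintype.sum_equiv ((Equiv.inv G).trans (Equiv.mulRight g))
  intro x
  simp only [Equiv.trans_apply, Equiv.inv_apply, Equiv.coe_mulRight]
  rw [coeff_cosetPart, coeff_cosetPart, coeff_cosetPart]
  have e1 : (x⁻¹ * g)⁻¹ * g = g⁻¹ * x * g := by group
  rw [e1]
  by_cases h1 : ((x⁻¹ * g : G) : G ⧸ N) = c
  · rw [if_pos h1]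
    have hg : (g : G ⧸ N) = (x : G ⧸ N) * c := by
      rw [← h1, QuotientGroup.mk_mul, QuotientGroup.mk_inv, mul_inv_cancel_left]
    have h2 : ((g⁻¹ * x * g : G) : G ⧸ N) = c⁻¹ * d * c ↔ (x : G ⧸ N) = d := by
      rw [QuotientGroup.mk_mul, QuotientGroup.mk_mul, QuotientGroup.mk_inv, hg]
      constructor
      · intro h
        have h' : c⁻¹ * (x : G ⧸ N) * c = c⁻¹ * d * c := by
          rw [← h]
          group
        simpa using h'
      · intro h
        rw [h]
        group
    have h3 : a.coeff (g⁻¹ * x * g) = a.coeff x := by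
      have := (helper20.isCentralElt_iff a).mp ha x g⁻¹
      rw [inv_inv] at this
      exact this
    by_cases h4 : (x : G ⧸ N) = d
    · rw [if_pos h4, if_pos (h2.mpr h4), h3, mul_comm]
    · rw [if_neg h4, if_neg (fun h => h4 (h2.mp h)), zero_mul, mul_zero]
  · rw [if_neg h1, mul_zero, zero_mul]

/-- A power of a coset part is supported on the corresponding power of the coset. -/
theorem coeff_cosetPart_pow_eq_zero (a : MonoidAlgebra ℂ G) (c : G ⧸ N) (j : ℕ) :
    ∀ g : G, (g : G ⧸ N) ≠ c ^ j → (cosetPart N c a ^ j).coeff g = 0 := by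
  classical
  induction j with
  | zero =>
    intro g hg
    rw [pow_zero, MonoidAlgebra.one_def, MonoidAlgebra.coeff_single, Finsupp.single_apply, if_neg]
    rintro rfl
    exact hg (by simp)
  | succ j ih =>
    intro g hg
    rw [pow_succ', helper20.coeff_mul_eq_sum]
    apply Finset.sum_eq_zero
    intro x _
    rw [coeff_cosetPart]
    by_cases hx : (x : G ⧸ N) = c
    · rw [if_pos hx, ih (x⁻¹ * g) ?_, mul_zero]
      intro h
      apply hg
      rw [pow_succ', ← h, QuotientGroup.mk_mul, QuotientGroup.mk_inv, hx, mul_inv_cancel_left]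
    · rw [if_neg hx, zero_mul]

variable [Fintype N]

omit hN in
/-- **Key vanishing.**  `b` a block of `N` with defect group `D`, `C_G(D) ≤ N`; `u`, `v` elements
of the group algebra of `G` with local coefficients commuting with `N`, `u` supported off `N`.
Then the central characters of `b` send the part of `u * v` inside `N` into the local ideal. -/
theorem memLocalIdeal_om_mul_off {p : ℕ} [Fact p.Prime] {M : Ideal AlgInt} (hM : IsPModular p M)
    {b : Set (IrrCharacter N)} (hb : IsPBlock M b) {D : Subgroup N} (hD : IsDefectGroup p M b D)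
    (hC : Subgroup.centralizer ((D.map N.subtype : Subgroup G) : Set G) ≤ N)
    (u v : MonoidAlgebra ℂ G) (hul : helper20.LocalCoeff M u) (hvl : helper20.LocalCoeff M v)
    (hu0 : ∀ n ∈ N, u.coeff n = 0)
    (huN : ∀ n ∈ N, MonoidAlgebra.single n 1 * u = u * MonoidAlgebra.single n 1)
    (hvN : ∀ n ∈ N, MonoidAlgebra.single n 1 * v = v * MonoidAlgebra.single n 1)
    {θ : IrrCharacter N} (hθ : θ ∈ b) :
    MemLocalIdeal M (helper80.om (θ : N → ℂ) (fun n : N => (u * v).coeff (n : G))) := by
  classical
  have hMp : M.IsPrime := helper20.isPrime_of_isPModular hM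
  obtain ⟨f, hf⟩ : ∃ f : N → ℂ, f = fun n : N => (u * v).coeff (n : G) := ⟨_, rfl⟩
  rw [← hf]
  have huvN : ∀ n ∈ N,
      MonoidAlgebra.single n 1 * (u * v) = (u * v) * MonoidAlgebra.single n 1 := by
    intro n hn
    rw [← mul_assoc, huN n hn, mul_assoc, hvN n hn, mul_assoc]
  have hfcf : IsClassFunction N f := by
    intro n h
    rw [hf]
    show (u * v).coeff ((h * n * h⁻¹ : N) : G) = (u * v).coeff (n : G)
    have := helper20.coeff_conj_of_commute (huvN (h : G) h.2) (n : G)
    simpa using this
  have hfloc : ∀ n, MemLocalRing M (f n) := by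
    intro n
    rw [hf]
    exact (hul.mul hMp hvl) _
  rw [helper84.om_eq_sum_classes (θ : N → ℂ) (helper4.isClassFunction_of_isIrrCharacter θ.2) f hfcf]
  apply helper20.memLocalIdeal_sum hMp
  intro c _
  by_cases hJ : MemLocalIdeal M (centralChar (θ : N → ℂ) (Quotient.out c))
  · exact helper20.memLocalIdeal_mul_left hMp (hfloc _) hJ
  · have hDp : IsPGroup p D := helper80.IsDefectGroup.isPGroup hD
    have hD' := hD
    obtain ⟨y, hy, P, hP⟩ := hD'
    have hyc : y ∈ Subgroup.centralizer (D : Set N) := by
      rw [Subgroup.mem_centralizer_iff]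
      intro d hd
      rw [hP] at hd
      obtain ⟨d', -, rfl⟩ := hd
      have h1 := d'.2
      rw [Subgroup.mem_centralizer_iff] at h1
      exact (h1 y (Set.mem_singleton y)).symm
    have hh : ∀ χ ∈ b, ¬ MemLocalIdeal M (centralChar (χ : N → ℂ) (Quotient.out c)) := by
      intro χ hχ hχJ
      apply hJ
      have hs := helper80.sameBlock_of_mem hMp hb hθ hχ (Quotient.out c)
      have := helper20.memLocalIdeal_add hMp hs hχJ
      rwa [sub_add_cancel] at this
    obtain ⟨a, ha, hconj⟩ := helper80.exists_conj_mem_centralizer hM hb (Quotient.out c) hh D hDp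
      y hyc hy.2.1
    have hfa : f (Quotient.out c) = f a := by
      obtain ⟨k, hk⟩ := isConj_iff.mp hconj
      rw [← hk]
      exact (hfcf (Quotient.out c) k).symm
    rw [hfa]
    apply helper20.memLocalIdeal_mul_right hMp _ (helper80.memLocalRing_centralChar hMp θ _)
    rw [hf]
    show MemLocalIdeal M ((u * v).coeff (a : G))
    rw [helper20.coeff_mul_eq_sum]
    have hD'p : IsPGroup p (D.map N.subtype) := hDp.map _
    have hsum : ∑ x : G, u.coeff x * v.coeff (x⁻¹ * (a : G)) =
        ∑ x ∈ Finset.univ.filter
          (fun x : G => x ∉ Subgroup.centralizer ((D.map N.subtype : Subgroup G) : Set G)),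
          u.coeff x * v.coeff (x⁻¹ * (a : G)) := by
      symm
      apply Finset.sum_subset (Finset.subset_univ _)
      intro x _ hx
      have hx' : x ∈ Subgroup.centralizer ((D.map N.subtype : Subgroup G) : Set G) := by
        by_contra hx'
        exact hx (Finset.mem_filter.mpr ⟨Finset.mem_univ _, hx'⟩)
      rw [hu0 x (hC hx'), zero_mul]
    rw [hsum]
    apply helper80.sum_not_centralizer_memLocalIdeal hM (D.map N.subtype) hD'p
      (fun x => u.coeff x * v.coeff (x⁻¹ * (a : G)))
    · intro d hd x
      obtain ⟨d₀, hd₀, rfl⟩ := hd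
      have hdN : (d₀ : G) ∈ N := d₀.2
      have hcomm : (d₀ : G) * (a : G) = (a : G) * (d₀ : G) := by
        have := (Subgroup.mem_centralizer_iff.mp ha) d₀ hd₀
        exact congrArg Subtype.val this
      show u.coeff ((d₀ : G) * x * (d₀ : G)⁻¹) * v.coeff (((d₀ : G) * x * (d₀ : G)⁻¹)⁻¹ * (a : G))
        = u.coeff x * v.coeff (x⁻¹ * (a : G))
      rw [helper20.coeff_conj_of_commute (huN _ hdN) x]
      have h2 : (d₀ : G)⁻¹ * (a : G) = (a : G) * (d₀ : G)⁻¹ := by
        rw [inv_mul_eq_iff_eq_mul, ← mul_assoc, hcomm, mul_inv_cancel_right]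
      have e : ((d₀ : G) * x * (d₀ : G)⁻¹)⁻¹ * (a : G)
          = (d₀ : G) * (x⁻¹ * (a : G)) * (d₀ : G)⁻¹ := by
        calc ((d₀ : G) * x * (d₀ : G)⁻¹)⁻¹ * (a : G)
            = (d₀ : G) * x⁻¹ * ((d₀ : G)⁻¹ * (a : G)) := by group
          _ = (d₀ : G) * x⁻¹ * ((a : G) * (d₀ : G)⁻¹) := by rw [h2]
          _ = (d₀ : G) * (x⁻¹ * (a : G)) * (d₀ : G)⁻¹ := by group
      rw [e, helper20.coeff_conj_of_commute (hvN _ hdN)]
    · intro x
      exact helper20.memLocalRing_mul hMp (hul x) (hvl _)

/-- **Nilpotency off `N`.**  `b` a `G`-invariant block of `N` with defect group `D`, `C_G(D) ≤ N`.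
A central element of the group algebra of `G` with local coefficients supported off `N`, times
the idempotent of `b`, has a power with all coefficients in the local ideal. -/
theorem exists_pow_jCoeff_off {p : ℕ} [Fact p.Prime] {M : Ideal AlgInt} (hM : IsPModular p M)
    {b : Set (IrrCharacter N)} (hb : IsPBlock M b)
    (hst : ∀ g : G, ∀ θ ∈ b, cjIrr N g θ ∈ b)
    {D : Subgroup N} (hD : IsDefectGroup p M b D)
    (hC : Subgroup.centralizer ((D.map N.subtype : Subgroup G) : Set G) ≤ N)
    (z : MonoidAlgebra ℂ G) (hzc : helper20.IsCentralElt z) (hzl : helper20.LocalCoeff M z)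
    (hz0 : ∀ n ∈ N, z.coeff n = 0) :
    ∃ L : ℕ, helper20.JCoeff M (z ^ L * helper81.blockIdem (coverSet N b)) := by
  classical
  have hMp : M.IsPrime := helper20.isPrime_of_isPModular hM
  have : Fintype (G ⧸ N) := Fintype.ofFinite _
  obtain ⟨E, hE⟩ : ∃ E : MonoidAlgebra ℂ G, E = helper81.blockIdem (coverSet N b) := ⟨_, rfl⟩
  rw [← hE]
  have hEc : helper20.IsCentralElt E := by
    rw [hE]
    exact helper81.isCentralElt_blockIdem _
  have hEE : E * E = E := by
    rw [hE]
    exact helper81.blockIdem_mul_self _
  have hEcoeff : ∀ g : G, E.coeff g = helper80.extFun N (blockCoeff b) g := by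
    intro g
    rw [hE, helper81.coeff_blockIdem, blockCoeff_coverSet N b hst g]
  have hEincl : helper20.inclAlg N (helper81.blockIdem b) = E := by
    apply MonoidAlgebra.coeff_injective
    ext g
    rw [hEcoeff]
    by_cases hg : g ∈ N
    · rw [helper80.extFun_of_mem N _ hg]
      have := helper20.coeff_inclAlg_of_mem N (helper81.blockIdem b) ⟨g, hg⟩
      rw [helper81.coeff_blockIdem] at this
      exact this
    · rw [helper80.extFun_of_not_mem N _ hg, helper20.coeff_inclAlg_of_not_mem N _ g hg]
  have hEcomm : ∀ y : MonoidAlgebra ℂ G, E * y = y * E :=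
    fun y => helper20.IsCentralElt.commute_all hEc y
  obtain ⟨a, ha⟩ : ∃ a : G ⧸ N → MonoidAlgebra ℂ G, a = fun c => cosetPart N c z := ⟨_, rfl⟩
  have hal : ∀ c, helper20.LocalCoeff M (a c) := by
    intro c
    rw [ha]
    exact localCoeff_cosetPart N hMp c hzl
  have haN : ∀ c, ∀ n ∈ N,
      MonoidAlgebra.single n 1 * a c = a c * MonoidAlgebra.single n 1 := by
    intro c n hn
    rw [ha]
    exact cosetPart_commute_single N hzc c hn
  have hKc : ∀ c : G ⧸ N, ∃ K : ℕ, helper20.JCoeff M (a c ^ K * E) := by
    intro c
    by_cases hc : c = 1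
    · refine ⟨1, ?_⟩
      have h0 : a c = 0 := by
        rw [ha]
        apply MonoidAlgebra.coeff_injective
        ext g
        show (cosetPart N c z).coeff g = 0
        rw [coeff_cosetPart]
        split_ifs with h
        · have hgN : g ∈ N := by
            rw [hc] at h
            exact (QuotientGroup.eq_one_iff g).mp h
          exact hz0 g hgN
        · rfl
      rw [h0, pow_one, zero_mul]
      exact helper20.jCoeff_zero hMp
    · obtain ⟨m, hm⟩ : ∃ m : ℕ, m = Nat.card (G ⧸ N) := ⟨_, rfl⟩
      have hmpos : 0 < m := by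
        rw [hm]
        exact Nat.card_pos
      obtain ⟨m', hm'⟩ : ∃ m', m = m' + 1 := ⟨m - 1, by omega⟩
      obtain ⟨x, hx⟩ : ∃ x, x = a c ^ m := ⟨_, rfl⟩
      have hxsupp : ∀ g : G, g ∉ N → x.coeff g = 0 := by
        intro g hg
        rw [hx, ha]
        apply coeff_cosetPart_pow_eq_zero
        rw [hm, pow_card_eq_one']
        intro h
        exact hg ((QuotientGroup.eq_one_iff g).mp h)
      have hxN : ∀ n ∈ N,
          MonoidAlgebra.single n 1 * x = x * MonoidAlgebra.single n 1 := by
        intro n hn
        rw [hx]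
        exact (Commute.pow_right (haN c n hn) m : _)
      have hxl : helper20.LocalCoeff M x := by
        rw [hx]
        exact (hal c).pow hMp m
      obtain ⟨y, hy⟩ : ∃ y : MonoidAlgebra ℂ N,
          y = helper20.resAlg N x * helper81.blockIdem b := ⟨_, rfl⟩
      have hrc : helper20.IsCentralElt (helper20.resAlg N x) := by
        rw [helper20.isCentralElt_iff]
        intro g h
        rw [helper20.coeff_resAlg, helper20.coeff_resAlg]
        have := helper20.coeff_conj_of_commute (hxN (h : G) h.2) (g : G)
        simpa using this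
      have hyc : helper20.IsCentralElt y := by
        rw [hy]
        exact hrc.mul (helper81.isCentralElt_blockIdem b)
      have hyl : helper20.LocalCoeff M y := by
        rw [hy]
        exact (helper20.localCoeff_resAlg N hxl).mul hMp (helper81.localCoeff_blockIdem hMp hb)
      have hyω : ∀ θ : IrrCharacter N, MemLocalIdeal M (helper20.omega (θ : N → ℂ) y) := by
        intro θ
        rw [hy, helper20.omega_mul (θ : N → ℂ) θ.2 _ _ hrc, helper81.omega_blockIdem]
        by_cases hθ : θ ∈ b
        · rw [if_pos hθ, mul_one]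
          have hkp := memLocalIdeal_om_mul_off N hM hb hD hC (a c) (a c ^ m') (hal c)
            ((hal c).pow hMp m')
            (by
              intro n hn
              rw [ha]
              show (cosetPart N c z).coeff n = 0
              rw [coeff_cosetPart, if_neg]
              intro h
              apply hc
              rw [← h]
              exact (QuotientGroup.eq_one_iff n).mpr hn)
            (haN c)
            (fun n hn => (Commute.pow_right (haN c n hn) m' : _)) hθ
          have e : helper20.omega (θ : N → ℂ) (helper20.resAlg N x)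
              = helper80.om (θ : N → ℂ) (fun n : N => (a c * a c ^ m').coeff (n : G)) := by
            unfold helper20.omega helper80.om
            congr 1
            apply Finset.sum_congr rfl
            intro n _
            rw [helper20.coeff_resAlg, hx, hm', pow_succ']
          rw [e]
          exact hkp
        · rw [if_neg hθ, mul_zero]
          exact helper20.memLocalIdeal_zero hMp
      obtain ⟨k, hk⟩ := helper20.exists_pow_jCoeff hMp y hyc hyl hyω
      refine ⟨m * (k + 1), ?_⟩
      have h1 : helper20.JCoeff M (y ^ (k + 1)) := by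
        rw [pow_succ]
        exact hk.mul_right hMp hyl
      have h2 := helper20.jCoeff_inclAlg hMp N h1
      have h3 : helper20.inclAlg N (y ^ (k + 1)) = x ^ (k + 1) * E := by
        rw [map_pow, hy, map_mul, hEincl, helper20.inclAlg_resAlg]
        have ht : helper20.trunc N x = x := by
          apply MonoidAlgebra.coeff_injective
          ext g
          rw [helper20.coeff_trunc]
          split_ifs with h
          · rfl
          · exact (hxsupp g h).symm
        rw [ht]
        exact mul_idem_pow x E hEE hEcomm k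
      rw [h3, hx, ← pow_mul] at h2
      exact h2
  choose K hK using hKc
  obtain ⟨K₀, hK₀⟩ : ∃ K₀ : ℕ, K₀ = ∑ c, K c := ⟨_, rfl⟩
  have hK' : ∀ c, helper20.JCoeff M (a c ^ K₀ * E) := by
    intro c
    have hle : K c ≤ K₀ := by
      rw [hK₀]
      exact Finset.single_le_sum (fun _ _ => Nat.zero_le _) (Finset.mem_univ c)
    have h1 : a c ^ K₀ * E = (a c ^ K c * E) * a c ^ (K₀ - K c) := by
      rw [mul_assoc, hEcomm, ← mul_assoc, ← pow_add]
      congr 2
      omega
    rw [h1]
    exact (hK c).mul_right hMp ((hal c).pow hMp _)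
  have hmain := word_nilpotent a (fun x => helper20.JCoeff M (x * E)) (helper20.LocalCoeff M)
    (helper20.localCoeff_one hMp) (fun x y hx hy => hx.mul hMp hy)
    (by
      show helper20.JCoeff M (0 * E)
      rw [zero_mul]
      exact helper20.jCoeff_zero hMp)
    (fun x y hx hy => by
      show helper20.JCoeff M ((x + y) * E)
      rw [add_mul]
      exact hx.add hMp hy)
    (fun x y hx hy => by
      show helper20.JCoeff M (x * y * E)
      have h1 : x * y * E = (x * E) * y := by
        rw [mul_assoc, ← hEcomm, ← mul_assoc]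
      rw [h1]
      exact helper20.JCoeff.mul_right hMp hx hy)
    hal
    (fun c d => ⟨c⁻¹ * d * c, by
      rw [ha]
      exact cosetPart_mul_cosetPart N hzc c d⟩)
    K₀ hK'
  refine ⟨Fintype.card (G ⧸ N) * K₀ + 1, ?_⟩
  have hsum : ∑ c, a c = z := by
    rw [ha]
    exact sum_cosetPart N z
  rw [hsum] at hmain
  exact hmain

/-- `b` a `G`-invariant block of `N` with defect group `D`, `C_G(D) ≤ N`.  The central character
of a character of `G` lying over `b` is in the local ideal at every element outside `N`. -/
theorem memLocalIdeal_centralChar_of_cover_off {p : ℕ} [Fact p.Prime] {M : Ideal AlgInt}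
    (hM : IsPModular p M) {b : Set (IrrCharacter N)} (hb : IsPBlock M b)
    (hst : ∀ g : G, ∀ θ ∈ b, cjIrr N g θ ∈ b)
    {D : Subgroup N} (hD : IsDefectGroup p M b D)
    (hC : Subgroup.centralizer ((D.map N.subtype : Subgroup G) : Set G) ≤ N)
    {χ : IrrCharacter G} (hχ : χ ∈ coverSet N b) {g : G} (hg : g ∉ N) :
    MemLocalIdeal M (centralChar (χ : G → ℂ) g) := by
  classical
  have hMp : M.IsPrime := helper20.isPrime_of_isPModular hM
  have hχcf : IsClassFunction G (χ : G → ℂ) := helper4.isClassFunction_of_isIrrCharacter χ.2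
  have hχconj : ∀ x y : G, IsConj x y → (χ : G → ℂ) x = (χ : G → ℂ) y := by
    intro x y hxy
    obtain ⟨k, hk⟩ := isConj_iff.mp hxy
    rw [← hk]
    exact (hχcf x k).symm
  obtain ⟨L, hL⟩ := exists_pow_jCoeff_off N hM hb hst hD hC (helper20.classSum g)
    (helper20.isCentralElt_classSum g) (helper20.localCoeff_classSum hMp g)
    (by
      intro n hn
      rw [helper20.coeff_classSum, if_neg]
      intro hconj
      obtain ⟨k, hk⟩ := isConj_iff.mp hconj
      apply hg
      have h1 : g = k⁻¹ * n * k⁻¹⁻¹ := by
        rw [← hk]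
        group
      rw [h1]
      exact hN.conj_mem n hn k⁻¹)
  have hpowc : ∀ j : ℕ, helper20.IsCentralElt (helper20.classSum g ^ j) := by
    intro j
    induction j with
    | zero =>
      rw [pow_zero]
      exact helper20.isCentralElt_one
    | succ j ih =>
      rw [pow_succ]
      exact ih.mul (helper20.isCentralElt_classSum g)
  have hpow : ∀ j : ℕ, helper20.omega (χ : G → ℂ) (helper20.classSum g ^ j)
      = centralChar (χ : G → ℂ) g ^ j := by
    intro j
    induction j with
    | zero =>
      rw [pow_zero, pow_zero]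
      exact helper20.omega_one _ (helper81.irr_one_ne_zero χ)
    | succ j ih =>
      rw [pow_succ, pow_succ, helper20.omega_mul _ χ.2 _ _ (hpowc j), ih,
        helper20.omega_classSum _ hχconj]
  have h1 : helper20.omega (χ : G → ℂ)
      (helper20.classSum g ^ L * helper81.blockIdem (coverSet N b))
      = centralChar (χ : G → ℂ) g ^ L := by
    rw [helper20.omega_mul _ χ.2 _ _ (hpowc L), helper81.omega_blockIdem, if_pos hχ, mul_one,
      hpow]
  have h2 : MemLocalIdeal M (helper20.omega (χ : G → ℂ)
      (helper20.classSum g ^ L * helper81.blockIdem (coverSet N b))) := by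
    have hcen : helper20.IsCentralElt
        (helper20.classSum g ^ L * helper81.blockIdem (coverSet N b)) :=
      (hpowc L).mul (helper81.isCentralElt_blockIdem _)
    exact helper80.memLocalIdeal_om hMp χ
      (fun x => (helper20.classSum g ^ L * helper81.blockIdem (coverSet N b)).coeff x)
      (fun x k => (helper20.isCentralElt_iff _).mp hcen x k) (fun x => hL x)
  rw [h1] at h2
  exact helper20.memLocalIdeal_of_pow hMp (helper80.memLocalRing_centralChar hMp χ g) L h2

end Graded

end Cfsg.Agent.Lib.helper77
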