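import Mathlib
import Cfsg.Prelude.Def_Blocks
import Cfsg.Agent.Lib.helper77.UniqueCover
import Cfsg.Agent.Lib.helper80.DefectGroup
import Cfsg.Agent.Lib.helper79.DefectDeg

/-!
# Knörr's theorem on the defect groups of covering blocks (helper77)

`N` a normal subgroup of `G`, `b` a block of `N` with defect group `D`.

* `exists_pow_jCoeff_cent`: a central element of the group algebra of `G` whose coefficients on
  `C_G(D)` lie in the local ideal, multiplied by the idempotent of the characters of `G` over the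
  conjugates of `b`, is nilpotent modulo the local ideal;
* `memLocalIdeal_omega_of_cover`: the central characters of the characters over `b` send such an
  element into the local ideal;
* `exists_blockCoeff_centralizer_of_cover`: the idempotent of a block `B` covering `b` has a
  coefficient outside the local ideal on `C_G(D)`;
* `exists_conj_le_of_cover`: every defect group of `B` contains a conjugate of `D`;
* `card_inf_le_of_cover`: `|P ∩ N| ≤ |D|` for a defect group `P` of `B`;
* `knorr`: `B` has a defect group `P` with `P ∩ N = D`.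
-/

set_option autoImplicit false

namespace Cfsg.Agent.Lib.helper77

open Cfsg
open scoped ComplexConjugate

universe u

section Knorr

variable {G : Type u} [Group G] [Fintype G] (N : Subgroup G) [hN : N.Normal]

omit [Fintype G] in
theorem single_inv_mul_single (s : G) :
    (MonoidAlgebra.single s⁻¹ (1 : ℂ) : MonoidAlgebra ℂ G) * MonoidAlgebra.single s 1 = 1 := by
  rw [MonoidAlgebra.single_mul_single, inv_mul_cancel, mul_one, MonoidAlgebra.one_def]

omit [Fintype G] in
theorem single_mul_single_inv (s : G) :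
    (MonoidAlgebra.single s (1 : ℂ) : MonoidAlgebra ℂ G) * MonoidAlgebra.single s⁻¹ 1 = 1 := by
  rw [MonoidAlgebra.single_mul_single, mul_inv_cancel, mul_one, MonoidAlgebra.one_def]

/-- Moving a group element past a coset part of a central element. -/
theorem single_mul_cosetPart {a : MonoidAlgebra ℂ G} (ha : helper20.IsCentralElt a)
    (c : G ⧸ N) (x : G) :
    MonoidAlgebra.single x 1 * cosetPart N c a
      = cosetPart N ((x : G ⧸ N) * c * (x : G ⧸ N)⁻¹) a * MonoidAlgebra.single x 1 := by
  classical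
  apply MonoidAlgebra.coeff_injective
  ext g
  rw [MonoidAlgebra.coeff_single_mul_apply, MonoidAlgebra.coeff_mul_single_apply, one_mul, mul_one,
    coeff_cosetPart, coeff_cosetPart]
  have h1 : ((x⁻¹ * g : G) : G ⧸ N) = c ↔
      ((g * x⁻¹ : G) : G ⧸ N) = (x : G ⧸ N) * c * (x : G ⧸ N)⁻¹ := by
    rw [QuotientGroup.mk_mul, QuotientGroup.mk_mul, QuotientGroup.mk_inv]
    constructor
    · intro h
      rw [← h]
      group
    · intro h
      have h2 : (g : G ⧸ N) = (x : G ⧸ N) * c := by
        have h3 := congrArg (· * (x : G ⧸ N)) h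
        simpa using h3
      rw [h2]
      group
  have h3 : a.coeff (x⁻¹ * g) = a.coeff (g * x⁻¹) := by
    have := (helper20.isCentralElt_iff a).mp ha (x⁻¹ * g) x
    rw [← this]
    congr 1
    group
  by_cases h : ((x⁻¹ * g : G) : G ⧸ N) = c
  · rw [if_pos h, if_pos (h1.mp h), h3]
  · rw [if_neg h, if_neg (fun h' => h (h1.mpr h'))]

/-- Conjugating a coset part of a central element. -/
theorem conj_cosetPart {a : MonoidAlgebra ℂ G} (ha : helper20.IsCentralElt a)
    (c : G ⧸ N) (s : G) :
    MonoidAlgebra.single s⁻¹ 1 * cosetPart N c a * MonoidAlgebra.single s 1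
      = cosetPart N ((s : G ⧸ N)⁻¹ * c * (s : G ⧸ N)) a := by
  rw [single_mul_cosetPart N ha c s⁻¹, mul_assoc, single_inv_mul_single, mul_one,
    QuotientGroup.mk_inv, inv_inv]

omit [Fintype G] in
theorem conj_single_pow (X : MonoidAlgebra ℂ G) (s : G) (j : ℕ) :
    (MonoidAlgebra.single s⁻¹ 1 * X * MonoidAlgebra.single s 1) ^ j
      = MonoidAlgebra.single s⁻¹ 1 * X ^ j * MonoidAlgebra.single s 1 := by
  induction j with
  | zero => rw [pow_zero, pow_zero, mul_one, single_inv_mul_single]
  | succ j ih =>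
    rw [pow_succ, ih, pow_succ]
    calc MonoidAlgebra.single s⁻¹ 1 * X ^ j * MonoidAlgebra.single s 1
          * (MonoidAlgebra.single s⁻¹ 1 * X * MonoidAlgebra.single s 1)
        = MonoidAlgebra.single s⁻¹ 1 * X ^ j
          * (MonoidAlgebra.single s 1 * MonoidAlgebra.single s⁻¹ 1) * X
          * MonoidAlgebra.single s 1 := by noncomm_ring
      _ = MonoidAlgebra.single s⁻¹ 1 * (X ^ j * X) * MonoidAlgebra.single s 1 := by
          rw [single_mul_single_inv]
          noncomm_ring

omit [Fintype G] in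
theorem coeff_conj_single (X : MonoidAlgebra ℂ G) (s g : G) :
    (MonoidAlgebra.single s⁻¹ 1 * X * MonoidAlgebra.single s 1).coeff g
      = X.coeff (s * g * s⁻¹) := by
  rw [MonoidAlgebra.coeff_mul_single_apply, MonoidAlgebra.coeff_single_mul_apply, one_mul, mul_one,
    inv_inv, mul_assoc]

/-- The coefficients of a power of a coset part at a conjugate. -/
theorem coeff_cosetPart_pow_conj {a : MonoidAlgebra ℂ G} (ha : helper20.IsCentralElt a)
    (c : G ⧸ N) (s : G) (j : ℕ) (g : G) :
    (cosetPart N c a ^ j).coeff (s * g * s⁻¹)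
      = (cosetPart N ((s : G ⧸ N)⁻¹ * c * (s : G ⧸ N)) a ^ j).coeff g := by
  rw [← coeff_conj_single, ← conj_single_pow, conj_cosetPart N ha c s]

variable [Fintype N]

omit [Fintype G] in
/-- The central character functional of a conjugate character. -/
theorem om_cjIrr (s : G) (θ₀ : IrrCharacter N) (f : N → ℂ) :
    helper80.om (cjIrr N s θ₀ : N → ℂ) f
      = helper80.om (θ₀ : N → ℂ) (fun n => f ⟨s * n * s⁻¹, hN.conj_mem n n.2 s⟩) := by
  unfold helper80.om
  rw [cjIrr_one_apply]
  congr 1
  symm
  apply Fintype.sum_equiv (MulAut.conjNormal s : N ≃* N).toEquiv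
  intro n
  have h1 : (MulAut.conjNormal s : N ≃* N).toEquiv n = ⟨s * n * s⁻¹, hN.conj_mem n n.2 s⟩ := by
    apply Subtype.ext
    simp [MulAut.conjNormal_apply]
  rw [h1, cjIrr_apply_conj]

omit hN in
/-- **Key vanishing**, second form: `u`, `v` commute with `N` and the coefficients of `u` on
`C_G(D)` lie in the local ideal. -/
theorem memLocalIdeal_om_mul_cent {p : ℕ} [Fact p.Prime] {M : Ideal AlgInt} (hM : IsPModular p M)
    {b : Set (IrrCharacter N)} (hb : IsPBlock M b) {D : Subgroup N} (hD : IsDefectGroup p M b D)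
    (u v : MonoidAlgebra ℂ G) (hul : helper20.LocalCoeff M u) (hvl : helper20.LocalCoeff M v)
    (hu0 : ∀ x ∈ Subgroup.centralizer ((D.map N.subtype : Subgroup G) : Set G),
      MemLocalIdeal M (u.coeff x))
    (huN : ∀ n ∈ N, MonoidAlgebra.single n 1 * u = u * MonoidAlgebra.single n 1)
    (hvN : ∀ n ∈ N, MonoidAlgebra.single n 1 * v = v * MonoidAlgebra.single n 1)
    {θ : IrrCharacter N} (hθ : θ ∈ b) :
    MemLocalIdeal M (helper80.om (θ : N → ℂ) (fun n : N => (u * v).coeff (n : G))) := by
  classical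
  have hMp : M.IsPrime := helper20.isPrime_of_isPModular hM
  obtain ⟨f, hf⟩ : ∃ f : N → ℂ, f = fun n : N => (u * v).coeff (n : G) := ⟨_, rfl⟩
  rw [← hf]
  have huvN : ∀ n ∈ N,
      MonoidAlgebra.single n 1 * (u * v) = (u * v) * MonoidAlgebra.single n 1 := by
    intro n hn
    rw [← mul_assoc, huN n hn, mul_assoc, hvN n hn, mul_assoc]
  have hfcf : IsClassFunction N f := by
    intro n h
    rw [hf]
    show (u * v).coeff ((h * n * h⁻¹ : N) : G) = (u * v).coeff (n : G)
    have := helper20.coeff_conj_of_commute (huvN (h : G) h.2) (n : G)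
    simpa using this
  have hfloc : ∀ n, MemLocalRing M (f n) := by
    intro n
    rw [hf]
    exact (hul.mul hMp hvl) _
  rw [helper84.om_eq_sum_classes (θ : N → ℂ) (helper4.isClassFunction_of_isIrrCharacter θ.2) f hfcf]
  apply helper20.memLocalIdeal_sum hMp
  intro c _
  by_cases hJ : MemLocalIdeal M (centralChar (θ : N → ℂ) (Quotient.out c))
  · exact helper20.memLocalIdeal_mul_left hMp (hfloc _) hJ
  · have hDp : IsPGroup p D := helper80.IsDefectGroup.isPGroup hD
    have hD' := hD
    obtain ⟨y, hy, P, hP⟩ := hD'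
    have hyc : y ∈ Subgroup.centralizer (D : Set N) := by
      rw [Subgroup.mem_centralizer_iff]
      intro d hd
      rw [hP] at hd
      obtain ⟨d', -, rfl⟩ := hd
      have h1 := d'.2
      rw [Subgroup.mem_centralizer_iff] at h1
      exact (h1 y (Set.mem_singleton y)).symm
    have hh : ∀ χ ∈ b, ¬ MemLocalIdeal M (centralChar (χ : N → ℂ) (Quotient.out c)) := by
      intro χ hχ hχJ
      apply hJ
      have hs := helper80.sameBlock_of_mem hMp hb hθ hχ (Quotient.out c)
      have := helper20.memLocalIdeal_add hMp hs hχJ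
      rwa [sub_add_cancel] at this
    obtain ⟨a, ha, hconj⟩ := helper80.exists_conj_mem_centralizer hM hb (Quotient.out c) hh D hDp
      y hyc hy.2.1
    have hfa : f (Quotient.out c) = f a := by
      obtain ⟨k, hk⟩ := isConj_iff.mp hconj
      rw [← hk]
      exact (hfcf (Quotient.out c) k).symm
    rw [hfa]
    apply helper20.memLocalIdeal_mul_right hMp _ (helper80.memLocalRing_centralChar hMp θ _)
    rw [hf]
    show MemLocalIdeal M ((u * v).coeff (a : G))
    rw [helper20.coeff_mul_eq_sum]
    have hD'p : IsPGroup p (D.map N.subtype) := hDp.map _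
    rw [← Finset.sum_filter_add_sum_filter_not Finset.univ
      (fun x : G => x ∉ Subgroup.centralizer ((D.map N.subtype : Subgroup G) : Set G))]
    apply helper20.memLocalIdeal_add hMp
    · apply helper80.sum_not_centralizer_memLocalIdeal hM (D.map N.subtype) hD'p
        (fun x => u.coeff x * v.coeff (x⁻¹ * (a : G)))
      · intro d hd x
        obtain ⟨d₀, hd₀, rfl⟩ := hd
        have hdN : (d₀ : G) ∈ N := d₀.2
        have hcomm : (d₀ : G) * (a : G) = (a : G) * (d₀ : G) := by
          have := (Subgroup.mem_centralizer_iff.mp ha) d₀ hd₀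
          exact congrArg Subtype.val this
        show u.coeff ((d₀ : G) * x * (d₀ : G)⁻¹)
            * v.coeff (((d₀ : G) * x * (d₀ : G)⁻¹)⁻¹ * (a : G))
          = u.coeff x * v.coeff (x⁻¹ * (a : G))
        rw [helper20.coeff_conj_of_commute (huN _ hdN) x]
        have h2 : (d₀ : G)⁻¹ * (a : G) = (a : G) * (d₀ : G)⁻¹ := by
          rw [inv_mul_eq_iff_eq_mul, ← mul_assoc, hcomm, mul_inv_cancel_right]
        have e : ((d₀ : G) * x * (d₀ : G)⁻¹)⁻¹ * (a : G)
            = (d₀ : G) * (x⁻¹ * (a : G)) * (d₀ : G)⁻¹ := by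
          calc ((d₀ : G) * x * (d₀ : G)⁻¹)⁻¹ * (a : G)
              = (d₀ : G) * x⁻¹ * ((d₀ : G)⁻¹ * (a : G)) := by group
            _ = (d₀ : G) * x⁻¹ * ((a : G) * (d₀ : G)⁻¹) := by rw [h2]
            _ = (d₀ : G) * (x⁻¹ * (a : G)) * (d₀ : G)⁻¹ := by group
        rw [e, helper20.coeff_conj_of_commute (hvN _ hdN)]
      · intro x
        exact helper20.memLocalRing_mul hMp (hul x) (hvl _)
    · apply helper20.memLocalIdeal_sum hMp
      intro x hx
      have hx' : x ∈ Subgroup.centralizer ((D.map N.subtype : Subgroup G) : Set G) := by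
        have := (Finset.mem_filter.mp hx).2
        exact not_not.mp this
      exact helper20.memLocalIdeal_mul_right hMp (hu0 x hx') (hvl _)

/-- **Nilpotency.**  `b` a block of `N` with defect group `D`.  A central element of the group
algebra of `G` with local coefficients whose coefficients on `C_G(D)` lie in the local ideal,
times the idempotent of the characters of `G` over the conjugates of `b`, has a power with all
coefficients in the local ideal. -/
theorem exists_pow_jCoeff_cent {p : ℕ} [Fact p.Prime] {M : Ideal AlgInt} (hM : IsPModular p M)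
    {b : Set (IrrCharacter N)} (hb : IsPBlock M b)
    {D : Subgroup N} (hD : IsDefectGroup p M b D)
    (z : MonoidAlgebra ℂ G) (hzc : helper20.IsCentralElt z) (hzl : helper20.LocalCoeff M z)
    (hz0 : ∀ x ∈ Subgroup.centralizer ((D.map N.subtype : Subgroup G) : Set G),
      MemLocalIdeal M (z.coeff x)) :
    ∃ L : ℕ, helper20.JCoeff M (z ^ L * helper81.blockIdem (coverSet N (orbitUnion N b))) := by
  classical
  have hMp : M.IsPrime := helper20.isPrime_of_isPModular hM
  have : Fintype (G ⧸ N) := Fintype.ofFinite _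
  have hUst := orbitUnion_stable N b
  have hUun := orbitUnion_union_blocks N hMp hb
  obtain ⟨E, hE⟩ : ∃ E : MonoidAlgebra ℂ G,
      E = helper81.blockIdem (coverSet N (orbitUnion N b)) := ⟨_, rfl⟩
  rw [← hE]
  have hEc : helper20.IsCentralElt E := by
    rw [hE]
    exact helper81.isCentralElt_blockIdem _
  have hEE : E * E = E := by
    rw [hE]
    exact helper81.blockIdem_mul_self _
  have hEcoeff : ∀ g : G, E.coeff g = helper80.extFun N (blockCoeff (orbitUnion N b)) g := by
    intro g
    rw [hE, helper81.coeff_blockIdem, blockCoeff_coverSet N (orbitUnion N b) hUst g]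
  have hUl : helper20.LocalCoeff M (helper81.blockIdem (orbitUnion N b)) := by
    intro n
    rw [helper81.coeff_blockIdem]
    exact memLocalRing_blockCoeff_of_union hMp _ hUun n
  have hEincl : helper20.inclAlg N (helper81.blockIdem (orbitUnion N b)) = E := by
    apply MonoidAlgebra.coeff_injective
    ext g
    rw [hEcoeff]
    by_cases hg : g ∈ N
    · rw [helper80.extFun_of_mem N _ hg]
      have := helper20.coeff_inclAlg_of_mem N (helper81.blockIdem (orbitUnion N b)) ⟨g, hg⟩
      rw [helper81.coeff_blockIdem] at this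
      exact this
    · rw [helper80.extFun_of_not_mem N _ hg, helper20.coeff_inclAlg_of_not_mem N _ g hg]
  have hEcomm : ∀ y : MonoidAlgebra ℂ G, E * y = y * E :=
    fun y => helper20.IsCentralElt.commute_all hEc y
  obtain ⟨a, ha⟩ : ∃ a : G ⧸ N → MonoidAlgebra ℂ G, a = fun c => cosetPart N c z := ⟨_, rfl⟩
  have hal : ∀ c, helper20.LocalCoeff M (a c) := by
    intro c
    rw [ha]
    exact localCoeff_cosetPart N hMp c hzl
  have haN : ∀ c, ∀ n ∈ N,
      MonoidAlgebra.single n 1 * a c = a c * MonoidAlgebra.single n 1 := by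
    intro c n hn
    rw [ha]
    exact cosetPart_commute_single N hzc c hn
  obtain ⟨m, hm⟩ : ∃ m : ℕ, m = Nat.card (G ⧸ N) := ⟨_, rfl⟩
  have hmpos : 0 < m := by
    rw [hm]
    exact Nat.card_pos
  obtain ⟨m', hm'⟩ : ∃ m', m = m' + 1 := ⟨m - 1, by omega⟩
  -- the central characters of `b` on the powers of the coset parts
  have hC1 : ∀ c : G ⧸ N, ∀ θ₀ ∈ b,
      MemLocalIdeal M (helper80.om (θ₀ : N → ℂ) (fun n : N => (a c ^ m).coeff (n : G))) := by
    intro c θ₀ hθ₀
    have hkp := memLocalIdeal_om_mul_cent N hM hb hD (a c) (a c ^ m') (hal c)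
      ((hal c).pow hMp m')
      (by
        intro x hx
        rw [ha]
        show MemLocalIdeal M ((cosetPart N c z).coeff x)
        rw [coeff_cosetPart]
        split_ifs
        · exact hz0 x hx
        · exact helper20.memLocalIdeal_zero hMp)
      (haN c)
      (fun n hn => (Commute.pow_right (haN c n hn) m' : _)) hθ₀
    have e : (fun n : N => (a c ^ m).coeff (n : G))
        = fun n : N => (a c * a c ^ m').coeff (n : G) := by
      funext n
      rw [hm', pow_succ']
    rw [e]
    exact hkp
  have hC2 : ∀ c : G ⧸ N, ∀ θ ∈ orbitUnion N b,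
      MemLocalIdeal M (helper80.om (θ : N → ℂ) (fun n : N => (a c ^ m).coeff (n : G))) := by
    rintro c θ ⟨t, ht⟩
    have h1 : θ = cjIrr N t⁻¹ (cjIrr N t θ) := (cjIrr_inv_cjIrr N t θ).symm
    rw [h1, om_cjIrr]
    have e : (fun n : N => (a c ^ m).coeff
          ((⟨t⁻¹ * (n : G) * t⁻¹⁻¹, hN.conj_mem n n.2 t⁻¹⟩ : N) : G))
        = fun n : N => (a (((t⁻¹ : G) : G ⧸ N)⁻¹ * c * ((t⁻¹ : G) : G ⧸ N)) ^ m).coeff (n : G) := by
      funext n
      rw [ha]
      exact coeff_cosetPart_pow_conj N hzc c t⁻¹ m (n : G)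
    rw [e]
    exact hC1 _ _ ht
  have hKc : ∀ c : G ⧸ N, ∃ K : ℕ, helper20.JCoeff M (a c ^ K * E) := by
    intro c
    obtain ⟨x, hx⟩ : ∃ x, x = a c ^ m := ⟨_, rfl⟩
    have hxsupp : ∀ g : G, g ∉ N → x.coeff g = 0 := by
      intro g hg
      rw [hx, ha]
      apply coeff_cosetPart_pow_eq_zero
      rw [hm, pow_card_eq_one']
      intro h
      exact hg ((QuotientGroup.eq_one_iff g).mp h)
    have hxN : ∀ n ∈ N,
        MonoidAlgebra.single n 1 * x = x * MonoidAlgebra.single n 1 := by
      intro n hn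
      rw [hx]
      exact (Commute.pow_right (haN c n hn) m : _)
    have hxl : helper20.LocalCoeff M x := by
      rw [hx]
      exact (hal c).pow hMp m
    obtain ⟨y, hy⟩ : ∃ y : MonoidAlgebra ℂ N,
        y = helper20.resAlg N x * helper81.blockIdem (orbitUnion N b) := ⟨_, rfl⟩
    have hrc : helper20.IsCentralElt (helper20.resAlg N x) := by
      rw [helper20.isCentralElt_iff]
      intro g h
      rw [helper20.coeff_resAlg, helper20.coeff_resAlg]
      have := helper20.coeff_conj_of_commute (hxN (h : G) h.2) (g : G)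
      simpa using this
    have hyc : helper20.IsCentralElt y := by
      rw [hy]
      exact hrc.mul (helper81.isCentralElt_blockIdem _)
    have hyl : helper20.LocalCoeff M y := by
      rw [hy]
      exact (helper20.localCoeff_resAlg N hxl).mul hMp hUl
    have hyω : ∀ θ : IrrCharacter N, MemLocalIdeal M (helper20.omega (θ : N → ℂ) y) := by
      intro θ
      rw [hy, helper20.omega_mul (θ : N → ℂ) θ.2 _ _ hrc, helper81.omega_blockIdem]
      by_cases hθ : θ ∈ orbitUnion N b
      · rw [if_pos hθ, mul_one]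
        have e : helper20.omega (θ : N → ℂ) (helper20.resAlg N x)
            = helper80.om (θ : N → ℂ) (fun n : N => (a c ^ m).coeff (n : G)) := by
          unfold helper20.omega helper80.om
          congr 1
          apply Finset.sum_congr rfl
          intro n _
          rw [helper20.coeff_resAlg, hx]
        rw [e]
        exact hC2 c θ hθ
      · rw [if_neg hθ, mul_zero]
        exact helper20.memLocalIdeal_zero hMp
    obtain ⟨k, hk⟩ := helper20.exists_pow_jCoeff hMp y hyc hyl hyω
    refine ⟨m * (k + 1), ?_⟩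
    have h1 : helper20.JCoeff M (y ^ (k + 1)) := by
      rw [pow_succ]
      exact hk.mul_right hMp hyl
    have h2 := helper20.jCoeff_inclAlg hMp N h1
    have h3 : helper20.inclAlg N (y ^ (k + 1)) = x ^ (k + 1) * E := by
      rw [map_pow, hy, map_mul, hEincl, helper20.inclAlg_resAlg]
      have ht : helper20.trunc N x = x := by
        apply MonoidAlgebra.coeff_injective
        ext g
        rw [helper20.coeff_trunc]
        split_ifs with h
        · rfl
        · exact (hxsupp g h).symm
      rw [ht]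
      exact mul_idem_pow x E hEE hEcomm k
    rw [h3, hx, ← pow_mul] at h2
    exact h2
  choose K hK using hKc
  obtain ⟨K₀, hK₀⟩ : ∃ K₀ : ℕ, K₀ = ∑ c, K c := ⟨_, rfl⟩
  have hK' : ∀ c, helper20.JCoeff M (a c ^ K₀ * E) := by
    intro c
    have hle : K c ≤ K₀ := by
      rw [hK₀]
      exact Finset.single_le_sum (fun _ _ => Nat.zero_le _) (Finset.mem_univ c)
    have h1 : a c ^ K₀ * E = (a c ^ K c * E) * a c ^ (K₀ - K c) := by
      rw [mul_assoc, hEcomm, ← mul_assoc, ← pow_add]
      congr 2
      omega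
    rw [h1]
    exact (hK c).mul_right hMp ((hal c).pow hMp _)
  have hmain := word_nilpotent a (fun x => helper20.JCoeff M (x * E)) (helper20.LocalCoeff M)
    (helper20.localCoeff_one hMp) (fun x y hx hy => hx.mul hMp hy)
    (by
      show helper20.JCoeff M (0 * E)
      rw [zero_mul]
      exact helper20.jCoeff_zero hMp)
    (fun x y hx hy => by
      show helper20.JCoeff M ((x + y) * E)
      rw [add_mul]
      exact hx.add hMp hy)
    (fun x y hx hy => by
      show helper20.JCoeff M (x * y * E)
      have h1 : x * y * E = (x * E) * y := by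
        rw [mul_assoc, ← hEcomm, ← mul_assoc]
      rw [h1]
      exact helper20.JCoeff.mul_right hMp hx hy)
    hal
    (fun c d => ⟨c⁻¹ * d * c, by
      rw [ha]
      exact cosetPart_mul_cosetPart N hzc c d⟩)
    K₀ hK'
  refine ⟨Fintype.card (G ⧸ N) * K₀ + 1, ?_⟩
  have hsum : ∑ c, a c = z := by
    rw [ha]
    exact sum_cosetPart N z
  rw [hsum] at hmain
  exact hmain

/-- The central character of a character of `G` over a conjugate of `b` sends a central element
whose coefficients on `C_G(D)` lie in the local ideal into the local ideal. -/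
theorem memLocalIdeal_omega_of_cover {p : ℕ} [Fact p.Prime] {M : Ideal AlgInt}
    (hM : IsPModular p M) {b : Set (IrrCharacter N)} (hb : IsPBlock M b)
    {D : Subgroup N} (hD : IsDefectGroup p M b D)
    {χ : IrrCharacter G} (hχ : χ ∈ coverSet N (orbitUnion N b))
    (z : MonoidAlgebra ℂ G) (hzc : helper20.IsCentralElt z) (hzl : helper20.LocalCoeff M z)
    (hz0 : ∀ x ∈ Subgroup.centralizer ((D.map N.subtype : Subgroup G) : Set G),
      MemLocalIdeal M (z.coeff x)) :
    MemLocalIdeal M (helper20.omega (χ : G → ℂ) z) := by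
  classical
  have hMp : M.IsPrime := helper20.isPrime_of_isPModular hM
  have hχcf : IsClassFunction G (χ : G → ℂ) := helper4.isClassFunction_of_isIrrCharacter χ.2
  have hχconj : ∀ x y : G, IsConj x y → (χ : G → ℂ) x = (χ : G → ℂ) y := by
    intro x y hxy
    obtain ⟨k, hk⟩ := isConj_iff.mp hxy
    rw [← hk]
    exact (hχcf x k).symm
  obtain ⟨L, hL⟩ := exists_pow_jCoeff_cent N hM hb hD z hzc hzl hz0
  have hpowc : ∀ j : ℕ, helper20.IsCentralElt (z ^ j) := by
    intro j
    induction j with
    | zero =>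
      rw [pow_zero]
      exact helper20.isCentralElt_one
    | succ j ih =>
      rw [pow_succ]
      exact ih.mul hzc
  have hpow : ∀ j : ℕ, helper20.omega (χ : G → ℂ) (z ^ j)
      = helper20.omega (χ : G → ℂ) z ^ j := by
    intro j
    induction j with
    | zero =>
      rw [pow_zero, pow_zero]
      exact helper20.omega_one _ (helper81.irr_one_ne_zero χ)
    | succ j ih =>
      rw [pow_succ, pow_succ, helper20.omega_mul _ χ.2 _ _ (hpowc j), ih]
  have h1 : helper20.omega (χ : G → ℂ)
      (z ^ L * helper81.blockIdem (coverSet N (orbitUnion N b)))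
      = helper20.omega (χ : G → ℂ) z ^ L := by
    rw [helper20.omega_mul _ χ.2 _ _ (hpowc L), helper81.omega_blockIdem, if_pos hχ, mul_one,
      hpow]
  have h2 : MemLocalIdeal M (helper20.omega (χ : G → ℂ)
      (z ^ L * helper81.blockIdem (coverSet N (orbitUnion N b)))) := by
    have hcen : helper20.IsCentralElt
        (z ^ L * helper81.blockIdem (coverSet N (orbitUnion N b))) :=
      (hpowc L).mul (helper81.isCentralElt_blockIdem _)
    exact helper80.memLocalIdeal_om hMp χ
      (fun x => (z ^ L * helper81.blockIdem (coverSet N (orbitUnion N b))).coeff x)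
      (fun x k => (helper20.isCentralElt_iff _).mp hcen x k) (fun x => hL x)
  rw [h1] at h2
  exact helper20.memLocalIdeal_of_pow hMp
    (helper20.memLocalRing_omega hMp (χ : G → ℂ) hχconj
      (fun g => helper80.memLocalRing_centralChar hMp χ g) z hzc hzl) L h2

/-- A block covering `b` consists of characters over conjugates of `b`. -/
theorem subset_coverSet_of_cover {M : Ideal AlgInt} (hM : M.IsPrime)
    {b : Set (IrrCharacter N)} (hb : IsPBlock M b)
    {B : Set (IrrCharacter G)} (hB : IsPBlock M B)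
    (hcov : ∃ χ ∈ B, ∃ θ ∈ b, classInner (fun n : N => (χ : G → ℂ) n) (θ : N → ℂ) ≠ 0) :
    B ⊆ coverSet N (orbitUnion N b) := by
  obtain ⟨χ₀, hχ₀, θ₀, hθ₀, h₀⟩ := hcov
  intro χ hχ
  obtain ⟨θ, hθ⟩ := exists_constituent_restrict_top N χ
  exact ⟨θ, mem_orbitUnion_of_cover N hM hB hb hχ₀ hθ₀ h₀ hχ hθ, hθ⟩

/-- The idempotent of a block covering `b` has a coefficient outside the local ideal on the
centralizer of a defect group of `b`. -/
theorem exists_blockCoeff_centralizer_of_cover {p : ℕ} [Fact p.Prime] {M : Ideal AlgInt}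
    (hM : IsPModular p M) {b : Set (IrrCharacter N)} (hb : IsPBlock M b)
    {D : Subgroup N} (hD : IsDefectGroup p M b D)
    {B : Set (IrrCharacter G)} (hB : IsPBlock M B)
    (hcov : ∃ χ ∈ B, ∃ θ ∈ b, classInner (fun n : N => (χ : G → ℂ) n) (θ : N → ℂ) ≠ 0) :
    ∃ x ∈ Subgroup.centralizer ((D.map N.subtype : Subgroup G) : Set G),
      ¬ MemLocalIdeal M (blockCoeff B x) := by
  classical
  have hMp : M.IsPrime := helper20.isPrime_of_isPModular hM
  by_contra hcon
  push Not at hcon
  obtain ⟨χ, hχ⟩ := helper80.isPBlock_nonempty hMp hB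
  have h1 := memLocalIdeal_omega_of_cover N hM hb hD
    (subset_coverSet_of_cover N hMp hb hB hcov hχ) (helper81.blockIdem B)
    (helper81.isCentralElt_blockIdem B) (helper81.localCoeff_blockIdem hMp hB)
    (by
      intro x hx
      rw [helper81.coeff_blockIdem]
      exact hcon x hx)
  rw [helper81.omega_blockIdem, if_pos hχ] at h1
  exact helper20.not_memLocalIdeal_one h1

/-- Every defect group of a block covering `b` contains a conjugate of a defect group of `b`. -/
theorem exists_conj_le_of_cover {p : ℕ} [Fact p.Prime] {M : Ideal AlgInt}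
    (hM : IsPModular p M) {b : Set (IrrCharacter N)} (hb : IsPBlock M b)
    {D : Subgroup N} (hD : IsDefectGroup p M b D)
    {B : Set (IrrCharacter G)} (hB : IsPBlock M B)
    (hcov : ∃ χ ∈ B, ∃ θ ∈ b, classInner (fun n : N => (χ : G → ℂ) n) (θ : N → ℂ) ≠ 0)
    {P : Subgroup G} (hP : IsDefectGroup p M B P) :
    ∃ g : G, ∀ q ∈ D.map N.subtype, g⁻¹ * q * g ∈ P := by
  obtain ⟨x, hx, hec⟩ := exists_blockCoeff_centralizer_of_cover N hM hb hD hB hcov
  exact helper80.IsDefectGroup.exists_conj_mem hM hB hP (D.map N.subtype)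
    ((helper80.IsDefectGroup.isPGroup hD).map _) x hx hec

omit [Fintype G] [Fintype N] in
/-- Conjugate blocks have the same defect. -/
theorem blockDefect_eq_of_cjIrr {M : Ideal AlgInt} (hM : M.IsPrime) {b b' : Set (IrrCharacter N)}
    (hb : IsPBlock M b) (hb' : IsPBlock M b') (p : ℕ) {θ' : IrrCharacter N} (hθ' : θ' ∈ b')
    (t : G) (ht : cjIrr N t θ' ∈ b) : blockDefect p b' = blockDefect p b := by
  have himg : (fun χ : IrrCharacter N => (charDegree (χ : N → ℂ)).factorization p) '' b'
      = (fun χ : IrrCharacter N => (charDegree (χ : N → ℂ)).factorization p) '' b := by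
    ext v
    constructor
    · rintro ⟨θ'', hθ'', rfl⟩
      refine ⟨cjIrr N t θ'', ?_, ?_⟩
      · have hs : SameBlock M (θ' : N → ℂ) (θ'' : N → ℂ) :=
          helper80.sameBlock_of_mem hM hb' hθ' hθ''
        exact helper81.mem_of_sameBlock hM hb ht (sameBlock_cjIrr N t hs)
      · show (charDegree (cjIrr N t θ'' : N → ℂ)).factorization p
          = (charDegree (θ'' : N → ℂ)).factorization p
        unfold charDegree
        rw [cjIrr_one_apply]
    · rintro ⟨θ, hθ, rfl⟩
      refine ⟨cjIrr N t⁻¹ θ, ?_, ?_⟩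
      · have hs : SameBlock M (cjIrr N t θ' : N → ℂ) (θ : N → ℂ) :=
          helper80.sameBlock_of_mem hM hb ht hθ
        have h2 := sameBlock_cjIrr N t⁻¹ hs
        rw [cjIrr_inv_cjIrr] at h2
        exact helper81.mem_of_sameBlock hM hb' hθ' h2
      · show (charDegree (cjIrr N t⁻¹ θ : N → ℂ)).factorization p
          = (charDegree (θ : N → ℂ)).factorization p
        unfold charDegree
        rw [cjIrr_one_apply]
  unfold blockDefect
  rw [himg]

/-- The intersection with `N` of a defect group of a block covering `b` has order at most the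
order of the defect groups of `b`. -/
theorem card_inf_le_of_cover {p : ℕ} [Fact p.Prime] {M : Ideal AlgInt}
    (hM : IsPModular p M) {b : Set (IrrCharacter N)} (hb : IsPBlock M b)
    {B : Set (IrrCharacter G)} (hB : IsPBlock M B)
    (hcov : ∃ χ ∈ B, ∃ θ ∈ b, classInner (fun n : N => (χ : G → ℂ) n) (θ : N → ℂ) ≠ 0)
    {P : Subgroup G} (hP : IsDefectGroup p M B P) :
    Nat.card (P ⊓ N : Subgroup G) ≤ p ^ blockDefect p b := by
  classical
  have hMp : M.IsPrime := helper20.isPrime_of_isPModular hM
  obtain ⟨χ, hχ, θ, hθ, hχθ⟩ := hcov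
  have hUst := orbitUnion_stable N b
  have hUun := orbitUnion_union_blocks N hMp hb
  have ha := blockCoeff_conj_of_stable N (orbitUnion N b) hUst
  have hcf := isClassFunction_extFun_of_inv N (blockCoeff (orbitUnion N b)) ha
  have haloc : ∀ n, MemLocalRing M (blockCoeff (orbitUnion N b) n) :=
    memLocalRing_blockCoeff_of_union hMp _ hUun
  have h1 : helper80.om (χ : G → ℂ) (helper80.extFun N (blockCoeff (orbitUnion N b))) = 1 := by
    rw [om_extFun_of_constituent N hχθ _ ha, helper80.om_blockCoeff,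
      if_pos (subset_orbitUnion N b hθ)]
  rw [helper84.om_eq_sum_classes (χ : G → ℂ) (helper4.isClassFunction_of_isIrrCharacter χ.2) _
    hcf] at h1
  have hex : ∃ c : ConjClasses G, ¬ MemLocalIdeal M
      (helper80.extFun N (blockCoeff (orbitUnion N b)) (Quotient.out c)
        * centralChar (χ : G → ℂ) (Quotient.out c)) := by
    by_contra hcon
    push Not at hcon
    have h2 := helper20.memLocalIdeal_sum hMp Finset.univ _ (fun c _ => hcon c)
    rw [h1] at h2
    exact helper20.not_memLocalIdeal_one h2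
  obtain ⟨c, hc⟩ := hex
  obtain ⟨x, hxdef⟩ : ∃ x : G, x = Quotient.out c := ⟨_, rfl⟩
  rw [← hxdef] at hc
  have hxN : x ∈ N := by
    by_contra hx
    apply hc
    rw [helper80.extFun_of_not_mem N _ hx, zero_mul]
    exact helper20.memLocalIdeal_zero hMp
  rw [helper80.extFun_of_mem N _ hxN] at hc
  have hax : ¬ MemLocalIdeal M (blockCoeff (orbitUnion N b) ⟨x, hxN⟩) := fun h =>
    hc (helper20.memLocalIdeal_mul_right hMp h (helper80.memLocalRing_centralChar hMp χ x))
  have hωx : ¬ MemLocalIdeal M (centralChar (χ : G → ℂ) x) := fun h =>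
    hc (helper20.memLocalIdeal_mul_left hMp (haloc _) h)
  have hh : ∀ χ' ∈ B, ¬ MemLocalIdeal M (centralChar (χ' : G → ℂ) x) := by
    intro χ' hχ' hJ
    apply hωx
    have hs := helper80.sameBlock_of_mem hMp hB hχ hχ' x
    have h2 := helper20.memLocalIdeal_add hMp hs hJ
    rwa [sub_add_cancel] at h2
  have hPp : IsPGroup p P := helper80.IsDefectGroup.isPGroup hP
  have hP' := hP
  obtain ⟨y, hy, S, hS⟩ := hP'
  have hyc : y ∈ Subgroup.centralizer (P : Set G) := by
    rw [Subgroup.mem_centralizer_iff]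
    intro d hd
    rw [hS] at hd
    obtain ⟨d', -, rfl⟩ := hd
    have h2 := d'.2
    rw [Subgroup.mem_centralizer_iff] at h2
    exact (h2 y (Set.mem_singleton y)).symm
  obtain ⟨a', ha', hconj⟩ := helper80.exists_conj_mem_centralizer hM hB x hh P hPp y hyc hy.2.1
  obtain ⟨k, hk⟩ := isConj_iff.mp hconj
  have ha'N : a' ∈ N := by
    rw [← hk]
    exact hN.conj_mem x hxN k
  have haa : ¬ MemLocalIdeal M (blockCoeff (orbitUnion N b) ⟨a', ha'N⟩) := by
    have h2 := ha k ⟨x, hxN⟩
    have e : (⟨a', ha'N⟩ : N) = ⟨k * x * k⁻¹, hN.conj_mem x hxN k⟩ := Subtype.ext hk.symm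
    rw [e, h2]
    exact hax
  have hexb : ∃ b' : Set (IrrCharacter N), IsPBlock M b' ∧ b' ⊆ orbitUnion N b ∧
      ¬ MemLocalIdeal M (blockCoeff b' ⟨a', ha'N⟩) := by
    by_contra hcon
    push Not at hcon
    apply haa
    have hUeq : (⋃ B' ∈ (helper80.blocks M N).filter (fun B' => B' ⊆ orbitUnion N b), B')
        = orbitUnion N b := by
      apply Set.eq_of_subset_of_subset
      · intro θ₁ hθ₁
        simp only [Set.mem_iUnion] at hθ₁
        obtain ⟨B', hB', hθB⟩ := hθ₁
        exact (Finset.mem_filter.mp hB').2 hθB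
      · intro θ₁ hθ₁
        simp only [Set.mem_iUnion]
        refine ⟨blockOf M (θ₁ : N → ℂ), Finset.mem_filter.mpr ⟨?_, hUun θ₁ hθ₁⟩, ?_⟩
        · exact helper80.mem_blocks.mpr (helper80.isPBlock_blockOf M θ₁)
        · exact helper80.mem_blockOf_self hMp θ₁
    have hd : ∀ B₁ ∈ (helper80.blocks M N).filter (fun B' => B' ⊆ orbitUnion N b),
        ∀ B₂ ∈ (helper80.blocks M N).filter (fun B' => B' ⊆ orbitUnion N b),
        B₁ ≠ B₂ → Disjoint B₁ B₂ := by
      intro B₁ hB₁ B₂ hB₂ hne
      exact helper80.blocks_disjoint hMp B₁ (Finset.mem_filter.mp hB₁).1 B₂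
        (Finset.mem_filter.mp hB₂).1 hne
    rw [← hUeq, ← helper80.sum_blockCoeff_of_pairwiseDisjoint _ hd]
    apply helper20.memLocalIdeal_sum hMp
    intro B' hB'
    exact hcon B' (helper80.mem_blocks.mp (Finset.mem_filter.mp hB').1) (Finset.mem_filter.mp hB').2
  obtain ⟨b', hb', hb'U, hb'a⟩ := hexb
  obtain ⟨D₂, hD₂⟩ := helper80.exists_isDefectGroup p hMp hb'
  have hQp : IsPGroup p ((P ⊓ N).subgroupOf N) := (hPp.to_le inf_le_left).comap_subtype
  have hac : (⟨a', ha'N⟩ : N) ∈ Subgroup.centralizer (((P ⊓ N).subgroupOf N : Subgroup N) : Set N) := by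
    rw [Subgroup.mem_centralizer_iff]
    intro q hq
    have hqP : (q : G) ∈ P := (Subgroup.mem_subgroupOf.mp hq).1
    have h2 := (Subgroup.mem_centralizer_iff.mp ha') (q : G) hqP
    exact Subtype.ext h2
  obtain ⟨n, hn⟩ := helper80.IsDefectGroup.exists_conj_mem hM hb' hD₂ _ hQp _ hac hb'a
  have hcard1 : Nat.card ((P ⊓ N).subgroupOf N) ≤ Nat.card D₂ := by
    apply Nat.card_le_card_of_injective
      (fun q : (P ⊓ N).subgroupOf N => (⟨n⁻¹ * (q : N) * n, hn q q.2⟩ : D₂))
    intro q₁ q₂ h
    have h2 : n⁻¹ * (q₁ : N) * n = n⁻¹ * (q₂ : N) * n := congrArg (fun d : D₂ => (d : N)) h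
    exact Subtype.ext (mul_left_cancel (mul_right_cancel h2))
  have hcard2 : Nat.card ((P ⊓ N).subgroupOf N) = Nat.card (P ⊓ N : Subgroup G) :=
    Nat.card_congr (Subgroup.subgroupOfEquivOfLe inf_le_right).toEquiv
  have hcard3 : Nat.card D₂ = p ^ blockDefect p b' := helper79.card_eq_of_isDefectGroup hM hb' hD₂
  obtain ⟨θ', hθ'⟩ := helper80.isPBlock_nonempty hMp hb'
  obtain ⟨t, ht⟩ := hb'U hθ'
  rw [← hcard2, ← blockDefect_eq_of_cjIrr N hMp hb hb' p hθ' t ht, ← hcard3]
  exact hcard1

/-- **Knörr's theorem.**  If the block `B` of `G` covers the block `b` of the normal subgroup `N`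
and `Q` is a defect group of `b`, then `B` has a defect group `P` with `P ∩ N = Q`. -/
theorem knorr {p : ℕ} [Fact p.Prime] {M : Ideal AlgInt}
    (hM : IsPModular p M) {b : Set (IrrCharacter N)} (hb : IsPBlock M b)
    (Q : Subgroup G) (hQN : Q ≤ N) (hQ : IsDefectGroup p M b (Q.subgroupOf N))
    {B : Set (IrrCharacter G)} (hB : IsPBlock M B)
    (hcov : ∃ χ ∈ B, ∃ θ ∈ b, classInner (fun n : N => (χ : G → ℂ) n) (θ : N → ℂ) ≠ 0) :
    ∃ P : Subgroup G, IsDefectGroup p M B P ∧ P ⊓ N = Q := by
  classical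
  have hMp : M.IsPrime := helper20.isPrime_of_isPModular hM
  obtain ⟨P₀, hP₀⟩ := helper80.exists_isDefectGroup p hMp hB
  have hmap : (Q.subgroupOf N).map N.subtype = Q := by
    rw [Subgroup.subgroupOf_map_subtype, inf_eq_left.mpr hQN]
  obtain ⟨g, hg⟩ := exists_conj_le_of_cover N hM hb hQ hB hcov hP₀
  rw [hmap] at hg
  have hle := card_inf_le_of_cover N hM hb hB hcov hP₀
  have hQcard : Nat.card Q = p ^ blockDefect p b := by
    rw [← helper79.card_eq_of_isDefectGroup hM hb hQ]
    exact (Nat.card_congr (Subgroup.subgroupOfEquivOfLe hQN).toEquiv).symm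
  refine ⟨P₀.map (MulAut.conj g).toMonoidHom, helper80.IsDefectGroup.conj hP₀ g, ?_⟩
  have h1 : Q ≤ P₀.map (MulAut.conj g).toMonoidHom ⊓ N := by
    intro q hq
    refine ⟨⟨g⁻¹ * q * g, hg q hq, ?_⟩, hQN hq⟩
    simp [MulAut.conj_apply, mul_assoc]
  have h3 : (P₀.map (MulAut.conj g).toMonoidHom ⊓ N : Subgroup G)
      = (P₀ ⊓ N).map (MulAut.conj g).toMonoidHom := by
    ext x
    constructor
    · rintro ⟨⟨y, hy, rfl⟩, hxN⟩
      refine ⟨y, ⟨hy, ?_⟩, rfl⟩
      have h4 : g⁻¹ * ((MulAut.conj g).toMonoidHom y) * g⁻¹⁻¹ ∈ N := hN.conj_mem _ hxN g⁻¹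
      simpa [MulAut.conj_apply, mul_assoc] using h4
    · rintro ⟨y, ⟨hyP, hyN⟩, rfl⟩
      refine ⟨⟨y, hyP, rfl⟩, ?_⟩
      have h4 := hN.conj_mem y hyN g
      simpa [MulAut.conj_apply] using h4
  have h2 : Nat.card (P₀.map (MulAut.conj g).toMonoidHom ⊓ N : Subgroup G) ≤ Nat.card Q := by
    rw [hQcard, h3, Subgroup.card_map_of_injective (MulAut.conj g).injective]
    exact hle
  exact (Subgroup.eq_of_le_of_card_ge h1 h2).symm

end Knorr

end Cfsg.Agent.Lib.helper77
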