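import Mathlib
import Cfsg.Prelude.Def_Blocks
import Cfsg.Agent.Lib.helper77.Knorr

/-!
# Every character of a covered block lies under the covering block (helper77)

`N` a normal subgroup of `G`, `B` a block of `G` covering the block `b` of `N`.

* `mul_cosetPart_of_supp`: an element supported on `N` can be moved inside a coset part;
* `exists_over_of_cover`: every `θ ∈ b` is a constituent of the restriction of some `χ ∈ B`.
-/

set_option autoImplicit false

namespace Cfsg.Agent.Lib.helper77

open Cfsg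
open scoped ComplexConjugate

universe u

section CoverUnder

variable {G : Type u} [Group G] [Fintype G] (N : Subgroup G) [hN : N.Normal]

/-- An element supported on `N` can be moved inside a coset part. -/
theorem mul_cosetPart_of_supp (X : MonoidAlgebra ℂ G) (hX : ∀ g : G, g ∉ N → X.coeff g = 0)
    (c : G ⧸ N) (z : MonoidAlgebra ℂ G) :
    X * cosetPart N c z = cosetPart N c (X * z) := by
  classical
  apply MonoidAlgebra.coeff_injective
  ext g
  rw [helper20.coeff_mul_eq_sum, coeff_cosetPart, helper20.coeff_mul_eq_sum]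
  have hq : ∀ x : G, x ∈ N → ((x⁻¹ * g : G) : G ⧸ N) = (g : G ⧸ N) := by
    intro x hx
    rw [QuotientGroup.mk_mul, QuotientGroup.mk_inv, (QuotientGroup.eq_one_iff x).mpr hx, inv_one,
      one_mul]
  by_cases hg : (g : G ⧸ N) = c
  · rw [if_pos hg]
    apply Finset.sum_congr rfl
    intro x _
    by_cases hx : x ∈ N
    · rw [coeff_cosetPart, if_pos ((hq x hx).trans hg)]
    · rw [hX x hx, zero_mul, zero_mul]
  · rw [if_neg hg]
    apply Finset.sum_eq_zero
    intro x _
    by_cases hx : x ∈ N
    · rw [coeff_cosetPart, if_neg (fun h => hg ((hq x hx).symm.trans h)), mul_zero]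
    · rw [hX x hx, zero_mul]

omit hN in
theorem cosetPart_zero (c : G ⧸ N) : cosetPart N c (0 : MonoidAlgebra ℂ G) = 0 := by
  classical
  apply MonoidAlgebra.coeff_injective
  ext g
  rw [coeff_cosetPart]
  split_ifs <;> rfl

variable [Fintype N]

/-- **Covered blocks.**  If the block `B` of `G` covers the block `b` of the normal subgroup `N`,
then every `θ ∈ b` is a constituent of the restriction of some `χ ∈ B`. -/
theorem exists_over_of_cover {p : ℕ} [Fact p.Prime] {M : Ideal AlgInt} (hM : IsPModular p M)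
    {B : Set (IrrCharacter G)} (hB : IsPBlock M B)
    {b : Set (IrrCharacter N)} (hb : IsPBlock M b)
    (hcov : ∃ χ ∈ B, ∃ θ ∈ b, classInner (fun n : N => (χ : G → ℂ) n) (θ : N → ℂ) ≠ 0)
    {θ : IrrCharacter N} (hθ : θ ∈ b) :
    ∃ χ ∈ B, classInner (fun n : N => (χ : G → ℂ) n) (θ : N → ℂ) ≠ 0 := by
  classical
  have hMp : M.IsPrime := helper20.isPrime_of_isPModular hM
  have : Fintype (G ⧸ N) := Fintype.ofFinite _
  by_contra hno
  push Not at hno
  have hUst := orbitUnion_stable N b
  have hUun := orbitUnion_union_blocks N hMp hb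
  obtain ⟨z, hz⟩ : ∃ z : MonoidAlgebra ℂ G, z = helper81.blockIdem B := ⟨_, rfl⟩
  have hzc : helper20.IsCentralElt z := by
    rw [hz]
    exact helper81.isCentralElt_blockIdem B
  have hzl : helper20.LocalCoeff M z := by
    rw [hz]
    exact helper81.localCoeff_blockIdem hMp hB
  have hzz : z * z = z := by
    rw [hz]
    exact helper81.blockIdem_mul_self B
  obtain ⟨E, hE⟩ : ∃ E : MonoidAlgebra ℂ G,
      E = helper81.blockIdem (coverSet N (orbitUnion N b)) := ⟨_, rfl⟩
  have hEc : helper20.IsCentralElt E := by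
    rw [hE]
    exact helper81.isCentralElt_blockIdem _
  have hEE : E * E = E := by
    rw [hE]
    exact helper81.blockIdem_mul_self _
  have hzE : z * E = z := by
    rw [hz, hE, helper81.blockIdem_mul,
      Set.inter_eq_left.mpr (subset_coverSet_of_cover N hMp hb hB hcov)]
  have hEcoeff : ∀ g : G, E.coeff g = helper80.extFun N (blockCoeff (orbitUnion N b)) g := by
    intro g
    rw [hE, helper81.coeff_blockIdem, blockCoeff_coverSet N (orbitUnion N b) hUst g]
  have hUl : helper20.LocalCoeff M (helper81.blockIdem (orbitUnion N b)) := by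
    intro n
    rw [helper81.coeff_blockIdem]
    exact memLocalRing_blockCoeff_of_union hMp _ hUun n
  have hEincl : helper20.inclAlg N (helper81.blockIdem (orbitUnion N b)) = E := by
    apply MonoidAlgebra.coeff_injective
    ext g
    rw [hEcoeff]
    by_cases hg : g ∈ N
    · rw [helper80.extFun_of_mem N _ hg]
      have := helper20.coeff_inclAlg_of_mem N (helper81.blockIdem (orbitUnion N b)) ⟨g, hg⟩
      rw [helper81.coeff_blockIdem] at this
      exact this
    · rw [helper80.extFun_of_not_mem N _ hg, helper20.coeff_inclAlg_of_not_mem N _ g hg]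
  have hEcomm : ∀ y : MonoidAlgebra ℂ G, E * y = y * E :=
    fun y => helper20.IsCentralElt.commute_all hEc y
  obtain ⟨a, ha⟩ : ∃ a : G ⧸ N → MonoidAlgebra ℂ G, a = fun c => cosetPart N c z := ⟨_, rfl⟩
  have hal : ∀ c, helper20.LocalCoeff M (a c) := by
    intro c
    rw [ha]
    exact localCoeff_cosetPart N hMp c hzl
  have haN : ∀ c, ∀ n ∈ N,
      MonoidAlgebra.single n 1 * a c = a c * MonoidAlgebra.single n 1 := by
    intro c n hn
    rw [ha]
    exact cosetPart_commute_single N hzc c hn
  obtain ⟨m, hm⟩ : ∃ m : ℕ, m = Nat.card (G ⧸ N) := ⟨_, rfl⟩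
  have hmpos : 0 < m := by
    rw [hm]
    exact Nat.card_pos
  obtain ⟨m', hm'⟩ : ∃ m', m = m' + 1 := ⟨m - 1, by omega⟩
  -- the powers of the coset parts are supported on `N`, commute with `N`, are local
  have hxsupp : ∀ c : G ⧸ N, ∀ g : G, g ∉ N → (a c ^ m).coeff g = 0 := by
    intro c g hg
    rw [ha]
    apply coeff_cosetPart_pow_eq_zero
    rw [hm, pow_card_eq_one']
    intro h
    exact hg ((QuotientGroup.eq_one_iff g).mp h)
  have hxN : ∀ c : G ⧸ N, ∀ n ∈ N,
      MonoidAlgebra.single n 1 * a c ^ m = a c ^ m * MonoidAlgebra.single n 1 := by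
    intro c n hn
    exact (Commute.pow_right (haN c n hn) m : _)
  have hxl : ∀ c : G ⧸ N, helper20.LocalCoeff M (a c ^ m) := fun c => (hal c).pow hMp m
  have hrc : ∀ c : G ⧸ N, helper20.IsCentralElt (helper20.resAlg N (a c ^ m)) := by
    intro c
    rw [helper20.isCentralElt_iff]
    intro g h
    rw [helper20.coeff_resAlg, helper20.coeff_resAlg]
    have := helper20.coeff_conj_of_commute (hxN c (h : G) h.2) (g : G)
    simpa using this
  have htr : ∀ c : G ⧸ N, helper20.trunc N (a c ^ m) = a c ^ m := by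
    intro c
    apply MonoidAlgebra.coeff_injective
    ext g
    rw [helper20.coeff_trunc]
    split_ifs with h
    · rfl
    · exact (hxsupp c g h).symm
  have hom : ∀ (c : G ⧸ N) (θ' : IrrCharacter N),
      helper20.omega (θ' : N → ℂ) (helper20.resAlg N (a c ^ m))
        = helper80.om (θ' : N → ℂ) (fun n : N => (a c ^ m).coeff (n : G)) := by
    intro c θ'
    unfold helper20.omega helper80.om
    congr 1
    apply Finset.sum_congr rfl
    intro n _
    rw [helper20.coeff_resAlg]
  -- Step 1: some coset part is not nilpotent modulo the local ideal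
  have hstep1 : ∃ c₀ : G ⧸ N, ∀ K : ℕ, ¬ helper20.JCoeff M (a c₀ ^ K * E) := by
    by_contra hcon
    push Not at hcon
    choose K hK using hcon
    obtain ⟨K₀, hK₀⟩ : ∃ K₀ : ℕ, K₀ = ∑ c, K c := ⟨_, rfl⟩
    have hK' : ∀ c, helper20.JCoeff M (a c ^ K₀ * E) := by
      intro c
      have hle : K c ≤ K₀ := by
        rw [hK₀]
        exact Finset.single_le_sum (fun _ _ => Nat.zero_le _) (Finset.mem_univ c)
      have h1 : a c ^ K₀ * E = (a c ^ K c * E) * a c ^ (K₀ - K c) := by
        rw [mul_assoc, hEcomm, ← mul_assoc, ← pow_add]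
        congr 2
        omega
      rw [h1]
      exact (hK c).mul_right hMp ((hal c).pow hMp _)
    have hmain := word_nilpotent a (fun x => helper20.JCoeff M (x * E)) (helper20.LocalCoeff M)
      (helper20.localCoeff_one hMp) (fun x y hx hy => hx.mul hMp hy)
      (by
        show helper20.JCoeff M (0 * E)
        rw [zero_mul]
        exact helper20.jCoeff_zero hMp)
      (fun x y hx hy => by
        show helper20.JCoeff M ((x + y) * E)
        rw [add_mul]
        exact hx.add hMp hy)
      (fun x y hx hy => by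
        show helper20.JCoeff M (x * y * E)
        have h1 : x * y * E = (x * E) * y := by
          rw [mul_assoc, ← hEcomm, ← mul_assoc]
        rw [h1]
        exact helper20.JCoeff.mul_right hMp hx hy)
      hal
      (fun c d => ⟨c⁻¹ * d * c, by
        rw [ha]
        exact cosetPart_mul_cosetPart N hzc c d⟩)
      K₀ hK'
    have hsum : ∑ c, a c = z := by
      rw [ha]
      exact sum_cosetPart N z
    rw [hsum] at hmain
    have hzpow : ∀ j : ℕ, z ^ (j + 1) = z := by
      intro j
      induction j with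
      | zero => rw [zero_add, pow_one]
      | succ j ih => rw [pow_succ, ih, hzz]
    have hJz : helper20.JCoeff M z := by
      have h1 : z ^ (Fintype.card (G ⧸ N) * K₀ + 1) * E = z := by
        rw [hzpow, hzE]
      rw [← h1]
      exact hmain
    obtain ⟨χ, hχ⟩ := helper80.isPBlock_nonempty hMp hB
    have h2 : MemLocalIdeal M (helper20.omega (χ : G → ℂ) z) :=
      helper80.memLocalIdeal_om hMp χ (fun x => z.coeff x)
        (fun x k => (helper20.isCentralElt_iff _).mp hzc x k) (fun x => hJz x)
    rw [hz, helper81.omega_blockIdem, if_pos hχ] at h2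
    exact helper20.not_memLocalIdeal_one h2
  obtain ⟨c₀, hc₀⟩ := hstep1
  -- Step 2: a character in the orbit of `b` whose central character does not kill it
  have hstep2 : ∃ θ₁ ∈ orbitUnion N b, ¬ MemLocalIdeal M
      (helper80.om (θ₁ : N → ℂ) (fun n : N => (a c₀ ^ m).coeff (n : G))) := by
    by_contra hcon
    push Not at hcon
    obtain ⟨y, hy⟩ : ∃ y : MonoidAlgebra ℂ N,
        y = helper20.resAlg N (a c₀ ^ m) * helper81.blockIdem (orbitUnion N b) := ⟨_, rfl⟩
    have hyc : helper20.IsCentralElt y := by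
      rw [hy]
      exact (hrc c₀).mul (helper81.isCentralElt_blockIdem _)
    have hyl : helper20.LocalCoeff M y := by
      rw [hy]
      exact (helper20.localCoeff_resAlg N (hxl c₀)).mul hMp hUl
    have hyω : ∀ θ' : IrrCharacter N, MemLocalIdeal M (helper20.omega (θ' : N → ℂ) y) := by
      intro θ'
      rw [hy, helper20.omega_mul (θ' : N → ℂ) θ'.2 _ _ (hrc c₀), helper81.omega_blockIdem]
      by_cases hθ' : θ' ∈ orbitUnion N b
      · rw [if_pos hθ', mul_one, hom]
        exact hcon θ' hθ'
      · rw [if_neg hθ', mul_zero]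
        exact helper20.memLocalIdeal_zero hMp
    obtain ⟨k, hk⟩ := helper20.exists_pow_jCoeff hMp y hyc hyl hyω
    have h1 : helper20.JCoeff M (y ^ (k + 1)) := by
      rw [pow_succ]
      exact hk.mul_right hMp hyl
    have h2 := helper20.jCoeff_inclAlg hMp N h1
    have h3 : helper20.inclAlg N (y ^ (k + 1)) = (a c₀ ^ m) ^ (k + 1) * E := by
      rw [map_pow, hy, map_mul, hEincl, helper20.inclAlg_resAlg, htr]
      exact mul_idem_pow (a c₀ ^ m) E hEE hEcomm k
    rw [h3, ← pow_mul] at h2
    exact hc₀ _ h2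
  obtain ⟨θ₁, ⟨t, ht⟩, hθ₁⟩ := hstep2
  -- Step 3: move to `b`
  obtain ⟨c', hc'⟩ : ∃ c' : G ⧸ N, c' = ((t⁻¹ : G) : G ⧸ N)⁻¹ * c₀ * ((t⁻¹ : G) : G ⧸ N) :=
    ⟨_, rfl⟩
  have hstep3 : ¬ MemLocalIdeal M
      (helper80.om (cjIrr N t θ₁ : N → ℂ) (fun n : N => (a c' ^ m).coeff (n : G))) := by
    intro h
    apply hθ₁
    have h1 : θ₁ = cjIrr N t⁻¹ (cjIrr N t θ₁) := (cjIrr_inv_cjIrr N t θ₁).symm
    rw [h1, om_cjIrr]
    have e : (fun n : N => (a c₀ ^ m).coeff
          ((⟨t⁻¹ * (n : G) * t⁻¹⁻¹, hN.conj_mem n n.2 t⁻¹⟩ : N) : G))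
        = fun n : N => (a c' ^ m).coeff (n : G) := by
      funext n
      rw [ha, hc']
      exact coeff_cosetPart_pow_conj N hzc c₀ t⁻¹ m (n : G)
    rw [e]
    exact h
  -- Step 4: the central character of `θ` kills the coset part
  obtain ⟨O, hO⟩ : ∃ O : Set (IrrCharacter N), O = {θ' | ∃ g : G, θ' = cjIrr N g θ} := ⟨_, rfl⟩
  have hOst : ∀ g : G, ∀ θ' ∈ O, cjIrr N g θ' ∈ O := by
    intro g θ' hθ'
    rw [hO] at hθ' ⊢
    obtain ⟨x, rfl⟩ := hθ'
    exact ⟨g * x, (cjIrr_mul N g x θ).symm⟩
  have hθO : θ ∈ O := by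
    rw [hO]
    exact ⟨1, (cjIrr_one N θ).symm⟩
  obtain ⟨EO, hEO⟩ : ∃ EO : MonoidAlgebra ℂ G, EO = helper81.blockIdem (coverSet N O) := ⟨_, rfl⟩
  have hEOincl : helper20.inclAlg N (helper81.blockIdem O) = EO := by
    apply MonoidAlgebra.coeff_injective
    ext g
    rw [hEO, helper81.coeff_blockIdem, ← blockCoeff_coverSet N O hOst g]
    by_cases hg : g ∈ N
    · rw [helper80.extFun_of_mem N _ hg]
      have := helper20.coeff_inclAlg_of_mem N (helper81.blockIdem O) ⟨g, hg⟩
      rw [helper81.coeff_blockIdem] at this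
      exact this
    · rw [helper80.extFun_of_not_mem N _ hg, helper20.coeff_inclAlg_of_not_mem N _ g hg]
  have hEOsupp : ∀ g : G, g ∉ N → EO.coeff g = 0 := by
    intro g hg
    rw [← hEOincl]
    exact helper20.coeff_inclAlg_of_not_mem N _ g hg
  have hdisj : coverSet N O ∩ B = ∅ := by
    apply Set.eq_empty_of_forall_notMem
    rintro χ ⟨⟨θ', hθ', hne⟩, hχB⟩
    rw [hO] at hθ'
    obtain ⟨g, rfl⟩ := hθ'
    apply hne
    rw [cjIrr_coe, helper82.classInner_restrict_cconj N
      (helper4.isClassFunction_of_isIrrCharacter χ.2) g]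
    exact hno χ hχB
  have hEOz : EO * z = 0 := by
    rw [hEO, hz, helper81.blockIdem_mul, hdisj, helper81.blockIdem_empty]
  have hEOa : EO * a c' = 0 := by
    rw [ha]
    show EO * cosetPart N c' z = 0
    rw [mul_cosetPart_of_supp N EO hEOsupp c' z, hEOz, cosetPart_zero]
  have hEOx : EO * a c' ^ m = 0 := by
    rw [hm', pow_succ', ← mul_assoc, hEOa, zero_mul]
  have hprod : helper81.blockIdem O * helper20.resAlg N (a c' ^ m) = 0 := by
    apply MonoidAlgebra.coeff_injective
    ext n
    rw [← helper20.coeff_inclAlg_of_mem N _ n, map_mul, hEOincl, helper20.inclAlg_resAlg, htr,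
      hEOx]
    rfl
  have hF1 : helper80.om (θ : N → ℂ) (fun n : N => (a c' ^ m).coeff (n : G)) = 0 := by
    rw [← hom]
    have h1 := helper20.omega_mul (θ : N → ℂ) θ.2 (helper81.blockIdem O)
      (helper20.resAlg N (a c' ^ m)) (helper81.isCentralElt_blockIdem O)
    rw [hprod, helper20.omega_zero, helper81.omega_blockIdem, if_pos hθO, one_mul] at h1
    exact h1.symm
  -- Step 5: block constancy
  have hfcf : IsClassFunction N (fun n : N => (a c' ^ m).coeff (n : G)) := by
    intro n h
    show (a c' ^ m).coeff ((h * n * h⁻¹ : N) : G) = (a c' ^ m).coeff (n : G)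
    have := helper20.coeff_conj_of_commute (hxN c' (h : G) h.2) (n : G)
    simpa using this
  have hfin := helper80.memLocalIdeal_om_sub hMp (cjIrr N t θ₁) θ
    (helper80.sameBlock_of_mem hMp hb ht hθ) _ hfcf (fun n => hxl c' (n : G))
  rw [hF1, sub_zero] at hfin
  exact hstep3 hfin

end CoverUnder

end Cfsg.Agent.Lib.helper77
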