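import Mathlib
import Cfsg.Prelude.Def_Blocks
import Cfsg.Agent.Lib.helper77.CoverUnder
import Cfsg.Agent.Lib.helper79.PPartCong
import Cfsg.Agent.Lib.helper79.DefectDeg
import Cfsg.Agent.Lib.helper20.PiKer2

/-!
# Non-vanishing of the characters of a block with abelian defect group (helper77)

* `memLocalRing_natCast_div_of_factorization_le`: a quotient of natural numbers is a local integer
  when the denominator has the smaller `p`-adic valuation;
* `exists_ne_zero_not_mem_of_abelian_defect`: a character of a block with abelian defect group `P`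
  takes a nonzero value outside every subgroup not containing `P`.
-/

set_option autoImplicit false

namespace Cfsg.Agent.Lib.helper77

open Cfsg
open scoped ComplexConjugate

universe u

theorem memLocalRing_natCast_div_of_factorization_le {p : ℕ} [Fact p.Prime] {M : Ideal AlgInt}
    (hM : IsPModular p M) (m n : ℕ) (hm : m ≠ 0) (hn : n ≠ 0)
    (h : n.factorization p ≤ m.factorization p) : MemLocalRing M ((m : ℂ) / (n : ℂ)) := by
  have hpp : p.Prime := Fact.out
  obtain ⟨e, n', hn', hne⟩ := Nat.exists_eq_pow_mul_and_not_dvd hn p hpp.ne_one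
  have he : n.factorization p = e := by
    have hn'0 : n' ≠ 0 := by
      rintro rfl
      exact hn' (dvd_zero p)
    rw [hne, Nat.factorization_mul (pow_ne_zero _ hpp.ne_zero) hn'0, Finsupp.add_apply,
      Nat.factorization_pow, Finsupp.smul_apply, hpp.factorization_self,
      Nat.factorization_eq_zero_of_not_dvd hn']
    simp
  have hdvd : p ^ e ∣ m := by
    rw [hpp.pow_dvd_iff_le_factorization hm, ← he]
    exact h
  obtain ⟨m', hm'⟩ := hdvd
  have hcop : n'.Coprime p := (Nat.Coprime.symm ((Nat.Prime.coprime_iff_not_dvd hpp).mpr hn'))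
  have e1 : ((m : ℂ) / (n : ℂ)) = (m' : ℂ) / (n' : ℂ) := by
    rw [hm', hne]
    push_cast
    have hp0 : ((p : ℂ) ^ e) ≠ 0 := pow_ne_zero _ (Nat.cast_ne_zero.mpr hpp.ne_zero)
    rw [mul_div_mul_left _ _ hp0]
  rw [e1]
  exact helper20.memLocalRing_natCast_div hM m' n' hcop

section

variable {G : Type u} [Group G] [Fintype G]

/-- **Non-vanishing.**  Let `B` be a block with abelian defect group `P` and `K` a subgroup not
containing `P`.  Every character in `B` has a nonzero value outside `K`. -/
theorem exists_ne_zero_not_mem_of_abelian_defect {p : ℕ} [Fact p.Prime] {M : Ideal AlgInt}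
    (hM : IsPModular p M) {B : Set (IrrCharacter G)} (hB : IsPBlock M B)
    {P : Subgroup G} (hP : IsDefectGroup p M B P) (hab : ∀ x ∈ P, ∀ y ∈ P, x * y = y * x)
    (K : Subgroup G) (hK : ¬ P ≤ K) {χ : IrrCharacter G} (hχ : χ ∈ B) :
    ∃ y : G, y ∉ K ∧ (χ : G → ℂ) y ≠ 0 := by
  classical
  have hMp : M.IsPrime := helper20.isPrime_of_isPModular hM
  have hpp : p.Prime := Fact.out
  have hPp : IsPGroup p P := helper80.IsDefectGroup.isPGroup hP
  have hPcard := helper79.card_eq_of_isDefectGroup hM hB hP
  obtain ⟨g, hg, S, hS⟩ := hP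
  by_cases hgK : g ∈ K
  swap
  · refine ⟨g, hgK, ?_⟩
    intro h0
    apply hg.2.2 χ hχ
    unfold centralChar
    rw [h0, mul_zero, zero_div]
    exact helper20.memLocalIdeal_zero hMp
  obtain ⟨x, hxP, hxK⟩ := SetLike.not_le_iff_exists.mp hK
  have hPcent : ∀ q ∈ P, g * q = q * g := by
    intro q hq
    rw [hS] at hq
    obtain ⟨q', -, rfl⟩ := hq
    exact Subgroup.mem_centralizer_iff.mp q'.2 g (Set.mem_singleton g)
  have hcomm : Commute x g := (hPcent x hxP).symm
  obtain ⟨j, hj⟩ := hPp ⟨x, hxP⟩
  have hxj : x ^ (p ^ j) = 1 := by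
    have := congrArg Subtype.val hj
    simpa using this
  refine ⟨x * g, ?_, ?_⟩
  · intro h
    apply hxK
    have := K.mul_mem h (K.inv_mem hgK)
    rwa [mul_inv_cancel_right] at this
  -- a character of height zero
  obtain ⟨χ₀, hχ₀⟩ := helper80.isPBlock_nonempty hMp hB
  have hne : ((fun χ : IrrCharacter G => (charDegree (χ : G → ℂ)).factorization p) '' B).Nonempty :=
    ⟨_, ⟨χ₀, hχ₀, rfl⟩⟩
  obtain ⟨ψ, hψ, hψh⟩ := Nat.sInf_mem hne
  have hdef : blockDefect p B = (Nat.card G).factorization p
      - (charDegree (ψ : G → ℂ)).factorization p := by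
    unfold blockDefect
    rw [← hψh]
  have hdeg0 : charDegree (ψ : G → ℂ) ≠ 0 := by
    intro h0
    have h1 := helper82.irr_one_eq ψ
    rw [h0, Nat.cast_zero] at h1
    exact helper81.irr_one_ne_zero ψ h1
  have hG0 : Nat.card G ≠ 0 := Nat.card_pos.ne'
  have hdegle : (charDegree (ψ : G → ℂ)).factorization p ≤ (Nat.card G).factorization p :=
    (Nat.factorization_le_iff_dvd hdeg0 hG0).mpr (helper82.irr_degree_dvd_card ψ) p
  have hdC := helper79.blockDefect_eq_of_isDefectClass hM hB g hg
  -- valuations of the class sizes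
  have hidx0 : ∀ y : G, (Subgroup.centralizer ({y} : Set G)).index ≠ 0 :=
    fun y => Subgroup.index_ne_zero_of_finite
  have hC0 : ∀ y : G, Nat.card (Subgroup.centralizer ({y} : Set G)) ≠ 0 :=
    fun y => Nat.card_pos.ne'
  have hsplit : ∀ y : G, (Nat.card G).factorization p
      = (Nat.card (Subgroup.centralizer ({y} : Set G))).factorization p
        + ((Subgroup.centralizer ({y} : Set G)).index).factorization p := by
    intro y
    rw [← Subgroup.card_mul_index (Subgroup.centralizer ({y} : Set G)),
      Nat.factorization_mul (hC0 y) (hidx0 y), Finsupp.add_apply]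
  have hF1 : (charDegree (ψ : G → ℂ)).factorization p
      ≤ ((Subgroup.centralizer ({g} : Set G)).index).factorization p := by
    have := hsplit g
    omega
  have hPle : P ≤ Subgroup.centralizer ({x * g} : Set G) := by
    intro q hq
    rw [Subgroup.mem_centralizer_iff]
    intro y hy
    rw [Set.mem_singleton_iff] at hy
    rw [hy]
    have h1 : x * q = q * x := hab x hxP q hq
    have h2 := hPcent q hq
    calc x * g * q = x * (g * q) := mul_assoc _ _ _
      _ = x * (q * g) := by rw [h2]
      _ = (x * q) * g := (mul_assoc _ _ _).symm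
      _ = (q * x) * g := by rw [h1]
      _ = q * (x * g) := mul_assoc _ _ _
  have hF2 : ((Subgroup.centralizer ({x * g} : Set G)).index).factorization p
      ≤ (charDegree (ψ : G → ℂ)).factorization p := by
    have h1 : p ^ blockDefect p B ∣ Nat.card (Subgroup.centralizer ({x * g} : Set G)) := by
      rw [← hPcard]
      exact Subgroup.card_dvd_of_le hPle
    have h2 : blockDefect p B
        ≤ (Nat.card (Subgroup.centralizer ({x * g} : Set G))).factorization p :=
      (hpp.pow_dvd_iff_le_factorization (hC0 _)).mp h1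
    have := hsplit (x * g)
    omega
  have hψ1 := helper82.irr_one_eq ψ
  have hdegC : ((charDegree (ψ : G → ℂ) : ℕ) : ℂ) ≠ 0 := Nat.cast_ne_zero.mpr hdeg0
  -- (i) the value at `g`
  have h1 : ¬ MemLocalIdeal M ((ψ : G → ℂ) g) := by
    intro h
    apply hg.2.2 ψ hψ
    have e : centralChar (ψ : G → ℂ) g
        = (((Subgroup.centralizer ({g} : Set G)).index : ℂ)
            / ((charDegree (ψ : G → ℂ) : ℕ) : ℂ)) * (ψ : G → ℂ) g := by
      unfold centralChar
      rw [hψ1]
      ring
    rw [e]
    exact helper20.memLocalIdeal_mul_left hMp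
      (memLocalRing_natCast_div_of_factorization_le hM _ _ (hidx0 g) hdeg0 hF1) h
  -- (ii) the value at `x * g`
  have h2 : ¬ MemLocalIdeal M ((ψ : G → ℂ) (x * g)) := by
    intro h
    apply h1
    have h3 := helper79.memLocalIdeal_char_mul_sub hM
      (helper4.isCharacter_of_isIrrCharacter ψ.2) x g hcomm j hxj
    have h4 := helper20.memLocalIdeal_sub hMp h h3
    rwa [sub_sub_cancel] at h4
  -- (iii) the central character at `x * g`
  have h3 : ¬ MemLocalIdeal M (centralChar (ψ : G → ℂ) (x * g)) := by
    intro h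
    apply h2
    have hi0 : (((Subgroup.centralizer ({x * g} : Set G)).index : ℕ) : ℂ) ≠ 0 :=
      Nat.cast_ne_zero.mpr (hidx0 _)
    have e : (ψ : G → ℂ) (x * g)
        = (((charDegree (ψ : G → ℂ) : ℕ) : ℂ)
            / ((Subgroup.centralizer ({x * g} : Set G)).index : ℂ))
          * centralChar (ψ : G → ℂ) (x * g) := by
      unfold centralChar
      rw [hψ1]
      field_simp
    rw [e]
    exact helper20.memLocalIdeal_mul_left hMp
      (memLocalRing_natCast_div_of_factorization_le hM _ _ hdeg0 (hidx0 _) hF2) h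
  -- (iv) the central character of `χ`
  have h4 : ¬ MemLocalIdeal M (centralChar (χ : G → ℂ) (x * g)) := by
    intro h
    apply h3
    have hs := helper80.sameBlock_of_mem hMp hB hψ hχ (x * g)
    have := helper20.memLocalIdeal_add hMp hs h
    rwa [sub_add_cancel] at this
  intro h0
  apply h4
  unfold centralChar
  rw [h0, mul_zero, zero_div]
  exact helper20.memLocalIdeal_zero hMp

end

end Cfsg.Agent.Lib.helper77
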