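import Mathlib
import Cfsg.Prelude.Def_Blocks
import Cfsg.Agent.Lib.helper19.AbelianOver
import Cfsg.Agent.Lib.helper19.LinChar
import Cfsg.Agent.Lib.helper82.CharQuot
import Cfsg.Agent.Lib.helper4.CharDecomp
import Cfsg.Agent.Lib.helper4.CharTheory

/-!
# Characters over an abelian quotient: irreducible restriction or vanishing (helper77)

`N` a normal subgroup of `G` with `G / N` abelian.

* `sum_linear_apply`: the sum of the linear characters of `G` trivial on `N` is `[G : N]` times
  the indicator function of `N`;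
* `classInner_restrict_eq_sum_linear`: the norm of the restriction of `χ` to `N` counts the linear
  characters `λ` of `G / N` with `χ λ = χ`;
* `exists_proper_vanish_of_restrict_not_irr`: if the restriction of `χ ∈ Irr(G)` to `N` is not
  irreducible then `χ` vanishes outside a proper subgroup containing `N`.
-/

set_option autoImplicit false

namespace Cfsg.Agent.Lib.helper77

open Cfsg
open scoped ComplexConjugate

universe u

section AbelCoverB

variable {G : Type u} [Group G] [Fintype G] (N : Subgroup G) [hN : N.Normal] [Fintype N]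

omit [Fintype N] in
open scoped Classical in
/-- The function induced from the trivial character of a normal subgroup. -/
theorem indFun_one_apply (g : G) :
    indFun N (fun _ => (1 : ℂ)) g = if g ∈ N then (N.index : ℂ) else 0 := by
  unfold indFun
  have hN0 : (Nat.card N : ℂ) ≠ 0 := Nat.cast_ne_zero.mpr Nat.card_pos.ne'
  by_cases hg : g ∈ N
  · rw [if_pos hg]
    have h1 : ∀ x : G, extendByZero N (fun _ => (1 : ℂ)) (x⁻¹ * g * x) = 1 := by
      intro x
      have hx : x⁻¹ * g * x ∈ N := by
        have := hN.conj_mem g hg x⁻¹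
        rwa [inv_inv] at this
      rw [helper19.extendByZero_of_mem N _ _ hx]
    rw [Finset.sum_congr rfl (fun x _ => h1 x), Finset.sum_const, Finset.card_univ, nsmul_eq_mul,
      mul_one, ← Nat.card_eq_fintype_card, ← Subgroup.card_mul_index N]
    push_cast
    field_simp
  · rw [if_neg hg]
    have h1 : ∀ x : G, extendByZero N (fun _ => (1 : ℂ)) (x⁻¹ * g * x) = 0 := by
      intro x
      have hx : x⁻¹ * g * x ∉ N := by
        intro h
        apply hg
        have := hN.conj_mem _ h x
        have e : x * (x⁻¹ * g * x) * x⁻¹ = g := by group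
        rwa [e] at this
      rw [helper19.extendByZero_of_not_mem N _ _ hx]
    rw [Finset.sum_congr rfl (fun x _ => h1 x), Finset.sum_const_zero, mul_zero]

omit hN in
open scoped Classical in
theorem sum_ite_mem_subgroup (f : G → ℂ) :
    ∑ g : G, (if g ∈ N then f g else 0) = ∑ n : N, f n := by
  rw [← Finset.sum_filter]
  exact Finset.sum_subtype (Finset.univ.filter (· ∈ N)) (fun x => by simp) f

/-- **Irreducible restriction or vanishing.**  Let `G / N` be abelian and `χ ∈ Irr(G)`.  If the
restriction of `χ` to `N` is not irreducible then `χ` vanishes outside a proper subgroup of `G`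
containing `N`. -/
theorem exists_proper_vanish_of_restrict_not_irr (hab : ∀ x y : G, x * y * x⁻¹ * y⁻¹ ∈ N)
    (χ : IrrCharacter G) (h : ¬ IsIrrCharacter N (fun n : N => (χ : G → ℂ) n)) :
    ∃ K : Subgroup G, N ≤ K ∧ K ≠ ⊤ ∧ ∀ y : G, y ∉ K → (χ : G → ℂ) y = 0 := by
  classical
  have : Fintype (IrrCharacter G) := Fintype.ofFinite _
  obtain ⟨A, hA⟩ : ∃ A : Finset (IrrCharacter G), A = Finset.univ.filter
      (fun lam : IrrCharacter G => ∀ x ∈ N, (lam : G → ℂ) x = (lam : G → ℂ) 1) := ⟨_, rfl⟩
  have hsum : ∀ g : G, ∑ lam ∈ A, (lam : G → ℂ) g = if g ∈ N then (N.index : ℂ) else 0 := by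
    intro g
    have h1 := congrFun (helper19.indFun_one_eq_sum_linear N hab) g
    rw [indFun_one_apply, Finset.sum_apply] at h1
    rw [hA]
    exact h1.symm
  have hlin : ∀ lam ∈ A, (lam : G → ℂ) 1 = 1 := by
    intro lam hlam
    rw [hA, Finset.mem_filter] at hlam
    exact helper19.linear_of_abelian_quot N hab _ lam.2 hlam.2
  have hex : ∃ lam ∈ A, (χ : G → ℂ) * (lam : G → ℂ) = (χ : G → ℂ) ∧
      ∃ g, (lam : G → ℂ) g ≠ 1 := by
    by_contra hcon
    push Not at hcon
    apply h
    apply helper4.isIrrCharacter_of_isCharacter_of_norm_one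
      (helper4.isCharacter_restrict N (helper4.isCharacter_of_isIrrCharacter χ.2))
    have hnorm : classInner (fun n : N => (χ : G → ℂ) n) (fun n : N => (χ : G → ℂ) n)
        = ∑ lam ∈ A, classInner ((χ : G → ℂ) * (lam : G → ℂ)) (χ : G → ℂ) := by
      unfold classInner
      rw [← Finset.mul_sum, Finset.sum_comm]
      have e : ∀ g : G, ∑ lam ∈ A, ((χ : G → ℂ) * (lam : G → ℂ)) g * conj ((χ : G → ℂ) g)
          = if g ∈ N then (N.index : ℂ) * ((χ : G → ℂ) g * conj ((χ : G → ℂ) g)) else 0 := by
        intro g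
        have h2 : ∀ lam ∈ A, ((χ : G → ℂ) * (lam : G → ℂ)) g * conj ((χ : G → ℂ) g)
            = ((χ : G → ℂ) g * conj ((χ : G → ℂ) g)) * (lam : G → ℂ) g := by
          intro lam _
          rw [Pi.mul_apply]
          ring
        rw [Finset.sum_congr rfl h2, ← Finset.mul_sum, hsum g]
        split_ifs <;> ring
      rw [Finset.sum_congr rfl (fun g _ => e g),
        sum_ite_mem_subgroup N
          (fun g => (N.index : ℂ) * ((χ : G → ℂ) g * conj ((χ : G → ℂ) g))),
        ← Finset.mul_sum, ← mul_assoc]
      congr 1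
      have hN0 : (Nat.card N : ℂ) ≠ 0 := Nat.cast_ne_zero.mpr Nat.card_pos.ne'
      have hi0 : (N.index : ℂ) ≠ 0 := Nat.cast_ne_zero.mpr Subgroup.index_ne_zero_of_finite
      rw [← Subgroup.card_mul_index N]
      push_cast
      field_simp
    rw [hnorm]
    obtain ⟨triv, htriv⟩ : ∃ triv : IrrCharacter G, ∀ g, (triv : G → ℂ) g = 1 :=
      ⟨⟨fun g => ((1 : G →* ℂˣ) g : ℂ), helper82.isIrrCharacter_of_hom 1⟩, fun g => by simp⟩
    have hterm : ∀ lam ∈ A, classInner ((χ : G → ℂ) * (lam : G → ℂ)) (χ : G → ℂ)
        = if lam = triv then 1 else 0 := by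
      intro lam hlam
      have hirr := helper19.isIrr_mul_linear (χ : G → ℂ) (lam : G → ℂ) χ.2 lam.2 (hlin lam hlam)
      rw [helper4.classInner_irr hirr χ.2]
      by_cases he : (χ : G → ℂ) * (lam : G → ℂ) = (χ : G → ℂ)
      · rw [if_pos he, if_pos]
        apply Subtype.ext
        funext g
        rw [htriv g]
        exact hcon lam hlam he g
      · rw [if_neg he, if_neg]
        rintro rfl
        apply he
        funext g
        rw [Pi.mul_apply, htriv g, mul_one]
    rw [Finset.sum_congr rfl hterm, Finset.sum_ite_eq' A triv, if_pos]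
    rw [hA, Finset.mem_filter]
    exact ⟨Finset.mem_univ _, fun x _ => by rw [htriv, htriv]⟩
  obtain ⟨lam, hlam, hfix, g₀, hg₀⟩ := hex
  obtain ⟨f, hf⟩ := helper82.exists_hom_of_linear
    (helper4.isCharacter_of_isIrrCharacter lam.2) (hlin lam hlam)
  refine ⟨f.ker, ?_, ?_, ?_⟩
  · intro n hn
    rw [MonoidHom.mem_ker]
    have hlam' := hlam
    rw [hA, Finset.mem_filter] at hlam'
    have h1 := hlam'.2 n hn
    rw [hlin lam hlam, hf n] at h1
    exact Units.ext h1
  · intro htop
    apply hg₀
    have h1 : g₀ ∈ f.ker := by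
      rw [htop]
      exact Subgroup.mem_top _
    rw [MonoidHom.mem_ker] at h1
    rw [hf g₀, h1]
    rfl
  · intro y hy
    have h1 := congrFun hfix y
    rw [Pi.mul_apply] at h1
    by_contra h0
    apply hy
    rw [MonoidHom.mem_ker]
    have h2 : (lam : G → ℂ) y = 1 := mul_left_cancel₀ h0 (h1.trans (mul_one _).symm)
    rw [hf y] at h2
    exact Units.ext h2

end AbelCoverB

end Cfsg.Agent.Lib.helper77
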