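import Mathlib
import Cfsg.Prelude.Def_Blocks
import Cfsg.Prelude.Def_BlockLocal
import Cfsg.Prelude.Def_BlockRank
import Cfsg.Agent.Lib.helper77.AbelCoverA
import Cfsg.Agent.Lib.helper77.AbelCoverB
import Cfsg.Agent.Lib.helper77.Cover2
import Cfsg.Agent.Lib.helper77.Fong
import Cfsg.Agent.Lib.helper80.ConjIrr
import Cfsg.Agent.Lib.helper82.RelGlaub2

/-!
# Blocks with abelian defect groups over a stable block of a normal subgroup of `p`-power index
(helper77)

`N` a normal subgroup of `G` of index a power of `p`, `b` a `G`-stable block of `N`, `B` the block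
of `G` covering `b`, with an abelian defect group `P`.

* `sup_eq_top_of_index`: `N P = G` and `P ∩ N` is a defect group of `b` (no commutativity needed);
* `restrict_irr_of_abelian_defect`: every `χ ∈ B` restricts irreducibly to `N`;
* `abelian_defect_pindex`: the full statement (restriction is `[G : N]`-to-one from `B` onto `b`,
  `k(B) = [G : N] k(b)`, `l(B) = l(b)`).
-/

set_option autoImplicit false

namespace Cfsg.Agent.Lib.helper77

open Cfsg
open scoped ComplexConjugate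

universe u

section AbelCoverC

variable {G : Type u} [Group G] [Fintype G] (N : Subgroup G) [hN : N.Normal] [Fintype N]

omit [Fintype G] [Fintype N] in
/-- Stability of a set of characters of `N` in terms of `cjIrr`. -/
theorem cjIrr_mem_of_stabilizesBlock {b : Set (IrrCharacter N)}
    (hstab : ∀ g : G, StabilizesBlock N b g) : ∀ g : G, ∀ θ ∈ b, cjIrr N g θ ∈ b := by
  intro g θ hθ
  rw [cjIrr_eq_conjIrr]
  exact (helper80.stabilizesBlock_iff N g (mem_normalizer_of_normal N g) b).mp (hstab g) θ hθ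

/-- For `N` of `p`-power index, a block covering `b` contains every character over `b`. -/
theorem mem_of_over_of_index {p : ℕ} [Fact p.Prime] {M : Ideal AlgInt} (hM : IsPModular p M)
    {k : ℕ} (hidx : N.index = p ^ k) {b : Set (IrrCharacter N)} (hb : IsPBlock M b)
    {B : Set (IrrCharacter G)} (hB : IsPBlock M B)
    (hcov : ∃ χ ∈ B, ∃ θ ∈ b, classInner (fun n : N => (χ : G → ℂ) n) (θ : N → ℂ) ≠ 0)
    {χ : IrrCharacter G} {θ : IrrCharacter N} (hθ : θ ∈ b)
    (h : classInner (fun n : N => (χ : G → ℂ) n) (θ : N → ℂ) ≠ 0) : χ ∈ B := by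
  have hMp : M.IsPrime := helper20.isPrime_of_isPModular hM
  obtain ⟨χ₁, hχ₁, θ₁, hθ₁, h₁⟩ := hcov
  exact mem_block_of_over_of_index N hM hidx hB hχ₁ h₁ h (helper80.sameBlock_of_mem hMp hb hθ₁ hθ)

/-- The constituents of the restriction of a character of a block covering the stable block `b`
lie in `b`. -/
theorem mem_of_constituent_of_stable {M : Ideal AlgInt} (hMp : M.IsPrime)
    {b : Set (IrrCharacter N)} (hb : IsPBlock M b)
    (hst : ∀ g : G, ∀ θ ∈ b, cjIrr N g θ ∈ b)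
    {B : Set (IrrCharacter G)} (hB : IsPBlock M B)
    (hcov : ∃ χ ∈ B, ∃ θ ∈ b, classInner (fun n : N => (χ : G → ℂ) n) (θ : N → ℂ) ≠ 0)
    {χ : IrrCharacter G} (hχ : χ ∈ B) {θ : IrrCharacter N}
    (h : classInner (fun n : N => (χ : G → ℂ) n) (θ : N → ℂ) ≠ 0) : θ ∈ b := by
  obtain ⟨χ₀, hχ₀, θ₀, hθ₀, h₀⟩ := hcov
  obtain ⟨g, hg⟩ := mem_orbitUnion_of_cover N hMp hB hb hχ₀ hθ₀ h₀ hχ h
  have := hst g⁻¹ _ hg
  rwa [cjIrr_inv_cjIrr] at this

/-- `N` of `p`-power index, `b` a stable block of `N`, `B` the block of `G` covering `b` and `P` a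
defect group of `B`: then `N P = G` and `P ∩ N` is a defect group of `b`. -/
theorem sup_eq_top_of_index {p : ℕ} [Fact p.Prime] {M : Ideal AlgInt} (hM : IsPModular p M)
    {k : ℕ} (hidx : N.index = p ^ k) {b : Set (IrrCharacter N)} (hb : IsPBlock M b)
    (hst : ∀ g : G, ∀ θ ∈ b, cjIrr N g θ ∈ b)
    {B : Set (IrrCharacter G)} (hB : IsPBlock M B)
    (hcov : ∃ χ ∈ B, ∃ θ ∈ b, classInner (fun n : N => (χ : G → ℂ) n) (θ : N → ℂ) ≠ 0)
    {P : Subgroup G} (hPD : IsDefectGroup p M B P) :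
    N ⊔ P = ⊤ ∧ IsDefectGroup p M b ((P ⊓ N).subgroupOf N) := by
  have hMp : M.IsPrime := helper20.isPrime_of_isPModular hM
  have hpp : p.Prime := Fact.out
  have hmax : ∀ B' : Set (IrrCharacter G), IsPBlock M B' →
      (∃ χ ∈ B', ∃ θ ∈ b, classInner (fun n : N => (χ : G → ℂ) n) (θ : N → ℂ) ≠ 0) →
      blockDefect p B' ≤ blockDefect p B := by
    intro B' hB' hcov'
    obtain ⟨χ', hχ', θ', hθ', h'⟩ := hcov'
    have h1 : χ' ∈ B := mem_of_over_of_index N hM hidx hb hB hcov hθ' h'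
    rw [helper80.isPBlock_eq_of_mem hMp hB' hB hχ' h1]
  obtain ⟨h1, h2, -⟩ := fong_main N hM hb hst hB hcov hmax hPD
  refine ⟨?_, h2⟩
  have hdvd : (P ⊔ N).index ∣ p ^ k := by
    rw [← hidx]
    exact Subgroup.index_dvd_of_le le_sup_right
  obtain ⟨j, -, hj⟩ := (Nat.dvd_prime_pow hpp).mp hdvd
  have hj0 : j = 0 := by
    by_contra hne
    apply h1
    rw [hj]
    exact dvd_pow_self p hne
  rw [hj0, pow_zero] at hj
  rw [sup_comm]
  exact Subgroup.index_eq_one.mp hj

omit [Fintype G] [Fintype N] in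
/-- If `N P = G` with `P` abelian then `G / N` is abelian. -/
theorem commutator_mem_of_sup_eq_top {P : Subgroup G} (hsup : N ⊔ P = ⊤)
    (hPab : ∀ x ∈ P, ∀ y ∈ P, x * y = y * x) : ∀ x y : G, x * y * x⁻¹ * y⁻¹ ∈ N := by
  have key : ∀ x : G, ∃ q ∈ P, (x : G ⧸ N) = (q : G ⧸ N) := by
    intro x
    have hx : x ∈ ((N ⊔ P : Subgroup G) : Set G) := by
      rw [hsup]
      exact Subgroup.mem_top x
    rw [Subgroup.normal_mul] at hx
    obtain ⟨n, hn, q, hq, rfl⟩ := Set.mem_mul.mp hx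
    refine ⟨q, hq, ?_⟩
    rw [QuotientGroup.mk_mul, (QuotientGroup.eq_one_iff n).mpr hn, one_mul]
  intro x y
  obtain ⟨q, hq, hx⟩ := key x
  obtain ⟨q', hq', hy⟩ := key y
  rw [← QuotientGroup.eq_one_iff, QuotientGroup.mk_mul, QuotientGroup.mk_mul,
    QuotientGroup.mk_mul, QuotientGroup.mk_inv, QuotientGroup.mk_inv, hx, hy]
  have hc : (q : G ⧸ N) * (q' : G ⧸ N) = (q' : G ⧸ N) * (q : G ⧸ N) := by
    rw [← QuotientGroup.mk_mul, ← QuotientGroup.mk_mul, hPab q hq q' hq']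
  rw [hc]
  group

/-- **Irreducible restriction.**  `N` of `p`-power index, `b` a stable block of `N`, `B` the block
of `G` covering `b`, with an abelian defect group: every character in `B` restricts irreducibly to
`N`. -/
theorem restrict_irr_of_abelian_defect {p : ℕ} [Fact p.Prime] {M : Ideal AlgInt}
    (hM : IsPModular p M)
    {k : ℕ} (hidx : N.index = p ^ k) {b : Set (IrrCharacter N)} (hb : IsPBlock M b)
    (hst : ∀ g : G, ∀ θ ∈ b, cjIrr N g θ ∈ b)
    {B : Set (IrrCharacter G)} (hB : IsPBlock M B)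
    (hcov : ∃ χ ∈ B, ∃ θ ∈ b, classInner (fun n : N => (χ : G → ℂ) n) (θ : N → ℂ) ≠ 0)
    {P : Subgroup G} (hPD : IsDefectGroup p M B P) (hPab : ∀ x ∈ P, ∀ y ∈ P, x * y = y * x)
    {χ : IrrCharacter G} (hχ : χ ∈ B) : IsIrrCharacter N (fun n : N => (χ : G → ℂ) n) := by
  obtain ⟨hsup, -⟩ := sup_eq_top_of_index N hM hidx hb hst hB hcov hPD
  have hab := commutator_mem_of_sup_eq_top N hsup hPab
  by_contra hnot
  obtain ⟨K, hNK, hKtop, hvan⟩ := exists_proper_vanish_of_restrict_not_irr N hab χ hnot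
  have hPK : ¬ P ≤ K := by
    intro hPK
    apply hKtop
    rw [eq_top_iff, ← hsup]
    exact sup_le hNK hPK
  obtain ⟨y, hyK, hy⟩ := exists_ne_zero_not_mem_of_abelian_defect hM hB hPD hPab K hPK hχ
  exact hy (hvan y hyK)

omit hN [Fintype G] in
/-- A character whose restriction to `N` is irreducible and contains `θ` restricts to `θ`. -/
theorem restrict_eq_of_irr_of_inner_ne_zero {χ : G → ℂ}
    (hirr : IsIrrCharacter N (fun n : N => χ n)) {θ : IrrCharacter N}
    (h : classInner (fun n : N => χ n) (θ : N → ℂ) ≠ 0) : ∀ n : N, χ n = (θ : N → ℂ) n := by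
  intro n
  by_contra hne
  apply h
  apply helper4.classInner_irr_ne hirr θ.2
  intro he
  exact hne (congrFun he n)

/-- A character of `N` of a block covered by `B` extends to a character in `B` (abelian defect
group, `p`-power index, stable block). -/
theorem exists_extension_of_abelian_defect {p : ℕ} [Fact p.Prime] {M : Ideal AlgInt}
    (hM : IsPModular p M)
    {k : ℕ} (hidx : N.index = p ^ k) {b : Set (IrrCharacter N)} (hb : IsPBlock M b)
    (hst : ∀ g : G, ∀ θ ∈ b, cjIrr N g θ ∈ b)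
    {B : Set (IrrCharacter G)} (hB : IsPBlock M B)
    (hcov : ∃ χ ∈ B, ∃ θ ∈ b, classInner (fun n : N => (χ : G → ℂ) n) (θ : N → ℂ) ≠ 0)
    {P : Subgroup G} (hPD : IsDefectGroup p M B P) (hPab : ∀ x ∈ P, ∀ y ∈ P, x * y = y * x)
    {θ : IrrCharacter N} (hθ : θ ∈ b) :
    ∃ χ ∈ B, ∀ n : N, (χ : G → ℂ) n = (θ : N → ℂ) n := by
  obtain ⟨χ₀, hχ₀, h₀⟩ := exists_over_of_cover N hM hB hb hcov hθ
  exact ⟨χ₀, hχ₀, restrict_eq_of_irr_of_inner_ne_zero N
    (restrict_irr_of_abelian_defect N hM hidx hb hst hB hcov hPD hPab hχ₀) h₀⟩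

omit [Fintype G] [Fintype N] in
theorem quotient_comm_of_commutator_mem (hab : ∀ x y : G, x * y * x⁻¹ * y⁻¹ ∈ N) :
    ∀ a c : G ⧸ N, a * c = c * a := by
  intro a c
  induction a using QuotientGroup.induction_on with
  | H x =>
    induction c using QuotientGroup.induction_on with
    | H y =>
      rw [← QuotientGroup.mk_mul, ← QuotientGroup.mk_mul, QuotientGroup.eq]
      have h := hab y⁻¹ x⁻¹
      rw [inv_inv, inv_inv] at h
      have e : (x * y)⁻¹ * (y * x) = y⁻¹ * x⁻¹ * y * x := by group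
      rw [e]
      exact h

/-- **Counting extensions.**  Every `θ ∈ b` is the restriction of exactly `[G : N]` members of
`B`. -/
theorem card_extensions_of_abelian_defect {p : ℕ} [Fact p.Prime] {M : Ideal AlgInt}
    (hM : IsPModular p M)
    {k : ℕ} (hidx : N.index = p ^ k) {b : Set (IrrCharacter N)} (hb : IsPBlock M b)
    (hst : ∀ g : G, ∀ θ ∈ b, cjIrr N g θ ∈ b)
    {B : Set (IrrCharacter G)} (hB : IsPBlock M B)
    (hcov : ∃ χ ∈ B, ∃ θ ∈ b, classInner (fun n : N => (χ : G → ℂ) n) (θ : N → ℂ) ≠ 0)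
    {P : Subgroup G} (hPD : IsDefectGroup p M B P) (hPab : ∀ x ∈ P, ∀ y ∈ P, x * y = y * x)
    {θ : IrrCharacter N} (hθ : θ ∈ b) :
    Nat.card {χ : IrrCharacter G // χ ∈ B ∧ ∀ n : N, (χ : G → ℂ) n = (θ : N → ℂ) n}
      = N.index := by
  obtain ⟨hsup, -⟩ := sup_eq_top_of_index N hM hidx hb hst hB hcov hPD
  have hab := commutator_mem_of_sup_eq_top N hsup hPab
  have hQc := quotient_comm_of_commutator_mem N hab
  obtain ⟨χ₀, hχ₀, h₀⟩ := exists_extension_of_abelian_defect N hM hidx hb hst hB hcov hPD hPab hθ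
  have hirr₀ : IsIrrCharacter N (fun n : N => (χ₀ : G → ℂ) n) := by
    have e : (fun n : N => (χ₀ : G → ℂ) n) = (θ : N → ℂ) := funext h₀
    rw [e]
    exact θ.2
  have hres : ∀ (β : IrrCharacter (G ⧸ N)) (n : N),
      ((χ₀ : G → ℂ) * fun g : G => (β : G ⧸ N → ℂ) (g : G ⧸ N)) n = (θ : N → ℂ) n := by
    intro β n
    rw [helper82.mul_quot_apply_mem N (χ₀ : G → ℂ) (β : G ⧸ N → ℂ) n n.2,
      helper82.irr_one_of_commutative hQc β.2, one_mul, h₀ n]
  have hmemB : ∀ β : IrrCharacter (G ⧸ N),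
      (⟨(χ₀ : G → ℂ) * fun g : G => (β : G ⧸ N → ℂ) (g : G ⧸ N),
        helper82.isIrr_mul_quot N (χ₀ : G → ℂ) χ₀.2 hirr₀ β⟩ : IrrCharacter G) ∈ B := by
    intro β
    apply mem_of_over_of_index N hM hidx hb hB hcov hθ
    have e : (fun n : N => ((χ₀ : G → ℂ) * fun g : G => (β : G ⧸ N → ℂ) (g : G ⧸ N)) n)
        = (θ : N → ℂ) := funext (hres β)
    show classInner (fun n : N => ((χ₀ : G → ℂ) * fun g : G => (β : G ⧸ N → ℂ) (g : G ⧸ N)) n)
      (θ : N → ℂ) ≠ 0
    rw [e, helper4.classInner_irr_self θ.2]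
    exact one_ne_zero
  obtain ⟨f, hf⟩ : ∃ f : IrrCharacter (G ⧸ N) →
      {χ : IrrCharacter G // χ ∈ B ∧ ∀ n : N, (χ : G → ℂ) n = (θ : N → ℂ) n},
      ∀ β, ((f β : IrrCharacter G) : G → ℂ)
        = (χ₀ : G → ℂ) * fun g : G => (β : G ⧸ N → ℂ) (g : G ⧸ N) :=
    ⟨fun β => ⟨⟨(χ₀ : G → ℂ) * fun g : G => (β : G ⧸ N → ℂ) (g : G ⧸ N),
        helper82.isIrr_mul_quot N (χ₀ : G → ℂ) χ₀.2 hirr₀ β⟩, hmemB β, hres β⟩, fun β => rfl⟩
  have hbij : Function.Bijective f := by
    constructor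
    · intro β β' h
      apply helper82.mul_quot_injective N (χ₀ : G → ℂ) χ₀.2 hirr₀ β β'
      rw [← hf β, ← hf β', h]
    · rintro ⟨χ, hχB, hχθ⟩
      obtain ⟨β, hβ⟩ := helper82.gallagher_quot N (χ₀ : G → ℂ) χ₀.2 hirr₀ (χ : G → ℂ) χ.2 1
        one_ne_zero (fun n => by rw [one_mul, hχθ n, h₀ n])
      refine ⟨β, ?_⟩
      apply Subtype.ext
      apply Subtype.ext
      rw [hf β]
      exact hβ.symm
  rw [← Nat.card_eq_of_bijective f hbij, helper82.card_irr_of_commutative hQc]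
  rfl

/-- **Counting characters.**  `k(B) = [G : N] k(b)`. -/
theorem card_block_of_abelian_defect {p : ℕ} [Fact p.Prime] {M : Ideal AlgInt}
    (hM : IsPModular p M)
    {k : ℕ} (hidx : N.index = p ^ k) {b : Set (IrrCharacter N)} (hb : IsPBlock M b)
    (hst : ∀ g : G, ∀ θ ∈ b, cjIrr N g θ ∈ b)
    {B : Set (IrrCharacter G)} (hB : IsPBlock M B)
    (hcov : ∃ χ ∈ B, ∃ θ ∈ b, classInner (fun n : N => (χ : G → ℂ) n) (θ : N → ℂ) ≠ 0)
    {P : Subgroup G} (hPD : IsDefectGroup p M B P) (hPab : ∀ x ∈ P, ∀ y ∈ P, x * y = y * x) :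
    Nat.card B = N.index * Nat.card b := by
  classical
  have hMp : M.IsPrime := helper20.isPrime_of_isPModular hM
  have : Fintype b := Fintype.ofFinite _
  have hirr : ∀ χ ∈ B, IsIrrCharacter N (fun n : N => (χ : G → ℂ) n) :=
    fun χ hχ => restrict_irr_of_abelian_defect N hM hidx hb hst hB hcov hPD hPab hχ
  have hmem : ∀ (χ : IrrCharacter G) (hχ : χ ∈ B),
      (⟨fun n : N => (χ : G → ℂ) n, hirr χ hχ⟩ : IrrCharacter N) ∈ b := by
    intro χ hχ
    apply mem_of_constituent_of_stable N hMp hb hst hB hcov hχ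
    show classInner (fun n : N => (χ : G → ℂ) n) (fun n : N => (χ : G → ℂ) n) ≠ 0
    rw [helper4.classInner_irr_self (hirr χ hχ)]
    exact one_ne_zero
  obtain ⟨r, hr⟩ : ∃ r : B → b, ∀ (χ : B) (n : N),
      (((r χ : b) : IrrCharacter N) : N → ℂ) n = ((χ : IrrCharacter G) : G → ℂ) n :=
    ⟨fun χ => ⟨⟨fun n : N => ((χ : IrrCharacter G) : G → ℂ) n, hirr χ.1 χ.2⟩, hmem χ.1 χ.2⟩,
      fun χ n => rfl⟩
  have hfib : ∀ θ : b, Nat.card {χ : B // r χ = θ} = N.index := by
    intro θ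
    rw [← card_extensions_of_abelian_defect N hM hidx hb hst hB hcov hPD hPab θ.2]
    apply Nat.card_congr
    refine ⟨fun χ => ⟨χ.1.1, χ.1.2, fun n => ?_⟩, fun χ => ⟨⟨χ.1, χ.2.1⟩, ?_⟩, ?_, ?_⟩
    · rw [← hr χ.1 n, χ.2]
    · apply Subtype.ext
      apply Subtype.ext
      funext n
      rw [hr ⟨χ.1, χ.2.1⟩ n]
      exact χ.2.2 n
    · intro χ
      rfl
    · intro χ
      rfl
  rw [← Nat.card_congr (Equiv.sigmaFiberEquiv r), Nat.card_sigma,
    Finset.sum_congr rfl (fun θ _ => hfib θ), Finset.sum_const, Finset.card_univ,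
    smul_eq_mul, Nat.card_eq_fintype_card, mul_comm]

open scoped Classical in
/-- Extension by zero as a linear map. -/
noncomputable def extZeroLin : (N → ℂ) →ₗ[ℂ] (G → ℂ) where
  toFun f := fun g => if h : g ∈ N then f ⟨g, h⟩ else 0
  map_add' f₁ f₂ := by
    funext g
    by_cases h : g ∈ N
    · simp [h]
    · simp [h]
  map_smul' c f := by
    funext g
    by_cases h : g ∈ N
    · simp [h]
    · simp [h]

omit [Fintype G] hN [Fintype N] in
theorem extZeroLin_injective : Function.Injective (extZeroLin N : (N → ℂ) →ₗ[ℂ] (G → ℂ)) := by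
  classical
  intro f₁ f₂ h
  funext n
  have h1 := congrFun h (n : G)
  simp only [extZeroLin, LinearMap.coe_mk, AddHom.coe_mk, dif_pos n.2] at h1
  exact h1

omit [Fintype N] in
/-- For `N` of `p`-power index, the `p`-regular part of a character of `G` is the extension by
zero of the `p`-regular part of its restriction to `N`. -/
theorem extZeroLin_pRegularPart {p : ℕ} [Fact p.Prime] {k : ℕ} (hidx : N.index = p ^ k)
    (χ : G → ℂ) (θ : N → ℂ) (h : ∀ n : N, χ n = θ n) :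
    extZeroLin N (pRegularPart p θ) = pRegularPart p χ := by
  classical
  funext g
  simp only [extZeroLin, LinearMap.coe_mk, AddHom.coe_mk]
  by_cases hg : g ∈ N
  · rw [dif_pos hg]
    unfold pRegularPart IsPRegular
    have ho : orderOf (⟨g, hg⟩ : N) = orderOf g := Subgroup.orderOf_mk g hg
    rw [ho]
    by_cases hreg : ¬ p ∣ orderOf g
    · rw [if_pos hreg, if_pos hreg]
      exact (h ⟨g, hg⟩).symm
    · rw [if_neg hreg, if_neg hreg]
  · rw [dif_neg hg]
    unfold pRegularPart IsPRegular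
    rw [if_neg (not_not.mpr (dvd_orderOf_of_not_mem_of_index N hidx hg))]

/-- **Equal ranks.**  `l(B) = l(b)`. -/
theorem blockRank_eq_of_abelian_defect {p : ℕ} [Fact p.Prime] {M : Ideal AlgInt}
    (hM : IsPModular p M)
    {k : ℕ} (hidx : N.index = p ^ k) {b : Set (IrrCharacter N)} (hb : IsPBlock M b)
    (hst : ∀ g : G, ∀ θ ∈ b, cjIrr N g θ ∈ b)
    {B : Set (IrrCharacter G)} (hB : IsPBlock M B)
    (hcov : ∃ χ ∈ B, ∃ θ ∈ b, classInner (fun n : N => (χ : G → ℂ) n) (θ : N → ℂ) ≠ 0)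
    {P : Subgroup G} (hPD : IsDefectGroup p M B P) (hPab : ∀ x ∈ P, ∀ y ∈ P, x * y = y * x) :
    blockRank p B = blockRank p b := by
  classical
  have hMp : M.IsPrime := helper20.isPrime_of_isPModular hM
  have himg : (fun χ : IrrCharacter G => pRegularPart p (χ : G → ℂ)) '' B
      = (extZeroLin N : (N → ℂ) →ₗ[ℂ] (G → ℂ)) ''
        ((fun θ : IrrCharacter N => pRegularPart p (θ : N → ℂ)) '' b) := by
    ext v
    constructor
    · rintro ⟨χ, hχ, rfl⟩
      have hirr := restrict_irr_of_abelian_defect N hM hidx hb hst hB hcov hPD hPab hχ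
      have hθb : (⟨fun n : N => (χ : G → ℂ) n, hirr⟩ : IrrCharacter N) ∈ b := by
        apply mem_of_constituent_of_stable N hMp hb hst hB hcov hχ
        show classInner (fun n : N => (χ : G → ℂ) n) (fun n : N => (χ : G → ℂ) n) ≠ 0
        rw [helper4.classInner_irr_self hirr]
        exact one_ne_zero
      refine ⟨_, ⟨⟨fun n : N => (χ : G → ℂ) n, hirr⟩, hθb, rfl⟩, ?_⟩
      exact extZeroLin_pRegularPart N hidx (χ : G → ℂ) _ (fun n => rfl)
    · rintro ⟨w, ⟨θ, hθ, rfl⟩, rfl⟩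
      obtain ⟨χ, hχ, h⟩ :=
        exists_extension_of_abelian_defect N hM hidx hb hst hB hcov hPD hPab hθ
      exact ⟨χ, hχ, (extZeroLin_pRegularPart N hidx (χ : G → ℂ) (θ : N → ℂ) h).symm⟩
  unfold blockRank
  rw [himg, ← Submodule.map_span]
  exact (LinearEquiv.finrank_eq (Submodule.equivMapOfInjective (extZeroLin N)
    (extZeroLin_injective N) _)).symm

/-- **Blocks with abelian defect groups over a stable block of a normal subgroup of `p`-power
index.** -/
theorem abelian_defect_pindex (p : ℕ) [Fact p.Prime] (M : Ideal AlgInt) (hM : IsPModular p M)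
    (hNi : ∃ k : ℕ, N.index = p ^ k) (b : Set (IrrCharacter N)) (hb : IsPBlock M b)
    (hstab : ∀ g : G, StabilizesBlock N b g) (B : Set (IrrCharacter G)) (hB : IsPBlock M B)
    (hcov : ∃ χ ∈ B, ∃ θ ∈ b, classInner (fun n : N => (χ : G → ℂ) n) (θ : N → ℂ) ≠ 0)
    (P : Subgroup G) (hPD : IsDefectGroup p M B P) (hPab : ∀ x ∈ P, ∀ y ∈ P, x * y = y * x) :
    N ⊔ P = ⊤ ∧ IsDefectGroup p M b ((P ⊓ N).subgroupOf N) ∧
      (∀ χ ∈ B, ∃ θ ∈ b, ∀ n : N, (χ : G → ℂ) n = (θ : N → ℂ) n) ∧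
      (∀ θ ∈ b, Nat.card {χ : IrrCharacter G // χ ∈ B ∧
        ∀ n : N, (χ : G → ℂ) n = (θ : N → ℂ) n} = N.index) ∧
      Nat.card B = N.index * Nat.card b ∧ blockRank p B = blockRank p b := by
  have hMp : M.IsPrime := helper20.isPrime_of_isPModular hM
  obtain ⟨k, hidx⟩ := hNi
  have hst := cjIrr_mem_of_stabilizesBlock N hstab
  obtain ⟨h1, h2⟩ := sup_eq_top_of_index N hM hidx hb hst hB hcov hPD
  refine ⟨h1, h2, ?_, ?_, ?_, ?_⟩
  · intro χ hχ
    have hirr := restrict_irr_of_abelian_defect N hM hidx hb hst hB hcov hPD hPab hχ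
    refine ⟨⟨fun n : N => (χ : G → ℂ) n, hirr⟩, ?_, fun n => rfl⟩
    apply mem_of_constituent_of_stable N hMp hb hst hB hcov hχ
    show classInner (fun n : N => (χ : G → ℂ) n) (fun n : N => (χ : G → ℂ) n) ≠ 0
    rw [helper4.classInner_irr_self hirr]
    exact one_ne_zero
  · intro θ hθ
    exact card_extensions_of_abelian_defect N hM hidx hb hst hB hcov hPD hPab hθ
  · exact card_block_of_abelian_defect N hM hidx hb hst hB hcov hPD hPab
  · exact blockRank_eq_of_abelian_defect N hM hidx hb hst hB hcov hPD hPab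

end AbelCoverC

end Cfsg.Agent.Lib.helper77
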