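import Mathlib
import Cfsg.Agent.Lib.helper40.BGO00

/-! S4504 split (helper2 / helper84), sub-piece R12: `R_quot_sylow`. -/

set_option autoImplicit false

namespace Cfsg.Agent.Lib.helper2.BG

universe u

/-- `P ∩ Z(G) = 1` when `|P| = p` and `G` has no normal subgroup of order `p`. -/
theorem helper77_bg_inter_center {G : Type u} [Group G] [Finite G] (p : ℕ) [Fact p.Prime]
    (hnn : ∀ H : Subgroup G, H.Normal → Nat.card H ≠ p) (P : Sylow p G)
    (hP : Nat.card P = p) :
    ∀ w : G, w ∈ (P : Subgroup G) → w ∈ Subgroup.center G → w = 1 := by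
  have hp : p.Prime := Fact.out
  intro w hwP hwZ
  by_contra hw1
  have hle : Subgroup.zpowers w ≤ (P : Subgroup G) := by
    rw [Subgroup.zpowers_le]
    exact hwP
  have hord : orderOf w = p := by
    have h0 := Subgroup.orderOf_dvd_natCard (P : Subgroup G) hwP
    rw [hP] at h0
    rcases (Nat.dvd_prime hp).mp h0 with h | h
    · exact absurd (orderOf_eq_one_iff.mp h) hw1
    · exact h
  have heq : Subgroup.zpowers w = (P : Subgroup G) := by
    apply Subgroup.eq_of_le_of_card_ge hle
    rw [Nat.card_zpowers, hord]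
    exact le_of_eq hP
  have hPle : (P : Subgroup G) ≤ Subgroup.center G := by
    rw [← heq, Subgroup.zpowers_le]
    exact hwZ
  have hnorm : (P : Subgroup G).Normal := by
    constructor
    intro n hn g
    have h1 : g * n * g⁻¹ = n := by
      have h2 := Subgroup.mem_center_iff.mp (hPle hn) g
      rw [h2, mul_assoc, mul_inv_cancel, mul_one]
    rw [h1]
    exact hn
  exact hnn _ hnorm hP

/-- The centre is a `p'`-group. -/
theorem helper77_bg_center_preg {G : Type u} [Group G] [Finite G] (p : ℕ) [Fact p.Prime]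
    (hnn : ∀ H : Subgroup G, H.Normal → Nat.card H ≠ p) (P : Sylow p G)
    (hP : Nat.card P = p) : ∀ z ∈ Subgroup.center G, ¬ p ∣ orderOf z := by
  have hp : p.Prime := Fact.out
  have : Fintype G := Fintype.ofFinite G
  have hne : ∃ x : G, x ∈ (P : Subgroup G) ∧ x ≠ 1 := by
    by_contra hcon
    have hbot : (P : Subgroup G) = ⊥ := by
      rw [Subgroup.eq_bot_iff_forall]
      intro y hy
      by_contra hy1
      exact hcon ⟨y, hy, hy1⟩
    have h1 : Nat.card (P : Subgroup G) = 1 := by
      rw [hbot]
      exact Subgroup.card_bot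
    have h2 : Nat.card (P : Subgroup G) = p := hP
    rw [h2] at h1
    exact hp.one_lt.ne' h1
  obtain ⟨x, hxP, hx1⟩ := hne
  exact center_preg p P hP x hxP hx1
    (fun hxc => hx1 (helper77_bg_inter_center p hnn P hP x hxP hxc))

/-- Elements of `P` have `p`-th power `1`. -/
theorem helper77_bg_pow_eq_one {G : Type u} [Group G] (p : ℕ) (P : Sylow p G)
    (hP : Nat.card P = p) (u : G) (hu : u ∈ (P : Subgroup G)) : u ^ p = 1 := by
  have h0 := Subgroup.orderOf_dvd_natCard (P : Subgroup G) hu
  have h2 : Nat.card (P : Subgroup G) = p := hP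
  rw [h2] at h0
  exact orderOf_dvd_iff_pow_eq_one.mp h0

/-- An element of order dividing `p` which is congruent modulo the centre to an element of
`P` is equal to it. -/
theorem helper77_bg_eq_of_mk_eq {G : Type u} [Group G] [Finite G] (p : ℕ) [Fact p.Prime]
    (hnn : ∀ H : Subgroup G, H.Normal → Nat.card H ≠ p) (P : Sylow p G)
    (hP : Nat.card P = p) (u : G) (hu : u ∈ (P : Subgroup G)) (y : G) (hy : y ^ p = 1)
    (h : QuotientGroup.mk' (Subgroup.center G) u = QuotientGroup.mk' (Subgroup.center G) y) :
    y = u := by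
  have hp : p.Prime := Fact.out
  have hz : u⁻¹ * y ∈ Subgroup.center G := by
    have h1 : ((u : G) : G ⧸ Subgroup.center G) = ((y : G) : G ⧸ Subgroup.center G) := h
    exact QuotientGroup.eq.mp h1
  have hup : u ^ p = 1 := helper77_bg_pow_eq_one p P hP u hu
  have hcomm : Commute u⁻¹ y := by
    have h1 := Subgroup.mem_center_iff.mp hz u⁻¹
    -- h1 : u⁻¹ * (u⁻¹ * y) = u⁻¹ * y * u⁻¹
    have h2 : u⁻¹ * y = y * u⁻¹ := by
      have h3 : u⁻¹ * (u⁻¹ * y) = u⁻¹ * (y * u⁻¹) := by
        rw [h1, mul_assoc]
      exact mul_left_cancel h3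
    exact h2
  have hzp : (u⁻¹ * y) ^ p = 1 := by
    rw [hcomm.mul_pow, inv_pow, hup, hy, inv_one, one_mul]
  have hord : orderOf (u⁻¹ * y) ∣ p := orderOf_dvd_of_pow_eq_one hzp
  have hnd := helper77_bg_center_preg p hnn P hP _ hz
  rcases (Nat.dvd_prime hp).mp hord with h1 | h1
  · have h2 := orderOf_eq_one_iff.mp h1
    exact (inv_mul_eq_one.mp h2).symm
  · exact absurd (by rw [h1]) hnd

/-- An element of order dividing `p` whose image modulo the centre lies in the image of `P`
lies in `P`. -/
theorem helper77_bg_mem_of_mk_mem {G : Type u} [Group G] [Finite G] (p : ℕ) [Fact p.Prime]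
    (hnn : ∀ H : Subgroup G, H.Normal → Nat.card H ≠ p) (P : Sylow p G)
    (hP : Nat.card P = p) (y : G) (hy : y ^ p = 1)
    (h : QuotientGroup.mk' (Subgroup.center G) y ∈
      (P : Subgroup G).map (QuotientGroup.mk' (Subgroup.center G))) :
    y ∈ (P : Subgroup G) := by
  obtain ⟨u, hu, hu2⟩ := Subgroup.mem_map.mp h
  have h1 := helper77_bg_eq_of_mk_eq p hnn P hP u hu y hy hu2
  rw [h1]
  exact hu

/-- R12 (V7a): the image of `P` in `G / Z(G)` is a self-centralizing Sylow `p`-subgroup of
order `p`. -/
theorem helper77_R_quot_sylow {G : Type u} [Group G] [Finite G] (p : ℕ) [Fact p.Prime]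
    (hnn : ∀ H : Subgroup G, H.Normal → Nat.card H ≠ p) (P : Sylow p G)
    (hP : Nat.card P = p)
    (hK : ∀ k ∈ Subgroup.centralizer ((P : Subgroup G) : Set G), ¬ p ∣ orderOf k →
      k ∈ Subgroup.center G) :
    ∃ Q : Sylow p (G ⧸ Subgroup.center G),
      (Q : Subgroup (G ⧸ Subgroup.center G)) =
        (P : Subgroup G).map (QuotientGroup.mk' (Subgroup.center G)) ∧
      Nat.card Q = p ∧
      Subgroup.centralizer ((Q : Subgroup (G ⧸ Subgroup.center G)) :
        Set (G ⧸ Subgroup.center G)) = (Q : Subgroup (G ⧸ Subgroup.center G)) := by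
  have hp : p.Prime := Fact.out
  have hsurj : Function.Surjective (QuotientGroup.mk' (Subgroup.center G)) :=
    QuotientGroup.mk'_surjective _
  have hQc : ((P.mapSurjective hsurj : Sylow p (G ⧸ Subgroup.center G)) :
      Subgroup (G ⧸ Subgroup.center G)) =
        (P : Subgroup G).map (QuotientGroup.mk' (Subgroup.center G)) :=
    Sylow.coe_mapSurjective hsurj P
  refine ⟨P.mapSurjective hsurj, hQc, ?_, ?_⟩
  · -- cardinality
    have hbij : Function.Bijective (fun a : ↥(P : Subgroup G) =>
        (⟨QuotientGroup.mk' (Subgroup.center G) (a : G),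
          Subgroup.mem_map_of_mem _ a.2⟩ :
          ↥((P : Subgroup G).map (QuotientGroup.mk' (Subgroup.center G))))) := by
      constructor
      · rintro ⟨a, ha⟩ ⟨b, hb⟩ h
        have h1 : QuotientGroup.mk' (Subgroup.center G) a =
            QuotientGroup.mk' (Subgroup.center G) b := congrArg Subtype.val h
        have h2 := helper77_bg_eq_of_mk_eq p hnn P hP a ha b
          (helper77_bg_pow_eq_one p P hP b hb) h1
        exact Subtype.ext h2.symm
      · rintro ⟨b, hb⟩
        obtain ⟨a, ha, rfl⟩ := Subgroup.mem_map.mp hb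
        exact ⟨⟨a, ha⟩, rfl⟩
    have h1 : Nat.card ↥((P : Subgroup G).map (QuotientGroup.mk' (Subgroup.center G))) = p := by
      rw [← Nat.card_congr (Equiv.ofBijective _ hbij)]
      exact hP
    have h2 : Nat.card ↥((P.mapSurjective hsurj : Sylow p (G ⧸ Subgroup.center G)) :
        Subgroup (G ⧸ Subgroup.center G)) = p := by
      rw [hQc]
      exact h1
    exact h2
  · -- self-centralizing
    rw [hQc]
    apply le_antisymm
    · intro gb hgb
      obtain ⟨g, rfl⟩ := hsurj gb
      -- `g` centralizes `P`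
      have hgC : g ∈ Subgroup.centralizer ((P : Subgroup G) : Set G) := by
        rw [Subgroup.mem_centralizer_iff]
        intro x hx
        have hxQ : QuotientGroup.mk' (Subgroup.center G) x ∈
            (((P : Subgroup G).map (QuotientGroup.mk' (Subgroup.center G)) :
              Subgroup (G ⧸ Subgroup.center G)) : Set (G ⧸ Subgroup.center G)) :=
          Subgroup.mem_map_of_mem _ hx
        have h1 := Subgroup.mem_centralizer_iff.mp hgb _ hxQ
        -- h1 : mk x * mk g = mk g * mk x
        have h2 : QuotientGroup.mk' (Subgroup.center G) x =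
            QuotientGroup.mk' (Subgroup.center G) (g * x * g⁻¹) := by
          rw [map_mul, map_mul, ← h1, map_inv, mul_assoc, mul_inv_cancel, mul_one]
        have h3 : (g * x * g⁻¹) ^ p = 1 := by
          rw [conj_pow, helper77_bg_pow_eq_one p P hP x hx, mul_one, mul_inv_cancel]
        have h4 := helper77_bg_eq_of_mk_eq p hnn P hP x hx _ h3 h2
        -- h4 : g * x * g⁻¹ = x
        exact (mul_inv_eq_iff_eq_mul.mp h4).symm
      -- the `p'`-part of `g` is central
      have hn0 : orderOf g ≠ 0 := (orderOf_pos g).ne'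
      have hv : ¬ p ∣ orderOf (g ^ (p ^ (orderOf g).factorization p)) := by
        have h0 : orderOf (g ^ (p ^ (orderOf g).factorization p)) =
            orderOf g / p ^ (orderOf g).factorization p :=
          orderOf_pow_of_dvd (pow_ne_zero _ hp.ne_zero) (Nat.ordProj_dvd (orderOf g) p)
        rw [h0]
        exact Nat.not_dvd_ordCompl hp hn0
      have hvZ : g ^ (p ^ (orderOf g).factorization p) ∈ Subgroup.center G :=
        hK _ (pow_mem hgC _) hv
      have h5 : (QuotientGroup.mk' (Subgroup.center G) g) ^ (p ^ (orderOf g).factorization p)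
          = 1 := by
        rw [← map_pow]
        exact (QuotientGroup.eq_one_iff _).mpr hvZ
      have h6 := helper40_mem_sylow_of_mem_centralizer p (P.mapSurjective hsurj)
        (QuotientGroup.mk' (Subgroup.center G) g) (by rw [hQc]; exact hgb)
        ((orderOf g).factorization p) h5
      rw [hQc] at h6
      exact h6
    · intro gb hgb
      rw [Subgroup.mem_centralizer_iff]
      intro hb hhb
      obtain ⟨a, ha, rfl⟩ := Subgroup.mem_map.mp hgb
      obtain ⟨b, hb', rfl⟩ := Subgroup.mem_map.mp hhb
      have hcyc : IsCyclic ↥(P : Subgroup G) := isCyclic_of_prime_card hP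
      have h0 := (isMulCommutative_iff.mp (IsCyclic.isMulCommutative (α := ↥(P : Subgroup G))))
        ⟨b, hb'⟩ ⟨a, ha⟩
      have h1 : b * a = a * b := congrArg Subtype.val h0
      rw [← map_mul, ← map_mul, h1]

end Cfsg.Agent.Lib.helper2.BG
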