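import Mathlib
import Cfsg.Agent.Lib.helper77.BGR12

/-! S4504 split (helper2 / helper84), sub-piece R13: `R_quot_norm`. -/

set_option autoImplicit false

namespace Cfsg.Agent.Lib.helper2.BG

universe u

/-- The preimage in `G` of the normalizer of the image of `P` in `G / Z(G)` is the normalizer
of `P`. -/
theorem helper77_bg_comap_normalizer {G : Type u} [Group G] [Finite G] (p : ℕ) [Fact p.Prime]
    (hnn : ∀ H : Subgroup G, H.Normal → Nat.card H ≠ p) (P : Sylow p G)
    (hP : Nat.card P = p) :
    (Subgroup.normalizer (((P : Subgroup G).map (QuotientGroup.mk' (Subgroup.center G)) :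
      Subgroup (G ⧸ Subgroup.center G)) : Set (G ⧸ Subgroup.center G))).comap
        (QuotientGroup.mk' (Subgroup.center G)) =
      Subgroup.normalizer ((P : Subgroup G) : Set G) := by
  apply le_antisymm
  · intro g hg
    rw [Subgroup.mem_comap] at hg
    apply Subgroup.mem_normalizer_fintype
    intro x hx
    have hx' : x ∈ (P : Subgroup G) := hx
    have h1 : QuotientGroup.mk' (Subgroup.center G) (g * x * g⁻¹) ∈
        (P : Subgroup G).map (QuotientGroup.mk' (Subgroup.center G)) := by
      rw [map_mul, map_mul, map_inv]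
      exact (Subgroup.mem_normalizer_iff.mp hg _).mp (Subgroup.mem_map_of_mem _ hx')
    have h3 : (g * x * g⁻¹) ^ p = 1 := by
      rw [conj_pow, helper77_bg_pow_eq_one p P hP x hx', mul_one, mul_inv_cancel]
    exact helper77_bg_mem_of_mk_mem p hnn P hP _ h3 h1
  · intro g hg
    rw [Subgroup.mem_comap]
    exact Subgroup.le_normalizer_map _ (Subgroup.mem_map_of_mem _ hg)

/-- R13 (V7b): normalizer and number of Sylow subgroups in `G / Z(G)`. -/
theorem helper77_R_quot_norm {G : Type u} [Group G] [Finite G] (p : ℕ) [Fact p.Prime]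
    (hnn : ∀ H : Subgroup G, H.Normal → Nat.card H ≠ p) (P : Sylow p G)
    (hP : Nat.card P = p)
    (hK : ∀ k ∈ Subgroup.centralizer ((P : Subgroup G) : Set G), ¬ p ∣ orderOf k →
      k ∈ Subgroup.center G) (d : ℕ)
    (hd : (Subgroup.centralizer ((P : Subgroup G) : Set G)).relIndex
      (Subgroup.normalizer ((P : Subgroup G) : Set G)) = d)
    (hn : Nat.card (Sylow p G) = p + 1) (Q : Sylow p (G ⧸ Subgroup.center G))
    (hQ : (Q : Subgroup (G ⧸ Subgroup.center G)) =
      (P : Subgroup G).map (QuotientGroup.mk' (Subgroup.center G))) :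
    Nat.card (Subgroup.normalizer ((Q : Subgroup (G ⧸ Subgroup.center G)) :
        Set (G ⧸ Subgroup.center G))) = d * p ∧
      Nat.card (Sylow p (G ⧸ Subgroup.center G)) = p + 1 := by
  have : Fintype G := Fintype.ofFinite G
  have hZ := helper77_bg_center_preg p hnn P hP
  have hcard := (card_centralizer p P hP hK hZ).1
  have hcomap := helper77_bg_comap_normalizer p hnn P hP
  have hsurj : Function.Surjective (QuotientGroup.mk' (Subgroup.center G)) :=
    QuotientGroup.mk'_surjective _
  have hNidx : (Subgroup.normalizer ((P : Subgroup G) : Set G)).index = p + 1 := by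
    have h0 := Sylow.card_eq_index_normalizer P
    rw [hn] at h0
    exact h0.symm
  have hidx : (Subgroup.normalizer ((Q : Subgroup (G ⧸ Subgroup.center G)) :
      Set (G ⧸ Subgroup.center G))).index = p + 1 := by
    rw [hQ, ← Subgroup.index_comap_of_surjective _ hsurj, hcomap, hNidx]
  have hCN : Subgroup.centralizer ((P : Subgroup G) : Set G) ≤
      Subgroup.normalizer ((P : Subgroup G) : Set G) := Subgroup.centralizer_le_normalizer _
  have h1 := Subgroup.relIndex_mul_index hCN
  rw [hd, hNidx] at h1
  have h2 := Subgroup.card_mul_index (Subgroup.centralizer ((P : Subgroup G) : Set G))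
  have h4 := Subgroup.card_mul_index (Subgroup.normalizer
    ((Q : Subgroup (G ⧸ Subgroup.center G)) : Set (G ⧸ Subgroup.center G)))
  rw [hidx] at h4
  have h5 := Subgroup.card_eq_card_quotient_mul_card_subgroup (Subgroup.center G)
  have hZpos : 0 < Nat.card (Subgroup.center G) := Nat.card_pos
  refine ⟨?_, ?_⟩
  · have h6 : Nat.card (Subgroup.normalizer ((Q : Subgroup (G ⧸ Subgroup.center G)) :
        Set (G ⧸ Subgroup.center G))) * ((p + 1) * Nat.card (Subgroup.center G)) =
        d * p * ((p + 1) * Nat.card (Subgroup.center G)) := by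
      rw [← mul_assoc, h4, ← h5, ← h2, hcard, ← h1]
      ring
    have h7 : 0 < (p + 1) * Nat.card (Subgroup.center G) :=
      Nat.mul_pos (Nat.succ_pos p) hZpos
    exact Nat.eq_of_mul_eq_mul_right h7 h6
  · rw [Sylow.card_eq_index_normalizer Q]
    exact hidx

end Cfsg.Agent.Lib.helper2.BG
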