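import Cfsg.Agent.Lib.helper42.FGDefs
import Cfsg.Agent.Lib.helper10.FGLEMM
import Cfsg.Agent.Lib.helper73.FGCARD
import Cfsg.Agent.Lib.helper28.FGT2B

/-! S1915 split (architect helper42), piece T2A (racer copy by helper77): the involution `z` of
the cyclic subgroup `B` of index 2 is the unique central involution of `S`, lies in every
four-subgroup of `S`, and the four-subgroups of `S` are self-centralizing. -/

set_option autoImplicit false
set_option linter.unusedSectionVars false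

namespace Cfsg.Agent.Lib.helper42.FG

variable {G : Type*} [Group G] [Finite G]

theorem helper77_kl_sq {V : Subgroup G} (hV : IsKleinFour V) {v : G} (hv : v ∈ V) :
    v * v = 1 := by
  have h1 : (⟨v, hv⟩ : V) ^ Monoid.exponent V = 1 := Monoid.pow_exponent_eq_one _
  rw [hV.exponent_two] at h1
  have h3 : v ^ 2 = 1 := congrArg Subtype.val h1
  rw [pow_two] at h3
  exact h3

theorem helper77_kl_two {V : Subgroup G} (hV : IsKleinFour V) :
    ∃ v₁ ∈ V, ∃ v₂ ∈ V, v₁ ≠ 1 ∧ v₂ ≠ 1 ∧ v₁ ≠ v₂ := by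
  classical
  let _ : Fintype V := Fintype.ofFinite V
  have hcard : 2 < Fintype.card V := by
    rw [← Nat.card_eq_fintype_card, hV.card_four]
    norm_num
  obtain ⟨a, b', c, hab, hac, hbc⟩ := Fintype.two_lt_card_iff.1 hcard
  have hval' : ∀ x y : V, x ≠ y → (x : G) ≠ (y : G) := fun x y hxy h0 => hxy (Subtype.ext h0)
  by_cases ha : (a : G) = 1
  · refine ⟨b', b'.2, c, c.2, ?_, ?_, hval' _ _ hbc⟩
    · intro hb1
      exact hval' _ _ hab (ha.trans hb1.symm)
    · intro hc1
      exact hval' _ _ hac (ha.trans hc1.symm)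
  · by_cases hb1 : (b' : G) = 1
    · refine ⟨a, a.2, c, c.2, ha, ?_, hval' _ _ hac⟩
      intro hc1
      exact hval' _ _ hbc (hb1.trans hc1.symm)
    · exact ⟨a, a.2, b', b'.2, ha, hb1, hval' _ _ hab⟩

theorem helper77_rel_two {S B : Subgroup G} (hidx : B.relIndex S = 2) {x y : G} (hx : x ∈ S)
    (hy : y ∈ S) : x * y ∈ B ↔ (x ∈ B ↔ y ∈ B) := by
  have h1 := Subgroup.mul_mem_iff_of_index_two (H := B.subgroupOf S) hidx
    (a := ⟨x, hx⟩) (b := ⟨y, hy⟩)
  simpa [Subgroup.mem_subgroupOf] using h1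

/-- T2A, racer copy -/
theorem helper77_zdata {A S U : Subgroup G} (h : Cfg A S U) {B : Subgroup G}
    (hB : BData S U B) : ∃ z : G, z ∈ B ∧ ZData S z := by
  have hS2 : IsPGroup 2 S := IsPGroup.of_card h.hSyl
  have hcomm : ∀ x ∈ B, ∀ y ∈ B, x * y = y * x := fun x hx y hy =>
    helper28_cyc_comm hB.hcyc hx hy
  have hcardB : 2 ∣ Nat.card B := by
    have h1 : Nat.card (B.subgroupOf S) * (B.subgroupOf S).index = Nat.card S :=
      Subgroup.card_mul_index _
    have h3 : Nat.card (B.subgroupOf S) = Nat.card B :=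
      Nat.card_congr (Subgroup.subgroupOfEquivOfLe hB.hBS).toEquiv
    have h4 : (B.subgroupOf S).index = 2 := hB.hidx
    rw [h3, h4] at h1
    have h5 : 4 < Nat.card S := card_S_gt h
    have h6 : Nat.card B ∣ 2 ^ (Nat.card A).factorization 2 := by
      rw [← h.hSyl, ← h1]
      exact dvd_mul_right _ _
    obtain ⟨m, -, hm⟩ := (Nat.dvd_prime_pow Nat.prime_two).1 h6
    rw [hm]
    have hm1 : m ≠ 0 := by
      intro h0
      rw [h0, pow_zero] at hm
      omega
    exact dvd_pow_self 2 hm1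
  have : Fact (Nat.Prime 2) := ⟨Nat.prime_two⟩
  obtain ⟨z', hz'⟩ := exists_prime_orderOf_dvd_card' (G := B) 2 hcardB
  have hzB : (z' : G) ∈ B := z'.2
  have hz2 : orderOf (z' : G) = 2 := by
    rw [Subgroup.orderOf_coe]
    exact hz'
  generalize (z' : G) = z at hzB hz2
  have hzz : z ^ 2 = 1 := by
    rw [← hz2]
    exact pow_orderOf_eq_one z
  have hz1 : z ≠ 1 := by
    intro h0
    rw [h0, orderOf_one] at hz2
    omega
  have hinv : ∀ x ∈ B, x ^ 2 = 1 → x = 1 ∨ x = z := fun x hx hx2 =>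
    helper28_cyc_inv hB.hcyc hzB hz1 hzz hx hx2
  have hzc : ∀ y ∈ S, y * z = z * y := by
    intro y hy
    have h1 : y * z * y⁻¹ ∈ B := (Subgroup.mem_normalizer_iff.1 (hB.hSB hy) z).1 hzB
    have h3 : (y * z * y⁻¹) ^ 2 = 1 := by
      have h4 : (y * z * y⁻¹) ^ 2 = y * z ^ 2 * y⁻¹ := by
        rw [pow_two, pow_two]
        group
      rw [h4, hzz]
      group
    rcases hinv _ h1 h3 with h4 | h4
    · exfalso
      apply hz1
      have h5 : z = y⁻¹ * (y * z * y⁻¹) * y := by group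
      rw [h5, h4]
      group
    · have h5 : y * z = (y * z * y⁻¹) * y := by group
      rw [h5, h4]
  have hzu : ∀ y ∈ S, (∀ x ∈ S, y * x = x * y) → y = 1 ∨ y = z := by
    intro y hy hyc
    have hyB : y ∈ B := hB.hself y hy (fun x hx => hyc x (hB.hBS hx))
    by_contra hcon
    push Not at hcon
    obtain ⟨hy1, hyz⟩ := hcon
    have h1 : orderOf (⟨y, hy⟩ : S) ∣ Nat.card S := orderOf_dvd_natCard _
    rw [h.hSyl, Subgroup.orderOf_mk] at h1
    obtain ⟨j, -, hj⟩ := (Nat.dvd_prime_pow Nat.prime_two).1 h1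
    have hj2 : 2 ≤ j := by
      by_contra hlt
      have hj' : j = 0 ∨ j = 1 := by omega
      rcases hj' with h0 | h0
      · rw [h0, pow_zero, orderOf_eq_one_iff] at hj
        exact hy1 hj
      · rw [h0, pow_one] at hj
        have h4 : y ^ 2 = 1 := by
          rw [← hj]
          exact pow_orderOf_eq_one y
        rcases hinv y hyB h4 with h5 | h5
        · exact hy1 h5
        · exact hyz h5
    have hb₀4 : orderOf (y ^ 2 ^ (j - 2)) = 4 := by
      have hdvd : 2 ^ (j - 2) ∣ orderOf y := by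
        rw [hj]
        exact pow_dvd_pow 2 (by omega)
      rw [orderOf_pow_of_dvd (by positivity) hdvd, hj]
      have h4 : 2 ^ j = 2 ^ (j - 2) * 4 := by
        rw [show (4 : ℕ) = 2 ^ 2 by norm_num, ← pow_add]
        congr 1
        omega
      rw [h4, Nat.mul_div_cancel_left _ (by positivity)]
    obtain ⟨X, hXS, hXall, hXel, hXcard⟩ := modular_omega S B hB.hBS hB.hcyc hS2 hB.hidx
      hB.hself (y ^ 2 ^ (j - 2)) (B.pow_mem hyB _) hb₀4
      (fun s hs => ((show Commute s y from (hyc s hs).symm).pow_right _).eq)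
    have hUX : U ≤ Subgroup.normalizer (X : Set G) := by
      intro u hu
      rw [Subgroup.mem_normalizer_iff]
      intro x
      have hconj2 : (u * x * u⁻¹) ^ 2 = u * x ^ 2 * u⁻¹ := by
        rw [pow_two, pow_two]
        group
      constructor
      · intro hx
        apply hXall
        · exact (Subgroup.mem_normalizer_iff.1 (h.hUS hu) x).1 (hXS hx)
        · rw [hconj2, hXel.2 x hx]
          group
      · intro hx
        apply hXall
        · exact (Subgroup.mem_normalizer_iff.1 (h.hUS hu) x).2 (hXS hx)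
        · have h5 := hXel.2 _ hx
          rw [hconj2] at h5
          have h6 : x ^ 2 = u⁻¹ * (u * x ^ 2 * u⁻¹) * u := by group
          rw [h6, h5]
          group
    have h7 := h.ha X hXS hUX hXel
    omega
  refine ⟨z, hzB, ⟨hB.hBS hzB, hz2, hzc, hzu, ?_⟩⟩
  intro V hVS hV
  obtain ⟨v₁, hv₁, v₂, hv₂, hv₁1, hv₂1, hv12⟩ := helper77_kl_two hV
  have hsq : ∀ v ∈ V, v ^ 2 = 1 := fun v hv => by
    rw [pow_two]
    exact helper77_kl_sq hV hv
  have hkey : z ∈ V ∧ ∃ v ∈ V, v ∉ B := by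
    by_cases h1 : v₁ ∈ B
    · have e1 : v₁ = z := (hinv v₁ h1 (hsq v₁ hv₁)).resolve_left hv₁1
      refine ⟨e1 ▸ hv₁, v₂, hv₂, ?_⟩
      intro h2'
      have e2 : v₂ = z := (hinv v₂ h2' (hsq v₂ hv₂)).resolve_left hv₂1
      exact hv12 (e1.trans e2.symm)
    · refine ⟨?_, v₁, hv₁, h1⟩
      by_cases h2' : v₂ ∈ B
      · have e2 : v₂ = z := (hinv v₂ h2' (hsq v₂ hv₂)).resolve_left hv₂1
        exact e2 ▸ hv₂
      · have h3 : v₁ * v₂ ∈ B :=
          (helper77_rel_two hB.hidx (hVS hv₁) (hVS hv₂)).2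
            ⟨fun h0 => absurd h0 h1, fun h0 => absurd h0 h2'⟩
        have h4 : v₁ * v₂ ≠ 1 := by
          intro h0
          apply hv12
          have h5 : v₁ * v₂ = v₁ * v₁ := by rw [h0, helper77_kl_sq hV hv₁]
          exact (mul_left_cancel h5).symm
        have e3 : v₁ * v₂ = z :=
          (hinv _ h3 (hsq _ (V.mul_mem hv₁ hv₂))).resolve_left h4
        exact e3 ▸ V.mul_mem hv₁ hv₂
  obtain ⟨hzV, v, hvV, hvB⟩ := hkey
  refine ⟨hzV, ?_⟩
  have hvinv : v⁻¹ ∉ B := fun h0 => hvB (by simpa using B.inv_mem h0)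
  have hcen : ∀ c ∈ B, c * v = v * c → ∀ s ∈ S, c * s = s * c := by
    intro c hc hcv s hs
    by_cases hsB : s ∈ B
    · exact hcomm c hc s hsB
    · have h3 : s * v⁻¹ ∈ B :=
        (helper77_rel_two hB.hidx hs (S.inv_mem (hVS hvV))).2
          ⟨fun h0 => absurd h0 hsB, fun h0 => absurd h0 hvinv⟩
      have h4 : c * (s * v⁻¹) = (s * v⁻¹) * c := hcomm c hc _ h3
      calc c * s = c * (s * v⁻¹) * v := by group
        _ = (s * v⁻¹) * c * v := by rw [h4]
        _ = (s * v⁻¹) * (c * v) := by group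
        _ = (s * v⁻¹) * (v * c) := by rw [hcv]
        _ = s * c := by group
  intro y hy hyV
  by_cases hyB : y ∈ B
  · rcases hzu y hy (hcen y hyB (hyV v hvV)) with h1 | h1
    · rw [h1]
      exact V.one_mem
    · rw [h1]
      exact hzV
  · have h3 : y * v⁻¹ ∈ B :=
      (helper77_rel_two hB.hidx hy (S.inv_mem (hVS hvV))).2
        ⟨fun h0 => absurd h0 hyB, fun h0 => absurd h0 hvinv⟩
    have hyv : y * v = v * y := hyV v hvV
    have h4 : (y * v⁻¹) * v = v * (y * v⁻¹) := by
      calc (y * v⁻¹) * v = (y * v) * v⁻¹ := by group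
        _ = (v * y) * v⁻¹ := by rw [hyv]
        _ = v * (y * v⁻¹) := by group
    rcases hzu _ (S.mul_mem hy (S.inv_mem (hVS hvV))) (hcen _ h3 h4) with h1 | h1
    · have h5 : y = v := by
        calc y = (y * v⁻¹) * v := by group
          _ = 1 * v := by rw [h1]
          _ = v := one_mul v
      rw [h5]
      exact hvV
    · have h5 : y = z * v := by
        calc y = (y * v⁻¹) * v := by group
          _ = z * v := by rw [h1]
      rw [h5]
      exact V.mul_mem hzV hvV

end Cfsg.Agent.Lib.helper42.FG
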