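import Cfsg.Agent.Lib.helper42.FGDefs
import Cfsg.Agent.Lib.helper17.FGAUT

/-! S1915 split (architect helper42), piece T2C2 (racer copy by helper77): if no non-identity
element of the four-group `U` centralizes the cyclic group `B = ⟨b⟩`, the three non-identity
elements of `U` induce the three automorphisms `b ↦ b⁻¹, b z, b⁻¹ z`, which are distinct. -/

set_option autoImplicit false
set_option linter.unusedSectionVars false

namespace Cfsg.Agent.Lib.helper42.FG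

variable {G : Type*} [Group G] [Finite G]

/-- three pairwise distinct elements of a three-element list -/
theorem helper77_three_of_three {α : Type*} (c₁ c₂ c₃ x y w : α) (h12 : c₁ ≠ c₂) (h13 : c₁ ≠ c₃)
    (h23 : c₂ ≠ c₃) (h1 : c₁ = x ∨ c₁ = y ∨ c₁ = w) (h2 : c₂ = x ∨ c₂ = y ∨ c₂ = w)
    (h3 : c₃ = x ∨ c₃ = y ∨ c₃ = w) :
    x ≠ y ∧ (c₁ = y ∨ c₂ = y ∨ c₃ = y) ∧ (c₁ = w ∨ c₂ = w ∨ c₃ = w) := by
  have h21 : c₂ ≠ c₁ := h12.symm
  have h31 : c₃ ≠ c₁ := h13.symm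
  have h32 : c₃ ≠ c₂ := h23.symm
  rcases h1 with rfl | rfl | rfl <;> rcases h2 with rfl | rfl | rfl <;>
    rcases h3 with rfl | rfl | rfl <;> simp_all

/-- T2C2, racer copy -/
theorem helper77_case_faithful_types {A S U : Subgroup G} (h : Cfg A S U) {B : Subgroup G}
    (hB : BData S U B)
    {z : G} (hzB : z ∈ B) (hz : ZData S z) (hII : ∀ u ∈ U, u ≠ 1 → ∃ x ∈ B, u * x ≠ x * u)
    (b : G) (hb : Subgroup.zpowers b = B) :
    b * b ≠ z ∧ (∃ u ∈ U, u * b * u⁻¹ = b * z) ∧ (∃ u ∈ U, u * b * u⁻¹ = b⁻¹ * z) := by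
  have hbB : b ∈ B := hb ▸ Subgroup.mem_zpowers b
  -- elements of `U` are involutions
  have hUsq : ∀ u ∈ U, u * u = 1 := by
    intro u hu
    have h1 : (⟨u, hu⟩ : U) ^ Monoid.exponent U = 1 := Monoid.pow_exponent_eq_one _
    rw [h.hU.exponent_two] at h1
    have h3 : u ^ 2 = 1 := congrArg Subtype.val h1
    rw [pow_two] at h3
    exact h3
  -- no non-identity element of `U` centralizes `b`
  have hne : ∀ u ∈ U, u ≠ 1 → u * b * u⁻¹ ≠ b := by
    intro u hu hu1 hub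
    obtain ⟨x, hx, hux⟩ := hII u hu hu1
    apply hux
    rw [← hb] at hx
    obtain ⟨k, rfl⟩ := Subgroup.mem_zpowers_iff.1 hx
    have h1 : u * b = b * u := by
      rw [← hub, inv_mul_cancel_right, hub]
    have h3 : Commute u b := h1
    exact (h3.zpow_right k).eq
  have hinj : ∀ u ∈ U, ∀ v ∈ U, u ≠ v → u * b * u⁻¹ ≠ v * b * v⁻¹ := by
    intro u hu v hv huv heq
    have hmem : v⁻¹ * u ∈ U := U.mul_mem (U.inv_mem hv) hu
    have hne1 : v⁻¹ * u ≠ 1 := by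
      intro h1
      apply huv
      have h3 : v * (v⁻¹ * u) = v * 1 := by rw [h1]
      rw [mul_inv_cancel_left, mul_one] at h3
      exact h3
    apply hne _ hmem hne1
    have h4 : v⁻¹ * u * b * (v⁻¹ * u)⁻¹ = v⁻¹ * (u * b * u⁻¹) * v := by group
    rw [h4, heq]
    group
  -- the order of `b` is a power of 2
  have h2 : ∃ n : ℕ, orderOf b = 2 ^ n := by
    have hbS : b ∈ S := hB.hBS hbB
    have h1 : orderOf (⟨b, hbS⟩ : S) ∣ Nat.card S := orderOf_dvd_natCard _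
    rw [h.hSyl] at h1
    have h3 : orderOf (⟨b, hbS⟩ : S) = orderOf b := Subgroup.orderOf_mk b hbS
    rw [h3] at h1
    obtain ⟨n, -, hn⟩ := (Nat.dvd_prime_pow Nat.prime_two).1 h1
    exact ⟨n, hn⟩
  have hzb : z ∈ Subgroup.zpowers b := by
    rw [hb]
    exact hzB
  -- the possible values
  have hval : ∀ u ∈ U, u ≠ 1 →
      u * b * u⁻¹ = b⁻¹ ∨ u * b * u⁻¹ = b * z ∨ u * b * u⁻¹ = b⁻¹ * z := by
    intro u hu hu1
    have htb : u * b * u⁻¹ ∈ Subgroup.zpowers b := by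
      rw [hb]
      exact (Subgroup.mem_normalizer_iff.1 (hB.hUB hu) b).1 hbB
    have htt : (u * u) * b = b * (u * u) := by
      rw [hUsq u hu, one_mul, mul_one]
    rcases aut_cyclic_two b z u h2 hzb hz.hz2 htb htt with h1 | h1 | h1 | h1
    · exact absurd h1 (hne u hu hu1)
    · exact Or.inl h1
    · exact Or.inr (Or.inl h1)
    · exact Or.inr (Or.inr h1)
  -- three non-identity elements of `U`
  obtain ⟨u₁, hu₁, u₂, hu₂, hu₁1, hu₂1, hu12⟩ :
      ∃ u₁ ∈ U, ∃ u₂ ∈ U, u₁ ≠ 1 ∧ u₂ ≠ 1 ∧ u₁ ≠ u₂ := by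
    classical
    let _ : Fintype U := Fintype.ofFinite U
    have hcard : 2 < Fintype.card U := by
      rw [← Nat.card_eq_fintype_card, h.hU.card_four]
      norm_num
    obtain ⟨a, b', c, hab, hac, hbc⟩ := Fintype.two_lt_card_iff.1 hcard
    have hval' : ∀ x y : U, x ≠ y → (x : G) ≠ (y : G) := fun x y hxy h0 => hxy (Subtype.ext h0)
    by_cases ha : (a : G) = 1
    · refine ⟨b', b'.2, c, c.2, ?_, ?_, hval' _ _ hbc⟩
      · intro hb1
        exact hval' _ _ hab (ha.trans hb1.symm)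
      · intro hc1
        exact hval' _ _ hac (ha.trans hc1.symm)
    · by_cases hb1 : (b' : G) = 1
      · refine ⟨a, a.2, c, c.2, ha, ?_, hval' _ _ hac⟩
        intro hc1
        exact hval' _ _ hbc (hb1.trans hc1.symm)
      · exact ⟨a, a.2, b', b'.2, ha, hb1, hval' _ _ hab⟩
  have hu₃ : u₁ * u₂ ∈ U := U.mul_mem hu₁ hu₂
  have hu₃1 : u₁ * u₂ ≠ 1 := by
    intro h1
    apply hu12
    have h3 : u₁ * u₂ = u₁ * u₁ := by rw [h1, hUsq u₁ hu₁]
    exact (mul_left_cancel h3).symm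
  have hu13 : u₁ ≠ u₁ * u₂ := by
    intro h1
    apply hu₂1
    have h3 : u₁ * 1 = u₁ * u₂ := by rw [mul_one]; exact h1
    exact (mul_left_cancel h3).symm
  have hu23 : u₂ ≠ u₁ * u₂ := by
    intro h1
    apply hu₁1
    have h3 : 1 * u₂ = u₁ * u₂ := by rw [one_mul]; exact h1
    exact (mul_right_cancel h3).symm
  obtain ⟨hxy, hy, hw⟩ := helper77_three_of_three
    (u₁ * b * u₁⁻¹) (u₂ * b * u₂⁻¹) ((u₁ * u₂) * b * (u₁ * u₂)⁻¹) b⁻¹ (b * z) (b⁻¹ * z)
    (hinj u₁ hu₁ u₂ hu₂ hu12) (hinj u₁ hu₁ _ hu₃ hu13) (hinj u₂ hu₂ _ hu₃ hu23)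
    (hval u₁ hu₁ hu₁1) (hval u₂ hu₂ hu₂1) (hval _ hu₃ hu₃1)
  refine ⟨?_, ?_, ?_⟩
  · intro hbb
    apply hxy
    have hzz : z * z = 1 := by
      have h1 : z ^ orderOf z = 1 := pow_orderOf_eq_one z
      rw [hz.hz2, pow_two] at h1
      exact h1
    have h1 : b * (b * z) = 1 := by
      rw [← mul_assoc, hbb, hzz]
    exact (eq_inv_of_mul_eq_one_right h1).symm
  · rcases hy with h1 | h1 | h1
    · exact ⟨u₁, hu₁, h1⟩
    · exact ⟨u₂, hu₂, h1⟩
    · exact ⟨_, hu₃, h1⟩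
  · rcases hw with h1 | h1 | h1
    · exact ⟨u₁, hu₁, h1⟩
    · exact ⟨u₂, hu₂, h1⟩
    · exact ⟨_, hu₃, h1⟩

end Cfsg.Agent.Lib.helper42.FG
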