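import Mathlib
import Cfsg.Agent.Lib.helper38.FQ1

set_option autoImplicit false

namespace Cfsg.Agent.Lib.helper77

open Cfsg.Agent.Lib.helper38.FQ

private lemma fqn_hom {S : Type*} [Group S] (F X : Subgroup S)
    (hFX : F ≤ Subgroup.normalizer (X : Set S)) :
    ∃ φ : ↥F →* Equiv.Perm ↥X, ∀ (f : ↥F) (w : ↥X), ((φ f w : ↥X) : S) = f * w * (f : S)⁻¹ := by
  refine ⟨
    { toFun := fun f =>
        { toFun := fun w => ⟨(f : S) * w * (f : S)⁻¹,
            (Subgroup.mem_normalizer_iff.mp (hFX f.2) w).mp w.2⟩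
          invFun := fun w => ⟨(f : S)⁻¹ * w * (f : S), by
            have := (Subgroup.mem_normalizer_iff.mp (hFX (F.inv_mem f.2)) w).mp w.2
            simpa using this⟩
          left_inv := fun w => by ext; simp [mul_assoc]
          right_inv := fun w => by ext; simp [mul_assoc] }
      map_one' := by ext w; simp
      map_mul' := fun f g => by ext w; simp [mul_assoc] }, ?_⟩
  intro f w
  rfl

private lemma fqn_card {S : Type*} [Group S] [Finite S] (F X : Subgroup S)
    (hFX : F ≤ Subgroup.normalizer (X : Set S)) :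
    ∃ d : ℕ, d ∣ (Nat.card ↥X).factorial ∧
      Nat.card ↥F = d * Nat.card ↥(F ⊓ Subgroup.centralizer (X : Set S)) := by
  obtain ⟨φ, hφ⟩ := fqn_hom F X hFX
  refine ⟨Nat.card φ.range, ?_, ?_⟩
  · have := Subgroup.card_subgroup_dvd_card φ.range
    rwa [Nat.card_perm] at this
  · have h1 : Nat.card ↥F = Nat.card φ.range * Nat.card φ.ker := by
      rw [← Subgroup.index_ker, mul_comm]
      exact (Subgroup.card_mul_index φ.ker).symm
    have h2 : Nat.card φ.ker = Nat.card ↥(F ⊓ Subgroup.centralizer (X : Set S)) := by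
      have hk : φ.ker = (F ⊓ Subgroup.centralizer (X : Set S)).subgroupOf F := by
        ext f
        rw [MonoidHom.mem_ker, Subgroup.mem_subgroupOf, Subgroup.mem_inf,
          Subgroup.mem_centralizer_iff]
        constructor
        · intro hf
          refine ⟨f.2, fun w hw => ?_⟩
          have h3 : ((φ f ⟨w, hw⟩ : ↥X) : S) = w := by rw [hf]; rfl
          rw [hφ] at h3
          calc w * (f : S) = ((f : S) * w * (f : S)⁻¹) * f := by rw [h3]
            _ = f * w := by group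
        · rintro ⟨_, hf⟩
          ext w
          rw [hφ]
          have h3 := hf w w.2
          simp only [Equiv.Perm.coe_one, id_eq]
          calc (f : S) * w * (f : S)⁻¹ = (w * f) * (f : S)⁻¹ := by rw [h3]
            _ = w := by group
      rw [hk]
      exact Nat.card_congr (Subgroup.subgroupOfEquivOfLe inf_le_left).toEquiv
    rw [h1, h2]

private lemma fqn_not_cyclic {S : Type*} [Group S] [Finite S] (D : Subgroup S) (r : ℕ)
    (hr : 0 < r) (hexp : ∀ d ∈ D, d ^ r = 1) (hcard : r < Nat.card ↥D) : ¬ IsCyclic ↥D := by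
  intro hc
  obtain ⟨g, hg⟩ := IsCyclic.exists_ofOrder_eq_natCard (α := ↥D)
  have h1 : g ^ r = 1 := by
    ext
    simpa using hexp g g.2
  have h2 : orderOf g ∣ r := orderOf_dvd_of_pow_eq_one h1
  have h3 := Nat.le_of_dvd hr h2
  omega

theorem good_of_normalizes {S : Type*} [Group S] [Finite S] {M Q : Subgroup S} (h : Hyp M Q) (F : Subgroup S) (hF : Cfsg.IsElementaryAbelian 3 F) (hF3 : Nat.card ↥F = 27) (hFW : F ≤ Subgroup.normalizer ((⁅Q, M⁆ : Subgroup S) : Set S)) : Good M Q := by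
  refine ⟨3, F, Nat.prime_three, by norm_num, hF, by rw [hF3]; norm_num, ?_⟩
  obtain ⟨d, hd1, hd2⟩ := fqn_card F ⁅Q, M⁆ hFW
  rw [h.card] at hd1
  rw [hF3] at hd2
  have hd27 : d ∣ 27 := ⟨_, hd2⟩
  have hd3 : d ∣ 3 := by
    have h24 : d ∣ 24 := by simpa [Nat.factorial] using hd1
    have : d ∣ Nat.gcd 27 24 := Nat.dvd_gcd hd27 h24
    simpa using this
  have hdle : d ≤ 3 := Nat.le_of_dvd (by norm_num) hd3
  apply fqn_not_cyclic _ 3 (by norm_num)
  · intro x hx
    exact hF.2 x hx.1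
  · nlinarith

theorem good_of_structure {S : Type*} [Group S] [Finite S] {M Q : Subgroup S} (h : Hyp M Q) (p : ℕ) (hp : p.Prime) (hp5 : 5 ≤ p) (F : Subgroup S) (hF : Cfsg.IsElementaryAbelian p F) (hF3 : Nat.card ↥F = p ^ 3) (U : Subgroup S) (hWU : ⁅Q, M⁆ ≤ U) (hUM : U ≤ M) (hU8 : Nat.card ↥U ≤ 8) (hFU : F ≤ Subgroup.normalizer (U : Set S)) : Good M Q := by
  have hp2 : p ≠ 2 := by omega
  have _h := h
  have _hUM := hUM
  refine ⟨p, F, hp, hp2, hF, hF3, ?_⟩
  obtain ⟨d, hd1, hd2⟩ := fqn_card F U hFU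
  rw [hF3] at hd2
  have hdp : d ∣ p ^ 3 := ⟨_, hd2⟩
  obtain ⟨j, hj, rfl⟩ := (Nat.dvd_prime_pow hp).mp hdp
  have hj1 : j ≤ 1 := by
    by_contra hcon
    push Not at hcon
    have h2 : p ^ 2 ∣ (Nat.card ↥U).factorial := (pow_dvd_pow p hcon).trans hd1
    have h3 : p ^ 2 ∣ Nat.factorial 8 := h2.trans (Nat.factorial_dvd_factorial hU8)
    have h4 : p ∣ Nat.factorial 8 := (dvd_pow_self p (by norm_num)).trans h3
    have h5 : p ≤ 8 := (Nat.Prime.dvd_factorial hp).mp h4
    have h8 : Nat.factorial 8 = 40320 := by decide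
    rw [h8] at h3
    interval_cases p
    · norm_num at h3
    · norm_num at hp
    · norm_num at h3
    · norm_num at hp
  have hc : p ^ 2 ≤ Nat.card ↥(F ⊓ Subgroup.centralizer (U : Set S)) := by
    have h6 : p ^ 3 = p ^ j * p ^ (3 - j) := by
      rw [← pow_add]
      congr 1
      omega
    have h7 : Nat.card ↥(F ⊓ Subgroup.centralizer (U : Set S)) = p ^ (3 - j) := by
      have h8 : p ^ j * Nat.card ↥(F ⊓ Subgroup.centralizer (U : Set S)) = p ^ j * p ^ (3 - j) := by
        rw [← hd2, ← h6]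
      exact Nat.eq_of_mul_eq_mul_left (pow_pos hp.pos j) h8
    rw [h7]
    exact Nat.pow_le_pow_right hp.pos (by omega)
  have hle : F ⊓ Subgroup.centralizer (U : Set S) ≤
      F ⊓ Subgroup.centralizer ((⁅Q, M⁆ : Subgroup S) : Set S) :=
    inf_le_inf_left F (Subgroup.centralizer_le hWU)
  apply fqn_not_cyclic _ p hp.pos
  · intro x hx
    exact hF.2 x hx.1
  · have hpp : p < p ^ 2 := by nlinarith [hp.two_le]
    exact lt_of_lt_of_le hpp (hc.trans (Subgroup.card_le_of_le hle))

end Cfsg.Agent.Lib.helper77
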