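import Mathlib
import Cfsg.Prelude.Def_Blocks
import Cfsg.Prelude.Def_Local
import Cfsg.Agent.Lib.helper38.HallHigman2
import Cfsg.Agent.Lib.helper38.PPrimeP
import Cfsg.Agent.Lib.helper40.Cores

/-!
# Group-theoretic preliminaries for Fong's height bound in `p`-solvable groups (helper77)

* `centerMod K L`: the preimage in `L` of the centre of `L/K` (for `K` normal).
* `relIndex_pPrimeCore_pPrimePCore`: `|O_{p',p}(G) : O_{p'}(G)|` is a power of `p`.
* `center_le_centerMod_of_isPSolvable`: for a Sylow `p`-subgroup `P` of a `p`-solvable group,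
  `Z(P)` lies in the preimage of `Z(O_{p',p}(G)/O_{p'}(G))`.
* `factorization_index_le_of_center_le`, `index_center_congr`: bookkeeping.
-/

set_option autoImplicit false

namespace Cfsg.Agent.Lib.helper77

open Cfsg

universe u

section FongHeightA

variable {G : Type u} [Group G]

/-- The preimage in `L` of the centre of `L/K`. -/
def centerMod (K L : Subgroup G) [hK : K.Normal] : Subgroup G where
  carrier := {x | x ∈ L ∧ ∀ y ∈ L, x * y * x⁻¹ * y⁻¹ ∈ K}
  one_mem' := ⟨L.one_mem, fun y _ => by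
    have h : (1 : G) * y * 1⁻¹ * y⁻¹ = 1 := by group
    rw [h]
    exact K.one_mem⟩
  mul_mem' := by
    rintro a b ⟨haL, ha⟩ ⟨hbL, hb⟩
    refine ⟨L.mul_mem haL hbL, fun y hy => ?_⟩
    have h : a * b * y * (a * b)⁻¹ * y⁻¹ = a * (b * y * b⁻¹ * y⁻¹) * a⁻¹ * (a * y * a⁻¹ * y⁻¹) := by
      group
    rw [h]
    exact K.mul_mem (hK.conj_mem _ (hb y hy) a) (ha y hy)
  inv_mem' := by
    rintro a ⟨haL, ha⟩
    refine ⟨L.inv_mem haL, fun y hy => ?_⟩
    have h : a⁻¹ * y * a⁻¹⁻¹ * y⁻¹ = a⁻¹ * (a * y * a⁻¹ * y⁻¹)⁻¹ * a⁻¹⁻¹ := by group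
    rw [h]
    exact hK.conj_mem _ (K.inv_mem (ha y hy)) a⁻¹

theorem mem_centerMod (K L : Subgroup G) [hK : K.Normal] (x : G) :
    x ∈ centerMod K L ↔ x ∈ L ∧ ∀ y ∈ L, x * y * x⁻¹ * y⁻¹ ∈ K := Iff.rfl

theorem centerMod_le (K L : Subgroup G) [hK : K.Normal] : centerMod K L ≤ L :=
  fun _ hx => hx.1

theorem le_centerMod (K L : Subgroup G) [hK : K.Normal] (hKL : K ≤ L) : K ≤ centerMod K L := by
  intro x hx
  refine ⟨hKL hx, fun y _ => ?_⟩
  have h : x * y * x⁻¹ * y⁻¹ = x * (y * x⁻¹ * y⁻¹) := by group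
  rw [h]
  exact K.mul_mem hx (hK.conj_mem _ (K.inv_mem hx) y)

instance centerMod_normal (K L : Subgroup G) [hK : K.Normal] [hL : L.Normal] :
    (centerMod K L).Normal := by
  constructor
  rintro x ⟨hxL, hx⟩ g
  refine ⟨hL.conj_mem x hxL g, fun y hy => ?_⟩
  have h : g * x * g⁻¹ * y * (g * x * g⁻¹)⁻¹ * y⁻¹
      = g * (x * (g⁻¹ * y * g⁻¹⁻¹) * x⁻¹ * (g⁻¹ * y * g⁻¹⁻¹)⁻¹) * g⁻¹ := by group
  rw [h]
  exact hK.conj_mem _ (hx _ (hL.conj_mem y hy g⁻¹)) g

/-- If `L ≤ K Q` and `C_G(Q) ≤ L`, every element centralizing `Q` lies in the preimage of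
`Z(L/K)`. -/
theorem mem_centerMod_of_centralizes (K L : Subgroup G) [hK : K.Normal] (Q : Subgroup G)
    (hLKQ : L ≤ K ⊔ Q) (hC : Subgroup.centralizer (Q : Set G) ≤ L) {z : G}
    (hz : ∀ q ∈ Q, q * z = z * q) : z ∈ centerMod K L := by
  have hzL : z ∈ L := hC (Subgroup.mem_centralizer_iff.mpr fun q hq => hz q hq)
  refine ⟨hzL, fun y hy => ?_⟩
  have hy' : y ∈ ((K ⊔ Q : Subgroup G) : Set G) := hLKQ hy
  rw [Subgroup.normal_mul] at hy'
  obtain ⟨k, hk, q, hq, rfl⟩ := Set.mem_mul.mp hy'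
  have hq' := hz q hq
  have h1 : q * z⁻¹ * q⁻¹ = z⁻¹ := by
    have : q * z⁻¹ = z⁻¹ * q := by
      calc q * z⁻¹ = z⁻¹ * (z * q) * z⁻¹ := by group
        _ = z⁻¹ * (q * z) * z⁻¹ := by rw [hq']
        _ = z⁻¹ * q := by group
    rw [this]; group
  have h : z * (k * q) * z⁻¹ * (k * q)⁻¹ = z * k * z⁻¹ * (z * (q * z⁻¹ * q⁻¹)) * k⁻¹ := by group
  rw [h, h1]
  have h2 : z * k * z⁻¹ * (z * z⁻¹) * k⁻¹ = z * k * z⁻¹ * k⁻¹ := by group
  rw [h2]
  exact K.mul_mem (hK.conj_mem k hk z) (K.inv_mem hk)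

/-- `|O_{p',p}(G) : O_{p'}(G)|` is a power of `p`. -/
theorem relIndex_pPrimeCore_pPrimePCore [Finite G] (p : ℕ) [Fact p.Prime] :
    ∃ k : ℕ, (Cfsg.pPrimeCore p G).relIndex (Cfsg.pPrimePCore p G) = p ^ k := by
  have : (Cfsg.pPrimeCore p G).Normal := helper40.pPrimeCore_normal' p G
  have h1 : Cfsg.pPrimeCore p G
      = (⊥ : Subgroup (G ⧸ Cfsg.pPrimeCore p G)).comap (QuotientGroup.mk' (Cfsg.pPrimeCore p G)) := by
    rw [MonoidHom.comap_bot, QuotientGroup.ker_mk']
  have h2 : (Cfsg.pPrimeCore p G).relIndex (Cfsg.pPrimePCore p G)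
      = Nat.card (Cfsg.pCore p (G ⧸ Cfsg.pPrimeCore p G)) := by
    conv_lhs => rw [h1]
    rw [Subgroup.relIndex_comap, Subgroup.relIndex_bot_left]
    unfold Cfsg.pPrimePCore
    rw [Subgroup.map_comap_eq_self_of_surjective (QuotientGroup.mk'_surjective _)]
  rw [h2]
  exact IsPGroup.iff_card.mp (helper40.pCore_isPGroup p (G ⧸ Cfsg.pPrimeCore p G))

theorem pPrimeCore_le_pPrimePCore' (p : ℕ) : Cfsg.pPrimeCore p G ≤ Cfsg.pPrimePCore p G := by
  have : (Cfsg.pPrimeCore p G).Normal := helper40.pPrimeCore_normal' p G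
  intro x hx
  unfold Cfsg.pPrimePCore
  rw [Subgroup.mem_comap]
  have : QuotientGroup.mk' (Cfsg.pPrimeCore p G) x = 1 := by
    rw [QuotientGroup.mk'_apply, QuotientGroup.eq_one_iff]
    exact hx
  rw [this]
  exact Subgroup.one_mem _

/-- In a `p`-solvable group, the centre of a Sylow `p`-subgroup `P` lies in the preimage of
`Z(O_{p',p}(G)/O_{p'}(G))`. -/
theorem center_le_centerMod_of_isPSolvable [Finite G] {p : ℕ} [Fact p.Prime]
    (hS : Cfsg.IsPSolvable p G) (K L : Subgroup G) [hK : K.Normal] (hKd : K = Cfsg.pPrimeCore p G)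
    (hLd : L = Cfsg.pPrimePCore p G) (P : Subgroup G) (hP : IsPGroup p P) (hPi : ¬ p ∣ P.index)
    {z : G} (hz : ∀ y ∈ P, y * z = z * y) : z ∈ centerMod K L := by
  have hLn : L.Normal := by rw [hLd]; exact helper38.pPrimePCore_normal p G
  have hQ : ¬ p ∣ (P ⊓ L).relIndex L := by
    have h := helper38.not_dvd_relIndex_sylow_inf_normal (hP.toSylow hPi) L
    rw [IsPGroup.toSylow_coe] at h
    exact h
  have hQ' : ¬ p ∣ (P ⊓ L).relIndex (Cfsg.pPrimePCore p G) := by rw [← hLd]; exact hQ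
  apply mem_centerMod_of_centralizes K L (P ⊓ L)
  · have := helper38.pPrimePCore_le_sup_of_not_dvd (P ⊓ L) hQ'
    rw [← hLd, ← hKd] at this
    exact this
  · have := helper38.centralizer_le_pPrimePCore_of_isPSolvable hS (P ⊓ L) hQ'
    rw [← hLd] at this
    exact this
  · intro q hq
    exact hz q hq.1

/-- Bookkeeping: if `P` has index prime to `p` and `Z(P) ≤ A`, then the `p`-part of `|G : A|` is at
most that of `|P : Z(P)|`. -/
theorem factorization_index_le_of_center_le [Finite G] (p : ℕ) [Fact p.Prime] (P A : Subgroup G)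
    (hPi : ¬ p ∣ P.index) (hZA : (Subgroup.center P).map P.subtype ≤ A) :
    A.index.factorization p ≤ ((Subgroup.center P).index).factorization p := by
  have hpp : p.Prime := Fact.out
  have h1 : Nat.card A * A.index = Nat.card G := Subgroup.card_mul_index A
  have h2 : Nat.card P * P.index = Nat.card G := Subgroup.card_mul_index P
  have h3 : Nat.card (Subgroup.center P) * (Subgroup.center P).index = Nat.card P :=
    Subgroup.card_mul_index _
  have h4 : Nat.card (Subgroup.center P) ∣ Nat.card A := by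
    have e : Nat.card ((Subgroup.center P).map P.subtype) = Nat.card (Subgroup.center P) :=
      Subgroup.card_map_of_injective (Subgroup.subtype_injective P)
    rw [← e]
    exact Subgroup.card_dvd_of_le hZA
  have hA0 : Nat.card A ≠ 0 := Nat.card_pos.ne'
  have hAi0 : A.index ≠ 0 := Subgroup.index_ne_zero_of_finite
  have hP0 : Nat.card P ≠ 0 := Nat.card_pos.ne'
  have hPi0 : P.index ≠ 0 := Subgroup.index_ne_zero_of_finite
  have hZ0 : Nat.card (Subgroup.center P) ≠ 0 := Nat.card_pos.ne'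
  have hZi0 : (Subgroup.center P).index ≠ 0 := Subgroup.index_ne_zero_of_finite
  have e1 : (Nat.card G).factorization p
      = (Nat.card A).factorization p + A.index.factorization p := by
    rw [← h1, Nat.factorization_mul hA0 hAi0]; rfl
  have e2 : (Nat.card G).factorization p
      = (Nat.card P).factorization p + P.index.factorization p := by
    rw [← h2, Nat.factorization_mul hP0 hPi0]; rfl
  have e3 : (Nat.card P).factorization p = (Nat.card (Subgroup.center P)).factorization p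
      + ((Subgroup.center P).index).factorization p := by
    rw [← h3, Nat.factorization_mul hZ0 hZi0]; rfl
  have e4 : P.index.factorization p = 0 := Nat.factorization_eq_zero_of_not_dvd hPi
  have e5 : (Nat.card (Subgroup.center P)).factorization p ≤ (Nat.card A).factorization p :=
    (Nat.factorization_le_iff_dvd hZ0 hA0).mpr h4 p
  omega

/-- The index of the centre is an isomorphism invariant. -/
theorem index_center_congr {A B : Type*} [Group A] [Group B] (e : A ≃* B) :
    (Subgroup.center A).index = (Subgroup.center B).index := by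
  have h : Subgroup.center A = (Subgroup.center B).comap e.toMonoidHom := by
    ext x
    rw [Subgroup.mem_comap, Subgroup.mem_center_iff, Subgroup.mem_center_iff]
    constructor
    · intro h b
      obtain ⟨a, rfl⟩ := e.surjective b
      have := congrArg e (h a)
      simpa [map_mul] using this
    · intro h a
      apply e.injective
      have := h (e a)
      simpa [map_mul] using this
  rw [h, Subgroup.index_comap_of_surjective _ e.surjective]

end FongHeightA

end Cfsg.Agent.Lib.helper77
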