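import Mathlib
import Cfsg.Prelude.Def_Blocks
import Cfsg.Agent.Lib.helper77.UniqueCover
import Cfsg.Agent.Lib.helper43.SL2Blocks
import Cfsg.Agent.Lib.helper82.CharQuot
import Cfsg.Agent.Lib.helper82.CharSums

/-!
# Fong's theorem on characters over an invariant character of a normal `p'`-subgroup (helper77)

`W ≤ L` normal subgroups of `G`, `W` of order prime to `p`, `L/W` a `p`-group, and
`C_G(Q) ≤ L` for the Sylow `p`-subgroups `Q` of `L`.  For a `G`-invariant irreducible character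
`θ` of `W`, the irreducible characters of `G` lying over `θ` form a block, and the defect groups
of that block have index prime to `p` (`fong_cover_structure`).
-/

set_option autoImplicit false

namespace Cfsg.Agent.Lib.helper77

open Cfsg
open scoped ComplexConjugate

universe u

section FongSolv

variable {G : Type u} [Group G] [Fintype G] (W L : Subgroup G) [hW : W.Normal] [hL : L.Normal]
  [Fintype W] [Fintype L]

omit [Fintype G] hL hW in
/-- A character of a normal subgroup of order prime to `p` is alone in its block. -/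
theorem eq_of_sameBlock_of_not_dvd_card {p : ℕ} [Fact p.Prime] {M : Ideal AlgInt}
    (hM : IsPModular p M) (hWp : ¬ p ∣ Nat.card W) {θ θ₁ : IrrCharacter W}
    (h : SameBlock M (θ : W → ℂ) (θ₁ : W → ℂ)) : θ = θ₁ := by
  obtain ⟨m, hm⟩ := helper82.irr_degree_dvd_card θ
  apply helper43.eq_of_sameBlock_of_defect_zero hM θ θ₁ (charDegree (θ : W → ℂ)) m
    (helper82.irr_one_eq θ) hm _ h
  intro hpm
  apply hWp
  rw [hm]
  exact Dvd.dvd.mul_left hpm _

/-- **Fong.**  `W ≤ L` normal in `G`, `p ∤ |W|`, `L/W` a `p`-group, `C_G(Q) ≤ L` for the Sylow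
`p`-subgroups `Q` of `L`, `θ` a `G`-invariant irreducible character of `W`.  The characters of `G`
over `θ` form a block whose defect groups have index prime to `p`. -/
theorem fong_cover_structure {p : ℕ} [Fact p.Prime] {M : Ideal AlgInt} (hM : IsPModular p M)
    (hWL : W ≤ L) (hWp : ¬ p ∣ Nat.card W) {k : ℕ} (hidx : W.relIndex L = p ^ k)
    (hCL : ∀ Q : Subgroup G, Q ≤ L → IsPGroup p Q → ¬ p ∣ Q.relIndex L →
      Subgroup.centralizer (Q : Set G) ≤ L)
    (θ : IrrCharacter W) (hinv : ∀ g : G, cjIrr W g θ = θ) :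
    IsPBlock M {χ : IrrCharacter G |
        classInner (fun n : W => (χ : G → ℂ) n) (θ : W → ℂ) ≠ 0} ∧
      ∀ D : Subgroup G, IsDefectGroup p M {χ : IrrCharacter G |
        classInner (fun n : W => (χ : G → ℂ) n) (θ : W → ℂ) ≠ 0} D → ¬ p ∣ D.index := by
  classical
  have hMp : M.IsPrime := helper20.isPrime_of_isPModular hM
  have hpp : p.Prime := Fact.out
  have : Fintype (W.subgroupOf L) := Fintype.ofFinite _
  -- the character `θ` on `W` as a subgroup of `L`
  obtain ⟨θl, hθl⟩ : ∃ θl : IrrCharacter (W.subgroupOf L),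
      (θl : W.subgroupOf L → ℂ) = helper82.subRes W L (θ : W → ℂ) :=
    ⟨⟨helper82.subRes W L (θ : W → ℂ), helper82.isIrrCharacter_subRes W L hWL θ.2⟩, rfl⟩
  have hconv : ∀ ψ : IrrCharacter L,
      classInner (fun n : W.subgroupOf L => (ψ : L → ℂ) n) (θl : W.subgroupOf L → ℂ)
        = classInner (fun n : W => (ψ : L → ℂ) ⟨n, hWL n.2⟩) (θ : W → ℂ) := by
    intro ψ
    rw [hθl, ← helper82.subRes_restrict W L hWL (ψ : L → ℂ)]
    exact helper82.classInner_subRes W L hWL _ _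
  have hidx' : (W.subgroupOf L).index = p ^ k := hidx
  have hθlinv : ∀ l : L, cjIrr (W.subgroupOf L) l θl = θl := by
    intro l
    apply Subtype.ext
    rw [cjIrr_coe, hθl, helper82.cconj_subRes]
    have h1 := congrArg Subtype.val (hinv (l : G))
    rw [cjIrr_coe] at h1
    rw [h1]
  have hsrefl : SameBlock M (θl : W.subgroupOf L → ℂ) (θl : W.subgroupOf L → ℂ) := by
    intro g
    rw [sub_self]
    exact helper20.memLocalIdeal_zero hMp
  -- (F): constituents on `L` of characters over `θ` lie over `θ`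
  have hF : ∀ χ : IrrCharacter G, classInner (fun n : W => (χ : G → ℂ) n) (θ : W → ℂ) ≠ 0 →
      ∀ ψ : IrrCharacter L, classInner (fun n : L => (χ : G → ℂ) n) (ψ : L → ℂ) ≠ 0 →
      classInner (fun n : W.subgroupOf L => (ψ : L → ℂ) n) (θl : W.subgroupOf L → ℂ) ≠ 0 := by
    intro χ hχ ψ hψ
    rw [hconv]
    obtain ⟨θ₁, hθ₁⟩ := exists_constituent_restrict W L hWL ψ
    have h2 := classInner_restrict_ne_zero_trans W L hWL χ ψ θ₁ hψ hθ₁
    obtain ⟨g, hg⟩ := helper82.clifford_conj W χ.2 θ.2 θ₁.2 hχ h2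
    have h3 : θ₁ = cjIrr W g θ := Subtype.ext hg
    rw [hinv g] at h3
    rw [← h3]
    exact hθ₁
  -- the block `b` of `L`
  obtain ⟨ψ₀, hψ₀⟩ := exists_irr_over (W.subgroupOf L) θl
  obtain ⟨b, hbdef⟩ : ∃ b : Set (IrrCharacter L), b = blockOf M (ψ₀ : L → ℂ) := ⟨_, rfl⟩
  have hb : IsPBlock M b := by
    rw [hbdef]
    exact helper80.isPBlock_blockOf M ψ₀
  have hψ₀b : ψ₀ ∈ b := by
    rw [hbdef]
    exact helper80.mem_blockOf_self hMp ψ₀
  have hP1 : ∀ ψ : IrrCharacter L,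
      classInner (fun n : W.subgroupOf L => (ψ : L → ℂ) n) (θl : W.subgroupOf L → ℂ) ≠ 0 →
      ψ ∈ b := by
    intro ψ hψ
    exact mem_block_of_over_of_index (W.subgroupOf L) hM hidx' hb hψ₀b hψ₀ hψ hsrefl
  -- `b` is `G`-stable
  obtain ⟨χ₀, hχ₀⟩ := exists_irr_over L ψ₀
  have hχ₀cf : IsClassFunction G (χ₀ : G → ℂ) := helper4.isClassFunction_of_isIrrCharacter χ₀.2
  have hχ₀θ : classInner (fun n : W => (χ₀ : G → ℂ) n) (θ : W → ℂ) ≠ 0 := by
    have h1 := hψ₀
    rw [hconv] at h1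
    exact classInner_restrict_ne_zero_trans W L hWL χ₀ ψ₀ θ hχ₀ h1
  have hstab : ∀ g : G, ∀ ψ ∈ b, cjIrr L g ψ ∈ b := by
    intro g ψ hψ
    have h1 : cjIrr L g ψ₀ ∈ b := by
      apply hP1
      apply hF χ₀ hχ₀θ
      rw [cjIrr_coe, helper82.classInner_restrict_cconj L hχ₀cf g (ψ₀ : L → ℂ)]
      exact hχ₀
    have h2 : SameBlock M (ψ₀ : L → ℂ) (ψ : L → ℂ) := helper80.sameBlock_of_mem hMp hb hψ₀b hψ
    have h3 := sameBlock_cjIrr L g h2
    exact helper81.mem_of_sameBlock hMp hb h1 h3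
  -- a defect group of `b` is a Sylow subgroup of `L`
  obtain ⟨D, hD⟩ := helper80.exists_isDefectGroup p hMp hb
  have hDidx : ¬ p ∣ D.index := by
    have hstl : ∀ l : L, ∀ θ₁ ∈ blockOf M (θl : W.subgroupOf L → ℂ),
        cjIrr (W.subgroupOf L) l θ₁ ∈ blockOf M (θl : W.subgroupOf L → ℂ) := by
      intro l θ₁ hθ₁
      have h1 : SameBlock M (θl : W.subgroupOf L → ℂ) (θ₁ : W.subgroupOf L → ℂ) := hθ₁
      have h2 := sameBlock_cjIrr (W.subgroupOf L) l h1
      rw [hθlinv l] at h2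
      exact h2
    have hfm := fong_main (W.subgroupOf L) hM (helper80.isPBlock_blockOf M θl) hstl hb
      ⟨ψ₀, hψ₀b, θl, helper80.mem_blockOf_self hMp θl, hψ₀⟩
      (by
        rintro B' hB' ⟨χ₁, hχ₁, θ₁, hθ₁, h₁⟩
        have hs : SameBlock M (θ₁ : W.subgroupOf L → ℂ) (θl : W.subgroupOf L → ℂ) :=
          helper80.sameBlock_of_mem hMp (helper80.isPBlock_blockOf M θl) hθ₁
            (helper80.mem_blockOf_self hMp θl)
        have h2 : ψ₀ ∈ B' :=
          mem_block_of_over_of_index (W.subgroupOf L) hM hidx' hB' hχ₁ h₁ hψ₀ hs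
        rw [helper80.isPBlock_eq_of_mem hMp hB' hb h2 hψ₀b])
      hD
    have h1 := hfm.1
    have h2 := card_sup_mul_card_inf D (W.subgroupOf L)
    have h3 : Nat.card D * D.index = Nat.card L := Subgroup.card_mul_index D
    have h4 : Nat.card (D ⊔ W.subgroupOf L : Subgroup L) * (D ⊔ W.subgroupOf L).index
        = Nat.card L := Subgroup.card_mul_index _
    have h5 : Nat.card (W.subgroupOf L) = Nat.card W :=
      Nat.card_congr (Subgroup.subgroupOfEquivOfLe hWL).toEquiv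
    have hDpos : 0 < Nat.card D := Nat.card_pos
    have h6 : D.index * Nat.card (W.subgroupOf L ⊓ D : Subgroup L)
        = Nat.card (W.subgroupOf L) * (D ⊔ W.subgroupOf L).index := by
      apply Nat.eq_of_mul_eq_mul_left hDpos
      calc Nat.card D * (D.index * Nat.card (W.subgroupOf L ⊓ D : Subgroup L))
          = Nat.card L * Nat.card (W.subgroupOf L ⊓ D : Subgroup L) := by rw [← mul_assoc, h3]
        _ = (D ⊔ W.subgroupOf L).index * (Nat.card (D ⊔ W.subgroupOf L : Subgroup L)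
              * Nat.card (W.subgroupOf L ⊓ D : Subgroup L)) := by rw [← h4]; ring
        _ = Nat.card D * (Nat.card (W.subgroupOf L) * (D ⊔ W.subgroupOf L).index) := by
            rw [h2]; ring
    intro hdvd
    have h7 : p ∣ Nat.card (W.subgroupOf L) * (D ⊔ W.subgroupOf L).index := by
      rw [← h6]
      exact Dvd.dvd.mul_right hdvd _
    rcases (Nat.Prime.dvd_mul hpp).mp h7 with h8 | h8
    · rw [h5] at h8
      exact hWp h8
    · exact h1 h8
  have hC : Subgroup.centralizer ((D.map L.subtype : Subgroup G) : Set G) ≤ L := by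
    apply hCL _ (Subgroup.map_subtype_le D) ((helper80.IsDefectGroup.isPGroup hD).map _)
    have h1 : (D.map L.subtype).relIndex L = D.index := by
      unfold Subgroup.relIndex Subgroup.subgroupOf
      rw [Subgroup.comap_map_eq_self_of_injective (Subgroup.subtype_injective L)]
    rw [h1]
    exact hDidx
  -- central characters off `L`
  have hoff : ∀ χ : IrrCharacter G, χ ∈ coverSet L b → ∀ g : G, g ∉ L →
      MemLocalIdeal M (centralChar (χ : G → ℂ) g) := fun χ hχ g hg =>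
    memLocalIdeal_centralChar_of_cover_off L hM hb hstab hD hC hχ hg
  -- the set of characters over `θ`
  obtain ⟨B, hBdef⟩ : ∃ B : Set (IrrCharacter G), B = {χ : IrrCharacter G |
      classInner (fun n : W => (χ : G → ℂ) n) (θ : W → ℂ) ≠ 0} := ⟨_, rfl⟩
  rw [← hBdef]
  have hE1 : ∀ χ ∈ B, χ ∈ coverSet L b := by
    intro χ hχ
    rw [hBdef] at hχ
    obtain ⟨ψ, hψ⟩ := exists_constituent_restrict_top L χ
    exact ⟨ψ, hP1 ψ (hF χ hχ ψ hψ), hψ⟩
  have hE2 : ∀ χ₁ ∈ B, ∀ χ₂ ∈ B, SameBlock M (χ₁ : G → ℂ) (χ₂ : G → ℂ) := by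
    intro χ₁ hχ₁ χ₂ hχ₂ g
    by_cases hg : g ∈ L
    · have hc1 : ∃ χ ∈ blockOf M (χ₁ : G → ℂ), ∃ ψ ∈ b,
          classInner (fun n : L => (χ : G → ℂ) n) (ψ : L → ℂ) ≠ 0 := by
        obtain ⟨ψ, hψb, hψ⟩ := hE1 χ₁ hχ₁
        exact ⟨χ₁, helper80.mem_blockOf_self hMp χ₁, ψ, hψb, hψ⟩
      have hc2 : ∃ χ ∈ blockOf M (χ₂ : G → ℂ), ∃ ψ ∈ b,
          classInner (fun n : L => (χ : G → ℂ) n) (ψ : L → ℂ) ≠ 0 := by
        obtain ⟨ψ, hψb, hψ⟩ := hE1 χ₂ hχ₂
        exact ⟨χ₂, helper80.mem_blockOf_self hMp χ₂, ψ, hψb, hψ⟩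
      have e1 := (Cfsg.Agent.S0965.result p M hM L _ (helper80.isPBlock_blockOf M χ₁) b hb).mp hc1
        χ₁ (helper80.mem_blockOf_self hMp χ₁) ψ₀ hψ₀b ⟨g, hg⟩
      have e2 := (Cfsg.Agent.S0965.result p M hM L _ (helper80.isPBlock_blockOf M χ₂) b hb).mp hc2
        χ₂ (helper80.mem_blockOf_self hMp χ₂) ψ₀ hψ₀b ⟨g, hg⟩
      have e3 := helper20.memLocalIdeal_sub hMp e1 e2
      have e4 : centralChar (χ₁ : G → ℂ) g - centralChar (χ₂ : G → ℂ) g
          = centralChar (χ₁ : G → ℂ) ((⟨g, hg⟩ : L) : G)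
              - inducedCentralChar L (ψ₀ : L → ℂ) ((⟨g, hg⟩ : L) : G)
            - (centralChar (χ₂ : G → ℂ) ((⟨g, hg⟩ : L) : G)
              - inducedCentralChar L (ψ₀ : L → ℂ) ((⟨g, hg⟩ : L) : G)) := by
        ring
      rw [e4]
      exact e3
    · exact helper20.memLocalIdeal_sub hMp (hoff χ₁ (hE1 χ₁ hχ₁) g hg) (hoff χ₂ (hE1 χ₂ hχ₂) g hg)
  obtain ⟨χ₁, hχ₁⟩ := exists_irr_over W θ
  have hχ₁B : χ₁ ∈ B := by
    rw [hBdef]
    exact hχ₁
  have hstθ : ∀ g : G, ∀ θ₁ ∈ blockOf M (θ : W → ℂ), cjIrr W g θ₁ ∈ blockOf M (θ : W → ℂ) := by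
    intro g θ₁ hθ₁
    have h1 : SameBlock M (θ : W → ℂ) (θ₁ : W → ℂ) := hθ₁
    have h2 := sameBlock_cjIrr W g h1
    rw [hinv g] at h2
    exact h2
  have hBeq : B = blockOf M (χ₁ : G → ℂ) := by
    apply Set.Subset.antisymm
    · intro χ hχ
      exact hE2 χ₁ hχ₁B χ hχ
    · intro χ hχ
      have h1 : χ₁ ∈ coverSet W (blockOf M (θ : W → ℂ)) :=
        ⟨θ, helper80.mem_blockOf_self hMp θ, hχ₁⟩
      obtain ⟨θ₁, hθ₁, h2⟩ := coverSet_union_blocks W hMp (helper80.isPBlock_blockOf M θ) hstθ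
        χ₁ h1 hχ
      have h3 : θ = θ₁ := eq_of_sameBlock_of_not_dvd_card W hM hWp hθ₁
      rw [hBdef]
      show classInner (fun n : W => (χ : G → ℂ) n) (θ : W → ℂ) ≠ 0
      rw [h3]
      exact h2
  have hB : IsPBlock M B := ⟨χ₁, hBeq⟩
  refine ⟨hB, ?_⟩
  intro P hP
  -- `B` is the only block covering the block of `θ`
  have hfm := fong_main W hM (helper80.isPBlock_blockOf M θ) hstθ hB
    ⟨χ₁, hχ₁B, θ, helper80.mem_blockOf_self hMp θ, hχ₁⟩
    (by
      rintro B' hB' ⟨χ₂, hχ₂, θ₂, hθ₂, h₂⟩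
      have h3 : θ = θ₂ := eq_of_sameBlock_of_not_dvd_card W hM hWp hθ₂
      have h4 : χ₂ ∈ B := by
        rw [hBdef]
        show classInner (fun n : W => (χ₂ : G → ℂ) n) (θ : W → ℂ) ≠ 0
        rw [h3]
        exact h₂
      rw [helper80.isPBlock_eq_of_mem hMp hB' hB hχ₂ h4])
    hP
  have h1 := hfm.1
  have h2 := card_sup_mul_card_inf P W
  have h3 : Nat.card P * P.index = Nat.card G := Subgroup.card_mul_index P
  have h4 : Nat.card (P ⊔ W : Subgroup G) * (P ⊔ W).index = Nat.card G :=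
    Subgroup.card_mul_index _
  have hPpos : 0 < Nat.card P := Nat.card_pos
  have h6 : P.index * Nat.card (W ⊓ P : Subgroup G) = Nat.card W * (P ⊔ W).index := by
    apply Nat.eq_of_mul_eq_mul_left hPpos
    calc Nat.card P * (P.index * Nat.card (W ⊓ P : Subgroup G))
        = Nat.card G * Nat.card (W ⊓ P : Subgroup G) := by rw [← mul_assoc, h3]
      _ = (P ⊔ W).index * (Nat.card (P ⊔ W : Subgroup G) * Nat.card (W ⊓ P : Subgroup G)) := by
          rw [← h4]; ring
      _ = Nat.card P * (Nat.card W * (P ⊔ W).index) := by rw [h2]; ring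
  intro hdvd
  have h7 : p ∣ Nat.card W * (P ⊔ W).index := by
    rw [← h6]
    exact Dvd.dvd.mul_right hdvd _
  rcases (Nat.Prime.dvd_mul hpp).mp h7 with h8 | h8
  · exact hWp h8
  · exact h1 h8

end FongSolv

end Cfsg.Agent.Lib.helper77
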