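import Mathlib
import Cfsg.Prelude.Def_Blocks
import Cfsg.Prelude.Def_Local
import Cfsg.Agent.Lib.helper77.FongHeightA
import Cfsg.Agent.Lib.helper77.FongSolv
import Cfsg.Agent.Lib.helper77.FongReynolds
import Cfsg.Agent.Lib.helper19.CoprimeOver
import Cfsg.Agent.Lib.helper82.ExtSylow
import Cfsg.Agent.Lib.helper82.Ramification
import Cfsg.Agent.Lib.helper79.DefectDeg

/-!
# Fong's bound for heights in blocks of `p`-solvable groups (helper77)

`fong_height_le`: in a finite `p`-solvable group, the height of an irreducible character in a block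
with defect group `P` is at most the exponent of `p` in `|P : Z(P)|`.

The proof is Fong's reduction: with `K = O_{p'}(G)` and `θ` an irreducible constituent of `χ_K`,
either `θ` is not `G`-invariant and the Fong–Reynolds correspondence reduces to the stabilizer of
`θ`, or `θ` is invariant, `Irr(G | θ)` is a block with Sylow defect groups, and the degree of `χ`
is controlled through the preimage `A` of `Z(O_{p',p}(G)/K)`, which contains `Z(P)`.
-/

set_option autoImplicit false

namespace Cfsg.Agent.Lib.helper77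

open Cfsg

universe u

section FongHeightB

/-- `N` normal in `A` with `A/N` abelian of order prime to `|N|`, `ϑ` an `A`-invariant irreducible
character of `N`.  Every irreducible character of `A` over `ϑ` has the degree of `ϑ`. -/
theorem degree_eq_of_abelian_coprime {A : Type u} [Group A] [Fintype A] (N : Subgroup A)
    [hN : N.Normal] [Fintype N] (hab : ∀ x y : A, x * y * x⁻¹ * y⁻¹ ∈ N)
    (hcop : Nat.Coprime N.index (Nat.card N)) (ϑ : IrrCharacter N)
    (hinv : ∀ a : A, helper82.cconj N a (ϑ : N → ℂ) = (ϑ : N → ℂ)) (μ : IrrCharacter A)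
    (hμ : classInner (fun n : N => (μ : A → ℂ) n) (ϑ : N → ℂ) ≠ 0) :
    (μ : A → ℂ) 1 = (ϑ : N → ℂ) 1 := by
  obtain ⟨θh, hθh, hext⟩ := helper82.exists_extension_of_coprime_card N ϑ.2 hinv hcop
  have h0 : classInner (fun n : N => θh n) (ϑ : N → ℂ) ≠ 0 := by
    have : (fun n : N => θh n) = (ϑ : N → ℂ) := funext hext
    rw [this, helper4.classInner_irr_self ϑ.2]
    exact one_ne_zero
  have hinv' : ∀ (g : A) (n : N),
      (ϑ : N → ℂ) ⟨g * n * g⁻¹, hN.conj_mem (n : A) n.2 g⟩ = (ϑ : N → ℂ) n :=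
    fun g => (helper82.cconj_eq_iff N g _).mp (hinv g)
  obtain ⟨f, -, hf⟩ :=
    helper19.exists_linear_mul_eq N hab (ϑ : N → ℂ) ϑ.2 hinv' ⟨θh, hθh⟩ μ h0 hμ
  have h1 := hf 1
  rw [map_one] at h1
  simp only [Units.val_one, mul_one] at h1
  rw [h1]
  exact hext 1

/-- **Fong's bound, invariant case.**  `K = O_{p'}(G)`, `θ` a `G`-invariant irreducible character
of `K`, `χ` over `θ` in the block `B` with defect group `P`. -/
theorem height_le_of_invariant {G : Type u} [Group G] [Fintype G] {p : ℕ} [Fact p.Prime]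
    {M : Ideal AlgInt} (hM : IsPModular p M) (hsolv : Cfsg.IsPSolvable p G)
    (K : Subgroup G) [hKn : K.Normal] [Fintype K] (hK : K = Cfsg.pPrimeCore p G)
    (θ : IrrCharacter K) (hinv : ∀ g : G, cjIrr K g θ = θ)
    {B : Set (IrrCharacter G)} (hB : IsPBlock M B) {P : Subgroup G}
    (hP : IsDefectGroup p M B P) {χ : IrrCharacter G} (hχ : χ ∈ B)
    (hχθ : classInner (fun n : K => (χ : G → ℂ) n) (θ : K → ℂ) ≠ 0) :
    blockHeight p B (χ : G → ℂ) ≤ ((Subgroup.center P).index).factorization p := by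
  classical
  have hMp : M.IsPrime := helper20.isPrime_of_isPModular hM
  have hpp : p.Prime := Fact.out
  obtain ⟨L, hL⟩ : ∃ L : Subgroup G, L = Cfsg.pPrimePCore p G := ⟨_, rfl⟩
  have hLn : L.Normal := by rw [hL]; exact helper38.pPrimePCore_normal p G
  have : Fintype L := Fintype.ofFinite _
  have hKL : K ≤ L := by rw [hK, hL]; exact pPrimeCore_le_pPrimePCore' p
  have hKcop : (Nat.card K).Coprime p := by
    rw [hK]; exact helper40.pPrimeCore_card_coprime p G
  have hKp : ¬ p ∣ Nat.card K := fun h =>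
    hpp.one_lt.ne' (Nat.Coprime.eq_one_of_dvd hKcop.symm h)
  obtain ⟨k, hidx⟩ : ∃ k : ℕ, K.relIndex L = p ^ k := by
    rw [hK, hL]; exact relIndex_pPrimeCore_pPrimePCore p
  have hCL : ∀ Q : Subgroup G, Q ≤ L → IsPGroup p Q → ¬ p ∣ Q.relIndex L →
      Subgroup.centralizer (Q : Set G) ≤ L := by
    intro Q _ _ hQ
    rw [hL] at hQ ⊢
    exact helper38.centralizer_le_pPrimePCore_of_isPSolvable hsolv Q hQ
  obtain ⟨hS, hSD⟩ := fong_cover_structure K L hM hKL hKp hidx hCL θ hinv
  have hBS := helper80.isPBlock_eq_of_mem hMp hB hS hχ hχθ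
  have hPi : ¬ p ∣ P.index := hSD P (hBS ▸ hP)
  have hPp : IsPGroup p P := helper80.IsDefectGroup.isPGroup hP
  -- the subgroup `A`
  obtain ⟨A, hA⟩ : ∃ A : Subgroup G, A = centerMod K L := ⟨_, rfl⟩
  have hAn : A.Normal := by rw [hA]; infer_instance
  have : Fintype A := Fintype.ofFinite _
  have hKA : K ≤ A := by rw [hA]; exact le_centerMod K L hKL
  have hAL : A ≤ L := by rw [hA]; exact centerMod_le K L
  have hZA : (Subgroup.center P).map P.subtype ≤ A := by
    rintro _ ⟨z, hz, rfl⟩
    rw [hA]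
    apply center_le_centerMod_of_isPSolvable hsolv K L hK hL P hPp hPi
    intro y hy
    have := (Subgroup.mem_center_iff.mp hz) ⟨y, hy⟩
    exact congrArg Subtype.val this
  -- characters
  have : Fintype (K.subgroupOf A) := Fintype.ofFinite _
  obtain ⟨μ, hμ⟩ := exists_constituent_restrict_top A χ
  obtain ⟨θ₁, hθ₁⟩ := exists_constituent_restrict K A hKA μ
  have h2 := classInner_restrict_ne_zero_trans K A hKA χ μ θ₁ hμ hθ₁
  obtain ⟨g, hg⟩ := helper82.clifford_conj K χ.2 θ.2 θ₁.2 hχθ h2
  have h3 : θ₁ = cjIrr K g θ := Subtype.ext hg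
  rw [hinv g] at h3
  rw [h3] at hθ₁
  obtain ⟨θl, hθl⟩ : ∃ θl : IrrCharacter (K.subgroupOf A),
      (θl : K.subgroupOf A → ℂ) = helper82.subRes K A (θ : K → ℂ) :=
    ⟨⟨helper82.subRes K A (θ : K → ℂ), helper82.isIrrCharacter_subRes K A hKA θ.2⟩, rfl⟩
  have hμl : classInner (fun n : K.subgroupOf A => (μ : A → ℂ) n)
      (θl : K.subgroupOf A → ℂ) ≠ 0 := by
    rw [hθl, ← helper82.subRes_restrict K A hKA (μ : A → ℂ), helper82.classInner_subRes K A hKA]
    exact hθ₁
  have hθlinv : ∀ a : A, helper82.cconj (K.subgroupOf A) a (θl : K.subgroupOf A → ℂ)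
      = (θl : K.subgroupOf A → ℂ) := by
    intro a
    rw [hθl, helper82.cconj_subRes]
    have h1 := congrArg Subtype.val (hinv (a : G))
    rw [cjIrr_coe] at h1
    rw [h1]
  have hab : ∀ x y : A, x * y * x⁻¹ * y⁻¹ ∈ K.subgroupOf A := by
    intro x y
    rw [Subgroup.mem_subgroupOf]
    have hx : (x : G) ∈ centerMod K L := by rw [← hA]; exact x.2
    have := hx.2 (y : G) (hAL y.2)
    simpa using this
  have hcop : Nat.Coprime (K.subgroupOf A).index (Nat.card (K.subgroupOf A)) := by
    have e1 : Nat.card (K.subgroupOf A) = Nat.card K :=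
      Nat.card_congr (Subgroup.subgroupOfEquivOfLe hKA).toEquiv
    have e2 : (K.subgroupOf A).index ∣ p ^ k := by
      rw [← hidx]
      exact Dvd.intro _ (Subgroup.relIndex_mul_relIndex K A L hKA hAL)
    obtain ⟨j, _, hj⟩ := (Nat.dvd_prime_pow hpp).mp e2
    rw [e1, hj]
    exact Nat.Coprime.pow_left j hKcop.symm
  have hdeg : (μ : A → ℂ) 1 = (θ : K → ℂ) 1 := by
    rw [degree_eq_of_abelian_coprime (K.subgroupOf A) hab hcop θl hθlinv μ hμl, hθl,
      helper82.subRes_apply]
    rfl
  obtain ⟨m, hmA, hm⟩ := helper82.degree_quot_dvd_index A χ.2 μ.2 hμ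
  have hχ1 : (χ : G → ℂ) 1 = (charDegree (χ : G → ℂ) : ℂ) := helper82.irr_one_eq χ
  have hθ1 : (θ : K → ℂ) 1 = (charDegree (θ : K → ℂ) : ℂ) := helper82.irr_one_eq θ
  have hcd : charDegree (χ : G → ℂ) = m * charDegree (θ : K → ℂ) := by
    have : ((charDegree (χ : G → ℂ) : ℕ) : ℂ) = ((m * charDegree (θ : K → ℂ) : ℕ) : ℂ) := by
      rw [← hχ1, hm, hdeg, hθ1]; push_cast; ring
    exact_mod_cast this
  have hθdvd : charDegree (θ : K → ℂ) ∣ Nat.card K := helper82.irr_degree_dvd_card θ
  have hθp : ¬ p ∣ charDegree (θ : K → ℂ) := fun h => hKp (dvd_trans h hθdvd)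
  have hθ0 : charDegree (θ : K → ℂ) ≠ 0 := by
    intro h
    rw [h] at hθdvd
    exact (Nat.card_pos (α := K)).ne' (Nat.eq_zero_of_zero_dvd hθdvd)
  have hAi0 : A.index ≠ 0 := Subgroup.index_ne_zero_of_finite
  have hm0 : m ≠ 0 := by
    intro h
    rw [h] at hmA
    exact hAi0 (Nat.eq_zero_of_zero_dvd hmA)
  have hfac : (charDegree (χ : G → ℂ)).factorization p ≤ A.index.factorization p := by
    rw [hcd, Nat.factorization_mul hm0 hθ0]
    have e : (charDegree (θ : K → ℂ)).factorization p = 0 :=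
      Nat.factorization_eq_zero_of_not_dvd hθp
    have e' := (Nat.factorization_le_iff_dvd hm0 hAi0).mpr hmA p
    simp only [Finsupp.coe_add, Pi.add_apply]
    omega
  have hle : blockHeight p B (χ : G → ℂ) ≤ (charDegree (χ : G → ℂ)).factorization p := by
    unfold blockHeight
    exact Nat.sub_le _ _
  exact le_trans hle (le_trans hfac (factorization_index_le_of_center_le p P A hPi hZA))

/-- **Fong's bound**, by induction on the group order. -/
theorem fong_height_le_aux (n : ℕ) : ∀ {G : Type u} [Group G] [Finite G], Nat.card G ≤ n →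
    ∀ (p : ℕ) [Fact p.Prime] (M : Ideal AlgInt) (_ : IsPModular p M)
      (_ : Cfsg.IsPSolvable p G) (B : Set (IrrCharacter G)) (_ : IsPBlock M B) (P : Subgroup G)
      (_ : IsDefectGroup p M B P) (χ : IrrCharacter G) (_ : χ ∈ B),
      blockHeight p B (χ : G → ℂ) ≤ ((Subgroup.center P).index).factorization p := by
  induction n with
  | zero =>
    intro G _ _ h
    exfalso
    have := Nat.card_pos (α := G)
    omega
  | succ n ih =>
    intro G _ _ hn p _ M hM hsolv B hB P hP χ hχ
    classical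
    have : Fintype G := Fintype.ofFinite G
    have hMp : M.IsPrime := helper20.isPrime_of_isPModular hM
    have hpp : p.Prime := Fact.out
    obtain ⟨K, hK⟩ : ∃ K : Subgroup G, K = Cfsg.pPrimeCore p G := ⟨_, rfl⟩
    have hKn : K.Normal := by rw [hK]; exact helper40.pPrimeCore_normal' p G
    have : Fintype K := Fintype.ofFinite _
    obtain ⟨θ, hθ⟩ := exists_constituent_restrict_top K χ
    by_cases hinv : ∀ g : G, cjIrr K g θ = θ
    · exact height_le_of_invariant hM hsolv K hK θ hinv hB hP hχ hθ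
    · have hKcop : (Nat.card K).Coprime p := by
        rw [hK]; exact helper40.pPrimeCore_card_coprime p G
      have hKp : ¬ p ∣ Nat.card K := fun h =>
        hpp.one_lt.ne' (Nat.Coprime.eq_one_of_dvd hKcop.symm h)
      obtain ⟨T, hT⟩ : ∃ T : Subgroup G, T = helper82.inertia K (θ : K → ℂ) := ⟨_, rfl⟩
      have : Fintype T := Fintype.ofFinite _
      have hTmem : ∀ g : G, g ∈ T ↔ cjIrr K g θ = θ := by
        intro g
        rw [hT, helper82.mem_inertia, ← cjIrr_coe]
        constructor
        · intro h; exact Subtype.ext h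
        · intro h; rw [h]
      have hKT : K ≤ T := by
        rw [hT]
        exact helper82.le_inertia K (helper4.isClassFunction_of_isIrrCharacter θ.2)
      obtain ⟨b, hbdef⟩ : ∃ b : Set (IrrCharacter K), b = blockOf M (θ : K → ℂ) := ⟨_, rfl⟩
      have hb : IsPBlock M b := by rw [hbdef]; exact helper80.isPBlock_blockOf M θ
      have hθb : θ ∈ b := by rw [hbdef]; exact helper80.mem_blockOf_self hMp θ
      have hb1 : ∀ θ' ∈ b, θ' = θ := by
        intro θ' hθ'
        rw [hbdef] at hθ'
        exact (eq_of_sameBlock_of_not_dvd_card K hM hKp hθ').symm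
      have hTs : ∀ t ∈ T, ∀ θ' ∈ b, cjIrr K t θ' ∈ b := by
        intro t ht θ' hθ'
        rw [hb1 θ' hθ', (hTmem t).mp ht]
        exact hθb
      have hTc : ∀ g : G, ∀ θ' ∈ b, cjIrr K g θ' ∈ b → g ∈ T := by
        intro g θ' hθ' h
        rw [hb1 θ' hθ'] at h
        exact (hTmem g).mpr (hb1 _ h)
      have hcov : ∃ χ ∈ B, ∃ θ ∈ b,
          classInner (fun n : K => (χ : G → ℂ) n) (θ : K → ℂ) ≠ 0 := ⟨χ, hχ, θ, hθb, hθ⟩
      obtain ⟨B', hB', hcov', hind⟩ := fr_part_three K T hMp hKT hTc hB hcov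
      obtain ⟨B₂, hind₂, -, hirr, hiff⟩ := fr_part_one K T hMp hKT hb hTs hTc hB' hcov'
      have hBB : B₂ = B := isInducedBlock_unique T hMp hind₂ hind
      rw [hBB] at hiff
      have h1 : ∀ ψ ∈ B', ∃ χ ∈ B, (χ : G → ℂ) = indFun T (ψ : T → ℂ) := fun ψ hψ =>
        ⟨⟨_, hirr ψ hψ⟩, (hiff _).mpr ⟨ψ, hψ, rfl⟩, rfl⟩
      have h2 : ∀ χ ∈ B, ∃ ψ ∈ B', (χ : G → ℂ) = indFun T (ψ : T → ℂ) := fun χ hχ =>
        (hiff χ).mp hχ
      obtain ⟨ψ, hψ, hχψ⟩ := h2 χ hχ
      have hne : B'.Nonempty := ⟨ψ, hψ⟩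
      have hht := blockHeight_eq_of_indFun T p hne h1 h2 hχψ
      have hdef := blockDefect_eq_of_indFun T p hne h1 h2
      obtain ⟨D, hD⟩ := helper80.exists_isDefectGroup p hMp hB'
      have hD' := isDefectGroup_of_induced_of_defect_eq T hM hind hdef.symm hD
      obtain ⟨x, hx⟩ := helper80.IsDefectGroup.exists_conj_eq hM hB hD' hP
      have hTlt : Nat.card T < Nat.card G := by
        by_contra hcon
        have h3 : Nat.card T = Nat.card G :=
          le_antisymm (Subgroup.card_le_card_group T) (not_lt.mp hcon)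
        have h4 : T = ⊤ := Subgroup.eq_top_of_card_eq T h3
        apply hinv
        intro g
        exact (hTmem g).mp (h4 ▸ Subgroup.mem_top g)
      have hTn : Nat.card T ≤ n := by omega
      have hTsolv : Cfsg.IsPSolvable p T := helper38.isPSolvable_subgroup T hsolv
      have ih' := ih hTn p M hM hTsolv B' hB' D hD ψ hψ
      rw [hht]
      refine le_trans ih' (le_of_eq ?_)
      subst hx
      have e : ↥D ≃* ↥((D.map T.subtype).map (MulAut.conj x).toMonoidHom) :=
        (D.equivMapOfInjective T.subtype (Subgroup.subtype_injective T)).trans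
          ((D.map T.subtype).equivMapOfInjective (MulAut.conj x).toMonoidHom
            (MulAut.conj x).injective)
      rw [index_center_congr e]

/-- **Fong.**  In a finite `p`-solvable group, the height of an irreducible character in a block
with defect group `P` is at most the exponent of `p` in `|P : Z(P)|`. -/
theorem fong_height_le {G : Type u} [Group G] [Finite G] (p : ℕ) [Fact p.Prime]
    (M : Ideal AlgInt) (hM : IsPModular p M) (hsolv : Cfsg.IsPSolvable p G)
    (B : Set (IrrCharacter G)) (hB : IsPBlock M B) (P : Subgroup G)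
    (hP : IsDefectGroup p M B P) (χ : IrrCharacter G) (hχ : χ ∈ B) :
    blockHeight p B (χ : G → ℂ) ≤ ((Subgroup.center P).index).factorization p :=
  fong_height_le_aux (Nat.card G) le_rfl p M hM hsolv B hB P hP χ hχ

end FongHeightB

end Cfsg.Agent.Lib.helper77
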