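import Cfsg.Agent.Lib.helper3.GfHeis

/-! S4395, EXB sub-split (helper3): piece HCOV3 (`K = P⟨y⟩`, `yP` of order exactly `n`). -/

set_option autoImplicit false

namespace Cfsg.Agent.Lib.helper3.Gf

universe u

open HG

section
variable {n : ℕ} [NeZero n] {L : Type u} [Field L] {σ : L →+* L} {lam : L} [h : HData n L σ lam]

/-- The powers of `Hy`. -/
theorem helper77_Hy_pow (m : ℕ) :
    ((Hy : HG n L σ lam) ^ m).x = 0 ∧ ((Hy : HG n L σ lam) ^ m).z = 0 ∧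
      ((Hy : HG n L σ lam) ^ m).k = (m : ZMod n) := by
  induction m with
  | zero =>
    rw [pow_zero]
    refine ⟨rfl, rfl, ?_⟩
    rw [Nat.cast_zero]
    rfl
  | succ m ih =>
    obtain ⟨h1, h2, h3⟩ := ih
    have hx : (Hy : HG n L σ lam).x = 0 := rfl
    have hz : (Hy : HG n L σ lam).z = 0 := rfl
    have hk : (Hy : HG n L σ lam).k = 1 := rfl
    rw [pow_succ]
    refine ⟨?_, ?_, ?_⟩
    · rw [mul_x, h1, hx, mul_zero, add_zero]
    · rw [mul_z, h1, h2, hz, zero_mul, add_zero, add_zero]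
    · rw [mul_k, h3, hk, Nat.cast_succ]

/-- HCOV3 (M) : `K = P⟨y⟩`, `yP` has order exactly `n`. (`(Hy^m).k = m`, `.x = 0`, `.z = 0`;
`(x,z,k) = (x,z,0) * Hy^(k.val)`.) -/
theorem hcov3 :
    (HP : Subgroup (HG n L σ lam)) ⊔ Subgroup.zpowers (Hy : HG n L σ lam) = ⊤ ∧
    (∀ k : ℕ, (Hy : HG n L σ lam) ^ k ∈ (HP : Subgroup (HG n L σ lam)) → n ∣ k) ∧
    (Hy : HG n L σ lam) ^ n ∈ (HP : Subgroup (HG n L σ lam)) := by
  refine ⟨?_, ?_, ?_⟩
  · rw [eq_top_iff]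
    intro g _
    have hg : g = (⟨g.x, g.z, 0, g.hz⟩ : HG n L σ lam) * (Hy : HG n L σ lam) ^ g.k.val := by
      obtain ⟨h1, h2, h3⟩ := helper77_Hy_pow (n := n) (L := L) (σ := σ) (lam := lam) g.k.val
      ext
      · rw [mul_x, h1, mul_zero, add_zero]
      · rw [mul_z, h1, h2, mul_zero, map_zero, mul_zero, add_zero, add_zero]
      · rw [mul_k, h3, zero_add, ZMod.natCast_zmod_val]
    rw [hg]
    refine Subgroup.mul_mem_sup ?_ (Subgroup.pow_mem _ (Subgroup.mem_zpowers _) _)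
    rw [mem_HP]
  · intro k hk
    rw [mem_HP, (helper77_Hy_pow (n := n) (L := L) (σ := σ) (lam := lam) k).2.2] at hk
    exact (ZMod.natCast_eq_zero_iff k n).mp hk
  · rw [mem_HP, (helper77_Hy_pow (n := n) (L := L) (σ := σ) (lam := lam) n).2.2]
    exact ZMod.natCast_self n

end

end Cfsg.Agent.Lib.helper3.Gf
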