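import Cfsg.Agent.Lib.helper3.GfHeis
import Cfsg.Agent.Lib.helper77.GfHHCOV3

/-! S4395, EXB sub-split (helper3): piece HCOV4 (`y^q` trivial on `P/N`, `y` non-trivial on `P/N`). -/

set_option autoImplicit false

namespace Cfsg.Agent.Lib.helper3.Gf

universe u

open HG

section
variable {n : ℕ} [NeZero n] {L : Type u} [Field L] {σ : L →+* L} {lam : L} [h : HData n L σ lam]

/-- Conjugation by `g` with `g.x = 0` on `HP`, modulo `HN`. -/
theorem helper77_conj_comm (g u : HG n L σ lam) (hg : g.x = 0) (hu : u.k = 0) :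
    (g * u * g⁻¹ * u⁻¹).x = (pw lam g.k - 1) * u.x ∧ (g * u * g⁻¹ * u⁻¹).k = 0 := by
  refine ⟨?_, ?_⟩
  · simp only [mul_x, mul_k, inv_x, inv_k, hg, hu, add_zero, neg_zero, mul_zero, zero_add,
      add_neg_cancel, pw_zero, one_mul]
    ring
  · simp only [mul_k, inv_k, hu, add_zero, neg_zero, add_neg_cancel]

/-- HCOV4 (M) : `y^q` trivial on `P/N`, `y` non-trivial on `P/N`.
(`(g * u * g⁻¹).x = lam^(g.k) * u.x` for `u.k = 0`; `lam^q = 1`; `u = (1, z, 0)`.) -/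
theorem hcov4 (q : ℕ) (hq : lam ^ q = 1) (hne : lam ≠ 1) (h1 : ∃ z : L, z + σ z = 1) :
    (∀ u ∈ (HP : Subgroup (HG n L σ lam)),
      (Hy : HG n L σ lam) ^ q * u * ((Hy : HG n L σ lam) ^ q)⁻¹ * u⁻¹ ∈ (HN : Subgroup (HG n L σ lam))) ∧
    ∃ u ∈ (HP : Subgroup (HG n L σ lam)),
      (Hy : HG n L σ lam) * u * (Hy : HG n L σ lam)⁻¹ * u⁻¹ ∉ (HN : Subgroup (HG n L σ lam)) := by
  refine ⟨?_, ?_⟩
  · intro u hu
    rw [mem_HP] at hu
    obtain ⟨hx, -, hk⟩ := helper77_Hy_pow (n := n) (L := L) (σ := σ) (lam := lam) q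
    obtain ⟨c1, c2⟩ := helper77_conj_comm ((Hy : HG n L σ lam) ^ q) u hx hu
    rw [mem_HN]
    refine ⟨?_, c2⟩
    rw [c1, hk]
    have hpw : pw lam ((q : ℕ) : ZMod n) = 1 := by
      unfold pw
      rw [ZMod.val_natCast, ← pow_eq_pow_mod q h.pown, hq]
    rw [hpw, sub_self, zero_mul]
  · obtain ⟨z, hz⟩ := h1
    refine ⟨⟨1, z, 0, by rw [hz, map_one, mul_one]⟩, rfl, ?_⟩
    intro hmem
    rw [mem_HN] at hmem
    obtain ⟨c1, -⟩ := helper77_conj_comm (Hy : HG n L σ lam)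
      (⟨1, z, 0, by rw [hz, map_one, mul_one]⟩ : HG n L σ lam) rfl rfl
    rw [c1] at hmem
    have hk1 : (Hy : HG n L σ lam).k = 1 := rfl
    have hpw : pw lam (1 : ZMod n) = lam := by
      unfold pw
      rw [ZMod.val_one_eq_one_mod, ← pow_eq_pow_mod 1 h.pown, pow_one]
    rw [hk1, hpw, mul_one] at hmem
    exact hne (sub_eq_zero.mp hmem.1)

end

end Cfsg.Agent.Lib.helper3.Gf
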