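import Mathlib
import Cfsg.Prelude.Def_Blocks
import Cfsg.Agent.Lib.helper77.FongReynolds
import Cfsg.Agent.Lib.helper80.FMTOver
import Cfsg.Agent.Lib.helper80.InducedBr

/-!
# Induced blocks over a subgroup containing the normalizer of a defect group (helper77)

* `memLocalIdeal_om_restrict_sub`: if the induced central character of `ξ` (on `H`) is congruent
  to the central character of `χ` everywhere, then `ω_ξ(z|H) ≡ ω_χ(z)` for every class function
  `z` of `G` with local values;
* `inducedCentralChar_sub_of_brInd`: transitivity of the Brauer correspondence through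
  `N_G(P) ≤ H`;
* `fmtOver_up`, `fmtOver_down`, `fmtOver_inj`: Brauer's First Main Theorem over `H ≥ N_G(P)`,
  in terms of `IsInducedBlock`.
-/

set_option autoImplicit false

namespace Cfsg.Agent.Lib.helper77

open Cfsg
open scoped ComplexConjugate

universe u

section IndTrans

variable {G : Type u} [Group G] [Fintype G]

/-- If the induced central character of `ξ` is congruent to the central character of `χ`, the
central character functionals agree modulo the local ideal on restrictions of class functions. -/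
theorem memLocalIdeal_om_restrict_sub {M : Ideal AlgInt} (hM : M.IsPrime) (H : Subgroup G)
    [Fintype H] (ξ : H → ℂ) (χ : IrrCharacter G)
    (h : ∀ g : G, MemLocalIdeal M (inducedCentralChar H ξ g - centralChar (χ : G → ℂ) g))
    {z : G → ℂ} (hz : IsClassFunction G z) (hzl : ∀ g, MemLocalRing M (z g)) :
    MemLocalIdeal M (helper80.om ξ (fun k : H => z k) - helper80.om (χ : G → ℂ) z) := by
  classical
  have : Fintype (ConjClasses G) := Fintype.ofFinite _
  have hexp : ∀ y, z y = ∑ c : ConjClasses G,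
      z (Quotient.out c) * helper80.classInd (Quotient.out c) y :=
    helper80.classFun_eq_sum_classInd hz
  have h1 : helper80.om ξ (fun k : H => z k) = ∑ c : ConjClasses G,
      z (Quotient.out c) * inducedCentralChar H ξ (Quotient.out c) := by
    have h2 : ∀ k : H, z k = ∑ c : ConjClasses G,
        z (Quotient.out c) * resClassInd H (Quotient.out c) k := fun k => hexp k
    rw [helper80.om_congr _ h2, helper80.om_sum]
    refine Finset.sum_congr rfl (fun c _ => ?_)
    rw [helper80.om_smul, inducedCentralChar_eq_om]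
  have h3 : helper80.om (χ : G → ℂ) z = ∑ c : ConjClasses G,
      z (Quotient.out c) * centralChar (χ : G → ℂ) (Quotient.out c) := by
    rw [helper80.om_congr _ hexp, helper80.om_sum]
    refine Finset.sum_congr rfl (fun c _ => ?_)
    rw [helper80.om_smul, helper80.om_classInd]
  rw [h1, h3, ← Finset.sum_sub_distrib]
  apply helper20.memLocalIdeal_sum hM
  intro c _
  rw [← mul_sub]
  exact helper20.memLocalIdeal_mul_left hM (hzl _) (h _)

variable {p : ℕ} [Fact p.Prime] {M : Ideal AlgInt}

/-- Transitivity of the Brauer correspondence through `N_G(P) ≤ H`. -/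
theorem inducedCentralChar_sub_of_brInd (hM : M.IsPrime) (P H : Subgroup G) [Fintype H]
    (hH : Subgroup.normalizer (P : Set G) ≤ H)
    [Fintype (Subgroup.normalizer (P : Set G))]
    [Fintype ((Subgroup.normalizer (P : Set G)).subgroupOf H)]
    (θ : IrrCharacter ((Subgroup.normalizer (P : Set G)).subgroupOf H)) (ψ : IrrCharacter H)
    (χ : IrrCharacter G)
    (h1 : helper80.BrInd M (P.subgroupOf H) ((Subgroup.normalizer (P : Set G)).subgroupOf H)
      (θ : (Subgroup.normalizer (P : Set G)).subgroupOf H → ℂ) (ψ : H → ℂ))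
    (h2 : helper80.BrInd M P (Subgroup.normalizer (P : Set G))
      (helper80.irrMap (Subgroup.subgroupOfEquivOfLe hH) θ : Subgroup.normalizer (P : Set G) → ℂ)
      (χ : G → ℂ))
    (g : G) :
    MemLocalIdeal M (inducedCentralChar H (ψ : H → ℂ) g - centralChar (χ : G → ℂ) g) := by
  classical
  have hPH : P ≤ H := le_trans Subgroup.le_normalizer hH
  have e2 := (helper80.brInd_iff_classInd hM P _ _ χ).mp h2 g
  have e1 := h1 (resClassInd H g) ⟨isClassFunction_resClassInd H g, memLocalRing_resClassInd H hM g⟩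
  rw [inducedCentralChar_eq_om]
  have key : helper80.om (helper80.irrMap (Subgroup.subgroupOfEquivOfLe hH) θ :
        Subgroup.normalizer (P : Set G) → ℂ)
        (helper80.brH P (Subgroup.normalizer (P : Set G)) (helper80.classInd g))
      = helper80.om (θ : (Subgroup.normalizer (P : Set G)).subgroupOf H → ℂ)
        (helper80.brH (P.subgroupOf H) ((Subgroup.normalizer (P : Set G)).subgroupOf H)
          (resClassInd H g)) := by
    unfold helper80.om
    have h3 : (helper80.irrMap (Subgroup.subgroupOfEquivOfLe hH) θ :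
        Subgroup.normalizer (P : Set G) → ℂ) 1
        = (θ : (Subgroup.normalizer (P : Set G)).subgroupOf H → ℂ) 1 := by
      rw [helper80.irrMap_apply, map_one]
    rw [h3]
    congr 1
    symm
    apply Fintype.sum_equiv (Subgroup.subgroupOfEquivOfLe hH).toEquiv
    intro k
    have h4 : (helper80.irrMap (Subgroup.subgroupOfEquivOfLe hH) θ :
        Subgroup.normalizer (P : Set G) → ℂ) ((Subgroup.subgroupOfEquivOfLe hH).toEquiv k)
        = (θ : (Subgroup.normalizer (P : Set G)).subgroupOf H → ℂ) k :=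
      helper80.irrMap_apply' (Subgroup.subgroupOfEquivOfLe hH) θ k
    rw [h4]
    congr 1
    by_cases hc : ((k : H) : G) ∈ Subgroup.centralizer (P : Set G)
    · rw [helper80.brH_of_mem (P.subgroupOf H) _ _
        ((helper80.mem_centralizer_subgroupOf_iff P H hPH (k : H)).mpr hc),
        helper80.brH_of_mem P (Subgroup.normalizer (P : Set G)) _
          (h := (Subgroup.subgroupOfEquivOfLe hH).toEquiv k) hc]
      rfl
    · rw [helper80.brH_of_not_mem (P.subgroupOf H) _ _
        (fun hc' => hc ((helper80.mem_centralizer_subgroupOf_iff P H hPH (k : H)).mp hc')),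
        helper80.brH_of_not_mem P (Subgroup.normalizer (P : Set G)) _
          (h := (Subgroup.subgroupOfEquivOfLe hH).toEquiv k) hc]
  rw [key] at e2
  have h5 := helper20.memLocalIdeal_sub hM e2 e1
  have h6 : helper80.om (θ : (Subgroup.normalizer (P : Set G)).subgroupOf H → ℂ)
        (helper80.brH (P.subgroupOf H) ((Subgroup.normalizer (P : Set G)).subgroupOf H)
          (resClassInd H g)) - centralChar (χ : G → ℂ) g
      - (helper80.om (θ : (Subgroup.normalizer (P : Set G)).subgroupOf H → ℂ)
        (helper80.brH (P.subgroupOf H) ((Subgroup.normalizer (P : Set G)).subgroupOf H)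
          (resClassInd H g)) - helper80.om (ψ : H → ℂ) (resClassInd H g))
      = helper80.om (ψ : H → ℂ) (resClassInd H g) - centralChar (χ : G → ℂ) g := by ring
  rw [h6] at h5
  exact h5

/-- Auxiliary form of the First Main Theorem over `H ≥ N_G(P)`: a block `c` of `H` with defect
group `P` induces a block `B` of `G` with defect group `P`, through a block of `N_G(P)`. -/
theorem fmtOver_aux (hM : IsPModular p M) (P H : Subgroup G) [Fintype H] (hP : IsPGroup p P)
    (hH : Subgroup.normalizer (P : Set G) ≤ H)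
    [Fintype (Subgroup.normalizer (P : Set G))]
    [Fintype ((Subgroup.normalizer (P : Set G)).subgroupOf H)]
    {c : Set (IrrCharacter H)} (hc : IsPBlock M c)
    (hDc : IsDefectGroup p M c (P.subgroupOf H)) :
    ∃ (c₁ : Set (IrrCharacter ((Subgroup.normalizer (P : Set G)).subgroupOf H)))
      (B : Set (IrrCharacter G)),
      IsPBlock M c₁ ∧
      (∀ θ ∈ c₁, ∀ ψ ∈ c, helper80.BrInd M (P.subgroupOf H)
        ((Subgroup.normalizer (P : Set G)).subgroupOf H)
        (θ : (Subgroup.normalizer (P : Set G)).subgroupOf H → ℂ) (ψ : H → ℂ)) ∧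
      IsPBlock M B ∧ IsDefectGroup p M B P ∧
      IsPBlock M (helper80.blockMap (Subgroup.subgroupOfEquivOfLe hH) c₁) ∧
      IsDefectGroup p M (helper80.blockMap (Subgroup.subgroupOfEquivOfLe hH) c₁)
        (P.subgroupOf (Subgroup.normalizer (P : Set G))) ∧
      (∀ θ ∈ c₁, ∀ χ ∈ B, helper80.BrInd M P (Subgroup.normalizer (P : Set G))
        (helper80.irrMap (Subgroup.subgroupOfEquivOfLe hH) θ :
          Subgroup.normalizer (P : Set G) → ℂ) (χ : G → ℂ)) ∧
      IsInducedBlock M H c B := by
  classical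
  have hMp := helper20.isPrime_of_isPModular hM
  have hPH : P ≤ H := le_trans Subgroup.le_normalizer hH
  obtain ⟨c₁, hc₁, hDc₁, -, hind₁, -⟩ := helper80.fmt_down (G := H) hM (P.subgroupOf H)
    ((Subgroup.normalizer (P : Set G)).subgroupOf H) hP.comap_subtype
    (helper80.subgroupOf_normalizer_le P H) (helper80.normalizer_subgroupOf_le P H hPH) hc hDc
  have hcN := helper80.isPBlock_blockMap (M := M) (Subgroup.subgroupOfEquivOfLe hH) hc₁
  have hDcN := helper80.isDefectGroup_blockMap (Subgroup.subgroupOfEquivOfLe hH) hDc₁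
  rw [helper80.map_subgroupOfEquivOfLe P hH] at hDcN
  obtain ⟨B, hB, hDB, -, hindB, -⟩ := helper80.fmt_up hM P (Subgroup.normalizer (P : Set G)) hP
    le_rfl le_rfl hcN hDcN
  have hindB' : ∀ θ ∈ c₁, ∀ χ ∈ B, helper80.BrInd M P (Subgroup.normalizer (P : Set G))
      (helper80.irrMap (Subgroup.subgroupOfEquivOfLe hH) θ :
        Subgroup.normalizer (P : Set G) → ℂ) (χ : G → ℂ) := fun θ hθ χ hχ =>
    hindB _ ((helper80.irrMap_mem_blockMap _ c₁ θ).mpr hθ) χ hχ
  refine ⟨c₁, B, hc₁, hind₁, hB, hDB, hcN, hDcN, hindB', hc, hB, ?_⟩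
  intro ψ hψ χ hχ g
  obtain ⟨θ, hθ⟩ := helper80.isPBlock_nonempty hMp hc₁
  exact inducedCentralChar_sub_of_brInd hMp P H hH θ ψ χ (hind₁ θ hθ ψ hψ) (hindB' θ hθ χ hχ) g

/-- First Main Theorem over `H ≥ N_G(P)`, upwards: a block of `H` with defect group `P` induces
a block of `G` with defect group `P`. -/
theorem fmtOver_up (hM : IsPModular p M) (P H : Subgroup G) [Fintype H] (hP : IsPGroup p P)
    (hH : Subgroup.normalizer (P : Set G) ≤ H)
    {c : Set (IrrCharacter H)} (hc : IsPBlock M c)
    (hDc : IsDefectGroup p M c (P.subgroupOf H)) :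
    ∃ B : Set (IrrCharacter G), IsPBlock M B ∧ IsDefectGroup p M B P ∧
      IsInducedBlock M H c B := by
  classical
  have : Fintype (Subgroup.normalizer (P : Set G)) := Fintype.ofFinite _
  have : Fintype ((Subgroup.normalizer (P : Set G)).subgroupOf H) := Fintype.ofFinite _
  obtain ⟨c₁, B, -, -, hB, hDB, -, -, -, hind⟩ := fmtOver_aux hM P H hP hH hc hDc
  exact ⟨B, hB, hDB, hind⟩

/-- First Main Theorem over `H ≥ N_G(P)`, injectivity: two blocks of `H` with defect group `P`
inducing the same block of `G` are equal. -/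
theorem fmtOver_inj (hM : IsPModular p M) (P H : Subgroup G) [Fintype H] (hP : IsPGroup p P)
    (hH : Subgroup.normalizer (P : Set G) ≤ H)
    {c c' : Set (IrrCharacter H)} (hc : IsPBlock M c)
    (hDc : IsDefectGroup p M c (P.subgroupOf H)) (hc' : IsPBlock M c')
    (hDc' : IsDefectGroup p M c' (P.subgroupOf H)) {B : Set (IrrCharacter G)}
    (h : IsInducedBlock M H c B) (h' : IsInducedBlock M H c' B) : c = c' := by
  classical
  have hMp := helper20.isPrime_of_isPModular hM
  have : Fintype (Subgroup.normalizer (P : Set G)) := Fintype.ofFinite _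
  have : Fintype ((Subgroup.normalizer (P : Set G)).subgroupOf H) := Fintype.ofFinite _
  obtain ⟨c₁, B₁, hc₁, hind₁, hB₁, hDB₁, hcN, hDcN, hindB, hI⟩ :=
    fmtOver_aux hM P H hP hH hc hDc
  obtain ⟨c₂, B₂, hc₂, hind₂, hB₂, hDB₂, hcN₂, hDcN₂, hindB₂, hI₂⟩ :=
    fmtOver_aux hM P H hP hH hc' hDc'
  have e1 : B₁ = B := isInducedBlock_unique H hMp hI h
  have e2 : B₂ = B := isInducedBlock_unique H hMp hI₂ h'
  rw [e1] at hindB
  rw [e2] at hindB₂
  obtain ⟨θ₁, hθ₁⟩ := helper80.isPBlock_nonempty hMp hc₁
  obtain ⟨θ₂, hθ₂⟩ := helper80.isPBlock_nonempty hMp hc₂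
  obtain ⟨χ, hχ⟩ := helper80.isPBlock_nonempty hMp h.2.1
  have hmem := helper80.BrInd.mem_of_defect hM P (Subgroup.normalizer (P : Set G)) hP
    le_rfl le_rfl hcN hDcN ((helper80.irrMap_mem_blockMap _ c₁ θ₁).mpr hθ₁)
    (hindB θ₁ hθ₁ χ hχ) (hindB₂ θ₂ hθ₂ χ hχ)
  have hθ₂' : θ₂ ∈ c₁ := (helper80.irrMap_mem_blockMap _ c₁ θ₂).mp hmem
  obtain ⟨ψ, hψ⟩ := helper80.isPBlock_nonempty hMp hc
  obtain ⟨ψ', hψ'⟩ := helper80.isPBlock_nonempty hMp hc'
  have hs : SameBlock M (ψ : H → ℂ) (ψ' : H → ℂ) :=
    helper80.BrInd.sameBlock hMp (hind₁ θ₂ hθ₂' ψ hψ) (hind₂ θ₂ hθ₂ ψ' hψ')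
  exact helper80.isPBlock_eq_of_mem hMp hc hc' (helper81.mem_of_sameBlock hMp hc hψ hs) hψ'

/-- First Main Theorem over `H ≥ N_G(P)`, downwards: a block of `G` with defect group `P` is
induced from a block of `H` with defect group `P`. -/
theorem fmtOver_down (hM : IsPModular p M) (P H : Subgroup G) [Fintype H] (hP : IsPGroup p P)
    (hH : Subgroup.normalizer (P : Set G) ≤ H)
    {B : Set (IrrCharacter G)} (hB : IsPBlock M B) (hDB : IsDefectGroup p M B P) :
    ∃ c : Set (IrrCharacter H), IsPBlock M c ∧ IsDefectGroup p M c (P.subgroupOf H) ∧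
      IsInducedBlock M H c B := by
  classical
  have hMp := helper20.isPrime_of_isPModular hM
  have hPH : P ≤ H := le_trans Subgroup.le_normalizer hH
  have : Fintype (Subgroup.normalizer (P : Set G)) := Fintype.ofFinite _
  have : Fintype ((Subgroup.normalizer (P : Set G)).subgroupOf H) := Fintype.ofFinite _
  obtain ⟨cN, hcN, hDcN, -, hindN, -⟩ := helper80.fmt_down hM P
    (Subgroup.normalizer (P : Set G)) hP le_rfl le_rfl hB hDB
  have hc₁ := helper80.isPBlock_blockMap (M := M) (Subgroup.subgroupOfEquivOfLe hH).symm hcN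
  have hDc₁ := helper80.isDefectGroup_blockMap (Subgroup.subgroupOfEquivOfLe hH).symm hDcN
  rw [helper80.map_subgroupOfEquivOfLe_symm P hH] at hDc₁
  obtain ⟨c, hc, hDc, -, hind, -⟩ := helper80.fmt_up (G := H) hM (P.subgroupOf H)
    ((Subgroup.normalizer (P : Set G)).subgroupOf H) hP.comap_subtype
    (helper80.subgroupOf_normalizer_le P H) (helper80.normalizer_subgroupOf_le P H hPH) hc₁ hDc₁
  refine ⟨c, hc, hDc, hc, hB, ?_⟩
  intro ψ hψ χ hχ g
  obtain ⟨θ, hθ⟩ := helper80.isPBlock_nonempty hMp hc₁
  have hθN : helper80.irrMap (Subgroup.subgroupOfEquivOfLe hH) θ ∈ cN :=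
    (helper80.mem_blockMap (Subgroup.subgroupOfEquivOfLe hH).symm cN θ).mp hθ
  exact inducedCentralChar_sub_of_brInd hMp P H hH θ ψ χ (hind θ hθ ψ hψ)
    (hindN _ hθN χ hχ) g

end IndTrans

end Cfsg.Agent.Lib.helper77
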