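import Mathlib
import Cfsg.Prelude.Def_Blocks
import Cfsg.Prelude.Def_BlockLocal
import Cfsg.Agent.Lib.helper77.IndTrans
import Cfsg.Agent.Lib.helper80.AbelFusion

/-!
# Block induction inside a subgroup (helper77)

* `inducedCentralCharIn_eq_sum`: the induced central character inside a subgroup as a finite sum;
* `inducedCentralCharIn_eq_inducedCentralChar`, `isInducedBlockIn_iff`: for `L ≤ N`, induction
  from `L` inside `N` is induction from `L.subgroupOf N` to the group `N`;
* `isInducedBlockIn_conjSet`: block induction inside a subgroup commutes with conjugation;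
* `isDefectGroup_conjSet`, `conjIrr_of_mem`, `conjSet_of_mem`: conjugate blocks.
-/

set_option autoImplicit false

namespace Cfsg.Agent.Lib.helper77

open Cfsg
open scoped ComplexConjugate

universe u

section IndIn

variable {G : Type u} [Group G]

open scoped Classical in
/-- The induced central character inside a subgroup as a finite sum. -/
theorem inducedCentralCharIn_eq_sum (N L : Subgroup G) [Fintype L] (ξ : L → ℂ) (g : G) :
    inducedCentralCharIn N L ξ g
      = ∑ k : L, if ∃ x : N, (x : G) * (k : G) * (x : G)⁻¹ = g then ξ k / ξ 1 else 0 := by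
  unfold inducedCentralCharIn
  rw [finsum_eq_sum_of_fintype]
  refine Finset.sum_congr rfl (fun k _ => ?_)
  exact finsum_eq_if

/-- For `L ≤ N`, the central character induced from `L` inside `N` is the central character
induced from `L.subgroupOf N` to the group `N`. -/
theorem inducedCentralCharIn_eq_inducedCentralChar [Finite G] (N L : Subgroup G) (hLN : L ≤ N)
    (ξ : L → ℂ) (n : N) :
    inducedCentralCharIn N L ξ (n : G)
      = inducedCentralChar (L.subgroupOf N)
          (fun k => ξ (Subgroup.subgroupOfEquivOfLe hLN k)) n := by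
  classical
  have : Fintype L := Fintype.ofFinite _
  have : Fintype (L.subgroupOf N) := Fintype.ofFinite _
  rw [inducedCentralCharIn_eq_sum]
  unfold inducedCentralChar
  rw [finsum_eq_sum_of_fintype]
  symm
  apply Fintype.sum_equiv (Subgroup.subgroupOfEquivOfLe hLN).toEquiv
  intro k
  rw [finsum_eq_if]
  have hk : (((Subgroup.subgroupOfEquivOfLe hLN).toEquiv k : L) : G) = ((k : N) : G) := rfl
  have hiff : (k ∈ {h : L.subgroupOf N | IsConj n (h : N)}) ↔ ∃ x : N,
      (x : G) * (((Subgroup.subgroupOfEquivOfLe hLN).toEquiv k : L) : G) * (x : G)⁻¹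
        = (n : G) := by
    rw [Set.mem_ofPred_eq, isConj_iff, hk]
    constructor
    · rintro ⟨c, hc⟩
      refine ⟨c⁻¹, ?_⟩
      have h1 : ((k : N) : G) = (c : G) * (n : G) * (c : G)⁻¹ := by
        rw [← hc]
        rfl
      rw [h1]
      show (c : G)⁻¹ * ((c : G) * (n : G) * (c : G)⁻¹) * (c : G)⁻¹⁻¹ = (n : G)
      group
    · rintro ⟨x, hx⟩
      refine ⟨x⁻¹, Subtype.ext ?_⟩
      show (x : G)⁻¹ * (n : G) * (x : G)⁻¹⁻¹ = ((k : N) : G)
      rw [← hx]
      group
  by_cases h : k ∈ {h : L.subgroupOf N | IsConj n (h : N)}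
  · rw [if_pos h, if_pos (hiff.mp h)]
    show ξ (Subgroup.subgroupOfEquivOfLe hLN k) / ξ (Subgroup.subgroupOfEquivOfLe hLN 1)
      = ξ ((Subgroup.subgroupOfEquivOfLe hLN).toEquiv k) / ξ 1
    rw [map_one]
    rfl
  · rw [if_neg h, if_neg (fun h' => h (hiff.mpr h'))]

/-- For `L ≤ N`, block induction from `L` inside `N` is block induction from `L.subgroupOf N`
to the group `N`. -/
theorem isInducedBlockIn_iff [Finite G] (M : Ideal AlgInt) (N L : Subgroup G) (hLN : L ≤ N)
    (e : Set (IrrCharacter L)) (d : Set (IrrCharacter N)) :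
    IsInducedBlockIn M N L e d ↔ IsInducedBlock M (L.subgroupOf N)
      (helper80.blockMap (Subgroup.subgroupOfEquivOfLe hLN).symm e) d := by
  constructor
  · rintro ⟨he, hd, h⟩
    refine ⟨helper80.isPBlock_blockMap _ he, hd, ?_⟩
    intro ξ' hξ' χ hχ n
    have h1 := h _ ((helper80.mem_blockMap _ e ξ').mp hξ') χ hχ n
    rw [inducedCentralCharIn_eq_inducedCentralChar N L hLN] at h1
    have h2 : (fun k : L.subgroupOf N =>
        (helper80.irrMap (Subgroup.subgroupOfEquivOfLe hLN).symm.symm ξ' : L → ℂ)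
          (Subgroup.subgroupOfEquivOfLe hLN k)) = (ξ' : L.subgroupOf N → ℂ) := by
      funext k
      rw [helper80.irrMap_apply]
      congr 1
    rw [h2] at h1
    exact h1
  · rintro ⟨he, hd, h⟩
    have he' : IsPBlock M e := by
      have h1 := helper80.isPBlock_blockMap (M := M) (Subgroup.subgroupOfEquivOfLe hLN).symm.symm he
      rwa [helper80.blockMap_symm_blockMap] at h1
    refine ⟨he', hd, ?_⟩
    intro ξ hξ χ hχ n
    have h1 := h _ ((helper80.irrMap_mem_blockMap (Subgroup.subgroupOfEquivOfLe hLN).symm e ξ).mpr hξ)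
      χ hχ n
    rw [inducedCentralCharIn_eq_inducedCentralChar N L hLN]
    have h2 : (fun k : L.subgroupOf N => (ξ : L → ℂ) (Subgroup.subgroupOfEquivOfLe hLN k))
        = (helper80.irrMap (Subgroup.subgroupOfEquivOfLe hLN).symm ξ : L.subgroupOf N → ℂ) := by
      funext k
      rw [helper80.irrMap_apply]
      congr 1
    rw [h2]
    exact h1

/-- Block induction inside a subgroup commutes with conjugation by an element normalizing both
subgroups. -/
theorem isInducedBlockIn_conjSet [Finite G] {M : Ideal AlgInt} (N L : Subgroup G) (h : G)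
    (hhN : h ∈ Subgroup.normalizer (N : Set G)) (hhL : h ∈ Subgroup.normalizer (L : Set G))
    {e : Set (IrrCharacter L)} {d : Set (IrrCharacter N)} (hed : IsInducedBlockIn M N L e d) :
    IsInducedBlockIn M N L (helper80.conjSet L h hhL e) (helper80.conjSet N h hhN d) := by
  classical
  have : Fintype L := Fintype.ofFinite _
  obtain ⟨he, hd, hcong⟩ := hed
  refine ⟨helper80.isPBlock_conjSet L h hhL he, helper80.isPBlock_conjSet N h hhN hd, ?_⟩
  rintro ξ' ⟨ξ, hξ, rfl⟩ χ' ⟨χ, hχ, rfl⟩ n
  obtain ⟨n₀, hn₀⟩ : ∃ n₀ : N, n₀ = (helper80.conjEquiv N h hhN).symm n := ⟨_, rfl⟩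
  have hn₀' : (n : G) = h * (n₀ : G) * h⁻¹ := by
    rw [hn₀, helper80.conjEquiv_symm_apply_coe]
    group
  have h1 : inducedCentralCharIn N L (helper80.conjIrr L h hhL ξ : L → ℂ) (n : G)
      = inducedCentralCharIn N L (ξ : L → ℂ) (n₀ : G) := by
    rw [inducedCentralCharIn_eq_sum, inducedCentralCharIn_eq_sum]
    symm
    apply Fintype.sum_equiv (helper80.conjEquiv L h hhL).toEquiv
    intro k
    have hiff : (∃ x : N, (x : G) * (k : G) * (x : G)⁻¹ = (n₀ : G)) ↔ (∃ x : N,
        (x : G) * (((helper80.conjEquiv L h hhL).toEquiv k : L) : G) * (x : G)⁻¹ = (n : G)) := by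
      constructor
      · rintro ⟨x, hx⟩
        refine ⟨helper80.conjEquiv N h hhN x, ?_⟩
        show (h * (x : G) * h⁻¹) * (h * (k : G) * h⁻¹) * (h * (x : G) * h⁻¹)⁻¹ = (n : G)
        rw [hn₀', ← hx]
        group
      · rintro ⟨x, hx⟩
        refine ⟨(helper80.conjEquiv N h hhN).symm x, ?_⟩
        show (h⁻¹ * (x : G) * h) * (k : G) * (h⁻¹ * (x : G) * h)⁻¹ = (n₀ : G)
        have hx' : (x : G) * (h * (k : G) * h⁻¹) * (x : G)⁻¹ = (n : G) := hx
        have h3 : (n₀ : G) = h⁻¹ * (n : G) * h := by
          rw [hn₀']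
          group
        rw [h3, ← hx']
        group
    have hval : (helper80.conjIrr L h hhL ξ : L → ℂ) ((helper80.conjEquiv L h hhL).toEquiv k)
        = (ξ : L → ℂ) k := helper80.conjIrr_apply L h hhL ξ k _ rfl
    by_cases hc : ∃ x : N, (x : G) * (k : G) * (x : G)⁻¹ = (n₀ : G)
    · rw [if_pos hc, if_pos (hiff.mp hc), hval, helper80.conjIrr_one_apply]
    · rw [if_neg hc, if_neg (fun hc' => hc (hiff.mpr hc'))]
  have h2 : centralChar (helper80.conjIrr N h hhN χ : N → ℂ) n = centralChar (χ : N → ℂ) n₀ :=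
    helper80.centralChar_conjIrr N h hhN χ n₀ n hn₀'
  rw [h1, h2]
  exact hcong ξ hξ χ hχ n₀

/-- The defect groups of a conjugate block. -/
theorem isDefectGroup_conjSet [Finite G] {p : ℕ} [Fact p.Prime] {M : Ideal AlgInt}
    (K : Subgroup G) [Fintype K] (n : G) (hn : n ∈ Subgroup.normalizer (K : Set G))
    {f : Set (IrrCharacter K)} {D : Subgroup K} (hD : IsDefectGroup p M f D) :
    IsDefectGroup p M (helper80.conjSet K n hn f)
      (D.map (helper80.conjEquiv K n hn).toMonoidHom) := by
  rw [← helper80.blockMap_conjEquiv]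
  exact helper80.isDefectGroup_blockMap (helper80.conjEquiv K n hn) hD

/-- Conjugation by an element of the subgroup fixes its irreducible characters. -/
theorem conjIrr_of_mem (K : Subgroup G) (n : G) (hn : n ∈ Subgroup.normalizer (K : Set G))
    (hnK : n ∈ K) (χ : IrrCharacter K) : helper80.conjIrr K n hn χ = χ := by
  symm
  apply helper80.eq_conjIrr_of_isConjCharOf
  intro k k' h
  have hk : k' = ⟨n, hnK⟩ * k * ⟨n, hnK⟩⁻¹ := Subtype.ext h
  rw [hk]
  exact helper4.isClassFunction_of_isIrrCharacter χ.2 k ⟨n, hnK⟩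

/-- Conjugation by an element of the subgroup fixes every set of irreducible characters. -/
theorem conjSet_of_mem (K : Subgroup G) (n : G) (hn : n ∈ Subgroup.normalizer (K : Set G))
    (hnK : n ∈ K) (f : Set (IrrCharacter K)) : helper80.conjSet K n hn f = f := by
  unfold helper80.conjSet
  have h1 : helper80.conjIrr K n hn = id := funext (fun χ => conjIrr_of_mem K n hn hnK χ)
  rw [h1, Set.image_id]

end IndIn

end Cfsg.Agent.Lib.helper77
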