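import Mathlib
import Cfsg.Prelude.Def_Blocks
import Cfsg.Prelude.Def_BlockLocal
import Cfsg.Agent.Lib.helper77.IndIn
import Cfsg.Agent.Lib.helper77.Knorr
import Cfsg.Agent.S0965
import Cfsg.Agent.Lib.helper82.GlaubBasic

/-!
# Bridges for the Harris–Knörr correspondence (helper77)

`N` a normal subgroup of `G`, `H` a subgroup, `L = H ⊓ N`.

* `infEquiv`: `H ⊓ N ≃* N.subgroupOf H`, with the transport of covering (`classInner_infEquiv`);
* `om_restrict_inf_of_constituent`: Clifford's identity for central character functionals on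
  class functions supported on `N`;
* `exists_constituent_inf`, `classInner_inclusion_conjIrr`: constituents on `H ⊓ N`;
* `exists_defect_inf_eq`: Knörr's theorem for a block of `H` covering a block of `H ⊓ N`;
* `cover_of_induced`: if `c` covers `e`, `c` induces `B` and `e` induces `d` inside `N`, then `B`
  covers `d`;
* `isInducedBlockIn_iff_brInd`, `exists_isInducedBlockIn`, `isInducedBlockIn_unique_of_defect`:
  the Brauer correspondence inside `N` for `H = N_G(Q)`.
-/

set_option autoImplicit false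

namespace Cfsg.Agent.Lib.helper77

open Cfsg
open scoped ComplexConjugate

universe u

section Bridge

variable {G : Type u} [Group G]

/-- The identification of `H ⊓ N` with the subgroup `N.subgroupOf H` of `H`. -/
def infEquiv (H N : Subgroup G) : ↥(H ⊓ N) ≃* ↥(N.subgroupOf H) where
  toFun l := ⟨⟨(l : G), (Subgroup.mem_inf.mp l.2).1⟩,
    Subgroup.mem_subgroupOf.mpr (Subgroup.mem_inf.mp l.2).2⟩
  invFun m := ⟨((m : H) : G), Subgroup.mem_inf.mpr ⟨(m : H).2, Subgroup.mem_subgroupOf.mp m.2⟩⟩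
  left_inv _ := rfl
  right_inv _ := rfl
  map_mul' _ _ := rfl

theorem classInner_infEquiv (H N : Subgroup G) [Fintype ↥(H ⊓ N)] [Fintype ↥(N.subgroupOf H)]
    (ψ : H → ℂ) (ξ : IrrCharacter ↥(H ⊓ N)) :
    classInner (fun m : N.subgroupOf H => ψ m)
        (helper80.irrMap (infEquiv H N) ξ : N.subgroupOf H → ℂ)
      = classInner (fun l : ↥(H ⊓ N) => ψ (Subgroup.inclusion inf_le_left l))
        (ξ : ↥(H ⊓ N) → ℂ) := by
  have key := helper82.classInner_comp_equiv (infEquiv H N) (fun m : N.subgroupOf H => ψ m)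
    (helper80.irrMap (infEquiv H N) ξ : N.subgroupOf H → ℂ)
  rw [← key]
  congr 1

/-- An element normalizing `Q` up to inclusion normalizes `Q` (finite group). -/
theorem mem_normalizer_of_conj_le [Finite G] (Q : Subgroup G) (y : G)
    (h : ∀ q ∈ Q, y * q * y⁻¹ ∈ Q) : y ∈ Subgroup.normalizer (Q : Set G) := by
  rw [Subgroup.mem_normalizer_iff]
  intro q
  refine ⟨h q, fun hq => ?_⟩
  have hinj : Function.Injective (fun q : Q => (⟨y * q * y⁻¹, h q q.2⟩ : Q)) := by
    intro a b hab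
    have h1 : y * (a : G) * y⁻¹ = y * (b : G) * y⁻¹ := congrArg Subtype.val hab
    exact Subtype.ext (mul_left_cancel (mul_right_cancel h1))
  obtain ⟨q', hq'⟩ := (Finite.injective_iff_surjective.mp hinj) ⟨y * q * y⁻¹, hq⟩
  have h1 : y * (q' : G) * y⁻¹ = y * q * y⁻¹ := congrArg Subtype.val hq'
  have e : (q' : G) = q := mul_left_cancel (mul_right_cancel h1)
  rw [← e]
  exact q'.2

theorem conjSet_congr (K : Subgroup G) {m m' : G} (h : m = m')
    (hm : m ∈ Subgroup.normalizer (K : Set G)) (hm' : m' ∈ Subgroup.normalizer (K : Set G))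
    (f : Set (IrrCharacter K)) : helper80.conjSet K m hm f = helper80.conjSet K m' hm' f := by
  subst h
  rfl

variable (N : Subgroup G) [hN : N.Normal]

omit hN in
theorem inf_subgroupOf_le_normalizer (H Q : Subgroup G)
    (hHN : H ≤ Subgroup.normalizer (Q : Set G)) :
    (H ⊓ N).subgroupOf N ≤ Subgroup.normalizer ((Q.subgroupOf N : Subgroup N) : Set N) := by
  intro x hx
  have hx' : (x : G) ∈ Subgroup.normalizer (Q : Set G) :=
    hHN (Subgroup.mem_inf.mp (Subgroup.mem_subgroupOf.mp hx)).1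
  exact helper80.subgroupOf_normalizer_le Q N (Subgroup.mem_subgroupOf.mpr hx')

omit hN in
theorem normalizer_le_inf_subgroupOf (H Q : Subgroup G)
    (hNH : Subgroup.normalizer (Q : Set G) ≤ H) (hQN : Q ≤ N) :
    Subgroup.normalizer ((Q.subgroupOf N : Subgroup N) : Set N) ≤ (H ⊓ N).subgroupOf N := by
  intro x hx
  have hx' := helper80.normalizer_subgroupOf_le Q N hQN hx
  exact Subgroup.mem_subgroupOf.mpr
    (Subgroup.mem_inf.mpr ⟨hNH (Subgroup.mem_subgroupOf.mp hx'), x.2⟩)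

theorem normalizer_le_of_inf_eq {P Q : Subgroup G} (h : P ⊓ N = Q) :
    Subgroup.normalizer (P : Set G) ≤ Subgroup.normalizer (Q : Set G) := by
  intro x hx
  rw [Subgroup.mem_normalizer_iff] at hx ⊢
  intro y
  rw [← h, Subgroup.mem_inf, Subgroup.mem_inf, ← hx y]
  constructor
  · rintro ⟨h1, h2⟩
    exact ⟨h1, hN.conj_mem y h2 x⟩
  · rintro ⟨h1, h2⟩
    refine ⟨h1, ?_⟩
    have h3 := hN.conj_mem _ h2 x⁻¹
    have e : x⁻¹ * (x * y * x⁻¹) * x⁻¹⁻¹ = y := by group
    rwa [e] at h3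

theorem mem_normalizer_inf_of_mem (H : Subgroup G) {h : G} (hh : h ∈ H) :
    h ∈ Subgroup.normalizer ((H ⊓ N : Subgroup G) : Set G) := by
  rw [Subgroup.mem_normalizer_iff]
  intro y
  rw [Subgroup.mem_inf, Subgroup.mem_inf]
  constructor
  · rintro ⟨h1, h2⟩
    exact ⟨H.mul_mem (H.mul_mem hh h1) (H.inv_mem hh), hN.conj_mem y h2 h⟩
  · rintro ⟨h1, h2⟩
    refine ⟨?_, ?_⟩
    · have h3 := H.mul_mem (H.mul_mem (H.inv_mem hh) h1) hh
      have e : h⁻¹ * (h * y * h⁻¹) * h = y := by group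
      rwa [e] at h3
    · have h3 := hN.conj_mem _ h2 h⁻¹
      have e : h⁻¹ * (h * y * h⁻¹) * h⁻¹⁻¹ = y := by group
      rwa [e] at h3

variable [Fintype G] (H : Subgroup G) [Fintype H] [Fintype ↥(H ⊓ N)]

/-- Clifford's identity for central character functionals: if `ξ` is a constituent of the
restriction of `ψ ∈ Irr(H)` to `H ⊓ N`, the functionals of `ψ` and `ξ` agree on the restrictions
of class functions of `G` supported on `N`. -/
theorem om_restrict_inf_of_constituent {ψ : IrrCharacter H} {ξ : IrrCharacter ↥(H ⊓ N)}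
    (h : classInner (fun l : ↥(H ⊓ N) => (ψ : H → ℂ) (Subgroup.inclusion inf_le_left l))
      (ξ : ↥(H ⊓ N) → ℂ) ≠ 0)
    (z : G → ℂ) (hz : IsClassFunction G z) (hzN : ∀ g, g ∉ N → z g = 0) :
    helper80.om (ψ : H → ℂ) (fun k : H => z k)
      = helper80.om (ξ : ↥(H ⊓ N) → ℂ) (fun k : ↥(H ⊓ N) => z k) := by
  classical
  have : Fintype ↥(N.subgroupOf H) := Fintype.ofFinite _
  have hn : (N.subgroupOf H).Normal := inferInstance
  obtain ⟨a, ha⟩ : ∃ a : N.subgroupOf H → ℂ, a = fun m : N.subgroupOf H => z ((m : H) : G) :=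
    ⟨_, rfl⟩
  have ha' : ∀ m : N.subgroupOf H, a m = z ((m : H) : G) := fun m => by rw [ha]
  have h1 : ∀ k : H, z (k : G) = helper80.extFun (N.subgroupOf H) a k := by
    intro k
    by_cases hk : k ∈ N.subgroupOf H
    · rw [helper80.extFun_of_mem _ _ hk, ha']
    · rw [helper80.extFun_of_not_mem _ _ hk]
      exact hzN _ (fun hkN => hk (Subgroup.mem_subgroupOf.mpr hkN))
  have hinv : ∀ (g : H) (m : N.subgroupOf H),
      a ⟨g * m * g⁻¹, hn.conj_mem m m.2 g⟩ = a m := by
    intro g m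
    rw [ha', ha']
    exact hz ((m : H) : G) (g : G)
  have h2 : classInner (fun m : N.subgroupOf H => (ψ : H → ℂ) m)
      (helper80.irrMap (infEquiv H N) ξ : N.subgroupOf H → ℂ) ≠ 0 := by
    rw [classInner_infEquiv]
    exact h
  rw [helper80.om_congr _ h1, om_extFun_of_constituent (N.subgroupOf H) h2 a hinv]
  unfold helper80.om
  have h3 : (helper80.irrMap (infEquiv H N) ξ : N.subgroupOf H → ℂ) 1
      = (ξ : ↥(H ⊓ N) → ℂ) 1 := by
    rw [helper80.irrMap_apply, map_one]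
  rw [h3]
  congr 1
  symm
  apply Fintype.sum_equiv (infEquiv H N).toEquiv
  intro l
  have h4 : (helper80.irrMap (infEquiv H N) ξ : N.subgroupOf H → ℂ) ((infEquiv H N).toEquiv l)
      = (ξ : ↥(H ⊓ N) → ℂ) l := helper80.irrMap_apply' (infEquiv H N) ξ l
  rw [h4, ha']
  rfl

omit hN in
/-- The restriction of an irreducible character of `H` to `H ⊓ N` has a constituent. -/
theorem exists_constituent_inf (ψ : IrrCharacter H) :
    ∃ ξ : IrrCharacter ↥(H ⊓ N),
      classInner (fun l : ↥(H ⊓ N) => (ψ : H → ℂ) (Subgroup.inclusion inf_le_left l))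
        (ξ : ↥(H ⊓ N) → ℂ) ≠ 0 := by
  classical
  have : Fintype ↥(N.subgroupOf H) := Fintype.ofFinite _
  obtain ⟨θ, hθ⟩ := exists_constituent_restrict_top (N.subgroupOf H) ψ
  refine ⟨helper80.irrMap (infEquiv H N).symm θ, ?_⟩
  rw [← classInner_infEquiv, helper80.irrMap_irrMap_symm]
  exact hθ

omit [Fintype G] [Fintype H] hN in
/-- The multiplicity of a constituent on `H ⊓ N` is invariant under conjugation by `H`. -/
theorem classInner_inclusion_conjIrr (ψ : IrrCharacter H) (h : G) (hh : h ∈ H)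
    (hL : h ∈ Subgroup.normalizer ((H ⊓ N : Subgroup G) : Set G)) (ξ : IrrCharacter ↥(H ⊓ N)) :
    classInner (fun l : ↥(H ⊓ N) => (ψ : H → ℂ) (Subgroup.inclusion inf_le_left l))
        (helper80.conjIrr (H ⊓ N) h hL ξ : ↥(H ⊓ N) → ℂ)
      = classInner (fun l : ↥(H ⊓ N) => (ψ : H → ℂ) (Subgroup.inclusion inf_le_left l))
        (ξ : ↥(H ⊓ N) → ℂ) := by
  have key := helper82.classInner_comp_equiv (helper80.conjEquiv (H ⊓ N) h hL)
    (fun l : ↥(H ⊓ N) => (ψ : H → ℂ) (Subgroup.inclusion inf_le_left l))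
    (helper80.conjIrr (H ⊓ N) h hL ξ : ↥(H ⊓ N) → ℂ)
  rw [← key]
  congr 1
  · funext l
    have h3 : Subgroup.inclusion inf_le_left (helper80.conjEquiv (H ⊓ N) h hL l)
        = (⟨h, hh⟩ : H) * Subgroup.inclusion inf_le_left l * (⟨h, hh⟩ : H)⁻¹ :=
      Subtype.ext rfl
    show (ψ : H → ℂ) (Subgroup.inclusion inf_le_left (helper80.conjEquiv (H ⊓ N) h hL l))
      = (ψ : H → ℂ) (Subgroup.inclusion inf_le_left l)
    rw [h3]
    exact helper4.isClassFunction_of_isIrrCharacter ψ.2 _ _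
  · funext l
    exact helper80.conjIrr_apply (H ⊓ N) h hL ξ l _ rfl

/-- Knörr's theorem for a block `c` of `H` covering a block `e` of `H ⊓ N` with defect group
`Q`: `c` has a defect group `P ≤ H` with `P ∩ N = Q`. -/
theorem exists_defect_inf_eq {p : ℕ} [Fact p.Prime] {M : Ideal AlgInt} (hM : IsPModular p M)
    (Q : Subgroup G) (hQ : Q ≤ H ⊓ N)
    {e : Set (IrrCharacter ↥(H ⊓ N))} (he : IsPBlock M e)
    (heQ : IsDefectGroup p M e (Q.subgroupOf (H ⊓ N)))
    {c : Set (IrrCharacter H)} (hc : IsPBlock M c)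
    (hcov : ∃ ψ ∈ c, ∃ ξ ∈ e,
      classInner (fun l : ↥(H ⊓ N) => (ψ : H → ℂ) (Subgroup.inclusion inf_le_left l))
        (ξ : ↥(H ⊓ N) → ℂ) ≠ 0) :
    ∃ P : Subgroup G, P ≤ H ∧ IsDefectGroup p M c (P.subgroupOf H) ∧ P ⊓ N = Q := by
  classical
  have : Fintype ↥(N.subgroupOf H) := Fintype.ofFinite _
  have heH := helper80.isPBlock_blockMap (M := M) (infEquiv H N) he
  have hDH := helper80.isDefectGroup_blockMap (infEquiv H N) heQ
  have hmap : (Q.subgroupOf (H ⊓ N)).map (infEquiv H N).toMonoidHom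
      = (Q.subgroupOf H).subgroupOf (N.subgroupOf H) := by
    ext m
    rw [Subgroup.mem_map, Subgroup.mem_subgroupOf, Subgroup.mem_subgroupOf]
    constructor
    · rintro ⟨l, hl, rfl⟩
      exact Subgroup.mem_subgroupOf.mp hl
    · intro hm
      exact ⟨(infEquiv H N).symm m, Subgroup.mem_subgroupOf.mpr hm,
        (infEquiv H N).apply_symm_apply m⟩
  rw [hmap] at hDH
  have hcovH : ∃ ψ ∈ c, ∃ θ ∈ helper80.blockMap (infEquiv H N) e,
      classInner (fun m : N.subgroupOf H => (ψ : H → ℂ) m) (θ : N.subgroupOf H → ℂ) ≠ 0 := by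
    obtain ⟨ψ, hψ, ξ, hξ, h⟩ := hcov
    refine ⟨ψ, hψ, helper80.irrMap (infEquiv H N) ξ,
      (helper80.irrMap_mem_blockMap _ e ξ).mpr hξ, ?_⟩
    rw [classInner_infEquiv]
    exact h
  have hQle : Q.subgroupOf H ≤ N.subgroupOf H := by
    intro x hx
    exact Subgroup.mem_subgroupOf.mpr
      (Subgroup.mem_inf.mp (hQ (Subgroup.mem_subgroupOf.mp hx))).2
  obtain ⟨PH, hPH, hPHN⟩ := knorr (N.subgroupOf H) hM heH (Q.subgroupOf H) hQle hDH hc hcovH
  refine ⟨PH.map H.subtype, ?_, ?_, ?_⟩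
  · rintro x ⟨y, -, rfl⟩
    exact y.2
  · have h1 : (PH.map H.subtype).subgroupOf H = PH :=
      Subgroup.comap_map_eq_self_of_injective H.subtype_injective PH
    rw [h1]
    exact hPH
  · ext x
    constructor
    · rintro ⟨⟨y, hy, rfl⟩, hxN⟩
      have h2 : y ∈ PH ⊓ N.subgroupOf H :=
        Subgroup.mem_inf.mpr ⟨hy, Subgroup.mem_subgroupOf.mpr hxN⟩
      rw [hPHN] at h2
      exact Subgroup.mem_subgroupOf.mp h2
    · intro hx
      have hxHN := Subgroup.mem_inf.mp (hQ hx)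
      have h2 : (⟨x, hxHN.1⟩ : H) ∈ Q.subgroupOf H := Subgroup.mem_subgroupOf.mpr hx
      rw [← hPHN] at h2
      exact Subgroup.mem_inf.mpr ⟨⟨_, (Subgroup.mem_inf.mp h2).1, rfl⟩, hxHN.2⟩

end Bridge

end Cfsg.Agent.Lib.helper77
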