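import Mathlib
import Cfsg.Prelude.Def_Blocks
import Cfsg.Prelude.Def_BlockLocal
import Cfsg.Agent.Lib.helper77.HKBridge

/-!
# The Harris–Knörr correspondence (helper77)

`N` a normal subgroup of `G`, `Q` a `p`-subgroup of `N`, `H = N_G(Q)`, `d` a block of `N` with
defect group `Q` and `e` its Brauer correspondent in `H ⊓ N = N_N(Q)`.

* `cover_of_induced`: if `c` covers `e`, `c` induces `B` and `e` induces `d` inside `N`, then `B`
  covers `d`;
* `isInducedBlockIn_iff_brInd`, `exists_isInducedBlockIn`, `isInducedBlockIn_unique_of_defect`: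
  the Brauer correspondence inside `N`;
* `hk_part_one`: every block of `H` covering `e` induces a block of `G` covering `d`;
* `hk_part_two_exists`, `hk_part_two_unique`: every block of `G` covering `d` is induced from
  exactly one block of `H` covering `e`.
-/

set_option autoImplicit false

namespace Cfsg.Agent.Lib.helper77

open Cfsg
open scoped ComplexConjugate

universe u

section HK

variable {G : Type u} [Group G] [Fintype G] (N : Subgroup G) [hN : N.Normal] [Fintype N]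
  (H : Subgroup G) [Fintype ↥(H ⊓ N)] {p : ℕ} [Fact p.Prime] {M : Ideal AlgInt}

/-- If the block `c` of `H` covers the block `e` of `H ⊓ N`, `c` induces the block `B` of `G` and
`e` induces the block `d` of `N` inside `N`, then `B` covers `d`. -/
theorem cover_of_induced [Fintype H] (hM : IsPModular p M)
    {c : Set (IrrCharacter H)} {e : Set (IrrCharacter ↥(H ⊓ N))} {B : Set (IrrCharacter G)}
    {d : Set (IrrCharacter N)}
    (hcov : ∃ ψ ∈ c, ∃ ξ ∈ e,
      classInner (fun l : ↥(H ⊓ N) => (ψ : H → ℂ) (Subgroup.inclusion inf_le_left l))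
        (ξ : ↥(H ⊓ N) → ℂ) ≠ 0)
    (hind : IsInducedBlock M H c B) (hed : IsInducedBlockIn M N (H ⊓ N) e d) :
    ∃ χ ∈ B, ∃ θ ∈ d, classInner (fun n : N => (χ : G → ℂ) n) (θ : N → ℂ) ≠ 0 := by
  classical
  have hMp : M.IsPrime := helper20.isPrime_of_isPModular hM
  have : Fintype ↥((H ⊓ N).subgroupOf N) := Fintype.ofFinite _
  rw [Cfsg.Agent.S0965.result p M hM N B hind.2.1 d hed.2.1]
  intro χ hχ θ hθ n
  obtain ⟨ψ₀, hψ₀, ξ₀, hξ₀, h₀⟩ := hcov
  have s1 := hind.2.2 ψ₀ hψ₀ χ hχ (n : G)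
  have hzN : ∀ g, g ∉ N → helper80.classInd (n : G) g = 0 := by
    intro g hg
    apply helper80.classInd_of_not_isConj
    intro hc
    obtain ⟨k, hk⟩ := isConj_iff.mp hc
    apply hg
    rw [← hk]
    exact hN.conj_mem _ n.2 k
  have s2 : inducedCentralChar H (ψ₀ : H → ℂ) (n : G)
      = helper80.om (ξ₀ : ↥(H ⊓ N) → ℂ)
        (fun k : ↥(H ⊓ N) => helper80.classInd (n : G) (k : G)) := by
    rw [inducedCentralChar_eq_om]
    exact om_restrict_inf_of_constituent N H h₀ (helper80.classInd (n : G))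
      (helper80.classInd_classFun _) hzN
  have hedN := (isInducedBlockIn_iff M N (H ⊓ N) inf_le_right e d).mp hed
  have s3 := memLocalIdeal_om_restrict_sub hMp ((H ⊓ N).subgroupOf N)
    (helper80.irrMap (Subgroup.subgroupOfEquivOfLe (inf_le_right : H ⊓ N ≤ N)).symm ξ₀ :
      ((H ⊓ N).subgroupOf N) → ℂ) θ
    (hedN.2.2 _ ((helper80.irrMap_mem_blockMap _ e ξ₀).mpr hξ₀) θ hθ)
    (z := resClassInd N (n : G)) (isClassFunction_resClassInd N (n : G))
    (memLocalRing_resClassInd N hMp (n : G))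
  have s4 : helper80.om
      (helper80.irrMap (Subgroup.subgroupOfEquivOfLe (inf_le_right : H ⊓ N ≤ N)).symm ξ₀ :
        ((H ⊓ N).subgroupOf N) → ℂ)
      (fun k : ((H ⊓ N).subgroupOf N) => resClassInd N (n : G) (k : N))
      = helper80.om (ξ₀ : ↥(H ⊓ N) → ℂ)
        (fun k : ↥(H ⊓ N) => helper80.classInd (n : G) (k : G)) := by
    unfold helper80.om
    have h3 : (helper80.irrMap (Subgroup.subgroupOfEquivOfLe (inf_le_right : H ⊓ N ≤ N)).symm ξ₀ :
        ((H ⊓ N).subgroupOf N) → ℂ) 1 = (ξ₀ : ↥(H ⊓ N) → ℂ) 1 := by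
      rw [helper80.irrMap_apply, map_one]
    rw [h3]
    congr 1
    apply Fintype.sum_equiv (Subgroup.subgroupOfEquivOfLe (inf_le_right : H ⊓ N ≤ N)).toEquiv
    intro k
    rfl
  rw [s4] at s3
  rw [inducedCentralChar_eq_om N (θ : N → ℂ) (n : G)]
  rw [s2] at s1
  have h5 := helper20.memLocalIdeal_sub hMp s3 s1
  have h6 : helper80.om (ξ₀ : ↥(H ⊓ N) → ℂ)
        (fun k : ↥(H ⊓ N) => helper80.classInd (n : G) (k : G))
        - helper80.om (θ : N → ℂ) (resClassInd N (n : G))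
      - (helper80.om (ξ₀ : ↥(H ⊓ N) → ℂ)
        (fun k : ↥(H ⊓ N) => helper80.classInd (n : G) (k : G))
        - centralChar (χ : G → ℂ) (n : G))
      = centralChar (χ : G → ℂ) (n : G) - helper80.om (θ : N → ℂ) (resClassInd N (n : G)) := by
    ring
  rw [h6] at h5
  exact h5

variable (Q : Subgroup G)

omit hN [Fintype ↥(H ⊓ N)] in
/-- Inside `N`, with `H ⊓ N = N_N(Q)`: block induction from `H ⊓ N` is the Brauer
correspondence. -/
theorem isInducedBlockIn_iff_brInd [Fintype ↥((H ⊓ N).subgroupOf N)] (hM : IsPModular p M)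
    (hQ : IsPGroup p Q) (hQN : Q ≤ N) (hHN : H ≤ Subgroup.normalizer (Q : Set G))
    (hNH : Subgroup.normalizer (Q : Set G) ≤ H)
    {e : Set (IrrCharacter ↥(H ⊓ N))} (he : IsPBlock M e) {d : Set (IrrCharacter N)}
    (hd : IsPBlock M d) :
    IsInducedBlockIn M N (H ⊓ N) e d ↔ ∀ ξ ∈ e, ∀ θ ∈ d,
      helper80.BrInd M (Q.subgroupOf N) ((H ⊓ N).subgroupOf N)
        (helper80.irrMap (Subgroup.subgroupOfEquivOfLe (inf_le_right : H ⊓ N ≤ N)).symm ξ :
          ((H ⊓ N).subgroupOf N) → ℂ) (θ : N → ℂ) := by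
  have hLN := inf_subgroupOf_le_normalizer N H Q hHN
  have hNL := normalizer_le_inf_subgroupOf N H Q hNH hQN
  have hQL : Q.subgroupOf N ≤ (H ⊓ N).subgroupOf N :=
    le_trans Subgroup.le_normalizer hNL
  have hCL : Subgroup.centralizer ((Q.subgroupOf N : Subgroup N) : Set N)
      ≤ (H ⊓ N).subgroupOf N := le_trans (Subgroup.centralizer_le_normalizer _) hNL
  rw [isInducedBlockIn_iff M N (H ⊓ N) inf_le_right,
    helper80.isInducedBlock_iff_brInd hM (Q.subgroupOf N) ((H ⊓ N).subgroupOf N)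
      hQ.comap_subtype hQL hCL hLN (helper80.isPBlock_blockMap _ he) hd]
  constructor
  · intro h ξ hξ θ hθ
    exact h _ ((helper80.irrMap_mem_blockMap _ e ξ).mpr hξ) θ hθ
  · intro h ξ' hξ' θ hθ
    have h1 := h _ ((helper80.mem_blockMap _ e ξ').mp hξ') θ hθ
    rwa [helper80.irrMap_irrMap_symm] at h1

omit hN [Fintype G] [Fintype N] in
theorem isDefectGroup_blockMap_inf [Finite G] [Fintype ↥((H ⊓ N).subgroupOf N)]
    {e : Set (IrrCharacter ↥(H ⊓ N))}
    (heQ : IsDefectGroup p M e (Q.subgroupOf (H ⊓ N))) :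
    IsDefectGroup p M
      (helper80.blockMap (Subgroup.subgroupOfEquivOfLe (inf_le_right : H ⊓ N ≤ N)).symm e)
      ((Q.subgroupOf N).subgroupOf ((H ⊓ N).subgroupOf N)) := by
  have h := helper80.isDefectGroup_blockMap
    (Subgroup.subgroupOfEquivOfLe (inf_le_right : H ⊓ N ≤ N)).symm heQ
  rwa [helper80.map_subgroupOfEquivOfLe_symm Q (inf_le_right : H ⊓ N ≤ N)] at h

omit hN in
/-- Every block of `H ⊓ N = N_N(Q)` induces a block of `N` inside `N`. -/
theorem exists_isInducedBlockIn (hM : IsPModular p M)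
    (hQ : IsPGroup p Q) (hQN : Q ≤ N) (hHN : H ≤ Subgroup.normalizer (Q : Set G))
    (hNH : Subgroup.normalizer (Q : Set G) ≤ H)
    {b₁ : Set (IrrCharacter ↥(H ⊓ N))} (hb₁ : IsPBlock M b₁) :
    ∃ d₁ : Set (IrrCharacter N), IsInducedBlockIn M N (H ⊓ N) b₁ d₁ := by
  classical
  have hMp : M.IsPrime := helper20.isPrime_of_isPModular hM
  have : Fintype ↥((H ⊓ N).subgroupOf N) := Fintype.ofFinite _
  have hLN := inf_subgroupOf_le_normalizer N H Q hHN
  have hNL := normalizer_le_inf_subgroupOf N H Q hNH hQN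
  have hCL : Subgroup.centralizer ((Q.subgroupOf N : Subgroup N) : Set N)
      ≤ (H ⊓ N).subgroupOf N := le_trans (Subgroup.centralizer_le_normalizer _) hNL
  obtain ⟨ξ, hξ⟩ := helper80.isPBlock_nonempty hMp hb₁
  obtain ⟨θ, hθ⟩ := helper80.exists_brInd hM (Q.subgroupOf N) ((H ⊓ N).subgroupOf N)
    hQ.comap_subtype hCL hLN
    (helper80.irrMap (Subgroup.subgroupOfEquivOfLe (inf_le_right : H ⊓ N ≤ N)).symm ξ)
  refine ⟨blockOf M (θ : N → ℂ), ?_⟩
  rw [isInducedBlockIn_iff_brInd N H Q hM hQ hQN hHN hNH hb₁ (helper80.isPBlock_blockOf M θ)]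
  intro ξ' hξ' θ' hθ'
  have hs : SameBlock M
      (helper80.irrMap (Subgroup.subgroupOfEquivOfLe (inf_le_right : H ⊓ N ≤ N)).symm ξ :
        ((H ⊓ N).subgroupOf N) → ℂ)
      (helper80.irrMap (Subgroup.subgroupOfEquivOfLe (inf_le_right : H ⊓ N ≤ N)).symm ξ' :
        ((H ⊓ N).subgroupOf N) → ℂ) :=
    (helper80.sameBlock_irrMap_iff _ ξ ξ').mpr (helper80.sameBlock_of_mem hMp hb₁ hξ hξ')
  have h1 := helper80.BrInd.congr_left hMp hLN hθ hs
  exact helper80.BrInd.congr_right hMp h1 hθ'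

omit hN in
/-- Inside `N`: the block of `H ⊓ N = N_N(Q)` with defect group `Q` inducing a given block of
`N` is the only block of `H ⊓ N` inducing it. -/
theorem isInducedBlockIn_unique_of_defect (hM : IsPModular p M)
    (hQ : IsPGroup p Q) (hQN : Q ≤ N) (hHN : H ≤ Subgroup.normalizer (Q : Set G))
    (hNH : Subgroup.normalizer (Q : Set G) ≤ H)
    {e e₁ : Set (IrrCharacter ↥(H ⊓ N))} (he : IsPBlock M e)
    (heQ : IsDefectGroup p M e (Q.subgroupOf (H ⊓ N))) (he₁ : IsPBlock M e₁)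
    {d : Set (IrrCharacter N)} (hed : IsInducedBlockIn M N (H ⊓ N) e d)
    (he₁d : IsInducedBlockIn M N (H ⊓ N) e₁ d) : e₁ = e := by
  classical
  have hMp : M.IsPrime := helper20.isPrime_of_isPModular hM
  have : Fintype ↥((H ⊓ N).subgroupOf N) := Fintype.ofFinite _
  have hLN := inf_subgroupOf_le_normalizer N H Q hHN
  have hNL := normalizer_le_inf_subgroupOf N H Q hNH hQN
  have hd := hed.2.1
  have h1 := (isInducedBlockIn_iff_brInd N H Q hM hQ hQN hHN hNH he hd).mp hed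
  have h2 := (isInducedBlockIn_iff_brInd N H Q hM hQ hQN hHN hNH he₁ hd).mp he₁d
  obtain ⟨ξ, hξ⟩ := helper80.isPBlock_nonempty hMp he
  obtain ⟨ξ₁, hξ₁⟩ := helper80.isPBlock_nonempty hMp he₁
  obtain ⟨θ, hθ⟩ := helper80.isPBlock_nonempty hMp hd
  have hmem := helper80.BrInd.mem_of_defect hM (Q.subgroupOf N) ((H ⊓ N).subgroupOf N)
    hQ.comap_subtype hLN hNL (helper80.isPBlock_blockMap _ he)
    (isDefectGroup_blockMap_inf N H Q heQ)
    ((helper80.irrMap_mem_blockMap _ e ξ).mpr hξ) (h1 ξ hξ θ hθ) (h2 ξ₁ hξ₁ θ hθ)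
  have hξ₁e : ξ₁ ∈ e := (helper80.irrMap_mem_blockMap _ e ξ₁).mp hmem
  exact helper80.isPBlock_eq_of_mem hMp he₁ he hξ₁ hξ₁e

/-- If the block `B` of `G` covers `d` (with defect group `Q`) and the block `d₁` induced inside
`N` from a block of `H ⊓ N = N_N(Q)`, then `d` is the conjugate of `d₁` by an element of `H`. -/
theorem exists_conj_eq_of_cover_both (hM : IsPModular p M)
    (hQ : IsPGroup p Q) (hQN : Q ≤ N) (hHN : H ≤ Subgroup.normalizer (Q : Set G))
    (hNH : Subgroup.normalizer (Q : Set G) ≤ H)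
    {d : Set (IrrCharacter N)} (hd : IsPBlock M d)
    (hdQ : IsDefectGroup p M d (Q.subgroupOf N))
    {b₁ : Set (IrrCharacter ↥(H ⊓ N))} (hb₁ : IsPBlock M b₁) {d₁ : Set (IrrCharacter N)}
    (hb₁d₁ : IsInducedBlockIn M N (H ⊓ N) b₁ d₁)
    {B : Set (IrrCharacter G)} (hB : IsPBlock M B)
    (hcov : ∃ χ ∈ B, ∃ θ ∈ d, classInner (fun n : N => (χ : G → ℂ) n) (θ : N → ℂ) ≠ 0)
    (hcov₁ : ∃ χ ∈ B, ∃ θ ∈ d₁, classInner (fun n : N => (χ : G → ℂ) n) (θ : N → ℂ) ≠ 0) :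
    ∃ h : G, h ∈ H ∧ d = helper80.conjSet N h (mem_normalizer_of_normal N h) d₁ := by
  classical
  have hMp : M.IsPrime := helper20.isPrime_of_isPModular hM
  have : Fintype ↥((H ⊓ N).subgroupOf N) := Fintype.ofFinite _
  have hLN := inf_subgroupOf_le_normalizer N H Q hHN
  obtain ⟨χ₀, hχ₀, θ₀, hθ₀, h₀⟩ := hcov
  obtain ⟨χ₁, hχ₁, θ₁, hθ₁, h₁⟩ := hcov₁
  have hd₁ := hb₁d₁.2.1
  obtain ⟨g, hg⟩ := mem_orbitUnion_of_cover N hMp hB hd hχ₀ hθ₀ h₀ hχ₁ h₁
  rw [cjIrr_eq_conjIrr] at hg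
  have hdg : d = helper80.conjSet N g (mem_normalizer_of_normal N g) d₁ :=
    helper80.isPBlock_eq_of_mem hMp hd (helper80.isPBlock_conjSet N g _ hd₁) hg
      ((helper80.mem_conjSet N g _ d₁ θ₁).mpr hθ₁)
  have hd₁g : d₁ = helper80.conjSet N g⁻¹ (mem_normalizer_of_normal N g⁻¹) d := by
    rw [hdg, ← helper80.conjSet_mul N g⁻¹ g (mem_normalizer_of_normal N g⁻¹)
      (mem_normalizer_of_normal N g) (mem_normalizer_of_normal N (g⁻¹ * g)),
      conjSet_congr N (inv_mul_cancel g) (mem_normalizer_of_normal N (g⁻¹ * g))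
        (mem_normalizer_of_normal N 1), helper80.conjSet_one]
  have hD₁ : IsDefectGroup p M d₁ ((Q.subgroupOf N).map
      (helper80.conjEquiv N g⁻¹ (mem_normalizer_of_normal N g⁻¹)).toMonoidHom) := by
    rw [hd₁g]
    exact isDefectGroup_conjSet N g⁻¹ _ hdQ
  have hbr := (isInducedBlockIn_iff_brInd N H Q hM hQ hQN hHN hNH hb₁ hd₁).mp hb₁d₁
  obtain ⟨ξ₁, hξ₁⟩ := helper80.isPBlock_nonempty hMp hb₁
  obtain ⟨x, hx⟩ := helper80.BrInd.le_defect hM hQ.comap_subtype hLN (hbr ξ₁ hξ₁ θ₁ hθ₁) hd₁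
    hθ₁ hD₁
  have hnorm : g * (x : G)⁻¹ ∈ Subgroup.normalizer (Q : Set G) := by
    apply mem_normalizer_of_conj_le
    intro q hq
    obtain ⟨q', hq', hq'e⟩ := hx ⟨q, hQN hq⟩ (Subgroup.mem_subgroupOf.mpr hq)
    have h3 : g⁻¹ * (q' : G) * g⁻¹⁻¹ = (x : G)⁻¹ * q * (x : G) := congrArg Subtype.val hq'e
    have h4 : (q' : G) = g * ((x : G)⁻¹ * q * (x : G)) * g⁻¹ := by
      rw [← h3]
      group
    have h5 : g * (x : G)⁻¹ * q * (g * (x : G)⁻¹)⁻¹ = (q' : G) := by
      rw [h4]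
      group
    rw [h5]
    exact Subgroup.mem_subgroupOf.mp hq'
  refine ⟨g * (x : G)⁻¹, hNH hnorm, ?_⟩
  have h6 : helper80.conjSet N g (mem_normalizer_of_normal N g) d₁
      = helper80.conjSet N (g * (x : G)⁻¹) (mem_normalizer_of_normal N _)
        (helper80.conjSet N (x : G) (mem_normalizer_of_normal N _) d₁) := by
    rw [← helper80.conjSet_mul N (g * (x : G)⁻¹) (x : G) (mem_normalizer_of_normal N _)
      (mem_normalizer_of_normal N _) (mem_normalizer_of_normal N _)]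
    exact conjSet_congr N (by group) _ _ d₁
  rw [hdg, h6, conjSet_of_mem N (x : G) _ x.2]

variable [Fintype H]

/-- **Harris–Knörr, first half.**  Every block of `H = N_G(Q)` covering `e` induces a block of
`G`, and that block covers `d`. -/
theorem hk_part_one (hM : IsPModular p M) (hQ : IsPGroup p Q)
    (hHN : H ≤ Subgroup.normalizer (Q : Set G)) (hNH : Subgroup.normalizer (Q : Set G) ≤ H)
    {e : Set (IrrCharacter ↥(H ⊓ N))} {d : Set (IrrCharacter N)}
    (hed : IsInducedBlockIn M N (H ⊓ N) e d)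
    {c : Set (IrrCharacter H)} (hc : IsPBlock M c)
    (hcov : ∃ ψ ∈ c, ∃ ξ ∈ e,
      classInner (fun l : ↥(H ⊓ N) => (ψ : H → ℂ) (Subgroup.inclusion inf_le_left l))
        (ξ : ↥(H ⊓ N) → ℂ) ≠ 0) :
    ∃ B : Set (IrrCharacter G), IsInducedBlock M H c B ∧
      ∃ χ ∈ B, ∃ θ ∈ d, classInner (fun n : N => (χ : G → ℂ) n) (θ : N → ℂ) ≠ 0 := by
  classical
  have hMp : M.IsPrime := helper20.isPrime_of_isPModular hM
  have hQH : Q ≤ H := le_trans Subgroup.le_normalizer hNH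
  have hCH : Subgroup.centralizer (Q : Set G) ≤ H :=
    le_trans (Subgroup.centralizer_le_normalizer _) hNH
  obtain ⟨ψ, hψ⟩ := helper80.isPBlock_nonempty hMp hc
  obtain ⟨χ, hχ⟩ := helper80.exists_brInd hM Q H hQ hCH hHN ψ
  have hB := helper80.isPBlock_blockOf M χ
  have hind : IsInducedBlock M H c (blockOf M (χ : G → ℂ)) := by
    rw [helper80.isInducedBlock_iff_brInd hM Q H hQ hQH hCH hHN hc hB]
    intro ξ hξ χ' hχ'
    exact helper80.BrInd.congr_right hMp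
      (helper80.BrInd.congr_left hMp hHN hχ (helper80.sameBlock_of_mem hMp hc hψ hξ)) hχ'
  exact ⟨_, hind, cover_of_induced N H hM hcov hind hed⟩

/-- **Harris–Knörr, second half (existence).**  Every block of `G` covering `d` is induced from a
block of `H = N_G(Q)` covering `e`. -/
theorem hk_part_two_exists (hM : IsPModular p M) (hQ : IsPGroup p Q) (hQN : Q ≤ N)
    (hHN : H ≤ Subgroup.normalizer (Q : Set G)) (hNH : Subgroup.normalizer (Q : Set G) ≤ H)
    {d : Set (IrrCharacter N)} (hd : IsPBlock M d) (hdQ : IsDefectGroup p M d (Q.subgroupOf N))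
    {e : Set (IrrCharacter ↥(H ⊓ N))} (he : IsPBlock M e)
    (heQ : IsDefectGroup p M e (Q.subgroupOf (H ⊓ N)))
    (hed : IsInducedBlockIn M N (H ⊓ N) e d)
    {B : Set (IrrCharacter G)} (hB : IsPBlock M B)
    (hcov : ∃ χ ∈ B, ∃ θ ∈ d, classInner (fun n : N => (χ : G → ℂ) n) (θ : N → ℂ) ≠ 0) :
    ∃ c : Set (IrrCharacter H), IsPBlock M c ∧
      (∃ ψ ∈ c, ∃ ξ ∈ e,
        classInner (fun l : ↥(H ⊓ N) => (ψ : H → ℂ) (Subgroup.inclusion inf_le_left l))
          (ξ : ↥(H ⊓ N) → ℂ) ≠ 0) ∧ IsInducedBlock M H c B := by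
  classical
  have hMp : M.IsPrime := helper20.isPrime_of_isPModular hM
  obtain ⟨P, hDB, hPN⟩ := knorr N hM hd Q hQN hdQ hB hcov
  have hNP : Subgroup.normalizer (P : Set G) ≤ H := le_trans (normalizer_le_of_inf_eq N hPN) hNH
  have hPp := helper80.IsDefectGroup.isPGroup hDB
  obtain ⟨c, hc, hDc, hind⟩ := fmtOver_down hM P H hPp hNP hB hDB
  obtain ⟨ψ, hψ⟩ := helper80.isPBlock_nonempty hMp hc
  obtain ⟨ξ₁, hξ₁⟩ := exists_constituent_inf N H ψ
  have hb₁ := helper80.isPBlock_blockOf M ξ₁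
  have hξ₁b := helper80.mem_blockOf_self hMp ξ₁
  obtain ⟨d₁, hb₁d₁⟩ := exists_isInducedBlockIn N H Q hM hQ hQN hHN hNH hb₁
  have hcov₁ := cover_of_induced N H hM ⟨ψ, hψ, ξ₁, hξ₁b, hξ₁⟩ hind hb₁d₁
  obtain ⟨h, hhH, hdh⟩ := exists_conj_eq_of_cover_both N H Q hM hQ hQN hHN hNH hd hdQ hb₁ hb₁d₁
    hB hcov hcov₁
  have hL := mem_normalizer_inf_of_mem N H hhH
  have he₁ := isInducedBlockIn_conjSet N (H ⊓ N) h (mem_normalizer_of_normal N h) hL hb₁d₁
  rw [← hdh] at he₁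
  have heq := isInducedBlockIn_unique_of_defect N H Q hM hQ hQN hHN hNH he heQ
    (helper80.isPBlock_conjSet _ h hL hb₁) hed he₁
  refine ⟨c, hc, ⟨ψ, hψ, helper80.conjIrr (H ⊓ N) h hL ξ₁, ?_, ?_⟩, hind⟩
  · rw [← heq]
    exact (helper80.mem_conjSet (H ⊓ N) h hL _ ξ₁).mpr hξ₁b
  · rw [classInner_inclusion_conjIrr N H ψ h hhH hL ξ₁]
    exact hξ₁

omit [Fintype N] in
/-- **Harris–Knörr, second half (uniqueness).**  Two blocks of `H = N_G(Q)` covering `e` and
inducing the same block of `G` are equal. -/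
theorem hk_part_two_unique (hM : IsPModular p M) (hQN : Q ≤ N)
    (hNH : Subgroup.normalizer (Q : Set G) ≤ H)
    {e : Set (IrrCharacter ↥(H ⊓ N))} (he : IsPBlock M e)
    (heQ : IsDefectGroup p M e (Q.subgroupOf (H ⊓ N)))
    {B : Set (IrrCharacter G)} {c c' : Set (IrrCharacter H)} (hc : IsPBlock M c)
    (hcov : ∃ ψ ∈ c, ∃ ξ ∈ e,
      classInner (fun l : ↥(H ⊓ N) => (ψ : H → ℂ) (Subgroup.inclusion inf_le_left l))
        (ξ : ↥(H ⊓ N) → ℂ) ≠ 0)
    (hind : IsInducedBlock M H c B) (hc' : IsPBlock M c')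
    (hcov' : ∃ ψ ∈ c', ∃ ξ ∈ e,
      classInner (fun l : ↥(H ⊓ N) => (ψ : H → ℂ) (Subgroup.inclusion inf_le_left l))
        (ξ : ↥(H ⊓ N) → ℂ) ≠ 0)
    (hind' : IsInducedBlock M H c' B) : c = c' := by
  classical
  have hMp : M.IsPrime := helper20.isPrime_of_isPModular hM
  have hQL : Q ≤ H ⊓ N := le_inf (le_trans Subgroup.le_normalizer hNH) hQN
  obtain ⟨P, hPH, hDc, hPN⟩ := exists_defect_inf_eq N H hM Q hQL he heQ hc hcov
  obtain ⟨P', hP'H, hDc', hP'N⟩ := exists_defect_inf_eq N H hM Q hQL he heQ hc' hcov'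
  have hNP : Subgroup.normalizer (P : Set G) ≤ H := le_trans (normalizer_le_of_inf_eq N hPN) hNH
  have hNP' : Subgroup.normalizer (P' : Set G) ≤ H :=
    le_trans (normalizer_le_of_inf_eq N hP'N) hNH
  have hPp : IsPGroup p P := by
    have h1 := (helper80.IsDefectGroup.isPGroup hDc).map H.subtype
    rwa [Subgroup.subgroupOf_map_subtype, inf_eq_left.mpr hPH] at h1
  have hP'p : IsPGroup p P' := by
    have h1 := (helper80.IsDefectGroup.isPGroup hDc').map H.subtype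
    rwa [Subgroup.subgroupOf_map_subtype, inf_eq_left.mpr hP'H] at h1
  obtain ⟨B₁, hB₁, hDB₁, hI₁⟩ := fmtOver_up hM P H hPp hNP hc hDc
  obtain ⟨B₂, hB₂, hDB₂, hI₂⟩ := fmtOver_up hM P' H hP'p hNP' hc' hDc'
  have e1 : B₁ = B := isInducedBlock_unique H hMp hI₁ hind
  have e2 : B₂ = B := isInducedBlock_unique H hMp hI₂ hind'
  rw [e1] at hDB₁
  rw [e2] at hDB₂
  obtain ⟨x, hx⟩ := helper80.IsDefectGroup.exists_conj_eq hM hind.2.1 hDB₁ hDB₂
  have hxQ : x ∈ Subgroup.normalizer (Q : Set G) := by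
    apply mem_normalizer_of_conj_le
    intro q hq
    have hqP : q ∈ P ⊓ N := by
      rw [hPN]
      exact hq
    have h1 : x * q * x⁻¹ ∈ P' := by
      rw [hx]
      exact ⟨q, (Subgroup.mem_inf.mp hqP).1, by simp [MulAut.conj_apply]⟩
    have h2 : x * q * x⁻¹ ∈ N := hN.conj_mem q (Subgroup.mem_inf.mp hqP).2 x
    have h3 : x * q * x⁻¹ ∈ P' ⊓ N := Subgroup.mem_inf.mpr ⟨h1, h2⟩
    rwa [hP'N] at h3
  have hxH : x ∈ H := hNH hxQ
  have hDc'' : IsDefectGroup p M c (P'.subgroupOf H) := by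
    have h3 := helper80.IsDefectGroup.conj hDc (⟨x, hxH⟩ : H)
    have h4 : (P.subgroupOf H).map (MulAut.conj (⟨x, hxH⟩ : H)).toMonoidHom
        = P'.subgroupOf H := by
      ext y
      rw [Subgroup.mem_map, Subgroup.mem_subgroupOf, hx]
      constructor
      · rintro ⟨z, hz, rfl⟩
        exact ⟨(z : G), Subgroup.mem_subgroupOf.mp hz, by simp [MulAut.conj_apply]⟩
      · rintro ⟨z, hz, hzy⟩
        refine ⟨⟨z, hPH hz⟩, Subgroup.mem_subgroupOf.mpr hz, Subtype.ext ?_⟩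
        rw [← hzy]
        simp [MulAut.conj_apply]
    rwa [h4] at h3
  exact fmtOver_inj hM P' H hP'p hNP' hc hDc'' hc' hDc' hind hind'

end HK

end Cfsg.Agent.Lib.helper77
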