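import Mathlib

/-! S5977/S5978 split, sub-split `s5977i` (architect helper99), piece ARITH (racer copy by
helper77): the `r`-part of the order of the orthogonal group is bounded by the `r`-part of the
order of the intersection, pure arithmetic. -/

set_option autoImplicit false

namespace Cfsg.Agent.Lib.helper99.HCI

/-- the `r`-adic valuation of `∏ (q^(2(j+1)) - 1)` -/
theorem helper77_val_prod (q r : ℕ) [Fact r.Prime] (hq : 2 ≤ q) (n : ℕ) :
    padicValNat r (∏ j ∈ Finset.range n, (q ^ (2 * (j + 1)) - 1)) =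
      ∑ j ∈ Finset.range n, padicValNat r ((q ^ 2) ^ (j + 1) - 1) := by
  have hne : ∀ j : ℕ, q ^ (2 * (j + 1)) - 1 ≠ 0 := by
    intro j
    have h1 : 1 < q ^ (2 * (j + 1)) := Nat.one_lt_pow (by omega) (by omega)
    omega
  induction n with
  | zero => simp
  | succ n ih =>
    rw [Finset.prod_range_succ, Finset.sum_range_succ,
      padicValNat.mul (Finset.prod_ne_zero_iff.2 (fun j _ => hne j)) (hne n), ih, pow_mul]

/-- ARITH (L, pure arithmetic), racer copy -/
theorem helper77_hci_arith (q d r : ℕ) [Fact r.Prime] (hq : 2 ≤ q) (hd : 1 ≤ d) (hr2 : r ≠ 2)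
    (hrq : ¬ r ∣ q) (hi : orderOf ((q : ℕ) : ZMod r) % 4 = 0) (cardO cardI n1 n0 e : ℕ)
    (he : (e = q ^ d - 1 ∧ n0 = q ^ (2 * d - 1) + q ^ d - q ^ (d - 1)) ∨
      (e = q ^ d + 1 ∧ n0 = q ^ (2 * d - 1) + q ^ (d - 1) - q ^ d))
    (hO : cardO = 2 * q ^ (d * (d - 1)) * e *
      ∏ j ∈ Finset.range (d - 1), (q ^ (2 * (j + 1)) - 1))
    (hlb : (∑ t ∈ (Finset.range d).filter (fun t => orderOf ((q ^ 2 : ℕ) : ZMod r) ∣ t),
          padicValNat r ((q ^ 2) ^ t - 1)) +
        (if orderOf ((q ^ 2 : ℕ) : ZMod r) ∣ d ∧ r ∣ n1 then padicValNat r ((q ^ 2) ^ d - 1)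
          else 0) ≤ padicValNat r cardI)
    (hn : Even d → q * (q - 1) * n1 + n0 = q ^ (2 * d)) :
    padicValNat r cardO ≤ padicValNat r cardI := by
  have hr : r.Prime := Fact.out
  have hpow1 : ∀ t : ℕ, 1 ≤ (q ^ 2) ^ t := fun t => Nat.one_le_pow _ _ (by positivity)
  have hdvd_iff : ∀ t : ℕ, r ∣ (q ^ 2) ^ t - 1 ↔ orderOf ((q ^ 2 : ℕ) : ZMod r) ∣ t := by
    intro t
    rw [← ZMod.natCast_eq_zero_iff, Nat.cast_sub (hpow1 t), Nat.cast_pow, Nat.cast_one,
      sub_eq_zero, orderOf_dvd_iff_pow_eq_one]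
  have hf0 : ∀ t : ℕ, ¬ orderOf ((q ^ 2 : ℕ) : ZMod r) ∣ t →
      padicValNat r ((q ^ 2) ^ t - 1) = 0 := by
    intro t ht
    exact padicValNat.eq_zero_of_not_dvd (fun h => ht ((hdvd_iff t).1 h))
  -- the order of `q ^ 2` is even
  have ho2 : 2 ∣ orderOf ((q ^ 2 : ℕ) : ZMod r) := by
    obtain ⟨m, hm⟩ := Nat.dvd_of_mod_eq_zero hi
    have h1 : ((q ^ 2 : ℕ) : ZMod r) = ((q : ℕ) : ZMod r) ^ 2 := by rw [Nat.cast_pow]
    rw [h1, orderOf_pow' _ (by norm_num : (2 : ℕ) ≠ 0), hm]
    have h3 : Nat.gcd (4 * m) 2 = 2 := Nat.gcd_eq_right ⟨2 * m, by ring⟩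
    rw [h3]
    have h4 : 4 * m / 2 = 2 * m := by omega
    rw [h4]
    exact dvd_mul_right 2 m
  obtain ⟨d', rfl⟩ : ∃ d', d = d' + 1 := ⟨d - 1, by omega⟩
  have hd1 : d' + 1 - 1 = d' := by omega
  rw [hd1] at hO he
  -- the sum over the filter
  have hsum : ∑ j ∈ Finset.range d', padicValNat r ((q ^ 2) ^ (j + 1) - 1) =
      ∑ t ∈ (Finset.range (d' + 1)).filter (fun t => orderOf ((q ^ 2 : ℕ) : ZMod r) ∣ t),
        padicValNat r ((q ^ 2) ^ t - 1) := by
    rw [Finset.sum_filter, Finset.sum_range_succ']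
    have h0 : (if orderOf ((q ^ 2 : ℕ) : ZMod r) ∣ 0 then padicValNat r ((q ^ 2) ^ 0 - 1)
        else 0) = 0 := by
      simp
    rw [h0, add_zero]
    apply Finset.sum_congr rfl
    intro j _
    by_cases h : orderOf ((q ^ 2 : ℕ) : ZMod r) ∣ j + 1
    · rw [if_pos h]
    · rw [if_neg h, hf0 _ h]
  have hqd : 1 < q ^ (d' + 1) := Nat.one_lt_pow (by omega) (by omega)
  have hene : e ≠ 0 := by
    rcases he with ⟨h1, -⟩ | ⟨h1, -⟩
    · rw [h1]
      omega
    · rw [h1]
      omega
  have hr2' : ¬ r ∣ 2 := fun h => hr2 ((Nat.prime_dvd_prime_iff_eq hr Nat.prime_two).1 h)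
  have hrqk : ∀ k : ℕ, ¬ r ∣ q ^ k := fun k h => hrq (hr.dvd_of_dvd_pow h)
  have hqk : ∀ k : ℕ, q ^ k ≠ 0 := fun k => pow_ne_zero k (by omega)
  have hprodne : ∏ j ∈ Finset.range d', (q ^ (2 * (j + 1)) - 1) ≠ 0 := by
    apply Finset.prod_ne_zero_iff.2
    intro j _
    have h1 : 1 < q ^ (2 * (j + 1)) := Nat.one_lt_pow (by omega) (by omega)
    omega
  have hO' : padicValNat r cardO = padicValNat r e +
      ∑ j ∈ Finset.range d', padicValNat r ((q ^ 2) ^ (j + 1) - 1) := by
    rw [hO, padicValNat.mul (mul_ne_zero (mul_ne_zero two_ne_zero (hqk _)) hene) hprodne,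
      padicValNat.mul (mul_ne_zero two_ne_zero (hqk _)) hene,
      padicValNat.mul two_ne_zero (hqk _), helper77_val_prod q r hq d',
      padicValNat.eq_zero_of_not_dvd hr2', padicValNat.eq_zero_of_not_dvd (hrqk _),
      zero_add, zero_add]
  -- the main inequality
  have hN : (q ^ 2) ^ (d' + 1) - 1 = (q ^ (d' + 1) + 1) * (q ^ (d' + 1) - 1) := by
    rw [← pow_mul, mul_comm 2 (d' + 1), pow_mul, ← Nat.sq_sub_sq, one_pow]
  have hNne : (q ^ 2) ^ (d' + 1) - 1 ≠ 0 := by
    have h1 : 1 < (q ^ 2) ^ (d' + 1) := Nat.one_lt_pow (by omega) (Nat.one_lt_pow (by omega) (by omega))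
    omega
  have hmain : padicValNat r e ≤
      (if orderOf ((q ^ 2 : ℕ) : ZMod r) ∣ d' + 1 ∧ r ∣ n1 then
        padicValNat r ((q ^ 2) ^ (d' + 1) - 1) else 0) := by
    by_cases hre : r ∣ e
    · have hediv : e ∣ (q ^ 2) ^ (d' + 1) - 1 := by
        rw [hN]
        rcases he with ⟨h1, -⟩ | ⟨h1, -⟩
        · rw [h1]
          exact dvd_mul_left _ _
        · rw [h1]
          exact dvd_mul_right _ _
      have ho2d : orderOf ((q ^ 2 : ℕ) : ZMod r) ∣ d' + 1 := (hdvd_iff _).1 (hre.trans hediv)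
      have heven : Even (d' + 1) := even_iff_two_dvd.2 (ho2.trans ho2d)
      have hn' := hn heven
      have hrn1 : r ∣ n1 := by
        obtain ⟨p, rfl⟩ : ∃ p, q = p + 1 := ⟨q - 1, by omega⟩
        have hp : 0 < p := by omega
        have hp1 : p + 1 - 1 = p := by omega
        rw [hp1] at hn'
        have ea : (p + 1) ^ (d' + 1) = (p + 1) * (p + 1) ^ d' := by ring
        have eb : (p + 1) ^ (2 * (d' + 1) - 1) = (p + 1) * (p + 1) ^ d' * (p + 1) ^ d' := by
          have h1 : 2 * (d' + 1) - 1 = d' + d' + 1 := by omega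
          rw [h1]
          ring
        have ec : (p + 1) ^ (2 * (d' + 1)) =
            (p + 1) * (p + 1) ^ d' * ((p + 1) * (p + 1) ^ d') := by ring
        have hapos : 0 < (p + 1) ^ d' := by positivity
        rw [ec] at hn'
        rw [ea, eb] at he
        generalize (p + 1) ^ d' = a at he hn' hapos
        have hkey : (p + 1) * n1 = a * e := by
          rcases he with ⟨h1, h3⟩ | ⟨h1, h3⟩
          · have h4 : e + 1 = (p + 1) * a := by
              rw [h1]
              exact Nat.sub_add_cancel (Nat.mul_pos (Nat.succ_pos p) hapos)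
            have h5 : n0 + a = (p + 1) * a * a + (p + 1) * a := by
              rw [h3]
              have hle : a ≤ (p + 1) * a * a + (p + 1) * a :=
                le_trans (Nat.le_mul_of_pos_left a (Nat.succ_pos p)) (Nat.le_add_left _ _)
              exact Nat.sub_add_cancel hle
            have h4' : p * a * (e + 1) = p * a * ((p + 1) * a) := by rw [h4]
            have h6 : p * ((p + 1) * n1) = p * (a * e) := by linarith
            exact Nat.eq_of_mul_eq_mul_left hp h6
          · have h4 : e = (p + 1) * a + 1 := h1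
            have h5 : n0 + (p + 1) * a = (p + 1) * a * a + a := by
              rw [h3]
              have hle : (p + 1) * a ≤ (p + 1) * a * a + a :=
                le_trans (Nat.le_mul_of_pos_right _ hapos) (Nat.le_add_right _ _)
              exact Nat.sub_add_cancel hle
            have h4' : p * a * e = p * a * ((p + 1) * a + 1) := by rw [h4]
            have h6 : p * ((p + 1) * n1) = p * (a * e) := by linarith
            exact Nat.eq_of_mul_eq_mul_left hp h6
        have h7 : r ∣ (p + 1) * n1 := by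
          rw [hkey]
          exact hre.mul_left a
        exact (hr.dvd_mul.1 h7).resolve_left hrq
      rw [if_pos ⟨ho2d, hrn1⟩]
      exact (padicValNat_dvd_iff_le hNne).1 (dvd_trans pow_padicValNat_dvd hediv)
    · rw [padicValNat.eq_zero_of_not_dvd hre]
      exact Nat.zero_le _
  rw [hO', hsum]
  omega

end Cfsg.Agent.Lib.helper99.HCI
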