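import Mathlib
import Cfsg.Prelude.Def_Blocks
import Cfsg.Agent.Lib.helper4.CharDecomp
import Cfsg.Agent.Lib.helper4.CharTheory
import Cfsg.Agent.Lib.helper4.Induction
import Cfsg.Agent.Lib.helper4.SubChar
import Cfsg.Agent.Lib.helper82.Ramification
import Cfsg.Agent.Lib.helper82.BergerD
import Cfsg.Agent.Lib.helper82.CharQuot
import Cfsg.Agent.Lib.helper5.NormalDeg
import Cfsg.Agent.Lib.helper19.Gallagher
import Cfsg.Agent.Lib.helper19.AbelianOver
import Cfsg.Agent.Lib.helper81.CharBasic
import Cfsg.Agent.Lib.helper83.CharBasic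

/-!
# Isaacs–Passman: general character lemmas (helper77 library, part a)

Groups whose irreducible character degrees are bounded by `b`: restriction lemmas used for
the bound `(b!)^2` on the index of an abelian subgroup.
-/

set_option autoImplicit false

namespace Cfsg.Agent.Lib.helper77

open Cfsg
open scoped ComplexConjugate

universe u

variable {G : Type u} [Group G]

/-- All irreducible character degrees of `G` are at most `b`. -/
def ipDegLe (G : Type u) [Group G] (b : ℕ) : Prop :=
  ∀ χ : G → ℂ, IsIrrCharacter G χ → ∃ d : ℕ, d ≤ b ∧ χ 1 = (d : ℂ)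

open scoped Classical in
/-- A sum over a subgroup as an indicator sum over the group. -/
theorem ip_sum_mem [Fintype G] (H : Subgroup G) [Fintype H] (F : G → ℂ) :
    ∑ g : G, (if g ∈ H then F g else 0) = ∑ h : H, F h := by
  rw [← Finset.sum_filter]
  exact Finset.sum_subtype (p := fun g => g ∈ H) _ (by simp) F

open scoped Classical in
/-- Norm one on a subgroup, as an indicator sum. -/
theorem ip_sum_sq_of_irr [Fintype G] (H : Subgroup G) [Fintype H] (χ : G → ℂ)
    (hH : IsIrrCharacter H (fun h : H => χ h)) :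
    ∑ g : G, (if g ∈ H then χ g * conj (χ g) else 0) = (Nat.card H : ℂ) := by
  refine (ip_sum_mem H (fun g => χ g * conj (χ g))).trans ?_
  have h1 := helper4.classInner_irr_self hH
  unfold classInner at h1
  have hne : (Nat.card H : ℂ) ≠ 0 := Nat.cast_ne_zero.mpr Nat.card_pos.ne'
  rw [inv_mul_eq_iff_eq_mul₀ hne, mul_one] at h1
  exact h1

open scoped Classical in
/-- Norm of a product when the second factor is supported (up to zeros of the first) on a
subgroup where it has constant absolute value. -/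
theorem ip_norm_mul [Fintype G] (H : Subgroup G) [Fintype H] (χ β : G → ℂ) (c : ℂ)
    (hH : IsIrrCharacter H (fun h : H => χ h))
    (hβ : ∀ g, χ g * conj (χ g) * (β g * conj (β g)) =
      if g ∈ H then c * (χ g * conj (χ g)) else 0) :
    classInner (χ * β) (χ * β) = (Nat.card G : ℂ)⁻¹ * (c * (Nat.card H : ℂ)) := by
  unfold classInner
  congr 1
  rw [← ip_sum_sq_of_irr H χ hH, Finset.mul_sum]
  refine Finset.sum_congr rfl fun g _ => ?_
  rw [Pi.mul_apply, map_mul, mul_ite, mul_zero, ← hβ g]
  ring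

/-- Degree of a sum of a list of irreducible characters. -/
theorem ip_list_degree (b : ℕ) (hG : ipDegLe G b) (l : List (IrrCharacter G)) :
    ∃ s : ℕ, (l.map Subtype.val).sum 1 = (s : ℂ) ∧ s ≤ b * l.length := by
  induction l with
  | nil => exact ⟨0, by simp, by simp⟩
  | cons ξ l ih =>
    obtain ⟨s, hs, hle⟩ := ih
    obtain ⟨d, hd, hd1⟩ := hG ξ.1 ξ.2
    refine ⟨d + s, ?_, ?_⟩
    · rw [List.map_cons, List.sum_cons, Pi.add_apply, hs, hd1]; push_cast; ring
    · rw [List.length_cons]; nlinarith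

/-- A character of degree `n` of a group with degrees at most `b` has norm at least `n / b`. -/
theorem ip_le_norm [Fintype G] (b : ℕ) (hG : ipDegLe G b) (Θ : G → ℂ) (hΘ : IsCharacter G Θ)
    (n : ℕ) (hn : Θ 1 = (n : ℂ)) : ∃ m : ℕ, classInner Θ Θ = (m : ℂ) ∧ n ≤ b * m := by
  obtain ⟨l, hl⟩ := helper4.exists_irr_list_of_isCharacter hΘ
  obtain ⟨m, hm, hlen⟩ := helper4.exists_nat_norm_list_irr l
  obtain ⟨s, hs, hsle⟩ := ip_list_degree b hG l
  refine ⟨m, by rw [hl]; exact hm, ?_⟩
  have hns : n = s := by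
    have h1 : (n : ℂ) = (s : ℂ) := by rw [← hn, hl, hs]
    exact_mod_cast h1
  rw [hns]
  exact hsle.trans (Nat.mul_le_mul_left b hlen)

/-- If no irreducible character of the maximal degree `b` restricts irreducibly to `H`, then
the degrees of `H` are at most `b - 1`. -/
theorem ip_degLe_pred [Fintype G] (H : Subgroup G) [Fintype H] (b : ℕ) (hG : ipDegLe G b)
    (hno : ∀ χ : G → ℂ, IsIrrCharacter G χ → χ 1 = (b : ℂ) →
      ¬ IsIrrCharacter H (fun h : H => χ h)) : ipDegLe H (b - 1) := by
  intro θ hθ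
  obtain ⟨n, hnpos, hn⟩ := helper4.exists_pos_nat_degree hθ
  obtain ⟨ξ, hξ, hne⟩ := helper82.exists_irr_over H hθ
  obtain ⟨a, hab, ha⟩ := hG ξ hξ
  have hξH : IsCharacter H (fun h : H => ξ h) :=
    helper4.isCharacter_restrict H (helper4.isCharacter_of_isIrrCharacter hξ)
  have hξ1 : (fun h : H => ξ h) 1 = (a : ℂ) := by
    show ξ ((1 : H) : G) = a
    rw [OneMemClass.coe_one, ha]
  have hna : n ≤ a := by
    by_contra hlt
    have heq := helper82.char_eq_irr_of_degree_le hξH hθ hne a n hξ1 hn
      (Nat.lt_of_not_le hlt).le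
    have h1 : (a : ℂ) = (n : ℂ) := by rw [← hξ1, heq, hn]
    have h2 : a = n := by exact_mod_cast h1
    omega
  refine ⟨n, ?_, hn⟩
  by_contra hlt
  have hnb : n = b := by omega
  have han : a = n := by omega
  have heq := helper82.char_eq_irr_of_degree_le hξH hθ hne a n hξ1 hn han.le
  apply hno ξ hξ (by rw [ha, han, hnb])
  rw [heq]; exact hθ

/-- An irreducible character of maximal degree that restricts irreducibly to `H` vanishes on
the elements of `H` having a conjugate outside `H`. -/
theorem ip_vanish_conj [Fintype G] (H : Subgroup G) [Fintype H] (b : ℕ) (hG : ipDegLe G b)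
    (χ : G → ℂ) (hχ : IsIrrCharacter G χ) (hb : χ 1 = (b : ℂ))
    (hH : IsIrrCharacter H (fun h : H => χ h)) (h : G) (hh : h ∈ H) (x : G)
    (hx : x⁻¹ * h * x ∉ H) : χ h = 0 := by
  classical
  have hfin : Fintype (IrrCharacter G) := Fintype.ofFinite _
  have hχc := helper4.isCharacter_of_isIrrCharacter hχ
  have hcf := helper4.isClassFunction_of_isCharacter hχc
  have hcoef : ∀ ξ : IrrCharacter G,
      classInner (Cfsg.indFun H (fun h : H => χ h)) (ξ : G → ℂ) = 0 ∨
      (classInner (Cfsg.indFun H (fun h : H => χ h)) (ξ : G → ℂ) = 1 ∧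
        ∀ g ∈ H, (ξ : G → ℂ) g = χ g) := by
    intro ξ
    have hξc := helper4.isCharacter_of_isIrrCharacter ξ.2
    rw [helper4.frobenius_reciprocity H _ (helper4.isClassFunction_of_isCharacter hξc)]
    by_cases h0 : classInner (fun h : H => χ h) (fun h : H => (ξ : G → ℂ) h) = 0
    · exact Or.inl h0
    · right
      have hξH : IsCharacter H (fun h : H => (ξ : G → ℂ) h) :=
        helper4.isCharacter_restrict H hξc
      obtain ⟨m, hm⟩ := helper4.exists_nat_classInner hξH
        (helper4.isCharacter_of_isIrrCharacter hH)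
      have hm' := helper5.classInner_symm_nat _ _ m hm
      have hm0 : classInner (fun h : H => (ξ : G → ℂ) h) (fun h : H => χ h) ≠ 0 := by
        rw [hm]; rw [hm'] at h0; exact h0
      obtain ⟨a, hab, ha⟩ := hG ξ.1 ξ.2
      have heq := helper82.char_eq_irr_of_degree_le hξH hH hm0 a b
        (by show (ξ : G → ℂ) ((1 : H) : G) = a; rw [OneMemClass.coe_one, ha])
        (by show χ ((1 : H) : G) = b; rw [OneMemClass.coe_one, hb]) hab
      refine ⟨?_, fun g hg => ?_⟩
      · rw [heq]; exact helper4.classInner_irr_self hH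
      · exact congrFun heq ⟨g, hg⟩
  have hexp := helper4.classFunction_eq_sum_irr
    (helper4.isClassFunction_indFun H (fun h : H => χ h))
  have hval : ∀ g ∈ H, Cfsg.indFun H (fun h : H => χ h) g =
      (∑ ξ : IrrCharacter G, classInner (Cfsg.indFun H (fun h : H => χ h)) (ξ : G → ℂ)) *
        χ g := by
    intro g hg
    have hg1 := congrFun hexp g
    rw [Finset.sum_apply] at hg1
    rw [hg1, Finset.sum_mul]
    refine Finset.sum_congr rfl fun ξ _ => ?_
    rw [Pi.smul_apply, smul_eq_mul]
    rcases hcoef ξ with h0 | ⟨_, h1⟩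
    · rw [h0]; simp
    · rw [h1 g hg]
  obtain ⟨n, hnpos, hn⟩ := helper4.exists_pos_nat_degree hχ
  have hb0 : (b : ℂ) ≠ 0 := by
    rw [← hb, hn]; exact Nat.cast_ne_zero.mpr hnpos.ne'
  have hC1 : (∑ ξ : IrrCharacter G,
      classInner (Cfsg.indFun H (fun h : H => χ h)) (ξ : G → ℂ)) = (H.index : ℂ) := by
    have h1 := hval 1 H.one_mem
    rw [helper4.indFun_one] at h1
    rw [OneMemClass.coe_one, hb] at h1
    exact (mul_right_cancel₀ hb0 h1).symm
  have hval_h := hval h hh
  rw [helper4.indFun_apply, hC1] at hval_h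
  have hterm : ∀ y : G, Cfsg.extendByZero H (fun h : H => χ h) (y⁻¹ * h * y) =
      if y⁻¹ * h * y ∈ H then χ h else 0 := by
    intro y
    by_cases hy : y⁻¹ * h * y ∈ H
    · rw [if_pos hy, helper4.extendByZero_apply_mem H _ hy]
      have h3 := hcf h y⁻¹
      rw [inv_inv] at h3
      exact h3
    · rw [if_neg hy, helper4.extendByZero_apply_of_not_mem H _ hy]
  have hsum : ∑ y : G, Cfsg.extendByZero H (fun h : H => χ h) (y⁻¹ * h * y) =
      ((Finset.univ.filter (fun y : G => y⁻¹ * h * y ∈ H)).card : ℂ) * χ h := by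
    rw [Finset.sum_congr rfl (fun y _ => hterm y), ← Finset.sum_filter, Finset.sum_const,
      nsmul_eq_mul]
  rw [hsum] at hval_h
  have hcnt : (Finset.univ.filter (fun y : G => y⁻¹ * h * y ∈ H)).card < Nat.card G := by
    rw [Nat.card_eq_fintype_card, ← Finset.card_univ]
    apply Finset.card_lt_card
    rw [Finset.filter_ssubset]
    exact ⟨x, Finset.mem_univ _, hx⟩
  have hHne : (Nat.card H : ℂ) ≠ 0 := Nat.cast_ne_zero.mpr Nat.card_pos.ne'
  have hcard : (Nat.card H : ℂ) * (H.index : ℂ) = (Nat.card G : ℂ) := by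
    exact_mod_cast H.card_mul_index
  have h4 := congrArg (fun z => (Nat.card H : ℂ) * z) hval_h
  rw [mul_inv_cancel_left₀ hHne] at h4
  have h5 : ((Nat.card G : ℂ) -
      ((Finset.univ.filter (fun y : G => y⁻¹ * h * y ∈ H)).card : ℂ)) * χ h = 0 := by
    rw [← hcard]; linear_combination -h4
  rcases mul_eq_zero.mp h5 with h6 | h6
  · exfalso
    have h7 : (Nat.card G : ℂ) =
        ((Finset.univ.filter (fun y : G => y⁻¹ * h * y ∈ H)).card : ℂ) := sub_eq_zero.mp h6
    have h8 : Nat.card G = (Finset.univ.filter (fun y : G => y⁻¹ * h * y ∈ H)).card := by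
      exact_mod_cast h7
    omega
  · exact h6

/-- If a nonlinear irreducible character of `G` is trivial on the normal subgroup `K`, the
degrees of `K` are at most `b / 2`. -/
theorem ip_degLe_half [Fintype G] (K : Subgroup G) [K.Normal] [Fintype K] (b : ℕ)
    (hG : ipDegLe G b) (β : G → ℂ) (hβ : IsIrrCharacter G β) (d : ℕ) (hd : β 1 = (d : ℂ))
    (hd2 : 2 ≤ d) (hβK : ∀ k ∈ K, β k = β 1) : ipDegLe K (b / 2) := by
  intro θ hθ
  obtain ⟨n, hnpos, hn⟩ := helper4.exists_pos_nat_degree hθ
  refine ⟨n, ?_, hn⟩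
  obtain ⟨ξ, hξ, e, he0, he, hdeg⟩ := helper5.exists_irr_over K hθ
  obtain ⟨a, hab, ha⟩ := hG ξ hξ
  obtain ⟨a', ha'pos, ha'⟩ := helper4.exists_pos_nat_degree hξ
  have haa : a = a' := by
    have h1 : (a : ℂ) = (a' : ℂ) := by rw [← ha, ha']
    exact_mod_cast h1
  have hnat : a = e * (helper82.inertia K θ).index * n := by
    have h1 : (a : ℂ) = ((e * (helper82.inertia K θ).index * n : ℕ) : ℂ) := by
      rw [← ha, hdeg, hn]; push_cast; ring
    exact_mod_cast h1
  rw [Nat.le_div_iff_mul_le (by norm_num)]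
  by_cases h2 : 2 ≤ e * (helper82.inertia K θ).index
  · calc n * 2 ≤ n * (e * (helper82.inertia K θ).index) := Nat.mul_le_mul_left n h2
      _ = a := by rw [hnat]; ring
      _ ≤ b := hab
  · have het : e * (helper82.inertia K θ).index = 1 := by
      have h3 : e * (helper82.inertia K θ).index ≠ 0 := by
        intro h0
        rw [h0, zero_mul] at hnat
        omega
      omega
    have han : a = n := by rw [hnat, het, one_mul]
    have hξK : IsCharacter K (fun k : K => ξ k) :=
      helper4.isCharacter_restrict K (helper4.isCharacter_of_isIrrCharacter hξ)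
    have hξ1 : (fun k : K => ξ k) 1 = (a : ℂ) := by
      show ξ ((1 : K) : G) = a
      rw [OneMemClass.coe_one, ha]
    have hne : classInner (fun k : K => ξ k) θ ≠ 0 := by
      rw [he]; exact Nat.cast_ne_zero.mpr he0
    have heq := helper82.char_eq_irr_of_degree_le hξK hθ hne a n hξ1 hn han.le
    have hirrK : IsIrrCharacter K (fun k : K => ξ k) := by rw [heq]; exact hθ
    have hmul := helper19.isIrr_mul_of_trivial K ξ hξ hirrK β hβ hβK
    obtain ⟨d', hd'b, hd'⟩ := hG _ hmul
    have h5 : a * d = d' := by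
      have h1 : ((a * d : ℕ) : ℂ) = (d' : ℂ) := by
        rw [← hd', Pi.mul_apply, ha, hd]; push_cast; ring
      exact_mod_cast h1
    calc n * 2 ≤ n * d := Nat.mul_le_mul_left n hd2
      _ = d' := by rw [← h5, han]
      _ ≤ b := hd'b

end Cfsg.Agent.Lib.helper77
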