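import Mathlib
import Cfsg.Prelude.Def_Blocks
import Cfsg.Agent.Lib.helper77.IPa
import Cfsg.Agent.Lib.helper82.CharNormal
import Cfsg.Agent.Lib.helper82.CharSums
import Cfsg.Agent.Lib.helper19.DetChar
import Cfsg.Agent.Lib.helper21.GalConj
import Cfsg.Agent.Lib.helper21.TIChar
import Cfsg.Agent.Lib.helper78.FTDegree

/-!
# Isaacs–Passman: the quotient `G ⧸ K` with a centre or with abelian derived subgroup
(helper77 library, part b)
-/

set_option autoImplicit false

namespace Cfsg.Agent.Lib.helper77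

open Cfsg
open scoped ComplexConjugate commutatorElement

universe u

variable {G : Type u} [Group G]

/-- The preimage in `G` of a subgroup of `G ⧸ K`. -/
abbrev ipPre (K : Subgroup G) [K.Normal] (M : Subgroup (G ⧸ K)) : Subgroup G :=
  M.comap (QuotientGroup.mk' K)

/-- The projection of the preimage of `M ≤ G ⧸ K` onto `M`. -/
def ipProj (K : Subgroup G) [K.Normal] (M : Subgroup (G ⧸ K)) : ipPre K M →* M :=
  ((QuotientGroup.mk' K).comp (ipPre K M).subtype).codRestrict M (fun n => n.2)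

theorem ipProj_coe (K : Subgroup G) [K.Normal] (M : Subgroup (G ⧸ K)) (n : ipPre K M) :
    ((ipProj K M n : M) : G ⧸ K) = ((n : G) : G ⧸ K) := rfl

theorem ipProj_surjective (K : Subgroup G) [K.Normal] (M : Subgroup (G ⧸ K)) :
    Function.Surjective (ipProj K M) := by
  rintro ⟨q, hq⟩
  obtain ⟨g, rfl⟩ := QuotientGroup.mk_surjective q
  exact ⟨⟨g, hq⟩, rfl⟩

theorem ipPre_index (K : Subgroup G) [K.Normal] (M : Subgroup (G ⧸ K)) :
    (ipPre K M).index = M.index :=
  Subgroup.index_comap_of_surjective _ (QuotientGroup.mk'_surjective K)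

/-- Degrees of a quotient are bounded by those of the group. -/
theorem ip_degLe_quot (K : Subgroup G) [K.Normal] (b : ℕ) (hG : ipDegLe G b) :
    ipDegLe (G ⧸ K) b := by
  intro β hβ
  obtain ⟨d, hd, hd1⟩ := hG _ (helper82.isIrrCharacter_inflation K hβ)
  exact ⟨d, hd, hd1⟩

/-- A nonabelian group has a nonlinear irreducible character. -/
theorem ip_exists_nonlinear {Q : Type u} [Group Q] [Finite Q] (hna : commutator Q ≠ ⊥) :
    ∃ β : IrrCharacter Q, ∃ d : ℕ, 2 ≤ d ∧ (β : Q → ℂ) 1 = (d : ℂ) := by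
  classical
  have hfin : Fintype Q := Fintype.ofFinite _
  obtain ⟨β, hβ, -⟩ := helper21.exists_nonlinear_of_not_le (⊥ : Subgroup Q)
    (by rwa [le_bot_iff])
  obtain ⟨d, hdpos, hd⟩ := helper4.exists_pos_nat_degree β.2
  refine ⟨β, d, ?_, hd⟩
  have hd1 : d ≠ 1 := by
    intro h1
    apply hβ
    rw [helper21.charDegree_eq_one_iff, hd, h1, Nat.cast_one]
  omega

/-- In a group all of whose nontrivial normal subgroups contain the derived subgroup, a
nonlinear irreducible character is faithful. -/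
theorem ip_faithful {Q : Type u} [Group Q] [Finite Q]
    (hP : ∀ L : Subgroup Q, L.Normal → L ≠ ⊥ → commutator Q ≤ L)
    (β : IrrCharacter Q) (hβ : (β : Q → ℂ) 1 ≠ 1) (x : Q)
    (hx : (β : Q → ℂ) x = (β : Q → ℂ) 1) : x = 1 := by
  classical
  have hfin : Fintype Q := Fintype.ofFinite _
  obtain ⟨L, hLn, hL⟩ := helper82.exists_ker_of_isCharacter
    (helper4.isCharacter_of_isIrrCharacter β.2)
  by_contra hx1
  have hLne : L ≠ ⊥ := by
    intro h0
    have h1 : x ∈ L := (hL x).mpr hx
    rw [h0, Subgroup.mem_bot] at h1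
    exact hx1 h1
  have hle := hP L hLn hLne
  exact hβ ((helper82.irr_linear_iff β.2).mpr fun y hy => (hL y).mp (hle hy))

/-- Central elements have character values of absolute value the degree. -/
theorem ip_center_sq {Q : Type u} [Group Q] [Finite Q] (β : IrrCharacter Q) {z : Q}
    (hz : z ∈ Subgroup.center Q) (d : ℕ) (hd : (β : Q → ℂ) 1 = (d : ℂ)) (hd0 : d ≠ 0) :
    (β : Q → ℂ) z * conj ((β : Q → ℂ) z) = (d : ℂ) ^ 2 := by
  classical
  have hfin : Fintype Q := Fintype.ofFinite _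
  have h1 := helper21.irr_mul_center_eq β hz z⁻¹
  rw [inv_mul_cancel, helper83.isCharacter_inv (helper4.isCharacter_of_isIrrCharacter β.2),
    hd] at h1
  have hd0' : (d : ℂ) ≠ 0 := Nat.cast_ne_zero.mpr hd0
  rw [div_mul_eq_mul_div, eq_div_iff hd0'] at h1
  rw [← h1]; ring

/-- Case A: the quotient has a nontrivial centre. -/
theorem ip_caseA [Fintype G] (K : Subgroup G) [K.Normal] (b : ℕ) (hG : ipDegLe G b)
    (hP : ∀ L : Subgroup (G ⧸ K), L.Normal → L ≠ ⊥ → commutator (G ⧸ K) ≤ L)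
    (hna : commutator (G ⧸ K) ≠ ⊥) (hZ : Subgroup.center (G ⧸ K) ≠ ⊥) :
    ∃ H : Subgroup G, ipDegLe H (b - 1) ∧ H.index ≤ b ^ 2 := by
  classical
  have hQfin : Fintype (G ⧸ K) := Fintype.ofFinite _
  obtain ⟨β, d, hd2, hd⟩ := ip_exists_nonlinear hna
  have hβ1 : (β : G ⧸ K → ℂ) 1 ≠ 1 := by
    rw [hd]
    intro h
    have h1 : d = 1 := by exact_mod_cast h
    omega
  have hfaith := ip_faithful hP β hβ1
  have hDZ : commutator (G ⧸ K) ≤ Subgroup.center (G ⧸ K) := hP _ inferInstance hZ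
  have hvan : ∀ x : G ⧸ K, x ∉ Subgroup.center (G ⧸ K) → (β : G ⧸ K → ℂ) x = 0 :=
    fun x hx => helper21.irr_vanish_off_center hDZ β (fun y _ hy => hfaith y hy) x hx
  have hsq := helper21.irr_degree_sq_of_vanish β hvan
  rw [helper21.charDegree_of_one_eq hd] at hsq
  have hidx : (ipPre K (Subgroup.center (G ⧸ K))).index = d ^ 2 := by
    rw [ipPre_index]
    have h1 := (Subgroup.center (G ⧸ K)).index_mul_card
    have hpos : 0 < Nat.card (Subgroup.center (G ⧸ K)) := Nat.card_pos
    rw [← hsq] at h1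
    exact Nat.eq_of_mul_eq_mul_right hpos h1
  have hβi : IsIrrCharacter G (fun g : G => (β : G ⧸ K → ℂ) (g : G ⧸ K)) :=
    helper82.isIrrCharacter_inflation K β.2
  obtain ⟨d', hd'b, hd'⟩ := hG _ hβi
  have hdd : d = d' := by
    have h1 : (d : ℂ) = (d' : ℂ) := by rw [← hd, ← hd']; rfl
    exact_mod_cast h1
  have hdb : d ≤ b := hdd ▸ hd'b
  have hZfin : Fintype (ipPre K (Subgroup.center (G ⧸ K))) := Fintype.ofFinite _
  refine ⟨ipPre K (Subgroup.center (G ⧸ K)), ip_degLe_pred _ b hG ?_,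
    by rw [hidx]; exact Nat.pow_le_pow_left hdb 2⟩
  intro χ hχ hχb hχZ
  have hnorm := ip_norm_mul (ipPre K (Subgroup.center (G ⧸ K))) χ
    (fun g : G => (β : G ⧸ K → ℂ) (g : G ⧸ K)) ((d : ℂ) ^ 2) hχZ (by
      intro g
      by_cases hg : g ∈ ipPre K (Subgroup.center (G ⧸ K))
      · rw [if_pos hg]
        have hz : (g : G ⧸ K) ∈ Subgroup.center (G ⧸ K) := hg
        have hsqz := ip_center_sq β hz d hd (by omega)
        show χ g * conj (χ g) * ((β : G ⧸ K → ℂ) (g : G ⧸ K) *
          conj ((β : G ⧸ K → ℂ) (g : G ⧸ K))) = _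
        rw [hsqz]; ring
      · rw [if_neg hg]
        have h0 : (β : G ⧸ K → ℂ) (g : G ⧸ K) = 0 := hvan _ hg
        show χ g * conj (χ g) * ((β : G ⧸ K → ℂ) (g : G ⧸ K) *
          conj ((β : G ⧸ K → ℂ) (g : G ⧸ K))) = _
        rw [h0]; ring)
  have hcard : (Nat.card G : ℂ) =
      (d : ℂ) ^ 2 * (Nat.card (ipPre K (Subgroup.center (G ⧸ K))) : ℂ) := by
    have h1 := (ipPre K (Subgroup.center (G ⧸ K))).index_mul_card
    rw [hidx] at h1
    exact_mod_cast h1.symm
  have hone : classInner (χ * fun g : G => (β : G ⧸ K → ℂ) (g : G ⧸ K))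
      (χ * fun g : G => (β : G ⧸ K → ℂ) (g : G ⧸ K)) = 1 := by
    rw [hnorm, ← hcard]
    exact inv_mul_cancel₀ (Nat.cast_ne_zero.mpr Nat.card_pos.ne')
  have hirr := (helper4.isIrrCharacter_iff_norm_one
    (helper4.isCharacter_mul (helper4.isCharacter_of_isIrrCharacter hχ)
      (helper4.isCharacter_of_isIrrCharacter hβi))).mpr hone
  obtain ⟨e, heb, he⟩ := hG _ hirr
  have hbd : b * d = e := by
    have h1 : ((b * d : ℕ) : ℂ) = (e : ℂ) := by
      rw [← he, Pi.mul_apply, hχb]
      show _ = (b : ℂ) * (β : G ⧸ K → ℂ) ((1 : G) : G ⧸ K)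
      rw [QuotientGroup.mk_one, hd]; push_cast; ring
    exact_mod_cast h1
  obtain ⟨n, hnpos, hn⟩ := helper4.exists_pos_nat_degree hχ
  have hbn : b = n := by
    have h1 : (b : ℂ) = (n : ℂ) := by rw [← hχb, hn]
    exact_mod_cast h1
  nlinarith

/-- Conjugation argument: from equal commutators to commuting elements. -/
theorem ip_comm_of_eq {Q : Type u} [Group Q] (a m m' : Q)
    (h : a * m * a⁻¹ * m⁻¹ = a * m' * a⁻¹ * m'⁻¹) : a * (m'⁻¹ * m) = (m'⁻¹ * m) * a := by
  have h1 : m * a⁻¹ * m⁻¹ = m' * a⁻¹ * m'⁻¹ := by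
    have h2 := congrArg (fun z => a⁻¹ * z) h
    simpa [mul_assoc] using h2
  calc a * (m'⁻¹ * m) = a * (m'⁻¹ * (m * a⁻¹ * m⁻¹) * m) * a := by group
    _ = a * (m'⁻¹ * (m' * a⁻¹ * m'⁻¹) * m) * a := by rw [h1]
    _ = (m'⁻¹ * m) * a := by group

/-- `X ⊓ C(a)` is normal when `X` is normal and centralizes the derived subgroup. -/
theorem ip_inf_centralizer_normal {Q : Type u} [Group Q] (X : Subgroup Q) [hX : X.Normal]
    (hXM : ∀ e ∈ X, ∀ m ∈ commutator Q, e * m = m * e) (a : Q) :
    (X ⊓ Subgroup.centralizer {a}).Normal := by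
  constructor
  intro e he q
  rw [Subgroup.mem_inf] at he ⊢
  refine ⟨hX.conj_mem e he.1 q, ?_⟩
  have hea : e * a = a * e := Subgroup.mem_centralizer_singleton_iff.mp he.2
  rw [Subgroup.mem_centralizer_singleton_iff]
  have hcM : a⁻¹ * q⁻¹ * a * q ∈ commutator Q := by
    have h1 : ⁅a⁻¹, q⁻¹⁆ ∈ commutator Q :=
      Subgroup.commutator_mem_commutator (Subgroup.mem_top a⁻¹) (Subgroup.mem_top q⁻¹)
    rw [commutatorElement_def, inv_inv, inv_inv] at h1
    exact h1
  have hc := hXM e he.1 _ hcM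
  have h1 : q⁻¹ * a * q = a * (a⁻¹ * q⁻¹ * a * q) := by group
  generalize a⁻¹ * q⁻¹ * a * q = c at hc h1
  have h2 : e * (q⁻¹ * a * q) = (q⁻¹ * a * q) * e := by
    rw [h1]
    calc e * (a * c) = (e * a) * c := (mul_assoc e a c).symm
      _ = (a * e) * c := by rw [hea]
      _ = a * (e * c) := mul_assoc a e c
      _ = a * (c * e) := by rw [hc]
      _ = a * c * e := (mul_assoc a c e).symm
  have h3 := congrArg (fun z => q * z * q⁻¹) h2
  simpa [mul_assoc] using h3

/-- `X ⊓ C(a)` is trivial when moreover `a` does not centralize the derived subgroup. -/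
theorem ip_inf_centralizer_bot {Q : Type u} [Group Q]
    (hP : ∀ L : Subgroup Q, L.Normal → L ≠ ⊥ → commutator Q ≤ L)
    (X : Subgroup Q) [X.Normal] (hXM : ∀ e ∈ X, ∀ m ∈ commutator Q, e * m = m * e) (a : Q)
    (ha : ¬ ∀ m ∈ commutator Q, a * m = m * a) : X ⊓ Subgroup.centralizer {a} = ⊥ := by
  by_contra hne
  have hle := hP _ (ip_inf_centralizer_normal X hXM a) hne
  apply ha
  intro m hm
  exact (Subgroup.mem_centralizer_singleton_iff.mp (hle hm).2).symm

/-- Frobenius structure: with trivial centre and abelian derived subgroup `M`, no nontrivial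
element of `M` commutes with an element outside `M`. -/
theorem ip_frob {Q : Type u} [Group Q] [Finite Q]
    (hP : ∀ L : Subgroup Q, L.Normal → L ≠ ⊥ → commutator Q ≤ L)
    (hna : commutator Q ≠ ⊥) (hZ : Subgroup.center Q = ⊥)
    (hab : ∀ a ∈ commutator Q, ∀ c ∈ commutator Q, a * c = c * a)
    (g : Q) (hg : g ∉ commutator Q) (k : Q) (hk : k ∈ commutator Q)
    (hcomm : g * k = k * g) : k = 1 := by
  have hMn : (commutator Q).Normal := inferInstance
  have hex : ∃ a : Q, ¬ ∀ m ∈ commutator Q, a * m = m * a := by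
    by_contra hall
    push Not at hall
    apply hna
    rw [eq_bot_iff, ← hZ]
    intro m hm
    rw [Subgroup.mem_center_iff]
    intro a
    exact hall a m hm
  obtain ⟨a, ha⟩ := hex
  have hCM : ∀ a : Q, (¬ ∀ m ∈ commutator Q, a * m = m * a) →
      ∀ m ∈ commutator Q, a * m = m * a → m = 1 := by
    intro a ha m hm hcm
    have h1 := ip_inf_centralizer_bot hP (commutator Q) hab a ha
    have h2 : m ∈ commutator Q ⊓ Subgroup.centralizer {a} :=
      ⟨hm, Subgroup.mem_centralizer_singleton_iff.mpr hcm.symm⟩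
    rw [h1, Subgroup.mem_bot] at h2
    exact h2
  have hDM : ∀ d : Q, (∀ m ∈ commutator Q, d * m = m * d) → d ∈ commutator Q := by
    intro d hd
    let φ : commutator Q → commutator Q := fun m =>
      ⟨a * m * a⁻¹ * (m : Q)⁻¹,
        (commutator Q).mul_mem (hMn.conj_mem m m.2 a) ((commutator Q).inv_mem m.2)⟩
    have hφinj : Function.Injective φ := by
      intro m m' hmm
      have h1 : a * (m : Q) * a⁻¹ * (m : Q)⁻¹ = a * (m' : Q) * a⁻¹ * (m' : Q)⁻¹ :=
        congrArg Subtype.val hmm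
      have h2 := ip_comm_of_eq a (m : Q) (m' : Q) h1
      have h3 := hCM a ha _ ((commutator Q).mul_mem ((commutator Q).inv_mem m'.2) m.2) h2
      rw [inv_mul_eq_one] at h3
      exact Subtype.ext h3.symm
    have hφsurj : Function.Surjective φ := Finite.injective_iff_surjective.mp hφinj
    have hcd : a * d * a⁻¹ * d⁻¹ ∈ commutator Q := by
      have h1 : ⁅a, d⁆ ∈ commutator Q :=
        Subgroup.commutator_mem_commutator (Subgroup.mem_top a) (Subgroup.mem_top d)
      rw [commutatorElement_def] at h1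
      exact h1
    obtain ⟨y, hy⟩ := hφsurj ⟨a * d * a⁻¹ * d⁻¹, hcd⟩
    have hy' : a * (y : Q) * a⁻¹ * (y : Q)⁻¹ = a * d * a⁻¹ * d⁻¹ := congrArg Subtype.val hy
    have he := ip_comm_of_eq a (y : Q) d hy'
    have hD := ip_inf_centralizer_bot hP (Subgroup.centralizer (commutator Q : Set Q))
      (fun e he m hm => (Subgroup.mem_centralizer_iff.mp he m hm).symm) a ha
    have hemem : d⁻¹ * (y : Q) ∈
        Subgroup.centralizer (commutator Q : Set Q) ⊓ Subgroup.centralizer {a} := by
      rw [Subgroup.mem_inf]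
      refine ⟨?_, Subgroup.mem_centralizer_singleton_iff.mpr he.symm⟩
      rw [Subgroup.mem_centralizer_iff]
      intro m hm
      have h1 : m * d⁻¹ = d⁻¹ * m := by
        rw [eq_inv_mul_iff_mul_eq, ← mul_assoc, hd m hm, mul_inv_cancel_right]
      calc m * (d⁻¹ * (y : Q)) = (m * d⁻¹) * y := by rw [mul_assoc]
        _ = d⁻¹ * (m * y) := by rw [h1, mul_assoc]
        _ = d⁻¹ * (y * m) := by rw [hab m hm y y.2]
        _ = d⁻¹ * (y : Q) * m := by rw [mul_assoc]
    rw [hD, Subgroup.mem_bot, inv_mul_eq_one] at hemem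
    rw [hemem]; exact y.2
  have hg' : ¬ ∀ m ∈ commutator Q, g * m = m * g := fun h => hg (hDM g h)
  exact hCM g hg' k hk hcomm

/-- In the Frobenius situation, nonlinear irreducible characters vanish off the derived
subgroup. -/
theorem ip_frob_vanish {Q : Type u} [Group Q] [Finite Q]
    (hP : ∀ L : Subgroup Q, L.Normal → L ≠ ⊥ → commutator Q ≤ L)
    (hna : commutator Q ≠ ⊥) (hZ : Subgroup.center Q = ⊥)
    (hab : ∀ a ∈ commutator Q, ∀ c ∈ commutator Q, a * c = c * a)
    (β : IrrCharacter Q) (hβ : (β : Q → ℂ) 1 ≠ 1) (g : Q) (hg : g ∉ commutator Q) :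
    (β : Q → ℂ) g = 0 := by
  classical
  have hfin : Fintype Q := Fintype.ofFinite _
  have hMfin : Fintype (commutator Q) := Fintype.ofFinite _
  have h1 := helper78.sum_coset_of_free (commutator Q) (β : Q → ℂ)
    (helper4.isClassFunction_of_isCharacter (helper4.isCharacter_of_isIrrCharacter β.2)) g
    (fun k hk hc => ip_frob hP hna hZ hab g hg k hk hc)
  have hN : ∃ x ∈ commutator Q, (β : Q → ℂ) x ≠ (β : Q → ℂ) 1 := by
    by_contra hall
    push Not at hall
    exact hβ ((helper82.irr_linear_iff β.2).mpr hall)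
  have h2 := helper82.irr_sum_mul_normal β (commutator Q) hN g
  rw [h2] at h1
  rcases mul_eq_zero.mp h1.symm with h3 | h3
  · exact absurd h3 (Nat.cast_ne_zero.mpr Nat.card_pos.ne')
  · exact h3

/-- Twisting by a linear character: vanishing of a maximal-degree character. -/
theorem ip_vanish_twist [Fintype G] (N : Subgroup G) [Fintype N] (b : ℕ) (hG : ipDegLe G b)
    (χ : G → ℂ) (hχ : IsIrrCharacter G χ) (hb : χ 1 = (b : ℂ))
    (hN : IsIrrCharacter N (fun n : N => χ n)) (lam : N →* ℂˣ) (n : G) (hn : n ∈ N) (g : G)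
    (hgn : g * n * g⁻¹ ∈ N) (hne : lam ⟨g * n * g⁻¹, hgn⟩ ≠ lam ⟨n, hn⟩) : χ n = 0 := by
  have hlam : IsIrrCharacter N (fun n : N => ((lam n : ℂˣ) : ℂ)) :=
    helper82.isIrrCharacter_of_hom lam
  have hψl := helper19.isIrr_mul_linear (fun n : N => χ n) (fun n : N => ((lam n : ℂˣ) : ℂ))
    hN hlam (by simp)
  obtain ⟨ξ, hξ, hξne⟩ := helper82.exists_irr_over N hψl
  obtain ⟨a, hab, ha⟩ := hG ξ hξ
  have hξN : IsCharacter N (fun n : N => ξ n) :=
    helper4.isCharacter_restrict N (helper4.isCharacter_of_isIrrCharacter hξ)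
  have heq := helper82.char_eq_irr_of_degree_le hξN hψl hξne a b
    (by show ξ ((1 : N) : G) = a; rw [OneMemClass.coe_one, ha])
    (by
      rw [Pi.mul_apply]
      show χ ((1 : N) : G) * ((lam 1 : ℂˣ) : ℂ) = b
      rw [OneMemClass.coe_one, hb, map_one, Units.val_one, mul_one]) hab
  have h1 : ξ n = χ n * ((lam ⟨n, hn⟩ : ℂˣ) : ℂ) := congrFun heq ⟨n, hn⟩
  have h2 : ξ (g * n * g⁻¹) = χ (g * n * g⁻¹) * ((lam ⟨g * n * g⁻¹, hgn⟩ : ℂˣ) : ℂ) :=
    congrFun heq ⟨g * n * g⁻¹, hgn⟩
  rw [helper83.isCharacter_conj (helper4.isCharacter_of_isIrrCharacter hξ),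
    helper83.isCharacter_conj (helper4.isCharacter_of_isIrrCharacter hχ), h1] at h2
  by_contra hχn
  have h3 := mul_left_cancel₀ hχn h2
  exact hne (Units.ext h3.symm)

/-- If an irreducible character vanishes off a subgroup `M`, then `|Q| ≤ |M| d^2`. -/
theorem ip_card_le_of_vanish {Q : Type u} [Group Q] [Finite Q] (β : IrrCharacter Q)
    (M : Subgroup Q) (hvan : ∀ q, q ∉ M → (β : Q → ℂ) q = 0) (d : ℕ)
    (hd : (β : Q → ℂ) 1 = (d : ℂ)) : Nat.card Q ≤ Nat.card M * d ^ 2 := by
  classical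
  have hfin : Fintype Q := Fintype.ofFinite _
  have hMfin : Fintype M := Fintype.ofFinite _
  have h1 := helper83.irr_orthogonality' β β
  rw [if_pos rfl] at h1
  have h2 : ∑ q : Q, (β : Q → ℂ) q * conj ((β : Q → ℂ) q) =
      ∑ q : Q, if q ∈ M then (β : Q → ℂ) q * conj ((β : Q → ℂ) q) else 0 := by
    refine Finset.sum_congr rfl fun q _ => ?_
    by_cases hq : q ∈ M
    · rw [if_pos hq]
    · rw [if_neg hq, hvan q hq, zero_mul]
  have h1' : ∑ m : M, (β : Q → ℂ) m * conj ((β : Q → ℂ) m) = (Nat.card Q : ℂ) := by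
    rw [← h1, h2]
    exact (ip_sum_mem M (fun q => (β : Q → ℂ) q * conj ((β : Q → ℂ) q))).symm
  have h4 : ∀ m : M, Complex.normSq ((β : Q → ℂ) m) ≤ (d : ℝ) ^ 2 := by
    intro m
    have h5 := helper82.irr_norm_le β (m : Q)
    rw [helper21.charDegree_of_one_eq hd] at h5
    rw [Complex.normSq_eq_norm_sq]
    exact pow_le_pow_left₀ (norm_nonneg _) h5 2
  have h6 : (Nat.card Q : ℝ) = ∑ m : M, Complex.normSq ((β : Q → ℂ) m) := by
    have h7 : ((Nat.card Q : ℝ) : ℂ) =
        ((∑ m : M, Complex.normSq ((β : Q → ℂ) m) : ℝ) : ℂ) := by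
      rw [Complex.ofReal_sum, Complex.ofReal_natCast, ← h1']
      exact Finset.sum_congr rfl fun m _ => Complex.mul_conj _
    exact_mod_cast h7
  have h8 : (Nat.card Q : ℝ) ≤ (Nat.card M : ℝ) * (d : ℝ) ^ 2 := by
    rw [h6]
    calc ∑ m : M, Complex.normSq ((β : Q → ℂ) m) ≤ ∑ _m : M, (d : ℝ) ^ 2 :=
          Finset.sum_le_sum fun m _ => h4 m
      _ = (Nat.card M : ℝ) * (d : ℝ) ^ 2 := by
          rw [Finset.sum_const, Finset.card_univ, nsmul_eq_mul, Nat.card_eq_fintype_card]
  exact_mod_cast h8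

/-- Case B: the quotient has trivial centre and abelian derived subgroup. -/
theorem ip_caseB [Fintype G] (K : Subgroup G) [K.Normal] (b : ℕ) (hG : ipDegLe G b)
    (hP : ∀ L : Subgroup (G ⧸ K), L.Normal → L ≠ ⊥ → commutator (G ⧸ K) ≤ L)
    (hna : commutator (G ⧸ K) ≠ ⊥) (hZ : Subgroup.center (G ⧸ K) = ⊥)
    (hab : ∀ a ∈ commutator (G ⧸ K), ∀ c ∈ commutator (G ⧸ K), a * c = c * a) :
    ∃ H : Subgroup G, ipDegLe H (b - 1) ∧ H.index ≤ b ^ 2 := by
  classical
  have hQfin : Fintype (G ⧸ K) := Fintype.ofFinite _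
  obtain ⟨β, d, hd2, hd⟩ := ip_exists_nonlinear hna
  have hβ1 : (β : G ⧸ K → ℂ) 1 ≠ 1 := by
    rw [hd]
    intro h
    have h1 : d = 1 := by exact_mod_cast h
    omega
  have hvan : ∀ q, q ∉ commutator (G ⧸ K) → (β : G ⧸ K → ℂ) q = 0 :=
    fun q hq => ip_frob_vanish hP hna hZ hab β hβ1 q hq
  have hNfin : Fintype (ipPre K (commutator (G ⧸ K))) := Fintype.ofFinite _
  have hNidx := ipPre_index K (commutator (G ⧸ K))
  have hβi : IsIrrCharacter G (fun g : G => (β : G ⧸ K → ℂ) (g : G ⧸ K)) :=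
    helper82.isIrrCharacter_inflation K β.2
  obtain ⟨d', hd'b, hd'⟩ := hG _ hβi
  have hdd : d = d' := by
    have h1 : (d : ℂ) = (d' : ℂ) := by rw [← hd, ← hd']; rfl
    exact_mod_cast h1
  have hdb : d ≤ b := hdd ▸ hd'b
  have hbpos : 0 < b := by omega
  have hMcomm : ∀ x y : commutator (G ⧸ K), x * y = y * x :=
    fun x y => Subtype.ext (hab x x.2 y y.2)
  -- maximal-degree characters irreducible on `N` vanish on `N \ K`
  have hχvan : ∀ χ : G → ℂ, IsIrrCharacter G χ → χ 1 = (b : ℂ) →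
      IsIrrCharacter (ipPre K (commutator (G ⧸ K))) (fun n : ipPre K (commutator (G ⧸ K)) => χ n) →
      ∀ n ∈ ipPre K (commutator (G ⧸ K)), n ∉ K → χ n = 0 := by
    intro χ hχ hχb hχN n hn hnK
    have hnc : (n : G ⧸ K) ∉ Subgroup.center (G ⧸ K) := by
      rw [hZ, Subgroup.mem_bot]
      intro h1
      exact hnK ((QuotientGroup.eq_one_iff n).mp h1)
    rw [Subgroup.mem_center_iff] at hnc
    push Not at hnc
    obtain ⟨q, hq⟩ := hnc
    obtain ⟨g, rfl⟩ := QuotientGroup.mk_surjective q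
    have hNn : (ipPre K (commutator (G ⧸ K))).Normal := inferInstance
    have hgn : g * n * g⁻¹ ∈ ipPre K (commutator (G ⧸ K)) := hNn.conj_mem n hn g
    have ha : ipProj K (commutator (G ⧸ K)) ⟨g * n * g⁻¹, hgn⟩ *
        (ipProj K (commutator (G ⧸ K)) ⟨n, hn⟩)⁻¹ ≠ 1 := by
      intro h1
      rw [mul_inv_eq_one] at h1
      have h3 : ((g * n * g⁻¹ : G) : G ⧸ K) = (n : G ⧸ K) :=
        congrArg (fun z : commutator (G ⧸ K) => (z : G ⧸ K)) h1
      rw [QuotientGroup.mk_mul, QuotientGroup.mk_mul, QuotientGroup.mk_inv,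
        mul_inv_eq_iff_eq_mul] at h3
      exact hq h3
    obtain ⟨φ, hφ⟩ := helper82.exists_hom_apply_ne_one hMcomm ha
    exact ip_vanish_twist (ipPre K (commutator (G ⧸ K))) b hG χ hχ hχb hχN
      (φ.comp (ipProj K (commutator (G ⧸ K)))) n hn g hgn (by
        intro h1
        apply hφ
        simp only [MonoidHom.comp_apply] at h1
        rw [map_mul, map_inv, h1, mul_inv_cancel])
  by_cases hgood : ∀ χ : G → ℂ, IsIrrCharacter G χ → χ 1 = (b : ℂ) →
      ¬ IsIrrCharacter (ipPre K (commutator (G ⧸ K)))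
        (fun n : ipPre K (commutator (G ⧸ K)) => χ n)
  · refine ⟨ipPre K (commutator (G ⧸ K)), ip_degLe_pred _ b hG hgood, ?_⟩
    have h1 := ip_card_le_of_vanish β (commutator (G ⧸ K)) hvan d hd
    have h2 := (commutator (G ⧸ K)).index_mul_card
    rw [hNidx]
    have hpos : 0 < Nat.card (commutator (G ⧸ K)) := Nat.card_pos
    have h3 : (commutator (G ⧸ K)).index ≤ d ^ 2 := by
      rw [← h2] at h1
      have h4 : (commutator (G ⧸ K)).index * Nat.card (commutator (G ⧸ K)) ≤
          d ^ 2 * Nat.card (commutator (G ⧸ K)) := by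
        rw [mul_comm (d ^ 2)]; exact h1
      exact Nat.le_of_mul_le_mul_right h4 hpos
    exact h3.trans (Nat.pow_le_pow_left hdb 2)
  · push Not at hgood
    obtain ⟨χ, hχ, hχb, hχN⟩ := hgood
    have hχv := hχvan χ hχ hχb hχN
    have hnorm := ip_norm_mul (ipPre K (commutator (G ⧸ K))) χ
      (fun g : G => (β : G ⧸ K → ℂ) (g : G ⧸ K)) ((d : ℂ) ^ 2) hχN (by
        intro g
        show χ g * conj (χ g) * ((β : G ⧸ K → ℂ) (g : G ⧸ K) *
          conj ((β : G ⧸ K → ℂ) (g : G ⧸ K))) = _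
        by_cases hg : g ∈ ipPre K (commutator (G ⧸ K))
        · rw [if_pos hg]
          by_cases hgK : g ∈ K
          · have h1 : ((g : G ⧸ K)) = 1 := (QuotientGroup.eq_one_iff g).mpr hgK
            rw [h1, hd, Complex.conj_natCast]; ring
          · rw [hχv g hg hgK]; ring
        · rw [if_neg hg]
          have h1 : (β : G ⧸ K → ℂ) (g : G ⧸ K) = 0 := hvan _ hg
          rw [h1]; ring)
    obtain ⟨m, hm, hbm⟩ := ip_le_norm b hG _
      (helper4.isCharacter_mul (helper4.isCharacter_of_isIrrCharacter hχ)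
        (helper4.isCharacter_of_isIrrCharacter hβi)) (b * d) (by
        rw [Pi.mul_apply, hχb]
        show (b : ℂ) * (β : G ⧸ K → ℂ) ((1 : G) : G ⧸ K) = _
        rw [QuotientGroup.mk_one, hd]; push_cast; ring)
    have hdm : d ≤ m := Nat.le_of_mul_le_mul_left hbm hbpos
    have hmG : m * Nat.card G = d ^ 2 * Nat.card (ipPre K (commutator (G ⧸ K))) := by
      rw [hm] at hnorm
      have hGne : (Nat.card G : ℂ) ≠ 0 := Nat.cast_ne_zero.mpr Nat.card_pos.ne'
      have h1 : (m : ℂ) * (Nat.card G : ℂ) =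
          (d : ℂ) ^ 2 * (Nat.card (ipPre K (commutator (G ⧸ K))) : ℂ) := by
        rw [hnorm]; field_simp
      exact_mod_cast h1
    have hfd : (ipPre K (commutator (G ⧸ K))).index ≤ d := by
      have h1 := (ipPre K (commutator (G ⧸ K))).index_mul_card
      rw [← h1] at hmG
      have hpos : 0 < Nat.card (ipPre K (commutator (G ⧸ K))) := Nat.card_pos
      have h2 : m * (ipPre K (commutator (G ⧸ K))).index = d ^ 2 := by
        have h3 : m * (ipPre K (commutator (G ⧸ K))).index *
            Nat.card (ipPre K (commutator (G ⧸ K))) =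
            d ^ 2 * Nat.card (ipPre K (commutator (G ⧸ K))) := by
          rw [mul_assoc]; exact hmG
        exact Nat.eq_of_mul_eq_mul_right hpos h3
      have h3 : d * (ipPre K (commutator (G ⧸ K))).index ≤ d * d := by
        calc d * (ipPre K (commutator (G ⧸ K))).index
            ≤ m * (ipPre K (commutator (G ⧸ K))).index := Nat.mul_le_mul_right _ hdm
          _ = d * d := by rw [h2]; ring
      exact Nat.le_of_mul_le_mul_left h3 (by omega)
    -- a linear character of `N` trivial on `K` with kernel of prime index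
    have hcomm_ne_top : commutator (commutator (G ⧸ K)) ≠ ⊤ := by
      intro htop
      apply hna
      rw [eq_bot_iff]
      intro x hx
      have h1 : (⟨x, hx⟩ : commutator (G ⧸ K)) ∈ commutator (commutator (G ⧸ K)) := by
        rw [htop]; trivial
      have h2 : commutator (commutator (G ⧸ K)) ≤ ⊥ := by
        refine Subgroup.commutator_le.mpr fun a _ c _ => ?_
        rw [Subgroup.mem_bot, commutatorElement_eq_one_iff_mul_comm]
        exact hMcomm a c
      have h3 := h2 h1
      rw [Subgroup.mem_bot] at h3 ⊢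
      exact congrArg Subtype.val h3
    obtain ⟨f₀, hf₀⟩ := helper82.exists_hom_ker_prime_index hcomm_ne_top
    have hkidx : (f₀.comp (ipProj K (commutator (G ⧸ K)))).ker.index = f₀.ker.index := by
      rw [← MonoidHom.comap_ker]
      exact Subgroup.index_comap_of_surjective _ (ipProj_surjective K _)
    have hμK : ∀ n : ipPre K (commutator (G ⧸ K)), (n : G) ∈ K →
        (f₀.comp (ipProj K (commutator (G ⧸ K)))) n = 1 := by
      intro n hn
      have h1 : ipProj K (commutator (G ⧸ K)) n = 1 :=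
        Subtype.ext ((QuotientGroup.eq_one_iff (n : G)).mpr hn)
      rw [MonoidHom.comp_apply, h1, map_one]
    have hpb : f₀.ker.index ∣ b := by
      have hψ : IsCharacter (ipPre K (commutator (G ⧸ K)))
          (fun n : ipPre K (commutator (G ⧸ K)) => χ n) :=
        helper4.isCharacter_of_isIrrCharacter hχN
      have heq : (fun n : ipPre K (commutator (G ⧸ K)) => χ n) *
          (fun n : ipPre K (commutator (G ⧸ K)) =>
            (((f₀.comp (ipProj K (commutator (G ⧸ K)))) n : ℂˣ) : ℂ)) =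
          fun n : ipPre K (commutator (G ⧸ K)) => χ n := by
        funext n
        rw [Pi.mul_apply]
        by_cases hn : (n : G) ∈ K
        · rw [hμK n hn, Units.val_one, mul_one]
        · show χ n * _ = χ n
          rw [hχv n n.2 hn, zero_mul]
      have hdet := helper19.detChar_mul_linear hψ (f₀.comp (ipProj K (commutator (G ⧸ K)))) b
        (by show χ ((1 : ipPre K (commutator (G ⧸ K))) : G) = b
            rw [OneMemClass.coe_one, hχb])
      rw [heq] at hdet
      obtain ⟨F, hF⟩ := helper19.exists_detChar_hom hψ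
      have hpow : ∀ n : ipPre K (commutator (G ⧸ K)),
          (f₀.comp (ipProj K (commutator (G ⧸ K)))) n ^ b = 1 := by
        intro n
        have h1 := congrFun hdet n
        rw [Pi.mul_apply, hF n] at h1
        have hFne : ((F n : ℂˣ) : ℂ) ≠ 0 := (F n).ne_zero
        have h2 : (((f₀.comp (ipProj K (commutator (G ⧸ K)))) n : ℂˣ) : ℂ) ^ b = 1 := by
          have h3 : ((F n : ℂˣ) : ℂ) * 1 = ((F n : ℂˣ) : ℂ) *
              (((f₀.comp (ipProj K (commutator (G ⧸ K)))) n : ℂˣ) : ℂ) ^ b := by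
            rw [mul_one]; exact h1
          exact (mul_left_cancel₀ hFne h3).symm
        exact Units.ext (by rw [Units.val_pow_eq_pow_val, h2]; rfl)
      have hkne : (f₀.comp (ipProj K (commutator (G ⧸ K)))).ker ≠ ⊤ := by
        intro htop
        have h1 : (f₀.comp (ipProj K (commutator (G ⧸ K)))).ker.index = 1 := by
          rw [htop]; exact Subgroup.index_top
        rw [hkidx] at h1
        exact hf₀.ne_one h1
      obtain ⟨n₀, hn₀⟩ : ∃ n₀ : ipPre K (commutator (G ⧸ K)),
          (f₀.comp (ipProj K (commutator (G ⧸ K)))) n₀ ≠ 1 := by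
        by_contra hall
        push Not at hall
        exact hkne (eq_top_iff.mpr fun n _ => MonoidHom.mem_ker.mpr (hall n))
      have hpp : (f₀.comp (ipProj K (commutator (G ⧸ K)))) n₀ ^ f₀.ker.index = 1 := by
        have h1 := Subgroup.pow_index_mem (f₀.comp (ipProj K (commutator (G ⧸ K)))).ker n₀
        rw [hkidx, MonoidHom.mem_ker, map_pow] at h1
        exact h1
      have ho1 := orderOf_dvd_of_pow_eq_one hpp
      have ho2 := orderOf_dvd_of_pow_eq_one (hpow n₀)
      rcases (Nat.dvd_prime hf₀).mp ho1 with h1 | h1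
      · exact absurd (orderOf_eq_one_iff.mp h1) hn₀
      · rw [← h1]; exact ho2
    have hpb' : f₀.ker.index ≤ b := Nat.le_of_dvd hbpos hpb
    have hHidx : ((f₀.comp (ipProj K (commutator (G ⧸ K)))).ker.map
        (ipPre K (commutator (G ⧸ K))).subtype).index =
        f₀.ker.index * (ipPre K (commutator (G ⧸ K))).index := by
      rw [Subgroup.index_map_subtype, hkidx]
    have hHfin : Fintype ((f₀.comp (ipProj K (commutator (G ⧸ K)))).ker.map
        (ipPre K (commutator (G ⧸ K))).subtype) := Fintype.ofFinite _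
    refine ⟨(f₀.comp (ipProj K (commutator (G ⧸ K)))).ker.map
        (ipPre K (commutator (G ⧸ K))).subtype, ip_degLe_pred _ b hG ?_, ?_⟩
    · intro χ' hχ' hχ'b hχ'H
      have hHN : (f₀.comp (ipProj K (commutator (G ⧸ K)))).ker.map
          (ipPre K (commutator (G ⧸ K))).subtype ≤ ipPre K (commutator (G ⧸ K)) :=
        Subgroup.map_subtype_le _
      have htop : IsIrrCharacter (⊤ : Subgroup G) (fun t : (⊤ : Subgroup G) => χ' t) :=
        helper4.isIrrCharacter_comp_surjective (⊤ : Subgroup G).subtype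
          (fun g => ⟨⟨g, trivial⟩, rfl⟩) hχ'
      have hχ'N : IsIrrCharacter (ipPre K (commutator (G ⧸ K)))
          (fun n : ipPre K (commutator (G ⧸ K)) => χ' n) :=
        helper4.isIrrCharacter_sub_of_le _ _ ⊤ hHN le_top htop hχ'H
      have hv' := hχvan χ' hχ' hχ'b hχ'N
      have hKH : ∀ g ∈ ipPre K (commutator (G ⧸ K)),
          g ∉ (f₀.comp (ipProj K (commutator (G ⧸ K)))).ker.map
            (ipPre K (commutator (G ⧸ K))).subtype → g ∉ K := by
        intro g hg hgH hgK
        apply hgH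
        rw [Subgroup.mem_map]
        exact ⟨⟨g, hg⟩, MonoidHom.mem_ker.mpr (hμK ⟨g, hg⟩ hgK), rfl⟩
      have h1 := ip_sum_sq_of_irr _ χ' hχ'H
      have h2 := ip_sum_sq_of_irr _ χ' hχ'N
      have h3 : ∑ g : G, (if g ∈ (f₀.comp (ipProj K (commutator (G ⧸ K)))).ker.map
            (ipPre K (commutator (G ⧸ K))).subtype then χ' g * conj (χ' g) else 0) =
          ∑ g : G, (if g ∈ ipPre K (commutator (G ⧸ K)) then χ' g * conj (χ' g) else 0) := by
        refine Finset.sum_congr rfl fun g _ => ?_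
        by_cases hgH : g ∈ (f₀.comp (ipProj K (commutator (G ⧸ K)))).ker.map
            (ipPre K (commutator (G ⧸ K))).subtype
        · rw [if_pos hgH, if_pos (hHN hgH)]
        · rw [if_neg hgH]
          by_cases hgN : g ∈ ipPre K (commutator (G ⧸ K))
          · rw [if_pos hgN, hv' g hgN (hKH g hgN hgH), zero_mul]
          · rw [if_neg hgN]
      rw [h1, h2] at h3
      have h4 : Nat.card ((f₀.comp (ipProj K (commutator (G ⧸ K)))).ker.map
          (ipPre K (commutator (G ⧸ K))).subtype) =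
          Nat.card (ipPre K (commutator (G ⧸ K))) := by exact_mod_cast h3
      have h5 := ((f₀.comp (ipProj K (commutator (G ⧸ K)))).ker.map
          (ipPre K (commutator (G ⧸ K))).subtype).index_mul_card
      have h6 := (ipPre K (commutator (G ⧸ K))).index_mul_card
      rw [hHidx, h4, ← h6] at h5
      have hposN : 0 < (ipPre K (commutator (G ⧸ K))).index *
          Nat.card (ipPre K (commutator (G ⧸ K))) := by rw [h6]; exact Nat.card_pos
      have h7 : f₀.ker.index = 1 := by
        have h8 : f₀.ker.index * ((ipPre K (commutator (G ⧸ K))).index *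
            Nat.card (ipPre K (commutator (G ⧸ K)))) =
            1 * ((ipPre K (commutator (G ⧸ K))).index *
              Nat.card (ipPre K (commutator (G ⧸ K)))) := by
          rw [one_mul, ← mul_assoc]; exact h5
        exact Nat.eq_of_mul_eq_mul_right hposN h8
      exact hf₀.ne_one h7
    · rw [hHidx]
      calc f₀.ker.index * (ipPre K (commutator (G ⧸ K))).index ≤ b * d :=
            Nat.mul_le_mul hpb' hfd
        _ ≤ b * b := Nat.mul_le_mul_left b hdb
        _ = b ^ 2 := by ring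

end Cfsg.Agent.Lib.helper77
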