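import Mathlib
import Cfsg.Prelude.Def_Blocks
import Cfsg.Agent.Lib.helper77.IPa
import Cfsg.Agent.Lib.helper77.IPb
import Cfsg.Agent.Lib.helper19.TwoDegC
import Cfsg.Agent.Lib.helper81.CharOrtho

/-!
# Isaacs–Passman: the quotient `G ⧸ K` with nonabelian derived subgroup, and the bound
(helper77 library, part c)
-/

set_option autoImplicit false

namespace Cfsg.Agent.Lib.helper77

open Cfsg
open scoped ComplexConjugate commutatorElement

universe u

variable {G : Type u} [Group G]

/-- The bound `b` is at least one. -/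
theorem ip_one_le (b : ℕ) (hG : ipDegLe G b) : 1 ≤ b := by
  obtain ⟨d, hd, hd1⟩ := hG _ (helper82.isIrrCharacter_of_hom (1 : G →* ℂˣ))
  have h1 : d = 1 := by
    have h : ((1 : ℕ) : ℂ) = (d : ℂ) := by rw [← hd1]; simp
    exact_mod_cast h.symm
  omega

theorem ip_fact_pred (b : ℕ) (hb : 1 ≤ b) (i : ℕ) (hi : i ≤ b ^ 2) :
    i * ((b - 1).factorial) ^ 2 ≤ (b.factorial) ^ 2 := by
  have h1 : b.factorial = b * (b - 1).factorial := (Nat.mul_factorial_pred (by omega)).symm
  rw [h1, mul_pow]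
  exact Nat.mul_le_mul_right _ hi

theorem ip_fact_half (b : ℕ) (hb : 4 ≤ b) (i : ℕ) (hi : i ≤ (2 * b - 1) * b ^ 2) :
    i * ((b / 2).factorial) ^ 2 ≤ (b.factorial) ^ 2 := by
  obtain ⟨k, rfl⟩ : ∃ k, b = k + 4 := ⟨b - 4, by omega⟩
  have h1 : ((k + 4) / 2).factorial ≤ (k + 2).factorial := Nat.factorial_le (by omega)
  have h2 : (k + 4).factorial = (k + 4) * ((k + 3) * (k + 2).factorial) := by
    rw [Nat.factorial_succ (k + 3), Nat.factorial_succ (k + 2)]
  have h3 : 2 * (k + 4) - 1 = 2 * k + 7 := by omega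
  rw [h3] at hi
  have h4 : 2 * k + 7 ≤ (k + 3) ^ 2 := by nlinarith
  calc i * (((k + 4) / 2).factorial) ^ 2
      ≤ ((2 * k + 7) * (k + 4) ^ 2) * ((k + 2).factorial) ^ 2 :=
        Nat.mul_le_mul hi (Nat.pow_le_pow_left h1 2)
    _ = (2 * k + 7) * ((k + 4) ^ 2 * ((k + 2).factorial) ^ 2) := by ring
    _ ≤ (k + 3) ^ 2 * ((k + 4) ^ 2 * ((k + 2).factorial) ^ 2) := Nat.mul_le_mul_right _ h4
    _ = ((k + 4).factorial) ^ 2 := by rw [h2]; ring

theorem ip_num3 (c h : ℕ) (hc : c + 1 ≤ 6) (hh : h ≤ 9) (h36 : ¬ c * h ≤ 36) :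
    c * h = 40 ∨ c * h = 45 := by
  have hc' : c ≤ 5 := by omega
  interval_cases c <;> interval_cases h <;> omega

/-- A group of order 40 or 45 has a normal subgroup of order 5. -/
theorem ip_sylow5 {Q : Type u} [Group Q] [Finite Q] (hQ : Nat.card Q = 40 ∨ Nat.card Q = 45) :
    ∃ P : Subgroup Q, P.Normal ∧ Nat.card P = 5 := by
  have hp5 : Fact (Nat.Prime 5) := ⟨by norm_num⟩
  obtain ⟨P⟩ : Nonempty (Sylow 5 Q) := Sylow.nonempty
  obtain ⟨n, hn⟩ := IsPGroup.iff_card.mp P.isPGroup'
  have hidx := (P : Subgroup Q).index_mul_card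
  have hnd := P.not_dvd_index
  have hcard : Nat.card P = 5 := by
    rcases n with _ | _ | n
    · exfalso
      rw [hn, pow_zero, mul_one] at hidx
      apply hnd
      rw [hidx]
      rcases hQ with h | h <;> rw [h] <;> decide
    · rw [hn]; norm_num
    · exfalso
      have h25 : 25 ∣ Nat.card Q := ⟨(P : Subgroup Q).index * 5 ^ n, by rw [← hidx, hn]; ring⟩
      rcases hQ with h | h <;> rw [h] at h25 <;> revert h25 <;> decide
  have h1 := card_sylow_modEq_one 5 Q
  have h2 := P.card_dvd_index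
  rw [hcard] at hidx
  have hidx' : (P : Subgroup Q).index = 8 ∨ (P : Subgroup Q).index = 9 := by
    rcases hQ with h | h <;> rw [h] at hidx <;> omega
  have h3 : Nat.card (Sylow 5 Q) = 1 := by
    unfold Nat.ModEq at h1
    generalize Nat.card (Sylow 5 Q) = n5 at h1 h2
    rcases hidx' with h | h
    · rw [h] at h2
      have hle : n5 ≤ 8 := Nat.le_of_dvd (by norm_num) h2
      interval_cases n5 <;> omega
    · rw [h] at h2
      have hle : n5 ≤ 9 := Nat.le_of_dvd (by norm_num) h2
      interval_cases n5 <;> omega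
  have hsub : Subsingleton (Sylow 5 Q) := (Nat.card_eq_one_iff_unique.mp h3).1
  exact ⟨P, Sylow.normal_of_subsingleton P, hcard⟩

/-- If all degrees are at most two, the derived subgroup is abelian. -/
theorem ip_small_b {Q : Type u} [Group Q] [Finite Q] (hQ : ipDegLe Q 2) :
    ∀ a ∈ commutator Q, ∀ c ∈ commutator Q, a * c = c * a := by
  classical
  have hfin : Fintype Q := Fintype.ofFinite _
  have hcd : ∀ χ : IrrCharacter Q,
      charDegree (χ : Q → ℂ) = 1 ∨ charDegree (χ : Q → ℂ) = 2 := by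
    intro χ
    obtain ⟨d, hd, hd1⟩ := hQ χ.1 χ.2
    have h1 : charDegree (χ : Q → ℂ) = d := helper21.charDegree_of_one_eq hd1
    have h2 := helper81.irr_charDegree_pos χ
    omega
  by_cases hex : ∃ χ : IrrCharacter Q, charDegree (χ : Q → ℂ) = 2
  · exact helper19.two_deg_derived_abelian 2 hcd hex
  · push Not at hex
    have hcd1 : ∀ χ : IrrCharacter Q,
        charDegree (χ : Q → ℂ) = 1 ∨ charDegree (χ : Q → ℂ) = 1 := fun χ => by
      rcases hcd χ with h | h
      · exact Or.inl h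
      · exact absurd h (hex χ)
    exact helper19.two_deg_derived_abelian 1 hcd1
      ⟨⟨fun g => (((1 : Q →* ℂˣ) g : ℂˣ) : ℂ), helper82.isIrrCharacter_of_hom 1⟩,
        helper21.charDegree_of_one_eq (by simp)⟩

/-- With nonabelian derived subgroup, centralizers of nonidentity elements are core-free. -/
theorem ip_core_bot {Q : Type u} [Group Q]
    (hP : ∀ L : Subgroup Q, L.Normal → L ≠ ⊥ → commutator Q ≤ L)
    (hnab : ¬ ∀ a ∈ commutator Q, ∀ c ∈ commutator Q, a * c = c * a)
    (x : Q) (hx : x ≠ 1) (y : Q) (hy : y ≠ 1) :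
    ∃ q : Q, q * y * q⁻¹ ∉ Subgroup.centralizer ({x} : Set Q) := by
  by_contra hall
  push Not at hall
  have hycore : y ∈ (Subgroup.centralizer ({x} : Set Q)).normalCore := hall
  have hne : (Subgroup.centralizer ({x} : Set Q)).normalCore ≠ ⊥ := by
    intro h0
    rw [h0, Subgroup.mem_bot] at hycore
    exact hy hycore
  have hle := (hP _ inferInstance hne).trans (Subgroup.normalCore_le _)
  have hxD : x ∈ Subgroup.centralizer (commutator Q : Set Q) := by
    rw [Subgroup.mem_centralizer_iff]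
    intro m hm
    exact Subgroup.mem_centralizer_singleton_iff.mp (hle hm)
  have hDne : Subgroup.centralizer (commutator Q : Set Q) ≠ ⊥ := by
    intro h0
    rw [h0, Subgroup.mem_bot] at hxD
    exact hx hxD
  have hle2 := hP _ inferInstance hDne
  apply hnab
  intro a ha c hc
  exact Subgroup.mem_centralizer_iff.mp (hle2 hc) a ha

/-- A nonidentity element with centralizer of maximal order. -/
theorem ip_exists_max {Q : Type u} [Group Q] [Finite Q] (hna : commutator Q ≠ ⊥) :
    ∃ x : Q, x ≠ 1 ∧ ∀ y : Q, y ≠ 1 →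
      Nat.card (Subgroup.centralizer ({y} : Set Q)) ≤
        Nat.card (Subgroup.centralizer ({x} : Set Q)) := by
  classical
  have hfin : Fintype Q := Fintype.ofFinite _
  obtain ⟨a, ha⟩ := Subgroup.ne_bot_iff_exists_ne_one.mp hna
  have hne : (Finset.univ.erase (1 : Q)).Nonempty := ⟨(a : Q), by
    rw [Finset.mem_erase]
    exact ⟨fun h => ha (Subtype.ext h), Finset.mem_univ _⟩⟩
  obtain ⟨x, hx, hmax⟩ := Finset.exists_max_image (Finset.univ.erase (1 : Q))
    (fun y => Nat.card (Subgroup.centralizer ({y} : Set Q))) hne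
  exact ⟨x, (Finset.mem_erase.mp hx).1,
    fun y hy => hmax y (Finset.mem_erase.mpr ⟨hy, Finset.mem_univ _⟩)⟩

/-- The sum of the squares of the irreducible degrees. -/
theorem ip_sum_deg_sq (Q : Type u) [Group Q] [Fintype Q] [Fintype (IrrCharacter Q)] :
    ∑ β : IrrCharacter Q, charDegree (β : Q → ℂ) ^ 2 = Nat.card Q := by
  have h1 := helper83.second_orthogonality_of_isConj (IsConj.refl (1 : Q))
  have h2 : Nat.card (Subgroup.centralizer ({1} : Set Q)) = Nat.card Q := by
    have h3 : Subgroup.centralizer ({1} : Set Q) = ⊤ := by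
      rw [eq_top_iff]
      intro g _
      rw [Subgroup.mem_centralizer_singleton_iff]
      simp
    rw [h3, Subgroup.card_top]
  rw [h2] at h1
  have h3 : ((∑ β : IrrCharacter Q, charDegree (β : Q → ℂ) ^ 2 : ℕ) : ℂ) =
      (Nat.card Q : ℂ) := by
    rw [← h1]
    push_cast
    refine Finset.sum_congr rfl fun β _ => ?_
    rw [helper81.irr_one_eq_charDegree β, Complex.conj_natCast]; ring
  exact_mod_cast h3

/-- Some nonidentity class has at most `b^2` elements. -/
theorem ip_class_bound {Q : Type u} [Group Q] [Finite Q] (b : ℕ) (hQ : ipDegLe Q b) (x : Q)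
    (hmax : ∀ y : Q, y ≠ 1 → Nat.card (Subgroup.centralizer ({y} : Set Q)) ≤
      Nat.card (Subgroup.centralizer ({x} : Set Q))) :
    Nat.card Q ≤ b ^ 2 * Nat.card (Subgroup.centralizer ({x} : Set Q)) := by
  classical
  have hfin : Fintype Q := Fintype.ofFinite _
  have hIrr : Fintype (IrrCharacter Q) := Fintype.ofFinite _
  have hb1 : 1 ≤ b := ip_one_le b hQ
  have hA : ∑ y : Q, Nat.card (Subgroup.centralizer ({y} : Set Q)) =
      Fintype.card (IrrCharacter Q) * Nat.card Q := by
    have h1 : ((∑ y : Q, Nat.card (Subgroup.centralizer ({y} : Set Q)) : ℕ) : ℂ) =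
        ((Fintype.card (IrrCharacter Q) * Nat.card Q : ℕ) : ℂ) := by
      push_cast
      rw [Finset.sum_congr rfl (fun y _ =>
        (helper83.second_orthogonality_of_isConj (IsConj.refl y)).symm), Finset.sum_comm]
      rw [Finset.sum_congr rfl (fun β _ =>
        (helper83.irr_orthogonality' β β).trans (if_pos rfl))]
      rw [Finset.sum_const, Finset.card_univ, nsmul_eq_mul]
    exact_mod_cast h1
  have hA' : ∑ y : Q, Nat.card (Subgroup.centralizer ({y} : Set Q)) ≤
      Nat.card Q + (Nat.card Q - 1) * Nat.card (Subgroup.centralizer ({x} : Set Q)) := by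
    rw [← Finset.add_sum_erase Finset.univ _ (Finset.mem_univ (1 : Q))]
    refine Nat.add_le_add (Subgroup.card_le_card_group _) ?_
    have h1 := Finset.sum_le_card_nsmul (Finset.univ.erase (1 : Q))
      (fun y => Nat.card (Subgroup.centralizer ({y} : Set Q)))
      (Nat.card (Subgroup.centralizer ({x} : Set Q)))
      (fun y hy => hmax y (Finset.mem_erase.mp hy).1)
    rw [Finset.card_erase_of_mem (Finset.mem_univ _), Finset.card_univ,
      ← Nat.card_eq_fintype_card, smul_eq_mul] at h1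
    exact h1
  have hB : Nat.card Q ≤ 1 + (Fintype.card (IrrCharacter Q) - 1) * b ^ 2 := by
    rw [← ip_sum_deg_sq Q]
    rw [← Finset.add_sum_erase Finset.univ _ (Finset.mem_univ
      (⟨fun g => (((1 : Q →* ℂˣ) g : ℂˣ) : ℂ), helper82.isIrrCharacter_of_hom 1⟩ :
        IrrCharacter Q))]
    refine Nat.add_le_add ?_ ?_
    · have h1 : charDegree (fun g : Q => (((1 : Q →* ℂˣ) g : ℂˣ) : ℂ)) = 1 :=
        helper21.charDegree_of_one_eq (by simp)
      show charDegree (fun g : Q => (((1 : Q →* ℂˣ) g : ℂˣ) : ℂ)) ^ 2 ≤ 1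
      rw [h1]; norm_num
    · have h1 := Finset.sum_le_card_nsmul (Finset.univ.erase
        (⟨fun g => (((1 : Q →* ℂˣ) g : ℂˣ) : ℂ), helper82.isIrrCharacter_of_hom 1⟩ :
          IrrCharacter Q))
        (fun β : IrrCharacter Q => charDegree (β : Q → ℂ) ^ 2) (b ^ 2) (fun β _ => by
          obtain ⟨d, hd, hd1⟩ := hQ β.1 β.2
          show charDegree (β : Q → ℂ) ^ 2 ≤ b ^ 2
          rw [helper21.charDegree_of_one_eq hd1]
          exact Nat.pow_le_pow_left hd 2)
      rw [Finset.card_erase_of_mem (Finset.mem_univ _), Finset.card_univ, smul_eq_mul] at h1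
      exact h1
  have hk1 : 1 ≤ Fintype.card (IrrCharacter Q) := Fintype.card_pos_iff.mpr
    ⟨⟨fun g => (((1 : Q →* ℂˣ) g : ℂˣ) : ℂ), helper82.isIrrCharacter_of_hom 1⟩⟩
  have hn1 : 1 ≤ Nat.card Q := Nat.card_pos
  have hh1 : 1 ≤ Nat.card (Subgroup.centralizer ({x} : Set Q)) := Nat.card_pos
  rw [hA] at hA'
  generalize Fintype.card (IrrCharacter Q) = k at hA' hB hk1
  generalize Nat.card (Subgroup.centralizer ({x} : Set Q)) = h at hA' hh1 ⊢
  generalize Nat.card Q = n at hA' hB hn1 ⊢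
  obtain ⟨k', rfl⟩ : ∃ k', k = k' + 1 := ⟨k - 1, by omega⟩
  obtain ⟨n', rfl⟩ : ∃ n', n = n' + 1 := ⟨n - 1, by omega⟩
  simp only [Nat.add_sub_cancel] at hA' hB
  rcases Nat.eq_zero_or_pos k' with h0 | hpos
  · subst h0
    have h1 : n' = 0 := by omega
    subst h1
    calc 0 + 1 = 1 * 1 := by norm_num
      _ ≤ b ^ 2 * h := Nat.mul_le_mul (Nat.one_le_pow 2 b hb1) hh1
  · have e1 : k' * (n' + 1) ≤ n' * h := by nlinarith
    have e2 : n' ≤ k' * b ^ 2 := by omega
    have e3 : k' * (n' + 1) ≤ k' * (b ^ 2 * h) := by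
      calc k' * (n' + 1) ≤ n' * h := e1
        _ ≤ k' * b ^ 2 * h := Nat.mul_le_mul_right h e2
        _ = k' * (b ^ 2 * h) := by ring
    exact Nat.le_of_mul_le_mul_left e3 hpos

/-- Case C, bad sub-case: a maximal-degree character restricting irreducibly to the preimage
of a core-free centralizer of maximal order bounds its order and its index. -/
theorem ip_caseC_bad [Fintype G] (K : Subgroup G) [K.Normal] (b : ℕ) (hG : ipDegLe G b)
    (C : Subgroup (G ⧸ K))
    (hcore : ∀ y ∈ C, y ≠ 1 → ∃ q : G ⧸ K, q * y * q⁻¹ ∉ C)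
    (hmax : ∀ y : G ⧸ K, y ≠ 1 →
      Nat.card (Subgroup.centralizer ({y} : Set (G ⧸ K))) ≤ Nat.card C)
    (χ : G → ℂ) (hχ : IsIrrCharacter G χ) (hχb : χ 1 = (b : ℂ))
    [Fintype (ipPre K C)]
    (hχH : IsIrrCharacter (ipPre K C) (fun n : ipPre K C => χ n)) :
    Nat.card C ≤ b ^ 2 ∧ C.index + 1 ≤ 2 * b := by
  classical
  have hQfin : Fintype (G ⧸ K) := Fintype.ofFinite _
  have hIrrfin : Fintype (IrrCharacter (G ⧸ K)) := Fintype.ofFinite _
  have hKfin : Fintype K := Fintype.ofFinite _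
  have hb1 : 1 ≤ b := ip_one_le b hG
  have hQ : ipDegLe (G ⧸ K) b := ip_degLe_quot K b hG
  have hGne : (Nat.card G : ℂ) ≠ 0 := Nat.cast_ne_zero.mpr Nat.card_pos.ne'
  -- vanishing on `H \ K`
  have hvan : ∀ g ∈ ipPre K C, g ∉ K → χ g = 0 := by
    intro g hg hgK
    have hg1 : (g : G ⧸ K) ≠ 1 := fun h1 => hgK ((QuotientGroup.eq_one_iff g).mp h1)
    obtain ⟨q, hq⟩ := hcore _ hg hg1
    obtain ⟨t, rfl⟩ := QuotientGroup.mk_surjective q
    refine ip_vanish_conj (ipPre K C) b hG χ hχ hχb hχH g hg t⁻¹ ?_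
    rw [inv_inv]
    intro hmem
    apply hq
    have h1 : ((t * g * t⁻¹ : G) : G ⧸ K) ∈ C := hmem
    rwa [QuotientGroup.mk_mul, QuotientGroup.mk_mul, QuotientGroup.mk_inv] at h1
  have hK_le : K ≤ ipPre K C := by
    intro k hk
    show ((k : G) : G ⧸ K) ∈ C
    rw [(QuotientGroup.eq_one_iff k).mpr hk]; exact C.one_mem
  have hsumH := ip_sum_sq_of_irr (ipPre K C) χ hχH
  have hsumK : ∑ g : G, (if g ∈ K then χ g * conj (χ g) else 0) =
      (Nat.card (ipPre K C) : ℂ) := by
    rw [← hsumH]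
    refine Finset.sum_congr rfl fun g _ => ?_
    by_cases hgK : g ∈ K
    · rw [if_pos hgK, if_pos (hK_le hgK)]
    · rw [if_neg hgK]
      by_cases hgH : g ∈ ipPre K C
      · rw [if_pos hgH, hvan g hgH hgK, zero_mul]
      · rw [if_neg hgH]
  have hsumG : ∑ g : G, χ g * conj (χ g) = (Nat.card G : ℂ) := by
    have h1 := helper4.classInner_irr_self hχ
    unfold classInner at h1
    rw [inv_mul_eq_iff_eq_mul₀ hGne, mul_one] at h1
    exact h1
  have hsumKr : ∑ g : G, (if g ∈ K then Complex.normSq (χ g) else 0) =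
      (Nat.card (ipPre K C) : ℝ) := by
    have h1 : ((∑ g : G, (if g ∈ K then Complex.normSq (χ g) else 0) : ℝ) : ℂ) =
        ((Nat.card (ipPre K C) : ℝ) : ℂ) := by
      rw [Complex.ofReal_sum, Complex.ofReal_natCast, ← hsumK]
      refine Finset.sum_congr rfl fun g _ => ?_
      by_cases hgK : g ∈ K
      · rw [if_pos hgK, if_pos hgK, Complex.mul_conj]
      · rw [if_neg hgK, if_neg hgK, Complex.ofReal_zero]
    exact_mod_cast h1
  have hsumGr : ∑ g : G, Complex.normSq (χ g) = (Nat.card G : ℝ) := by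
    have h1 : ((∑ g : G, Complex.normSq (χ g) : ℝ) : ℂ) = ((Nat.card G : ℝ) : ℂ) := by
      rw [Complex.ofReal_sum, Complex.ofReal_natCast, ← hsumG]
      exact Finset.sum_congr rfl fun g _ => (Complex.mul_conj _).symm
    exact_mod_cast h1
  -- cardinalities
  have hn : Nat.card G = Nat.card (G ⧸ K) * Nat.card K := by
    have h2 := K.index_mul_card
    rw [← h2]; rfl
  have hq : Nat.card (G ⧸ K) = C.index * Nat.card C := C.index_mul_card.symm
  have hcpos : 0 < C.index := by
    apply Nat.pos_of_ne_zero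
    intro h0
    rw [h0, zero_mul] at hq
    exact Nat.card_pos.ne' hq
  have hcardH : Nat.card (ipPre K C) = Nat.card C * Nat.card K := by
    have h1 := (ipPre K C).index_mul_card
    rw [ipPre_index] at h1
    have h5 : C.index * Nat.card (ipPre K C) = C.index * (Nat.card C * Nat.card K) := by
      rw [h1, hn, hq, mul_assoc]
    exact Nat.eq_of_mul_eq_mul_left hcpos h5
  -- `|C| ≤ b^2`
  have hnormle : ∀ g : G, Complex.normSq (χ g) ≤ (b : ℝ) ^ 2 := by
    intro g
    have h5 := helper82.irr_norm_le (⟨χ, hχ⟩ : IrrCharacter G) g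
    rw [helper21.charDegree_of_one_eq hχb] at h5
    rw [Complex.normSq_eq_norm_sq]
    exact pow_le_pow_left₀ (norm_nonneg _) h5 2
  have hh : Nat.card C ≤ b ^ 2 := by
    have h1 : (Nat.card (ipPre K C) : ℝ) ≤ (Nat.card K : ℝ) * (b : ℝ) ^ 2 := by
      rw [← hsumKr]
      calc ∑ g : G, (if g ∈ K then Complex.normSq (χ g) else 0)
          ≤ ∑ g : G, (if g ∈ K then (b : ℝ) ^ 2 else 0) := Finset.sum_le_sum fun g _ => by
            by_cases hgK : g ∈ K
            · rw [if_pos hgK, if_pos hgK]; exact hnormle g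
            · rw [if_neg hgK, if_neg hgK]
        _ = (Nat.card K : ℝ) * (b : ℝ) ^ 2 := by
            rw [← Finset.sum_filter, Finset.sum_const, nsmul_eq_mul]
            congr 1
            rw [Nat.card_eq_fintype_card]
            exact_mod_cast
              (Fintype.card_of_subtype (Finset.univ.filter (fun g : G => g ∈ K))
                (by simp)).symm
    have h2 : Nat.card (ipPre K C) ≤ Nat.card K * b ^ 2 := by exact_mod_cast h1
    rw [hcardH, mul_comm] at h2
    exact Nat.le_of_mul_le_mul_left h2 Nat.card_pos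
  -- the norms of `χ β`
  have hex : ∀ β : IrrCharacter (G ⧸ K), ∃ m : ℕ,
      classInner (χ * fun g : G => (β : G ⧸ K → ℂ) (g : G ⧸ K))
        (χ * fun g : G => (β : G ⧸ K → ℂ) (g : G ⧸ K)) = (m : ℂ) ∧
      charDegree (β : G ⧸ K → ℂ) ≤ m := by
    intro β
    obtain ⟨m, hm, hle⟩ := ip_le_norm b hG _
      (helper4.isCharacter_mul (helper4.isCharacter_of_isIrrCharacter hχ)
        (helper4.isCharacter_of_isIrrCharacter (helper82.isIrrCharacter_inflation K β.2)))
      (b * charDegree (β : G ⧸ K → ℂ)) (by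
        rw [Pi.mul_apply, hχb]
        show (b : ℂ) * (β : G ⧸ K → ℂ) ((1 : G) : G ⧸ K) = _
        rw [QuotientGroup.mk_one, helper81.irr_one_eq_charDegree β]; push_cast; ring)
    exact ⟨m, hm, Nat.le_of_mul_le_mul_left hle (by omega)⟩
  choose m hm hdm using hex
  have hSum : ((∑ β : IrrCharacter (G ⧸ K), m β : ℕ) : ℝ) * (Nat.card G : ℝ) =
      ∑ g : G, Complex.normSq (χ g) *
        (Nat.card (Subgroup.centralizer ({(g : G ⧸ K)} : Set (G ⧸ K))) : ℝ) := by
    have h1 : ((((∑ β : IrrCharacter (G ⧸ K), m β : ℕ) : ℝ) * (Nat.card G : ℝ) : ℝ) : ℂ) =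
        ((∑ g : G, Complex.normSq (χ g) *
          (Nat.card (Subgroup.centralizer ({(g : G ⧸ K)} : Set (G ⧸ K))) : ℝ) : ℝ) : ℂ) := by
      push_cast
      rw [Finset.sum_mul]
      have h2 : ∀ β : IrrCharacter (G ⧸ K), (m β : ℂ) * (Nat.card G : ℂ) =
          ∑ g : G, (χ g * conj (χ g)) *
            ((β : G ⧸ K → ℂ) (g : G ⧸ K) * conj ((β : G ⧸ K → ℂ) (g : G ⧸ K))) := by
        intro β
        rw [← hm β]
        unfold classInner
        rw [mul_comm, ← mul_assoc, mul_inv_cancel₀ hGne, one_mul]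
        refine Finset.sum_congr rfl fun g _ => ?_
        rw [Pi.mul_apply, map_mul]; ring
      rw [Finset.sum_congr rfl (fun β _ => h2 β), Finset.sum_comm]
      refine Finset.sum_congr rfl fun g _ => ?_
      rw [← Finset.mul_sum, helper83.second_orthogonality_of_isConj (IsConj.refl _),
        Complex.mul_conj]
    exact_mod_cast h1
  have hineq : ((∑ β : IrrCharacter (G ⧸ K), m β : ℕ) : ℝ) * (Nat.card G : ℝ) ≤
      ((Nat.card (G ⧸ K) : ℝ) - (Nat.card C : ℝ)) * (Nat.card (ipPre K C) : ℝ) +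
        (Nat.card C : ℝ) * (Nat.card G : ℝ) := by
    rw [hSum, ← hsumKr, ← hsumGr, Finset.mul_sum, Finset.mul_sum, ← Finset.sum_add_distrib]
    refine Finset.sum_le_sum fun g _ => ?_
    have hw : 0 ≤ Complex.normSq (χ g) := Complex.normSq_nonneg _
    by_cases hgK : g ∈ K
    · rw [if_pos hgK]
      have h1 : (Nat.card (Subgroup.centralizer ({(g : G ⧸ K)} : Set (G ⧸ K))) : ℝ) ≤
          (Nat.card (G ⧸ K) : ℝ) := by
        exact_mod_cast Subgroup.card_le_card_group _
      nlinarith [mul_le_mul_of_nonneg_left h1 hw]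
    · rw [if_neg hgK]
      have hg1 : (g : G ⧸ K) ≠ 1 := fun h1 => hgK ((QuotientGroup.eq_one_iff g).mp h1)
      have h1 : (Nat.card (Subgroup.centralizer ({(g : G ⧸ K)} : Set (G ⧸ K))) : ℝ) ≤
          (Nat.card C : ℝ) := by
        exact_mod_cast hmax _ hg1
      nlinarith [mul_le_mul_of_nonneg_left h1 hw]
  have hstar : (∑ β : IrrCharacter (G ⧸ K), m β) * C.index + Nat.card C ≤
      2 * C.index * Nat.card C := by
    have hkpos : 0 < Nat.card C * Nat.card K := Nat.mul_pos Nat.card_pos Nat.card_pos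
    have h1 : ((∑ β : IrrCharacter (G ⧸ K), m β) * C.index + Nat.card C) *
        (Nat.card C * Nat.card K) ≤ (2 * C.index * Nat.card C) * (Nat.card C * Nat.card K) := by
      have h2 : (((∑ β : IrrCharacter (G ⧸ K), m β : ℕ) : ℝ) * (C.index : ℝ) +
          (Nat.card C : ℝ)) * ((Nat.card C : ℝ) * (Nat.card K : ℝ)) ≤
          (2 * (C.index : ℝ) * (Nat.card C : ℝ)) * ((Nat.card C : ℝ) * (Nat.card K : ℝ)) := by
        have e2 : (Nat.card (G ⧸ K) : ℝ) = (C.index : ℝ) * (Nat.card C : ℝ) := by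
          rw [hq]; push_cast; ring
        have e1 : (Nat.card G : ℝ) = (C.index : ℝ) * (Nat.card C : ℝ) * (Nat.card K : ℝ) := by
          rw [hn]; push_cast; rw [e2]
        have e3 : (Nat.card (ipPre K C) : ℝ) = (Nat.card C : ℝ) * (Nat.card K : ℝ) := by
          rw [hcardH]; push_cast; ring
        rw [e1, e2, e3] at hineq
        linarith [hineq]
      exact_mod_cast h2
    exact Nat.le_of_mul_le_mul_right h1 hkpos
  have hqM : Nat.card (G ⧸ K) ≤ b * ∑ β : IrrCharacter (G ⧸ K), m β := by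
    rw [← ip_sum_deg_sq (G ⧸ K), Finset.mul_sum]
    refine Finset.sum_le_sum fun β _ => ?_
    obtain ⟨d, hd, hd1⟩ := hQ β.1 β.2
    have hcd : charDegree (β : G ⧸ K → ℂ) = d := helper21.charDegree_of_one_eq hd1
    calc charDegree (β : G ⧸ K → ℂ) ^ 2
        = charDegree (β : G ⧸ K → ℂ) * charDegree (β : G ⧸ K → ℂ) := by ring
      _ ≤ b * m β := Nat.mul_le_mul (hcd ▸ hd) (hdm β)
  refine ⟨hh, ?_⟩
  rw [hq] at hqM
  have hhpos : 0 < Nat.card C := Nat.card_pos
  generalize (∑ β : IrrCharacter (G ⧸ K), m β) = M at hstar hqM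
  generalize C.index = c at hstar hqM ⊢
  generalize Nat.card C = h at hstar hqM hhpos
  by_contra hcon
  have hc2 : 2 * b ≤ c := by omega
  nlinarith [Nat.mul_le_mul_left c hqM, Nat.mul_le_mul_left b hstar,
    Nat.mul_le_mul_right (c * h) hc2, Nat.mul_pos hb1 hhpos]

/-- Case C: the derived subgroup of the quotient is nonabelian. -/
theorem ip_caseC [Fintype G] (K : Subgroup G) [K.Normal] (b : ℕ) (hG : ipDegLe G b)
    (hP : ∀ L : Subgroup (G ⧸ K), L.Normal → L ≠ ⊥ → commutator (G ⧸ K) ≤ L)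
    (hnab : ¬ ∀ a ∈ commutator (G ⧸ K), ∀ c ∈ commutator (G ⧸ K), a * c = c * a) :
    ∃ H : Subgroup G, ∃ b' : ℕ, b' < b ∧ ipDegLe H b' ∧
      H.index * (Nat.factorial b') ^ 2 ≤ (Nat.factorial b) ^ 2 := by
  classical
  have hQfin : Fintype (G ⧸ K) := Fintype.ofFinite _
  have hb1 : 1 ≤ b := ip_one_le b hG
  have hna : commutator (G ⧸ K) ≠ ⊥ := by
    intro h0
    apply hnab
    intro a ha c hc
    rw [h0, Subgroup.mem_bot] at ha hc
    rw [ha, hc]
  have hQ : ipDegLe (G ⧸ K) b := ip_degLe_quot K b hG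
  obtain ⟨x, hx1, hmax⟩ := ip_exists_max hna
  have hbound := ip_class_bound b hQ x hmax
  have hCidx := (Subgroup.centralizer ({x} : Set (G ⧸ K))).index_mul_card
  have hhpos : 0 < Nat.card (Subgroup.centralizer ({x} : Set (G ⧸ K))) := Nat.card_pos
  have hcb : (Subgroup.centralizer ({x} : Set (G ⧸ K))).index ≤ b ^ 2 := by
    rw [← hCidx] at hbound
    exact Nat.le_of_mul_le_mul_right hbound hhpos
  have hHfin : Fintype (ipPre K (Subgroup.centralizer ({x} : Set (G ⧸ K)))) :=
    Fintype.ofFinite _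
  by_cases hgood : ∀ χ : G → ℂ, IsIrrCharacter G χ → χ 1 = (b : ℂ) →
      ¬ IsIrrCharacter (ipPre K (Subgroup.centralizer ({x} : Set (G ⧸ K))))
        (fun n : ipPre K (Subgroup.centralizer ({x} : Set (G ⧸ K))) => χ n)
  · refine ⟨ipPre K (Subgroup.centralizer ({x} : Set (G ⧸ K))), b - 1, by omega,
      ip_degLe_pred _ b hG hgood, ?_⟩
    rw [ipPre_index]
    exact ip_fact_pred b hb1 _ hcb
  · push Not at hgood
    obtain ⟨χ, hχ, hχb, hχH⟩ := hgood
    obtain ⟨hh, hc⟩ := ip_caseC_bad K b hG _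
      (fun y _ hy1 => ip_core_bot hP hnab x hx1 y hy1) hmax χ hχ hχb hχH
    obtain ⟨β, d, hd2, hd⟩ := ip_exists_nonlinear hna
    have hKfin : Fintype K := Fintype.ofFinite _
    have hhalf : ipDegLe K (b / 2) := ip_degLe_half K b hG
      (fun g : G => (β : G ⧸ K → ℂ) (g : G ⧸ K)) (helper82.isIrrCharacter_inflation K β.2) d
      (by
        show (β : G ⧸ K → ℂ) ((1 : G) : G ⧸ K) = d
        rw [QuotientGroup.mk_one]; exact hd) hd2 (by
        intro k hk
        show (β : G ⧸ K → ℂ) ((k : G) : G ⧸ K) = (β : G ⧸ K → ℂ) ((1 : G) : G ⧸ K)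
        rw [(QuotientGroup.eq_one_iff k).mpr hk, QuotientGroup.mk_one])
    refine ⟨K, b / 2, Nat.div_lt_self (by omega) (by norm_num), hhalf, ?_⟩
    have hKidx : K.index = (Subgroup.centralizer ({x} : Set (G ⧸ K))).index *
        Nat.card (Subgroup.centralizer ({x} : Set (G ⧸ K))) := by
      rw [hCidx]; rfl
    rw [hKidx]
    rcases Nat.lt_or_ge b 4 with hb4 | hb4
    · rcases Nat.lt_or_ge b 3 with hb3 | hb3
      · exfalso
        apply hnab
        exact ip_small_b (fun ψ hψ => by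
          obtain ⟨e, he, he1⟩ := hQ ψ hψ
          exact ⟨e, by omega, he1⟩)
      · have hb : b = 3 := by omega
        subst hb
        by_cases h36 : (Subgroup.centralizer ({x} : Set (G ⧸ K))).index *
            Nat.card (Subgroup.centralizer ({x} : Set (G ⧸ K))) ≤ 36
        · have e1 : Nat.factorial (3 / 2) = 1 := by decide
          have e2 : Nat.factorial 3 = 6 := by decide
          rw [e1, e2]
          omega
        · exfalso
          have h45 := ip_num3 _ _ (by omega) (by omega) h36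
          rw [hCidx] at h45
          obtain ⟨P, hPn, hP5⟩ := ip_sylow5 h45
          have hPne : P ≠ ⊥ := by
            intro h0
            rw [h0, Subgroup.card_bot] at hP5
            omega
          have hle := hP P hPn hPne
          have hp5 : Fact (Nat.Prime 5) := ⟨by norm_num⟩
          have hcyc : IsCyclic P := isCyclic_of_prime_card hP5
          apply hnab
          intro a ha c hc
          have h1 := (IsCyclic.isMulCommutative (α := P)).is_comm.comm ⟨a, hle ha⟩ ⟨c, hle hc⟩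
          exact congrArg Subtype.val h1
    · exact ip_fact_half b hb4 _ (Nat.mul_le_mul (by omega) hh)

/-- Key step: a nonabelian group with degrees at most `b` has a subgroup of controlled index
with smaller degrees. -/
theorem ip_key [Fintype G] (b : ℕ) (hG : ipDegLe G b) (hnc : ¬ ∀ x y : G, x * y = y * x) :
    ∃ H : Subgroup G, ∃ b' : ℕ, b' < b ∧ ipDegLe H b' ∧
      H.index * (Nat.factorial b') ^ 2 ≤ (Nat.factorial b) ^ 2 := by
  classical
  have hb1 : 1 ≤ b := ip_one_le b hG
  have hcomm : ¬ commutator G ≤ ⊥ := by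
    intro hle
    apply hnc
    intro x y
    have h1 : ⁅x, y⁆ ∈ commutator G :=
      Subgroup.commutator_mem_commutator (Subgroup.mem_top x) (Subgroup.mem_top y)
    have h2 := hle h1
    rw [Subgroup.mem_bot, commutatorElement_eq_one_iff_mul_comm] at h2
    exact h2
  have hfinS : Fintype (Subgroup G) := Fintype.ofFinite _
  obtain ⟨K, hKmem, hKmax⟩ := Finset.exists_max_image
    (Finset.univ.filter (fun K : Subgroup G => K.Normal ∧ ¬ commutator G ≤ K))
    (fun K => Nat.card K)
    ⟨⊥, by rw [Finset.mem_filter]; exact ⟨Finset.mem_univ _, inferInstance, hcomm⟩⟩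
  rw [Finset.mem_filter] at hKmem
  obtain ⟨-, hKn, hKc⟩ := hKmem
  have hP : ∀ L : Subgroup (G ⧸ K), L.Normal → L ≠ ⊥ → commutator (G ⧸ K) ≤ L := by
    intro L hL hLne
    by_contra hnot
    have hLK : ¬ commutator G ≤ L.comap (QuotientGroup.mk' K) := by
      intro hle
      apply hnot
      refine Subgroup.commutator_le.mpr fun q₁ _ q₂ _ => ?_
      obtain ⟨g₁, rfl⟩ := QuotientGroup.mk_surjective q₁
      obtain ⟨g₂, rfl⟩ := QuotientGroup.mk_surjective q₂
      have h1 : ⁅g₁, g₂⁆ ∈ L.comap (QuotientGroup.mk' K) :=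
        hle (Subgroup.commutator_mem_commutator (Subgroup.mem_top _) (Subgroup.mem_top _))
      rw [Subgroup.mem_comap, map_commutatorElement] at h1
      exact h1
    have hmem : L.comap (QuotientGroup.mk' K) ∈
        Finset.univ.filter (fun K : Subgroup G => K.Normal ∧ ¬ commutator G ≤ K) := by
      rw [Finset.mem_filter]
      exact ⟨Finset.mem_univ _, inferInstance, hLK⟩
    have hle := hKmax _ hmem
    have hKle : K ≤ L.comap (QuotientGroup.mk' K) := by
      intro k hk
      rw [Subgroup.mem_comap]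
      have h1 : (QuotientGroup.mk' K) k = 1 := (QuotientGroup.eq_one_iff k).mpr hk
      rw [h1]; exact L.one_mem
    have heq : K = L.comap (QuotientGroup.mk' K) := Subgroup.eq_of_le_of_card_ge hKle hle
    obtain ⟨q, hq1⟩ := Subgroup.ne_bot_iff_exists_ne_one.mp hLne
    obtain ⟨g, hg⟩ := QuotientGroup.mk_surjective (q : G ⧸ K)
    have hgK : g ∈ K := by
      rw [heq, Subgroup.mem_comap]
      show (g : G ⧸ K) ∈ L
      rw [hg]; exact q.2
    apply hq1
    apply Subtype.ext
    rw [← hg]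
    exact (QuotientGroup.eq_one_iff g).mpr hgK
  have hna : commutator (G ⧸ K) ≠ ⊥ := by
    intro h0
    apply hKc
    refine Subgroup.commutator_le.mpr fun g₁ _ g₂ _ => ?_
    have h1 : ⁅(g₁ : G ⧸ K), (g₂ : G ⧸ K)⁆ ∈ commutator (G ⧸ K) :=
      Subgroup.commutator_mem_commutator (Subgroup.mem_top _) (Subgroup.mem_top _)
    rw [h0, Subgroup.mem_bot] at h1
    rw [← QuotientGroup.eq_one_iff, ← h1]
    exact map_commutatorElement (QuotientGroup.mk' K) g₁ g₂
  by_cases hab : ∀ a ∈ commutator (G ⧸ K), ∀ c ∈ commutator (G ⧸ K), a * c = c * a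
  · by_cases hZ : Subgroup.center (G ⧸ K) = ⊥
    · obtain ⟨H, hH, hidx⟩ := ip_caseB K b hG hP hna hZ hab
      exact ⟨H, b - 1, by omega, hH, ip_fact_pred b hb1 _ hidx⟩
    · obtain ⟨H, hH, hidx⟩ := ip_caseA K b hG hP hna hZ
      exact ⟨H, b - 1, by omega, hH, ip_fact_pred b hb1 _ hidx⟩
  · exact ip_caseC K b hG hP hab

/-- **Isaacs–Passman**: a finite group whose irreducible character degrees are at most `b`
has an abelian subgroup of index at most `(b!)^2`. -/
theorem ip_main (b : ℕ) : ∀ (G : Type u) [Group G] [Fintype G], ipDegLe G b →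
    ∃ A : Subgroup G, (∀ x ∈ A, ∀ y ∈ A, x * y = y * x) ∧
      A.index ≤ (Nat.factorial b) ^ 2 := by
  induction b using Nat.strong_induction_on with
  | _ b ih =>
    intro G _ _ hG
    by_cases hab : ∀ x y : G, x * y = y * x
    · refine ⟨⊤, fun x _ y _ => hab x y, ?_⟩
      rw [Subgroup.index_top]
      exact Nat.one_le_pow _ _ (Nat.factorial_pos b)
    · obtain ⟨H, b', hb', hH, hidx⟩ := ip_key b hG hab
      classical
      have hHfin : Fintype H := Fintype.ofFinite _
      obtain ⟨A, hA, hAi⟩ := ih b' hb' H hH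
      refine ⟨A.map H.subtype, ?_, ?_⟩
      · rintro x ⟨x', hx', rfl⟩ y ⟨y', hy', rfl⟩
        exact congrArg Subtype.val (hA x' hx' y' hy')
      · rw [Subgroup.index_map_subtype]
        calc A.index * H.index ≤ (b'.factorial) ^ 2 * H.index := Nat.mul_le_mul_right _ hAi
          _ = H.index * (b'.factorial) ^ 2 := Nat.mul_comm _ _
          _ ≤ (b.factorial) ^ 2 := hidx

end Cfsg.Agent.Lib.helper77
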