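import Cfsg.Agent.Lib.helper77.MinNonPClosed

set_option autoImplicit false

/-!
Elementary abelian `2`-groups acting (by conjugation) on nilpotent groups of odd order:
invariant subgroups of prime order, a nilpotent version of Thompson's `A × B` lemma for
involutions, and the resulting "faithful abelian subgroup" statement.
-/

universe u

namespace Cfsg.Agent.Lib.helper77

/-- In a subgroup of odd order an element with `c * c = 1` is trivial. -/
theorem eq_one_of_mul_self_of_odd {S : Type*} [Group S] [Finite S] (H : Subgroup S)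
    (hodd : Odd (Nat.card H)) {c : S} (hc : c ∈ H) (h : c * c = 1) : c = 1 := by
  have h2 : ¬ 2 ∣ Nat.card H := by
    intro hd
    exact (Nat.not_even_iff_odd.mpr hodd) (even_iff_two_dvd.mpr hd)
  exact eq_one_of_mem_of_pow_prime_pow_eq_one (p := 2) H h2 hc (k := 1)
    (by rw [pow_one, pow_two]; exact h)

/-- A finite nilpotent group with cyclic abelianization is commutative. -/
theorem comm_of_isCyclic_abelianization : ∀ (n : ℕ) (G : Type u) [Group G] [Finite G]
    [Group.IsNilpotent G], Nat.card G = n → IsCyclic (Abelianization G) →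
    ∀ a b : G, a * b = b * a := by
  intro n
  induction n using Nat.strong_induction_on with
  | _ n ih =>
    intro G _ _ _ hn hcyc
    by_cases hsub : Subsingleton G
    · intro a b
      exact Subsingleton.elim _ _
    · rw [not_subsingleton_iff_nontrivial] at hsub
      have hZ : Subgroup.center G ≠ ⊥ := Group.IsNilpotent.center_ne_bot G
      have hlt : Nat.card (G ⧸ Subgroup.center G) < n := by
        rw [← hn, ← Subgroup.index_eq_card, ← Subgroup.card_mul_index (Subgroup.center G)]
        have h1 : 1 < Nat.card (Subgroup.center G) := by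
          rw [Subgroup.one_lt_card_iff_ne_bot]
          exact hZ
        have h2 : 0 < (Subgroup.center G).index := Nat.pos_of_ne_zero Subgroup.index_ne_zero_of_finite
        nlinarith
      have hcycQ : IsCyclic (Abelianization (G ⧸ Subgroup.center G)) := by
        apply isCyclic_of_surjective (Abelianization.map (QuotientGroup.mk' (Subgroup.center G)))
        intro v
        obtain ⟨q, rfl⟩ := QuotientGroup.mk_surjective (s := commutator (G ⧸ Subgroup.center G)) v
        obtain ⟨g, rfl⟩ := QuotientGroup.mk_surjective q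
        exact ⟨Abelianization.of g, Abelianization.map_of _ g⟩
      have hQ := ih _ hlt (G ⧸ Subgroup.center G) rfl hcycQ
      have hker : (Abelianization.of (G := G)).ker ≤ Subgroup.center G := by
        rw [Abelianization.ker_of, commutator_def, Subgroup.commutator_le]
        intro g₁ _ g₂ _
        have h1 := hQ (QuotientGroup.mk g₁) (QuotientGroup.mk g₂)
        rw [commutatorElement_def]
        have h2 : (QuotientGroup.mk (g₁ * g₂ * g₁⁻¹ * g₂⁻¹) : G ⧸ Subgroup.center G) = 1 := by
          rw [QuotientGroup.mk_mul, QuotientGroup.mk_mul, QuotientGroup.mk_mul, h1,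
            QuotientGroup.mk_inv, QuotientGroup.mk_inv]
          group
        exact (QuotientGroup.eq_one_iff _).mp h2
      intro a b
      exact ((Abelianization.of (G := G)).isMulCommutative_of_isCyclic_of_ker_le_center
        hker).is_comm.comm a b

/-- Commuting involutive automorphisms of an abelian group of odd order, one of which is
nontrivial, leave invariant a subgroup of prime order on which that one acts nontrivially. -/
theorem exists_prime_invariant_of_comm {V : Type*} [CommGroup V] [Finite V]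
    (hodd : Odd (Nat.card V)) {ι : Type*} (φ : ι → V ≃* V)
    (hcomm : ∀ s t v, φ s (φ t v) = φ t (φ s v)) (hinv : ∀ t v, φ t (φ t v) = v) (k : ι)
    (hk : ∃ v, φ k v ≠ v) :
    ∃ L : Subgroup V, (Nat.card L).Prime ∧ (∀ t, ∀ v ∈ L, φ t v ∈ L) ∧ ∃ v ∈ L, φ k v ≠ v := by
  classical
  have hex : ∃ n, ∃ W : Subgroup V, (∀ t, ∀ v ∈ W, φ t v ∈ W) ∧ (∃ v ∈ W, φ k v ≠ v) ∧
      Nat.card W = n := by
    obtain ⟨v, hv⟩ := hk
    exact ⟨_, ⊤, fun _ _ _ => Subgroup.mem_top _, ⟨v, Subgroup.mem_top v, hv⟩, rfl⟩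
  obtain ⟨W, hWinv, ⟨v0, hv0W, hv0⟩, hWn⟩ := Nat.find_spec hex
  have hmin : ∀ W' : Subgroup V, W' ≤ W → (∀ t, ∀ v ∈ W', φ t v ∈ W') →
      (∃ v ∈ W', φ k v ≠ v) → W' = W := by
    intro W' hle hinv' hk'
    apply Subgroup.eq_of_le_of_card_ge hle
    rw [hWn]
    exact Nat.find_min' hex ⟨W', hinv', hk', rfl⟩
  have hsq : ∀ v : V, v * v = 1 → v = 1 := by
    intro v hv
    have h1 : orderOf v ∣ 2 := orderOf_dvd_of_pow_eq_one (by rw [pow_two]; exact hv)
    have h2 : orderOf v ∣ Nat.card V := orderOf_dvd_natCard v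
    have h3 : Nat.Coprime 2 (Nat.card V) := Nat.coprime_two_left.mpr hodd
    exact orderOf_eq_one_iff.mp (Nat.eq_one_of_dvd_coprimes h3 h1 h2)
  -- `k` inverts `W`
  have hkinv : ∀ w ∈ W, φ k w = w⁻¹ := by
    obtain ⟨Wm, hWm⟩ : ∃ Wm : Subgroup V, ∀ w, w ∈ Wm ↔ (w ∈ W ∧ φ k w = w⁻¹) :=
      ⟨{ carrier := {w | w ∈ W ∧ φ k w = w⁻¹}
         one_mem' := ⟨W.one_mem, by simp⟩
         mul_mem' := by
           rintro a b ⟨ha, ha'⟩ ⟨hb, hb'⟩
           exact ⟨W.mul_mem ha hb, by rw [map_mul, ha', hb', mul_inv]⟩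
         inv_mem' := by
           rintro a ⟨ha, ha'⟩
           exact ⟨W.inv_mem ha, by rw [map_inv, ha']⟩ }, fun w => Iff.rfl⟩
    have hu : φ k (v0⁻¹ * φ k v0) = (v0⁻¹ * φ k v0)⁻¹ := by
      rw [map_mul, map_inv, hinv, mul_inv, inv_inv, mul_comm]
    have hu1 : v0⁻¹ * φ k v0 ≠ 1 := by
      intro h
      apply hv0
      have h1 := congrArg (fun z => v0 * z) h
      simpa using h1
    have h1 : Wm = W := by
      apply hmin Wm (fun w hw => ((hWm w).mp hw).1)
      · intro t w hw
        rw [hWm] at hw ⊢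
        exact ⟨hWinv t w hw.1, by rw [hcomm, hw.2, map_inv]⟩
      · refine ⟨v0⁻¹ * φ k v0, (hWm _).mpr ⟨W.mul_mem (W.inv_mem hv0W) (hWinv k v0 hv0W), hu⟩, ?_⟩
        rw [hu]
        intro h
        apply hu1
        apply hsq
        have h2 := congrArg (fun z => (v0⁻¹ * φ k v0) * z) h
        simpa using h2.symm
    intro w hw
    have h2 : w ∈ Wm := h1 ▸ hw
    exact ((hWm w).mp h2).2
  -- each `t` centralises or inverts `W`
  have hpm : ∀ t, ∀ w ∈ W, φ t w = w ∨ φ t w = w⁻¹ := by
    intro t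
    obtain ⟨Wp, hWp⟩ : ∃ Wp : Subgroup V, ∀ w, w ∈ Wp ↔ (w ∈ W ∧ φ t w = w) :=
      ⟨{ carrier := {w | w ∈ W ∧ φ t w = w}
         one_mem' := ⟨W.one_mem, by simp⟩
         mul_mem' := by
           rintro a b ⟨ha, ha'⟩ ⟨hb, hb'⟩
           exact ⟨W.mul_mem ha hb, by rw [map_mul, ha', hb']⟩
         inv_mem' := by
           rintro a ⟨ha, ha'⟩
           exact ⟨W.inv_mem ha, by rw [map_inv, ha']⟩ }, fun w => Iff.rfl⟩
    by_cases hb : Wp = ⊥
    · intro w hw
      right
      have h1 : w * φ t w ∈ Wp := (hWp _).mpr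
        ⟨W.mul_mem hw (hWinv t w hw), by rw [map_mul, hinv, mul_comm]⟩
      rw [hb, Subgroup.mem_bot] at h1
      exact eq_inv_of_mul_eq_one_right h1
    · obtain ⟨w0, hw0, hw01⟩ : ∃ w ∈ Wp, w ≠ 1 := by
        by_contra hcon
        apply hb
        rw [Subgroup.eq_bot_iff_forall]
        intro x hx
        by_contra hx1
        exact hcon ⟨x, hx, hx1⟩
      have h1 : Wp = W := by
        apply hmin Wp (fun w hw => ((hWp w).mp hw).1)
        · intro s w hw
          rw [hWp] at hw ⊢
          exact ⟨hWinv s w hw.1, by rw [hcomm, hw.2]⟩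
        · refine ⟨w0, hw0, ?_⟩
          rw [hkinv w0 ((hWp w0).mp hw0).1]
          intro h
          apply hw01
          apply hsq
          have h2 := congrArg (fun z => w0 * z) h
          simpa using h2.symm
      intro w hw
      left
      have h2 : w ∈ Wp := h1 ▸ hw
      exact ((hWp w).mp h2).2
  -- a subgroup of prime order
  have hv01 : v0 ≠ 1 := by
    rintro rfl
    exact hv0 (map_one _)
  have hWcard : Nat.card W ≠ 1 := by
    intro h
    have h1 := Subgroup.eq_bot_of_card_eq W h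
    rw [h1, Subgroup.mem_bot] at hv0W
    exact hv01 hv0W
  obtain ⟨p, hp, hpW⟩ := Nat.exists_prime_and_dvd hWcard
  have : Fact p.Prime := ⟨hp⟩
  obtain ⟨w, hw⟩ := exists_prime_orderOf_dvd_card' (G := W) p hpW
  have hw' : orderOf (w : V) = p := by rw [Subgroup.orderOf_coe]; exact hw
  have hw1 : (w : V) ≠ 1 := by
    intro h
    rw [h, orderOf_one] at hw'
    exact hp.one_lt.ne hw'
  have hzW : Subgroup.zpowers (w : V) ≤ W := Subgroup.zpowers_le.mpr w.2
  refine ⟨Subgroup.zpowers (w : V), ?_, ?_, ?_⟩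
  · rw [Nat.card_zpowers, hw']
    exact hp
  · intro t v hv
    rcases hpm t v (hzW hv) with h | h
    · rw [h]; exact hv
    · rw [h]; exact Subgroup.inv_mem _ hv
  · refine ⟨w, Subgroup.mem_zpowers _, ?_⟩
    rw [hkinv _ w.2]
    intro h
    apply hw1
    apply hsq
    have h2 := congrArg (fun z => (w : V) * z) h
    simpa using h2.symm

/-- Conjugation by `t` as an automorphism of a subgroup that `t` normalises. -/
def conjEquiv {S : Type*} [Group S] (H : Subgroup S) (t : S) (h1 : ∀ x ∈ H, t * x * t⁻¹ ∈ H)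
    (h2 : ∀ x ∈ H, t⁻¹ * x * t ∈ H) : ↥H ≃* ↥H where
  toFun x := ⟨t * x * t⁻¹, h1 x x.2⟩
  invFun x := ⟨t⁻¹ * x * t, h2 x x.2⟩
  left_inv x := Subtype.ext (by simp [mul_assoc])
  right_inv x := Subtype.ext (by simp [mul_assoc])
  map_mul' x y := Subtype.ext (by simp [mul_assoc])

theorem conjEquiv_apply_coe {S : Type*} [Group S] (H : Subgroup S) (t : S)
    (h1 : ∀ x ∈ H, t * x * t⁻¹ ∈ H) (h2 : ∀ x ∈ H, t⁻¹ * x * t ∈ H) (x : ↥H) :
    ((conjEquiv H t h1 h2 x : ↥H) : S) = t * x * t⁻¹ := rfl

/-- `x` centralises `A` iff conjugation by `x` fixes `A` pointwise. -/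
theorem mem_centralizer_iff_conj {S : Type*} [Group S] (A : Subgroup S) (x : S) :
    x ∈ Subgroup.centralizer (A : Set S) ↔ ∀ a ∈ A, x * a * x⁻¹ = a := by
  rw [Subgroup.mem_centralizer_iff]
  constructor
  · intro h a ha
    rw [← h a ha]
    simp
  · intro h a ha
    have h1 := h a ha
    calc a * x = x * a * x⁻¹ * x := by rw [h1]
      _ = x * a := by simp

/-- An involution has `t⁻¹ = t`. -/
theorem inv_eq_self_of_mul_self {S : Type*} [Group S] {t : S} (h : t * t = 1) : t⁻¹ = t :=
  inv_eq_of_mul_eq_one_left h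

/-- A subgroup of prime order normalised by an involution `t` is centralised or inverted. -/
theorem centralizes_or_inverts {S : Type*} [Group S] [Finite S] (A : Subgroup S)
    (hA : (Nat.card A).Prime) (t : S) (ht2 : t * t = 1) (htA : ∀ a ∈ A, t * a * t⁻¹ ∈ A) :
    (∀ a ∈ A, t * a * t⁻¹ = a) ∨ (∀ a ∈ A, t * a * t⁻¹ = a⁻¹) := by
  have hfact : Fact (Nat.card A).Prime := ⟨hA⟩
  have hcyc : IsCyclic ↥A := isCyclic_of_prime_card (p := Nat.card A) rfl
  have hcommA : ∀ a ∈ A, ∀ b ∈ A, a * b = b * a := by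
    intro a ha b hb
    have hmc : IsMulCommutative ↥A := IsCyclic.isMulCommutative
    have h1 := isMulCommutative_iff.mp hmc ⟨a, ha⟩ ⟨b, hb⟩
    exact congrArg Subtype.val h1
  have htinv : t⁻¹ = t := inv_eq_self_of_mul_self ht2
  have hdvd : Nat.card (A ⊓ Subgroup.centralizer ({t} : Set S) : Subgroup S) ∣ Nat.card A :=
    Subgroup.card_dvd_of_le inf_le_left
  rcases (Nat.dvd_prime hA).mp hdvd with h | h
  · right
    have hbot := Subgroup.eq_bot_of_card_eq _ h
    intro a ha
    have h1 : a * (t * a * t⁻¹) ∈ (A ⊓ Subgroup.centralizer ({t} : Set S) : Subgroup S) := by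
      refine Subgroup.mem_inf.mpr ⟨A.mul_mem ha (htA a ha), ?_⟩
      rw [Subgroup.mem_centralizer_iff]
      intro s hs
      rw [Set.mem_singleton_iff] at hs
      subst hs
      have h2 : s * (a * (s * a * s⁻¹)) = (s * a * s⁻¹) * a * s := by
        rw [htinv]
        calc s * (a * (s * a * s)) = s * a * s * a * s := by group
          _ = s * a * s * a * s := rfl
      rw [h2, hcommA _ (htA a ha) a ha]
    rw [hbot, Subgroup.mem_bot] at h1
    exact eq_inv_of_mul_eq_one_right h1
  · left
    have htop : (A ⊓ Subgroup.centralizer ({t} : Set S) : Subgroup S) = A :=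
      Subgroup.eq_of_le_of_card_ge inf_le_left h.ge
    intro a ha
    have h1 : a ∈ (A ⊓ Subgroup.centralizer ({t} : Set S) : Subgroup S) := by
      rw [htop]
      exact ha
    have h2 := (Subgroup.mem_inf.mp h1).2
    rw [Subgroup.mem_centralizer_iff] at h2
    have h3 := h2 t (Set.mem_singleton t)
    rw [h3]
    simp

/-- Two involutions normalising a subgroup of odd prime order and not centralising it have a
product that centralises it. -/
theorem mul_mem_centralizer_of_not_mem {S : Type*} [Group S] [Finite S] (A : Subgroup S)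
    (hA : (Nat.card A).Prime) (x y : S) (hx2 : x * x = 1) (hy2 : y * y = 1)
    (hxA : ∀ a ∈ A, x * a * x⁻¹ ∈ A) (hyA : ∀ a ∈ A, y * a * y⁻¹ ∈ A)
    (hx : x ∉ Subgroup.centralizer (A : Set S)) (hy : y ∉ Subgroup.centralizer (A : Set S)) :
    x * y ∈ Subgroup.centralizer (A : Set S) := by
  have h1 : ∀ a ∈ A, x * a * x⁻¹ = a⁻¹ := by
    rcases centralizes_or_inverts A hA x hx2 hxA with h | h
    · exact absurd ((mem_centralizer_iff_conj A x).mpr h) hx
    · exact h
  have h2 : ∀ a ∈ A, y * a * y⁻¹ = a⁻¹ := by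
    rcases centralizes_or_inverts A hA y hy2 hyA with h | h
    · exact absurd ((mem_centralizer_iff_conj A y).mpr h) hy
    · exact h
  rw [mem_centralizer_iff_conj]
  intro a ha
  calc x * y * a * (x * y)⁻¹ = x * (y * a * y⁻¹) * x⁻¹ := by group
    _ = x * a⁻¹ * x⁻¹ := by rw [h2 a ha]
    _ = a⁻¹⁻¹ := h1 _ (A.inv_mem ha)
    _ = a := inv_inv a

/-- **Nilpotent `A × B` lemma for involutions.**  Let `H` be a nilpotent subgroup of odd order
normalised by the involution `x`, and `B ≤ H` a subgroup centralised by `x`.  If `x` centralises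
`C_H(B)` then `x` centralises `H`. -/
theorem mem_centralizer_of_centralizer_inf {S : Type*} [Group S] [Finite S] (H B : Subgroup S)
    (hnil : Group.IsNilpotent ↥H) (hodd : Odd (Nat.card H)) (hB : B ≤ H) (x : S)
    (hx2 : x * x = 1) (hxH : ∀ h ∈ H, x * h * x⁻¹ ∈ H)
    (hxB : x ∈ Subgroup.centralizer (B : Set S))
    (hxC : x ∈ Subgroup.centralizer ((H ⊓ Subgroup.centralizer (B : Set S) : Subgroup S) : Set S)) :
    x ∈ Subgroup.centralizer (H : Set S) := by
  by_contra hne
  have hxinv : x⁻¹ = x := inv_eq_self_of_mul_self hx2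
  obtain ⟨C', hC'⟩ : ∃ C' : Subgroup ↥H, C' = (Subgroup.centralizer ({x} : Set S)).subgroupOf H :=
    ⟨_, rfl⟩
  have hmemC : ∀ r : ↥H, r ∈ C' ↔ x * (r : S) = (r : S) * x := by
    intro r
    rw [hC', Subgroup.mem_subgroupOf, Subgroup.mem_centralizer_iff]
    constructor
    · intro h
      exact h x (Set.mem_singleton x)
    · intro h s hs
      rw [Set.mem_singleton_iff] at hs
      subst hs
      exact h
  have hC'top : C' < ⊤ := by
    rw [lt_top_iff_ne_top]
    intro h
    apply hne
    rw [Subgroup.mem_centralizer_iff]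
    intro g hg
    have h1 : (⟨g, hg⟩ : ↥H) ∈ C' := h ▸ Subgroup.mem_top _
    exact ((hmemC _).mp h1).symm
  have hnc := Group.normalizerCondition_of_isNilpotent (G := ↥H) C' hC'top
  obtain ⟨r, hrN, hrC⟩ := SetLike.exists_of_lt hnc
  rw [Subgroup.mem_normalizer_iff] at hrN
  apply hrC
  rw [hmemC]
  -- the commutator `c = r⁻¹ x r x⁻¹`
  have hcH : (r : S)⁻¹ * (x * (r : S) * x⁻¹) ∈ H := H.mul_mem (H.inv_mem r.2) (hxH _ r.2)
  have hcB : (r : S)⁻¹ * (x * (r : S) * x⁻¹) ∈ Subgroup.centralizer (B : Set S) := by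
    rw [Subgroup.mem_centralizer_iff]
    intro b hb
    have hbx : b * x = x * b := (Subgroup.mem_centralizer_iff.mp hxB) b hb
    have hb' : (⟨b, hB hb⟩ : ↥H) ∈ C' := (hmemC _).mpr hbx.symm
    have h1 := (hmemC _).mp ((hrN _).mp hb')
    have h1' : x * ((r : S) * b * (r : S)⁻¹) = ((r : S) * b * (r : S)⁻¹) * x := by
      simpa using h1
    rw [hxinv]
    have hxb : x * b = b * x := hbx.symm
    calc b * ((r : S)⁻¹ * (x * (r : S) * x))
        = (r : S)⁻¹ * (((r : S) * b * (r : S)⁻¹) * x) * (r : S) * x := by group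
      _ = (r : S)⁻¹ * (x * ((r : S) * b * (r : S)⁻¹)) * (r : S) * x := by rw [h1']
      _ = (r : S)⁻¹ * x * (r : S) * (b * x) := by group
      _ = (r : S)⁻¹ * x * (r : S) * (x * b) := by rw [hxb]
      _ = (r : S)⁻¹ * (x * (r : S) * x) * b := by group
  have hcx := (Subgroup.mem_centralizer_iff.mp hxC) _ (Subgroup.mem_inf.mpr ⟨hcH, hcB⟩)
  -- `x` inverts `c`
  have hcc : ((r : S)⁻¹ * (x * (r : S) * x⁻¹)) * ((r : S)⁻¹ * (x * (r : S) * x⁻¹)) = 1 := by
    rw [hxinv] at hcx ⊢
    have h3 : x * ((r : S)⁻¹ * (x * (r : S) * x)) * x = ((r : S)⁻¹ * (x * (r : S) * x))⁻¹ := by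
      have h4 : ((r : S)⁻¹ * (x * (r : S) * x))⁻¹ = x⁻¹ * (r : S)⁻¹ * x⁻¹ * (r : S) := by group
      rw [h4, hxinv]
      calc x * ((r : S)⁻¹ * (x * (r : S) * x)) * x = x * (r : S)⁻¹ * x * (r : S) * (x * x) := by
            group
        _ = x * (r : S)⁻¹ * x * (r : S) := by rw [hx2, mul_one]
    have h5 : x * ((r : S)⁻¹ * (x * (r : S) * x)) * x = (r : S)⁻¹ * (x * (r : S) * x) := by
      rw [← hcx, mul_assoc, hx2, mul_one]
    rw [h3] at h5
    calc ((r : S)⁻¹ * (x * (r : S) * x)) * ((r : S)⁻¹ * (x * (r : S) * x))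
        = ((r : S)⁻¹ * (x * (r : S) * x)) * ((r : S)⁻¹ * (x * (r : S) * x))⁻¹ := by rw [h5]
      _ = 1 := mul_inv_cancel _
  have hc1 := eq_one_of_mul_self_of_odd H hodd hcH hcc
  have h6 : x * (r : S) * x⁻¹ = (r : S) := by
    have h7 := congrArg (fun z => (r : S) * z) hc1
    simpa using h7
  calc x * (r : S) = x * (r : S) * x⁻¹ * x := by simp
    _ = (r : S) * x := by rw [h6]

/-- **Existence of an invariant subgroup of prime order.**  Let `I` be an elementary abelian
`2`-subgroup of `S` normalising the nilpotent subgroup `H` of odd order, and `k ∈ I` an element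
not centralising `H`.  Then `H` has an `I`-invariant subgroup of prime order not centralised by
`k`. -/
theorem exists_prime_invariant {S : Type u} [Group S] [Finite S] (I : Subgroup S)
    (hI2 : ∀ t ∈ I, t * t = 1) (hIc : ∀ s ∈ I, ∀ t ∈ I, s * t = t * s) (k : S) (hk : k ∈ I) :
    ∀ (n : ℕ) (H : Subgroup S), Nat.card H = n → (∀ t ∈ I, ∀ x ∈ H, t * x * t⁻¹ ∈ H) →
      Group.IsNilpotent ↥H → Odd (Nat.card H) → k ∉ Subgroup.centralizer (H : Set S) →
      ∃ A : Subgroup S, A ≤ H ∧ (Nat.card A).Prime ∧ (∀ t ∈ I, ∀ x ∈ A, t * x * t⁻¹ ∈ A) ∧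
        k ∉ Subgroup.centralizer (A : Set S) := by
  intro n
  induction n using Nat.strong_induction_on with
  | _ n ih =>
    intro H hn hH hnil hodd hkH
    have hkinv : k⁻¹ = k := inv_eq_self_of_mul_self (hI2 k hk)
    -- a proper invariant subgroup with nontrivial action suffices
    have hsub : ∀ M : Subgroup S, M ≤ H → M ≠ H → (∀ t ∈ I, ∀ x ∈ M, t * x * t⁻¹ ∈ M) →
        k ∉ Subgroup.centralizer (M : Set S) →
        ∃ A : Subgroup S, A ≤ H ∧ (Nat.card A).Prime ∧ (∀ t ∈ I, ∀ x ∈ A, t * x * t⁻¹ ∈ A) ∧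
          k ∉ Subgroup.centralizer (A : Set S) := by
      intro M hMH hMne hMI hkM
      have hlt : Nat.card M < n := by
        rw [← hn]
        by_contra hge
        exact hMne (Subgroup.eq_of_le_of_card_ge hMH (not_lt.mp hge))
      have hMnil : Group.IsNilpotent ↥M :=
        (Group.isNilpotent_congr (Subgroup.subgroupOfEquivOfLe hMH)).mp inferInstance
      have hModd : Odd (Nat.card M) := Odd.of_dvd_nat hodd (Subgroup.card_dvd_of_le hMH)
      obtain ⟨A, hAM, hA⟩ := ih _ hlt M rfl hMI hMnil hModd hkM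
      exact ⟨A, hAM.trans hMH, hA⟩
    -- Step 1: the subgroup generated by the elements `x⁻¹ (k x k⁻¹)`
    obtain ⟨H0, hH0⟩ : ∃ H0 : Subgroup S,
        H0 = Subgroup.closure {c : S | ∃ x ∈ H, c = x⁻¹ * (k * x * k⁻¹)} := ⟨_, rfl⟩
    have hH0H : H0 ≤ H := by
      rw [hH0, Subgroup.closure_le]
      rintro c ⟨x, hx, rfl⟩
      exact H.mul_mem (H.inv_mem hx) (hH k hk x hx)
    have hH0I : ∀ t ∈ I, ∀ x ∈ H0, t * x * t⁻¹ ∈ H0 := by
      intro t ht
      have hle : H0 ≤ H0.comap (MulAut.conj t).toMonoidHom := by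
        rw [hH0, Subgroup.closure_le]
        rintro c ⟨x, hx, rfl⟩
        show MulAut.conj t (x⁻¹ * (k * x * k⁻¹)) ∈ Subgroup.closure _
        apply Subgroup.subset_closure
        refine ⟨t * x * t⁻¹, hH t ht x hx, ?_⟩
        rw [MulAut.conj_apply]
        have hkt : t * k = k * t := hIc t ht k hk
        have hkt' : t * k⁻¹ = k⁻¹ * t := by rw [hkinv]; exact hkt
        have h1 : t * k * t⁻¹ = k := by rw [hkt]; simp
        have h2 : t * k⁻¹ * t⁻¹ = k⁻¹ := by rw [hkt']; simp
        calc t * (x⁻¹ * (k * x * k⁻¹)) * t⁻¹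
            = (t * x * t⁻¹)⁻¹ * ((t * k * t⁻¹) * (t * x * t⁻¹) * (t * k⁻¹ * t⁻¹)) := by group
          _ = (t * x * t⁻¹)⁻¹ * (k * (t * x * t⁻¹) * k⁻¹) := by rw [h1, h2]
      intro x hx
      exact hle hx
    obtain ⟨x0, hx0H, hx0⟩ : ∃ x ∈ H, k * x * k⁻¹ ≠ x := by
      by_contra hcon
      apply hkH
      rw [mem_centralizer_iff_conj]
      intro a ha
      by_contra h
      exact hcon ⟨a, ha, h⟩
    have hkH0 : k ∉ Subgroup.centralizer (H0 : Set S) := by
      intro hcen
      rw [mem_centralizer_iff_conj] at hcen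
      have hc0 : x0⁻¹ * (k * x0 * k⁻¹) ∈ H0 := by
        rw [hH0]
        exact Subgroup.subset_closure ⟨x0, hx0H, rfl⟩
      have h1 := hcen _ hc0
      have h2 : k * (x0⁻¹ * (k * x0 * k⁻¹)) * k⁻¹ = (x0⁻¹ * (k * x0 * k⁻¹))⁻¹ := by
        rw [hkinv]
        have h3 : (x0⁻¹ * (k * x0 * k))⁻¹ = k⁻¹ * x0⁻¹ * k⁻¹ * x0 := by group
        rw [h3, hkinv]
        calc k * (x0⁻¹ * (k * x0 * k)) * k = k * x0⁻¹ * k * x0 * (k * k) := by group
          _ = k * x0⁻¹ * k * x0 := by rw [hI2 k hk, mul_one]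
      rw [h2] at h1
      have h3 : (x0⁻¹ * (k * x0 * k⁻¹)) * (x0⁻¹ * (k * x0 * k⁻¹)) = 1 := by
        have h4 := congrArg (fun z => (x0⁻¹ * (k * x0 * k⁻¹)) * z) h1
        simp only [mul_inv_cancel] at h4
        exact h4.symm
      have h4 := eq_one_of_mul_self_of_odd H hodd (hH0H hc0) h3
      apply hx0
      have h5 := congrArg (fun z => x0 * z) h4
      simpa using h5
    by_cases hH0ne : H0 ≠ H
    · exact hsub H0 hH0H hH0ne hH0I hkH0
    · rw [not_not] at hH0ne
      have hgen : ∀ N : Subgroup S, (∀ x ∈ H, x⁻¹ * (k * x * k⁻¹) ∈ N) → H ≤ N := by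
        intro N hN
        rw [← hH0ne, hH0, Subgroup.closure_le]
        rintro c ⟨x, hx, rfl⟩
        exact hN x hx
      -- Step 2: the action on the abelianization
      have hnt : Nontrivial ↥H := by
        rw [Subgroup.nontrivial_iff_ne_bot]
        intro hbot
        apply hkH
        rw [mem_centralizer_iff_conj]
        intro a ha
        rw [hbot, Subgroup.mem_bot] at ha
        subst ha
        simp
      have hcomm_lt : commutator ↥H < ⊤ := Group.IsSolvable.commutator_lt_top_of_nontrivial ↥H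
      have hH' : ∀ t ∈ I, ∀ x ∈ H, t⁻¹ * x * t ∈ H := by
        intro t ht x hx
        have h1 := hH t⁻¹ (I.inv_mem ht) x hx
        simpa using h1
      obtain ⟨κ, hκ⟩ : ∃ κ : ↥I → (↥H ≃* ↥H), ∀ (t : ↥I) (x : ↥H),
          ((κ t x : ↥H) : S) = t * x * (t : S)⁻¹ :=
        ⟨fun t => conjEquiv H t (hH t t.2) (hH' t t.2), fun t x => rfl⟩
      obtain ⟨φ, hφ⟩ : ∃ φ : ↥I → (Abelianization ↥H ≃* Abelianization ↥H), ∀ (t : ↥I) (x : ↥H),
          φ t (Abelianization.of x) = Abelianization.of (κ t x) :=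
        ⟨fun t => (κ t).abelianizationCongr, fun t x => abelianizationCongr_of _ _⟩
      have hsurj : ∀ v : Abelianization ↥H, ∃ x : ↥H, Abelianization.of x = v := by
        intro v
        obtain ⟨x, hx⟩ := QuotientGroup.mk_surjective (s := commutator ↥H) v
        exact ⟨x, hx⟩
      have hcomm : ∀ s t v, φ s (φ t v) = φ t (φ s v) := by
        intro s t v
        obtain ⟨x, rfl⟩ := hsurj v
        rw [hφ, hφ, hφ, hφ]
        congr 1
        apply Subtype.ext
        rw [hκ, hκ, hκ, hκ]
        have hst : (s : S) * t = t * s := hIc s s.2 t t.2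
        calc (s : S) * (t * x * (t : S)⁻¹) * (s : S)⁻¹ = (s * t) * x * ((s : S) * t)⁻¹ := by group
          _ = (t * s) * x * ((t : S) * s)⁻¹ := by rw [hst]
          _ = t * (s * x * (s : S)⁻¹) * (t : S)⁻¹ := by group
      have hinv : ∀ t v, φ t (φ t v) = v := by
        intro t v
        obtain ⟨x, rfl⟩ := hsurj v
        rw [hφ, hφ]
        congr 1
        apply Subtype.ext
        rw [hκ, hκ]
        have ht2 := hI2 t t.2
        calc (t : S) * (t * x * (t : S)⁻¹) * (t : S)⁻¹ = (t * t) * x * ((t : S) * t)⁻¹ := by group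
          _ = x := by rw [ht2]; simp
      have hodd' : Odd (Nat.card (Abelianization ↥H)) :=
        Odd.of_dvd_nat hodd (Subgroup.card_quotient_dvd_card _)
      have hk' : ∃ v, φ ⟨k, hk⟩ v ≠ v := by
        by_contra hall
        have hall' : ∀ v, φ ⟨k, hk⟩ v = v := by
          intro v
          by_contra h
          exact hall ⟨v, h⟩
        have hle : H ≤ (commutator ↥H).map H.subtype := by
          apply hgen
          intro x hx
          refine ⟨(⟨x, hx⟩ : ↥H)⁻¹ * κ ⟨k, hk⟩ ⟨x, hx⟩, ?_, by simp [hκ]⟩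
          rw [SetLike.mem_coe, ← Abelianization.ker_of, MonoidHom.mem_ker, map_mul, map_inv,
            ← hφ, hall']
          exact inv_mul_cancel _
        apply hcomm_lt.ne
        rw [eq_top_iff]
        intro g _
        obtain ⟨g', hg', hgg'⟩ := hle g.2
        have h1 : g' = g := Subtype.ext hgg'
        rw [← h1]
        exact hg'
      obtain ⟨L, hLp, hLinv, v, hvL, hv⟩ :=
        exists_prime_invariant_of_comm hodd' φ hcomm hinv ⟨k, hk⟩ hk'
      -- Step 3: pull back
      obtain ⟨M, hM⟩ : ∃ M : Subgroup S, M = (L.comap Abelianization.of).map H.subtype :=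
        ⟨_, rfl⟩
      have hmemM : ∀ x : S, x ∈ M ↔ ∃ hx : x ∈ H, Abelianization.of (⟨x, hx⟩ : ↥H) ∈ L := by
        intro x
        rw [hM]
        constructor
        · rintro ⟨y, hy, rfl⟩
          exact ⟨y.2, hy⟩
        · rintro ⟨hx, h⟩
          exact ⟨⟨x, hx⟩, h, rfl⟩
      have hMH : M ≤ H := fun x hx => ((hmemM x).mp hx).1
      have hMI : ∀ t ∈ I, ∀ x ∈ M, t * x * t⁻¹ ∈ M := by
        intro t ht x hx
        obtain ⟨hxH, hxL⟩ := (hmemM x).mp hx
        rw [hmemM]
        refine ⟨hH t ht x hxH, ?_⟩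
        have h1 := hLinv ⟨t, ht⟩ _ hxL
        rw [hφ] at h1
        have h2 : κ ⟨t, ht⟩ ⟨x, hxH⟩ = ⟨t * x * t⁻¹, hH t ht x hxH⟩ := Subtype.ext (hκ _ _)
        rw [h2] at h1
        exact h1
      have hkM : k ∉ Subgroup.centralizer (M : Set S) := by
        intro hcen
        rw [mem_centralizer_iff_conj] at hcen
        obtain ⟨y, rfl⟩ := hsurj v
        apply hv
        rw [hφ]
        congr 1
        apply Subtype.ext
        rw [hκ]
        exact hcen _ ((hmemM _).mpr ⟨y.2, hvL⟩)
      by_cases hMne : M ≠ H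
      · exact hsub M hMH hMne hMI hkM
      · rw [not_not] at hMne
        have hLtop : L = ⊤ := by
          rw [eq_top_iff]
          intro w _
          obtain ⟨y, rfl⟩ := hsurj w
          have h1 : (y : S) ∈ M := by
            rw [hMne]
            exact y.2
          exact ((hmemM _).mp h1).2
        have hVp : (Nat.card (Abelianization ↥H)).Prime := by
          rw [← Subgroup.card_top (G := Abelianization ↥H), ← hLtop]
          exact hLp
        have hfact : Fact (Nat.card (Abelianization ↥H)).Prime := ⟨hVp⟩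
        have hcyc : IsCyclic (Abelianization ↥H) :=
          isCyclic_of_prime_card (p := Nat.card (Abelianization ↥H)) rfl
        have hcommH := comm_of_isCyclic_abelianization _ ↥H rfl hcyc
        have hcbot : commutator ↥H = ⊥ := by
          rw [eq_bot_iff, commutator_def, Subgroup.commutator_le]
          intro a _ b _
          rw [Subgroup.mem_bot, commutatorElement_def, hcommH a b]
          group
        have hcard : Nat.card ↥H = Nat.card (Abelianization ↥H) := by
          have h1 := Subgroup.card_eq_card_quotient_mul_card_subgroup (commutator ↥H)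
          have h2 : Nat.card (commutator ↥H) = 1 := by rw [hcbot, Subgroup.card_bot]
          rw [h2, mul_one] at h1
          exact h1
        refine ⟨H, le_rfl, ?_, hH, hkH⟩
        rw [hcard]
        exact hVp

/-- **Faithful abelian subgroup.**  Let `I` be an elementary abelian `2`-subgroup of `S`
normalising the nilpotent subgroup `H` of odd order, and `K ≤ I` with `|K : C_K(H)| = 2 ^ m`.
Then `H` contains `I`-invariant subgroups `f 0, …, f (m-1)` of prime order, pairwise commuting,
with a "dual basis" in `K` (an element not centralising `f i` but centralising the other `f j`),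
such that an element of `K` centralising all `f i` centralises `H`. -/
theorem exists_prime_family {S : Type u} [Group S] [Finite S] (I : Subgroup S)
    (hI2 : ∀ t ∈ I, t * t = 1) (hIc : ∀ s ∈ I, ∀ t ∈ I, s * t = t * s) :
    ∀ (m : ℕ) (H K : Subgroup S), K ≤ I → (∀ t ∈ I, ∀ x ∈ H, t * x * t⁻¹ ∈ H) →
      Group.IsNilpotent ↥H → Odd (Nat.card H) →
      Nat.card K = 2 ^ m * Nat.card (K ⊓ Subgroup.centralizer (H : Set S) : Subgroup S) →
      ∃ f : Fin m → Subgroup S, (∀ i, (Nat.card (f i)).Prime) ∧ (∀ i, f i ≤ H) ∧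
        (∀ i, ∀ t ∈ I, ∀ x ∈ f i, t * x * t⁻¹ ∈ f i) ∧
        (∀ i j, i ≠ j → ∀ a ∈ f i, ∀ b ∈ f j, a * b = b * a) ∧
        (∀ i, ∃ x ∈ K, x ∉ Subgroup.centralizer (f i : Set S) ∧
          ∀ j, j ≠ i → x ∈ Subgroup.centralizer (f j : Set S)) ∧
        (∀ x ∈ K, (∀ i, x ∈ Subgroup.centralizer (f i : Set S)) →
          x ∈ Subgroup.centralizer (H : Set S)) := by
  intro m
  induction m with
  | zero =>
    intro H K hKI hH hnil hodd hcard
    refine ⟨fun i => i.elim0, fun i => i.elim0, fun i => i.elim0, fun i => i.elim0,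
      fun i => i.elim0, fun i => i.elim0, ?_⟩
    intro x hx _
    have h1 : (K ⊓ Subgroup.centralizer (H : Set S) : Subgroup S) = K :=
      Subgroup.eq_of_le_of_card_ge inf_le_left (by rw [hcard]; simp)
    have h2 : x ∈ (K ⊓ Subgroup.centralizer (H : Set S) : Subgroup S) := by
      rw [h1]
      exact hx
    exact (Subgroup.mem_inf.mp h2).2
  | succ m ih =>
    intro H K hKI hH hnil hodd hcard
    obtain ⟨k, hkK, hkH⟩ : ∃ k ∈ K, k ∉ Subgroup.centralizer (H : Set S) := by
      by_contra hcon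
      have h1 : K ≤ (K ⊓ Subgroup.centralizer (H : Set S) : Subgroup S) := fun x hx =>
        Subgroup.mem_inf.mpr ⟨hx, by
          by_contra h
          exact hcon ⟨x, hx, h⟩⟩
      have h2 : (K ⊓ Subgroup.centralizer (H : Set S) : Subgroup S) = K :=
        le_antisymm inf_le_left h1
      rw [h2] at hcard
      have hpos : 0 < Nat.card K := Nat.card_pos
      have h3 : 2 ≤ 2 ^ (m + 1) := by
        calc 2 = 2 ^ 1 := (pow_one 2).symm
          _ ≤ 2 ^ (m + 1) := Nat.pow_le_pow_right (by norm_num) (by omega)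
      nlinarith
    obtain ⟨A1, hA1H, hA1p, hA1I, hkA1⟩ :=
      exists_prime_invariant I hI2 hIc k (hKI hkK) _ H rfl hH hnil hodd hkH
    obtain ⟨K1, hK1⟩ : ∃ K1 : Subgroup S, K1 = K ⊓ Subgroup.centralizer (A1 : Set S) := ⟨_, rfl⟩
    obtain ⟨H1, hH1⟩ : ∃ H1 : Subgroup S, H1 = H ⊓ Subgroup.centralizer (A1 : Set S) := ⟨_, rfl⟩
    have hK1K : K1 ≤ K := hK1 ▸ inf_le_left
    have hH1H : H1 ≤ H := hH1 ▸ inf_le_left
    have hK1A : ∀ x ∈ K1, x ∈ Subgroup.centralizer (A1 : Set S) := fun x hx => by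
      rw [hK1] at hx
      exact (Subgroup.mem_inf.mp hx).2
    have hH1A : ∀ x ∈ H1, x ∈ Subgroup.centralizer (A1 : Set S) := fun x hx => by
      rw [hH1] at hx
      exact (Subgroup.mem_inf.mp hx).2
    -- `K1` has index two in `K`
    have hidx : Nat.card K = 2 * Nat.card K1 := by
      have h2 : (K1.subgroupOf K).index = 2 := by
        rw [Subgroup.index_eq_two_iff]
        refine ⟨⟨k, hkK⟩, ?_⟩
        intro b
        rw [Subgroup.mem_subgroupOf, Subgroup.mem_subgroupOf]
        have hcoe : ((b * ⟨k, hkK⟩ : ↥K) : S) = (b : S) * k := rfl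
        rw [hcoe]
        by_cases hb : (b : S) ∈ K1
        · refine Or.inr ⟨hb, ?_⟩
          intro hbk
          apply hkA1
          have h3 : (b : S)⁻¹ * ((b : S) * k) ∈ Subgroup.centralizer (A1 : Set S) :=
            Subgroup.mul_mem _ (Subgroup.inv_mem _ (hK1A _ hb)) (hK1A _ hbk)
          simpa using h3
        · refine Or.inl ⟨?_, hb⟩
          have hbc : (b : S) ∉ Subgroup.centralizer (A1 : Set S) := fun h => hb (by
            rw [hK1]
            exact Subgroup.mem_inf.mpr ⟨b.2, h⟩)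
          rw [hK1]
          refine Subgroup.mem_inf.mpr ⟨K.mul_mem b.2 hkK, ?_⟩
          exact mul_mem_centralizer_of_not_mem A1 hA1p _ _ (hI2 _ (hKI b.2)) (hI2 _ (hKI hkK))
            (hA1I _ (hKI b.2)) (hA1I _ (hKI hkK)) hbc hkA1
      have h3 := Subgroup.card_mul_index (K1.subgroupOf K)
      rw [h2, Nat.card_congr (Subgroup.subgroupOfEquivOfLe hK1K).toEquiv] at h3
      omega
    -- `H1` is `I`-invariant, nilpotent, of odd order
    have hH1I : ∀ t ∈ I, ∀ x ∈ H1, t * x * t⁻¹ ∈ H1 := by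
      intro t ht x hx
      rw [hH1] at hx ⊢
      obtain ⟨hxH, hxA⟩ := Subgroup.mem_inf.mp hx
      refine Subgroup.mem_inf.mpr ⟨hH t ht x hxH, ?_⟩
      rw [mem_centralizer_iff_conj] at hxA ⊢
      intro a ha
      have htinv : t⁻¹ = t := inv_eq_self_of_mul_self (hI2 t ht)
      have ha' : t⁻¹ * a * t ∈ A1 := by
        have h1 := hA1I t ht a ha
        rw [htinv] at h1 ⊢
        exact h1
      have h1 := hxA _ ha'
      calc t * x * t⁻¹ * a * (t * x * t⁻¹)⁻¹ = t * (x * (t⁻¹ * a * t) * x⁻¹) * t⁻¹ := by group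
        _ = t * (t⁻¹ * a * t) * t⁻¹ := by rw [h1]
        _ = a := by group
    have hH1nil : Group.IsNilpotent ↥H1 :=
      (Group.isNilpotent_congr (Subgroup.subgroupOfEquivOfLe hH1H)).mp inferInstance
    have hH1odd : Odd (Nat.card H1) := Odd.of_dvd_nat hodd (Subgroup.card_dvd_of_le hH1H)
    -- the `A × B` step
    have hAxB : ∀ x ∈ K1, x ∈ Subgroup.centralizer (H1 : Set S) →
        x ∈ Subgroup.centralizer (H : Set S) := by
      intro x hx hxH1
      have hxI := hKI (hK1K hx)
      apply mem_centralizer_of_centralizer_inf H A1 hnil hodd hA1H x (hI2 x hxI) (hH x hxI)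
        (hK1A x hx)
      rw [← hH1]
      exact hxH1
    have hCeq : (K1 ⊓ Subgroup.centralizer (H1 : Set S) : Subgroup S) =
        K ⊓ Subgroup.centralizer (H : Set S) := by
      apply le_antisymm
      · intro x hx
        obtain ⟨h1, h2⟩ := Subgroup.mem_inf.mp hx
        exact Subgroup.mem_inf.mpr ⟨hK1K h1, hAxB x h1 h2⟩
      · intro x hx
        obtain ⟨h1, h2⟩ := Subgroup.mem_inf.mp hx
        refine Subgroup.mem_inf.mpr
          ⟨?_, Subgroup.centralizer_le (show (H1 : Set S) ⊆ H from hH1H) h2⟩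
        rw [hK1]
        exact Subgroup.mem_inf.mpr
          ⟨h1, Subgroup.centralizer_le (show (A1 : Set S) ⊆ H from hA1H) h2⟩
    have hcard1 : Nat.card K1 =
        2 ^ m * Nat.card (K1 ⊓ Subgroup.centralizer (H1 : Set S) : Subgroup S) := by
      rw [hCeq]
      rw [hidx, pow_succ] at hcard
      have h1 : 2 * Nat.card K1 =
          2 * (2 ^ m * Nat.card (K ⊓ Subgroup.centralizer (H : Set S) : Subgroup S)) := by
        rw [hcard]
        ring
      exact Nat.eq_of_mul_eq_mul_left (by norm_num) h1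
    obtain ⟨f', p1, p2, p3, p4, p5, p6⟩ :=
      ih H1 K1 (hK1K.trans hKI) hH1I hH1nil hH1odd hcard1
    -- a dual element for `A1`
    have hdual : ∀ r : ℕ, r ≤ m → ∃ x ∈ K, x ∉ Subgroup.centralizer (A1 : Set S) ∧
        ∀ j : Fin m, j.val < r → x ∈ Subgroup.centralizer (f' j : Set S) := by
      intro r
      induction r with
      | zero =>
        intro _
        exact ⟨k, hkK, hkA1, fun j hj => absurd hj (Nat.not_lt_zero _)⟩
      | succ r ihr =>
        intro hr
        obtain ⟨x, hxK, hxA1, hx⟩ := ihr (by omega)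
        have hrm : r < m := by omega
        by_cases hxr : x ∈ Subgroup.centralizer (f' ⟨r, hrm⟩ : Set S)
        · refine ⟨x, hxK, hxA1, ?_⟩
          intro j hj
          by_cases hjr : j.val < r
          · exact hx j hjr
          · have hj' : j = ⟨r, hrm⟩ := Fin.ext (by simp; omega)
            rw [hj']
            exact hxr
        · obtain ⟨y, hyK1, hyr, hy⟩ := p5 ⟨r, hrm⟩
          refine ⟨x * y, K.mul_mem hxK (hK1K hyK1), ?_, ?_⟩
          · intro hxy
            apply hxA1
            have h3 : (x * y) * y⁻¹ ∈ Subgroup.centralizer (A1 : Set S) :=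
              Subgroup.mul_mem _ hxy (Subgroup.inv_mem _ (hK1A y hyK1))
            simpa using h3
          · intro j hj
            by_cases hjr : j.val < r
            · refine Subgroup.mul_mem _ (hx j hjr) (hy j ?_)
              intro h
              rw [h] at hjr
              simp at hjr
            · have hj' : j = ⟨r, hrm⟩ := Fin.ext (by simp; omega)
              rw [hj']
              exact mul_mem_centralizer_of_not_mem _ (p1 _) x y (hI2 x (hKI hxK))
                (hI2 y (hKI (hK1K hyK1))) (p3 _ x (hKI hxK)) (p3 _ y (hKI (hK1K hyK1))) hxr hyr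
    obtain ⟨x0, hx0K, hx0A1, hx0⟩ := hdual m le_rfl
    refine ⟨Fin.cons A1 f', ?_, ?_, ?_, ?_, ?_, ?_⟩
    · intro i
      rcases Fin.eq_zero_or_eq_succ i with rfl | ⟨j, rfl⟩
      · rw [Fin.cons_zero]
        exact hA1p
      · rw [Fin.cons_succ]
        exact p1 j
    · intro i
      rcases Fin.eq_zero_or_eq_succ i with rfl | ⟨j, rfl⟩
      · rw [Fin.cons_zero]
        exact hA1H
      · rw [Fin.cons_succ]
        exact (p2 j).trans hH1H
    · intro i
      rcases Fin.eq_zero_or_eq_succ i with rfl | ⟨j, rfl⟩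
      · rw [Fin.cons_zero]
        exact hA1I
      · rw [Fin.cons_succ]
        exact p3 j
    · intro i j hij a ha b hb
      rcases Fin.eq_zero_or_eq_succ i with rfl | ⟨i', rfl⟩ <;>
        rcases Fin.eq_zero_or_eq_succ j with rfl | ⟨j', rfl⟩
      · exact absurd rfl hij
      · rw [Fin.cons_zero] at ha
        rw [Fin.cons_succ] at hb
        exact (Subgroup.mem_centralizer_iff.mp (hH1A b (p2 j' hb))) a ha
      · rw [Fin.cons_succ] at ha
        rw [Fin.cons_zero] at hb
        exact ((Subgroup.mem_centralizer_iff.mp (hH1A a (p2 i' ha))) b hb).symm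
      · rw [Fin.cons_succ] at ha hb
        exact p4 i' j' (fun h' => hij (by rw [h'])) a ha b hb
    · intro i
      rcases Fin.eq_zero_or_eq_succ i with rfl | ⟨j, rfl⟩
      · refine ⟨x0, hx0K, ?_, ?_⟩
        · rw [Fin.cons_zero]
          exact hx0A1
        · intro l hl
          rcases Fin.eq_zero_or_eq_succ l with rfl | ⟨l', rfl⟩
          · exact absurd rfl hl
          · rw [Fin.cons_succ]
            exact hx0 l' l'.2
      · obtain ⟨y, hyK1, hyj, hy⟩ := p5 j
        refine ⟨y, hK1K hyK1, ?_, ?_⟩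
        · rw [Fin.cons_succ]
          exact hyj
        · intro l hl
          rcases Fin.eq_zero_or_eq_succ l with rfl | ⟨l', rfl⟩
          · rw [Fin.cons_zero]
            exact hK1A y hyK1
          · rw [Fin.cons_succ]
            exact hy l' (fun h' => hl (by rw [h']))
    · intro x hxK hall
      have hxA1 : x ∈ Subgroup.centralizer (A1 : Set S) := by
        have h1 := hall 0
        rw [Fin.cons_zero] at h1
        exact h1
      have hxK1 : x ∈ K1 := by
        rw [hK1]
        exact Subgroup.mem_inf.mpr ⟨hxK, hxA1⟩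
      apply hAxB x hxK1
      apply p6 x hxK1
      intro j
      have h1 := hall j.succ
      rw [Fin.cons_succ] at h1
      exact h1

end Cfsg.Agent.Lib.helper77
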