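import Mathlib

/-!
# Commuting sets of endomorphisms acting irreducibly

`V` is a finite-dimensional vector space over a field `F` and `s` is a set of pairwise commuting
`F`-linear endomorphisms of `V` whose only common invariant subspaces are `⊥` and `⊤`.  Then the
`F`-algebra generated by `s` is a field `E` and `V` is one-dimensional over it:
* `commute_of_mem_adjoin_of_comm` : elements of `F[s]` commute with elements of `s`;
* `ker_eq_bot_of_mem_adjoin` : a non-zero element of `F[s]` is injective;
* `exists_field_of_comm_irreducible` : an abstract field `E` with an `F`-algebra embedding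
  `ι : E →ₐ[F] End V` onto `F[s]` and an `F`-linear bijection `φ : E ≃ₗ[F] V` with
  `φ (e * f) = ι e (φ f)`.
-/

set_option autoImplicit false

namespace Cfsg.Agent.Lib.helper77

universe u v

section IrredComm

variable {F : Type u} [Field F] {V : Type v} [AddCommGroup V] [Module F V]

/-- Elements of `F[s]` commute with the elements of a commuting set `s`. -/
theorem commute_of_mem_adjoin_of_comm (s : Set (Module.End F V))
    (hcomm : ∀ a ∈ s, ∀ b ∈ s, a * b = b * a) {e : Module.End F V}
    (he : e ∈ Algebra.adjoin F s) {a : Module.End F V} (ha : a ∈ s) : a * e = e * a := by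
  have h1 : Algebra.adjoin F s ≤ Subalgebra.centralizer F s := by
    apply Algebra.adjoin_le
    intro b hb
    rw [SetLike.mem_coe, Subalgebra.mem_centralizer_iff]
    intro c hc
    exact hcomm c hc b hb
  have h2 := h1 he
  rw [Subalgebra.mem_centralizer_iff] at h2
  exact h2 a ha

/-- A non-zero element of `F[s]` is injective when `s` is commuting and irreducible. -/
theorem ker_eq_bot_of_mem_adjoin (s : Set (Module.End F V))
    (hcomm : ∀ a ∈ s, ∀ b ∈ s, a * b = b * a)
    (hirr : ∀ U : Submodule F V, (∀ a ∈ s, ∀ u ∈ U, a u ∈ U) → U = ⊥ ∨ U = ⊤)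
    {e : Module.End F V} (he : e ∈ Algebra.adjoin F s) (h0 : e ≠ 0) : LinearMap.ker e = ⊥ := by
  rcases hirr (LinearMap.ker e) (fun a ha u hu => by
    rw [LinearMap.mem_ker] at hu ⊢
    have h := commute_of_mem_adjoin_of_comm s hcomm he ha
    have h2 : e (a u) = a (e u) := by
      have h3 := congrArg (fun f : Module.End F V => f u) h
      exact h3.symm
    rw [h2, hu, map_zero]) with h | h
  · exact h
  · exact absurd (LinearMap.ker_eq_top.mp h) h0

/-- The algebra generated by a commuting irreducible set of endomorphisms is a field over which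
`V` is one-dimensional. -/
theorem exists_field_of_comm_irreducible [FiniteDimensional F V] [Nontrivial V]
    (s : Set (Module.End F V)) (hcomm : ∀ a ∈ s, ∀ b ∈ s, a * b = b * a)
    (hirr : ∀ U : Submodule F V, (∀ a ∈ s, ∀ u ∈ U, a u ∈ U) → U = ⊥ ∨ U = ⊤) :
    ∃ (E : Type v) (_ : Field E) (_ : Algebra F E) (ι : E →ₐ[F] Module.End F V)
      (φ : E ≃ₗ[F] V), (∀ a ∈ s, a ∈ Set.range ι) ∧ (∀ e, ι e ∈ Algebra.adjoin F s) ∧
        ∀ e f, φ (e * f) = ι e (φ f) := by
  obtain ⟨S, hS⟩ : ∃ S : Subalgebra F (Module.End F V), S = Algebra.adjoin F s := ⟨_, rfl⟩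
  have hmem : ∀ e : S, (e : Module.End F V) ∈ Algebra.adjoin F s := fun e => hS ▸ e.2
  have hmulcomm : ∀ a b : S, a * b = b * a := by
    subst hS
    intro a b
    exact (Algebra.isMulCommutative_adjoin F hcomm).is_comm.comm a b
  let instCR : CommRing S := { (inferInstance : Ring S) with mul_comm := hmulcomm }
  have : NoZeroDivisors S := ⟨by
    intro a b hab
    by_cases ha : a = 0
    · exact Or.inl ha
    · right
      have ha0 : (a : Module.End F V) ≠ 0 := fun h => ha (Subtype.ext h)
      have hk := ker_eq_bot_of_mem_adjoin s hcomm hirr (hmem a) ha0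
      apply Subtype.ext
      apply LinearMap.ext
      intro w
      have h1 : (a : Module.End F V) ((b : Module.End F V) w) = 0 := by
        have h2 := congrArg (fun f : S => (f : Module.End F V) w) hab
        exact h2
      have h3 : (b : Module.End F V) w ∈ LinearMap.ker (a : Module.End F V) := h1
      rw [hk] at h3
      exact (Submodule.mem_bot F).mp h3⟩
  have : IsDomain S := NoZeroDivisors.to_isDomain S
  have : Algebra.IsIntegral F S := Algebra.IsIntegral.of_finite F S
  have hfield : IsField S := isField_of_isIntegral_of_isField' (Field.toIsField F)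
  obtain ⟨v₀, hv₀⟩ := exists_ne (0 : V)
  let φ₀ : S →ₗ[F] V := (LinearMap.applyₗ v₀).comp S.val.toLinearMap
  have hφ₀ : ∀ e : S, φ₀ e = (e : Module.End F V) v₀ := fun e => rfl
  have hinj : Function.Injective φ₀ := by
    rw [← LinearMap.ker_eq_bot, LinearMap.ker_eq_bot']
    intro a ha
    rw [hφ₀] at ha
    by_contra hne
    have ha0 : (a : Module.End F V) ≠ 0 := fun h => hne (Subtype.ext h)
    have hk := ker_eq_bot_of_mem_adjoin s hcomm hirr (hmem a) ha0
    have h3 : v₀ ∈ LinearMap.ker (a : Module.End F V) := ha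
    rw [hk] at h3
    exact hv₀ ((Submodule.mem_bot F).mp h3)
  have hsurj : Function.Surjective φ₀ := by
    rw [← LinearMap.range_eq_top]
    rcases hirr (LinearMap.range φ₀) (by
      rintro a ha u ⟨e, rfl⟩
      have haS : a ∈ S := hS ▸ Algebra.subset_adjoin ha
      exact ⟨⟨a, haS⟩ * e, rfl⟩) with h | h
    · exfalso
      have h1 : v₀ ∈ LinearMap.range φ₀ := ⟨1, rfl⟩
      rw [h] at h1
      exact hv₀ ((Submodule.mem_bot F).mp h1)
    · exact h
  refine ⟨S, hfield.toField, (inferInstance : Algebra F S), S.val,
    LinearEquiv.ofBijective φ₀ ⟨hinj, hsurj⟩, ?_, ?_, ?_⟩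
  · intro a ha
    have haS : a ∈ S := hS ▸ Algebra.subset_adjoin ha
    exact ⟨⟨a, haS⟩, rfl⟩
  · intro e
    exact hmem e
  · intro e f
    rfl

end IrredComm

end Cfsg.Agent.Lib.helper77
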