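import Mathlib

/-!
# Elements of primitive prime order in `GL(V)` and Singer cycles

`V` is a finite-dimensional vector space over a finite field `F` with `q` elements, and `x` is an
`F`-linear endomorphism of `V` with `x ^ r = 1`, `x ≠ 1`, where `r` is a prime such that `q` has
multiplicative order `dim V` modulo `r`.  Then
* `eq_bot_or_eq_top_of_invariant` : `x` acts irreducibly on `V`;
* `injective_of_commute` : a non-zero endomorphism commuting with `x` is injective;
* `mem_adjoin_of_commute` : an endomorphism commuting with `x` lies in `F[x]`.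
-/

set_option autoImplicit false

namespace Cfsg.Agent.Lib.helper77

section Singer

variable {F V : Type*} [Field F] [Fintype F] [AddCommGroup V] [Module F V] [Module.Finite F V]

/-- Fixed-point counting for a self-map of prime order `r`. -/
theorem card_modEq_card_fixedPoints_of_iterate {α : Type*} [Finite α] {r : ℕ} (hr : r.Prime)
    (f : α → α) (hf : f^[r] = id) :
    Nat.card α ≡ Nat.card (Function.fixedPoints f) [MOD r] := by
  classical
  have : Fintype α := Fintype.ofFinite α
  have : Fact r.Prime := ⟨hr⟩
  have h := Equiv.Perm.card_fixedPoints_modEq (f := (f : Function.End α)) (p := r) (n := 1)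
    (by rw [pow_one]; exact hf)
  simpa [Nat.card_eq_fintype_card] using h

theorem card_submodule_eq_pow (W : Submodule F V) :
    Nat.card W = Fintype.card F ^ Module.finrank F W := by
  have : Finite V := Module.finite_of_finite F
  rw [Module.natCard_eq_pow_finrank (K := F) (V := W), Nat.card_eq_fintype_card]

/-- `x` has no non-zero fixed vector. -/
theorem ker_sub_one_eq_bot {r : ℕ} (hr : r.Prime) {x : Module.End F V} (hx : x ^ r = 1)
    (hx1 : x ≠ 1) (hord : orderOf ((Fintype.card F : ℕ) : ZMod r) = Module.finrank F V) :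
    LinearMap.ker (x - 1) = ⊥ := by
  have : Finite V := Module.finite_of_finite F
  have h1 := card_modEq_card_fixedPoints_of_iterate hr (⇑x)
    (by rw [← Module.End.coe_pow, hx]; rfl)
  have h2 : Function.fixedPoints (⇑x) = (LinearMap.ker (x - 1) : Set V) := by
    ext w
    simp [Function.mem_fixedPoints, Function.IsFixedPt, sub_eq_zero]
  rw [h2] at h1
  have hV : Nat.card V = Fintype.card F ^ Module.finrank F V := by
    rw [Module.natCard_eq_pow_finrank (K := F) (V := V), Nat.card_eq_fintype_card]
  have hK := card_submodule_eq_pow (LinearMap.ker (x - 1))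
  have h3 : ((Fintype.card F : ℕ) : ZMod r) ^ Module.finrank F (LinearMap.ker (x - 1)) = 1 := by
    have h := (ZMod.natCast_eq_natCast_iff _ _ _).mpr h1
    rw [hV] at h
    change _ = ((Nat.card (LinearMap.ker (x - 1)) : ℕ) : ZMod r) at h
    rw [hK] at h
    push_cast at h
    rw [← h, ← hord]
    exact pow_orderOf_eq_one _
  have h4 : Module.finrank F V ∣ Module.finrank F (LinearMap.ker (x - 1)) := by
    rw [← hord]
    exact orderOf_dvd_of_pow_eq_one h3
  have h5 : Module.finrank F (LinearMap.ker (x - 1)) ≤ Module.finrank F V := Submodule.finrank_le _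
  rcases Nat.eq_zero_or_pos (Module.finrank F (LinearMap.ker (x - 1))) with h0 | hpos
  · exact Submodule.finrank_eq_zero.mp h0
  · exfalso
    have h6 : Module.finrank F (LinearMap.ker (x - 1)) = Module.finrank F V :=
      le_antisymm h5 (Nat.le_of_dvd hpos h4)
    have h7 : LinearMap.ker (x - 1) = ⊤ := Submodule.eq_top_of_finrank_eq h6
    apply hx1
    have h8 : x - 1 = 0 := LinearMap.ker_eq_top.mp h7
    exact sub_eq_zero.mp h8

/-- `x` acts irreducibly: an `x`-invariant subspace is `⊥` or `⊤`. -/
theorem eq_bot_or_eq_top_of_invariant {r : ℕ} (hr : r.Prime) {x : Module.End F V}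
    (hx : x ^ r = 1) (hx1 : x ≠ 1)
    (hord : orderOf ((Fintype.card F : ℕ) : ZMod r) = Module.finrank F V)
    (W : Submodule F V) (hW : ∀ w ∈ W, x w ∈ W) : W = ⊥ ∨ W = ⊤ := by
  have : Finite V := Module.finite_of_finite F
  have hker := ker_sub_one_eq_bot hr hx hx1 hord
  let f : W → W := fun w => ⟨x w, hW w w.2⟩
  have hiter : ∀ (k : ℕ) (w : W), ((f^[k] w : W) : V) = (x ^ k) w := by
    intro k
    induction k with
    | zero => intro w; simp
    | succ k ih =>
      intro w
      rw [Function.iterate_succ_apply', pow_succ']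
      simp [f, ih]
  have hf : f^[r] = id := by
    funext w
    apply Subtype.ext
    rw [hiter, hx]
    simp
  have h1 := card_modEq_card_fixedPoints_of_iterate hr f hf
  have h2 : Function.fixedPoints f = {0} := by
    ext w
    simp only [Function.mem_fixedPoints, Function.IsFixedPt, Set.mem_singleton_iff]
    constructor
    · intro hw
      have h3 : x (w : V) = w := congrArg Subtype.val hw
      have h4 : (w : V) ∈ LinearMap.ker (x - 1) := by
        simp [h3]
      rw [hker] at h4
      exact Subtype.ext (by simpa using h4)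
    · rintro rfl
      apply Subtype.ext
      simp [f]
  rw [h2] at h1
  have h3 : ((Fintype.card F : ℕ) : ZMod r) ^ Module.finrank F W = 1 := by
    have h := (ZMod.natCast_eq_natCast_iff _ _ _).mpr h1
    rw [card_submodule_eq_pow W] at h
    simpa using h
  have h4 : Module.finrank F V ∣ Module.finrank F W := by
    rw [← hord]
    exact orderOf_dvd_of_pow_eq_one h3
  rcases Nat.eq_zero_or_pos (Module.finrank F W) with h0 | hpos
  · exact Or.inl (Submodule.finrank_eq_zero.mp h0)
  · exact Or.inr (Submodule.eq_top_of_finrank_eq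
      (le_antisymm (Submodule.finrank_le _) (Nat.le_of_dvd hpos h4)))

/-- A non-zero endomorphism commuting with `x` is injective. -/
theorem injective_of_commute {r : ℕ} (hr : r.Prime) {x : Module.End F V}
    (hx : x ^ r = 1) (hx1 : x ≠ 1)
    (hord : orderOf ((Fintype.card F : ℕ) : ZMod r) = Module.finrank F V)
    {y : Module.End F V} (hy : y * x = x * y) (hy0 : y ≠ 0) : Function.Injective y := by
  have hinv : ∀ w ∈ LinearMap.ker y, x w ∈ LinearMap.ker y := by
    intro w hw
    rw [LinearMap.mem_ker] at hw ⊢
    have h1 : y (x w) = x (y w) := by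
      have h2 := congrArg (fun z : Module.End F V => z w) hy
      simpa using h2
    rw [h1, hw, map_zero]
  rcases eq_bot_or_eq_top_of_invariant hr hx hx1 hord _ hinv with h | h
  · exact LinearMap.ker_eq_bot.mp h
  · exact absurd (LinearMap.ker_eq_top.mp h) hy0

omit [Fintype F] [Module.Finite F V] in
theorem nontrivial_of_ne_one {x : Module.End F V} (hx1 : x ≠ 1) : Nontrivial V := by
  by_contra h
  rw [not_nontrivial_iff_subsingleton] at h
  exact hx1 (LinearMap.ext fun w => Subsingleton.elim _ _)

omit [Fintype F] [Module.Finite F V] in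
/-- Elements of `F[x]` commute with `x`. -/
theorem commute_of_mem_adjoin {x a : Module.End F V}
    (ha : a ∈ Algebra.adjoin F ({x} : Set (Module.End F V))) : a * x = x * a :=
  (Algebra.commute_of_mem_adjoin_self ha).eq.symm

/-- For `v ≠ 0`, every vector is of the form `a v` with `a ∈ F[x]`. -/
theorem exists_adjoin_apply_eq {r : ℕ} (hr : r.Prime) {x : Module.End F V}
    (hx : x ^ r = 1) (hx1 : x ≠ 1)
    (hord : orderOf ((Fintype.card F : ℕ) : ZMod r) = Module.finrank F V)
    {v : V} (hv : v ≠ 0) (w : V) :
    ∃ a ∈ Algebra.adjoin F ({x} : Set (Module.End F V)), a v = w := by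
  have hxE : x ∈ Algebra.adjoin F ({x} : Set (Module.End F V)) :=
    Algebra.subset_adjoin (Set.mem_singleton x)
  let W : Submodule F V := Submodule.map (LinearMap.applyₗ v)
    (Subalgebra.toSubmodule (Algebra.adjoin F ({x} : Set (Module.End F V))))
  have hW : ∀ w ∈ W, x w ∈ W := by
    rintro w ⟨a, ha, rfl⟩
    exact ⟨x * a, Subalgebra.mul_mem _ hxE ha, rfl⟩
  have hvW : v ∈ W := ⟨1, Subalgebra.one_mem _, rfl⟩
  have hWtop : W = ⊤ := by
    rcases eq_bot_or_eq_top_of_invariant hr hx hx1 hord W hW with h | h
    · rw [h] at hvW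
      exact absurd ((Submodule.mem_bot F).mp hvW) hv
    · exact h
  have hw : w ∈ W := by
    rw [hWtop]
    trivial
  obtain ⟨a, ha, hav⟩ := hw
  exact ⟨a, ha, hav⟩

/-- Every endomorphism commuting with `x` is a polynomial in `x`. -/
theorem mem_adjoin_of_commute {r : ℕ} (hr : r.Prime) {x : Module.End F V}
    (hx : x ^ r = 1) (hx1 : x ≠ 1)
    (hord : orderOf ((Fintype.card F : ℕ) : ZMod r) = Module.finrank F V)
    {y : Module.End F V} (hy : y * x = x * y) :
    y ∈ Algebra.adjoin F ({x} : Set (Module.End F V)) := by
  have hV : Nontrivial V := nontrivial_of_ne_one hx1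
  obtain ⟨v, hv⟩ := exists_ne (0 : V)
  obtain ⟨a, ha, hav⟩ := exists_adjoin_apply_eq hr hx hx1 hord hv (y v)
  have hax : a * x = x * a := commute_of_mem_adjoin ha
  have hsub : (y - a) * x = x * (y - a) := by rw [sub_mul, mul_sub, hy, hax]
  by_contra hne
  have hne0 : y - a ≠ 0 := fun h => hne (by rw [sub_eq_zero.mp h]; exact ha)
  have hinj := injective_of_commute hr hx hx1 hord hsub hne0
  have h0 : (y - a) v = 0 := by simp [hav]
  exact hv (hinj (by rw [h0, map_zero]))

/-- A non-zero element of `F[x]` is bijective. -/
theorem bijective_of_mem_adjoin {r : ℕ} (hr : r.Prime) {x : Module.End F V}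
    (hx : x ^ r = 1) (hx1 : x ≠ 1)
    (hord : orderOf ((Fintype.card F : ℕ) : ZMod r) = Module.finrank F V)
    {a : Module.End F V} (ha : a ∈ Algebra.adjoin F ({x} : Set (Module.End F V)))
    (ha0 : a ≠ 0) : Function.Bijective a := by
  have hinj := injective_of_commute hr hx hx1 hord (commute_of_mem_adjoin ha) ha0
  exact ⟨hinj, LinearMap.injective_iff_surjective.mp hinj⟩

/-- Evaluation at a non-zero vector is a linear bijection from `F[x]` onto `V`. -/
noncomputable def adjoinEval (x : Module.End F V) (v : V) :
    Algebra.adjoin F ({x} : Set (Module.End F V)) →ₗ[F] V :=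
  (LinearMap.applyₗ v).comp (Subalgebra.val _).toLinearMap

omit [Fintype F] [Module.Finite F V] in
theorem adjoinEval_apply (x : Module.End F V) (v : V)
    (a : Algebra.adjoin F ({x} : Set (Module.End F V))) :
    adjoinEval x v a = (a : Module.End F V) v := rfl

theorem adjoinEval_bijective {r : ℕ} (hr : r.Prime) {x : Module.End F V}
    (hx : x ^ r = 1) (hx1 : x ≠ 1)
    (hord : orderOf ((Fintype.card F : ℕ) : ZMod r) = Module.finrank F V)
    {v : V} (hv : v ≠ 0) : Function.Bijective (adjoinEval x v) := by
  constructor
  · rw [← LinearMap.ker_eq_bot, LinearMap.ker_eq_bot']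
    intro a ha
    rw [adjoinEval_apply] at ha
    by_contra hne
    have hne0 : (a : Module.End F V) ≠ 0 := fun h => hne (Subtype.ext h)
    have hinj := (bijective_of_mem_adjoin hr hx hx1 hord a.2 hne0).1
    exact hv (hinj (by rw [ha, map_zero]))
  · intro w
    obtain ⟨a, ha, hav⟩ := exists_adjoin_apply_eq hr hx hx1 hord hv w
    exact ⟨⟨a, ha⟩, hav⟩

theorem card_adjoin {r : ℕ} (hr : r.Prime) {x : Module.End F V}
    (hx : x ^ r = 1) (hx1 : x ≠ 1)
    (hord : orderOf ((Fintype.card F : ℕ) : ZMod r) = Module.finrank F V) :
    Nat.card (Algebra.adjoin F ({x} : Set (Module.End F V))) = Nat.card V := by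
  have hV : Nontrivial V := nontrivial_of_ne_one hx1
  obtain ⟨v, hv⟩ := exists_ne (0 : V)
  exact Nat.card_eq_of_bijective _ (adjoinEval_bijective hr hx hx1 hord hv)

/-- A unit commuting with the unit `u` lies in `F[u]`. -/
theorem val_mem_adjoin_of_mem_centralizer {r : ℕ} (hr : r.Prime) {u : (Module.End F V)ˣ}
    (hu : (u : Module.End F V) ^ r = 1) (hu1 : (u : Module.End F V) ≠ 1)
    (hord : orderOf ((Fintype.card F : ℕ) : ZMod r) = Module.finrank F V)
    {g : (Module.End F V)ˣ} (hg : g ∈ Subgroup.centralizer ({u} : Set (Module.End F V)ˣ)) :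
    (g : Module.End F V) ∈ Algebra.adjoin F ({(u : Module.End F V)} : Set (Module.End F V)) := by
  apply mem_adjoin_of_commute hr hu hu1 hord
  rw [Subgroup.mem_centralizer_iff] at hg
  have h1 := hg u (Set.mem_singleton u)
  have h2 := congrArg Units.val h1
  simpa using h2.symm

open scoped IsMulCommutative in
/-- The centralizer of `u` in the unit group of `End_F(V)` is cyclic. -/
theorem isCyclic_centralizer_units {r : ℕ} (hr : r.Prime) {u : (Module.End F V)ˣ}
    (hu : (u : Module.End F V) ^ r = 1) (hu1 : (u : Module.End F V) ≠ 1)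
    (hord : orderOf ((Fintype.card F : ℕ) : ZMod r) = Module.finrank F V) :
    IsCyclic (Subgroup.centralizer ({u} : Set (Module.End F V)ˣ)) := by
  have hV : Nontrivial V := nontrivial_of_ne_one hu1
  have : Finite V := Module.finite_of_finite F
  have hnontriv : Nontrivial (Algebra.adjoin F ({(u : Module.End F V)} : Set (Module.End F V))) :=
    ⟨⟨0, 1, fun h => by
      have h1 : (0 : Module.End F V) = 1 := congrArg Subtype.val h
      obtain ⟨v, hv⟩ := exists_ne (0 : V)
      exact hv (by simpa using (congrArg (fun z : Module.End F V => z v) h1).symm)⟩⟩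
  have hnzd : NoZeroDivisors (Algebra.adjoin F ({(u : Module.End F V)} : Set (Module.End F V))) :=
    ⟨by
      intro a b hab
      by_contra hcon
      rw [not_or] at hcon
      obtain ⟨ha, hb⟩ := hcon
      have ha0 : (a : Module.End F V) ≠ 0 := fun h => ha (Subtype.ext h)
      have hinj := (bijective_of_mem_adjoin hr hu hu1 hord a.2 ha0).1
      apply hb
      apply Subtype.ext
      apply LinearMap.ext
      intro w
      apply hinj
      have h1 : (a : Module.End F V) * (b : Module.End F V) = 0 := congrArg Subtype.val hab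
      have h2 := congrArg (fun z : Module.End F V => z w) h1
      simpa using h2⟩
  have hdom : IsDomain (Algebra.adjoin F ({(u : Module.End F V)} : Set (Module.End F V))) :=
    NoZeroDivisors.to_isDomain _
  let f : Subgroup.centralizer ({u} : Set (Module.End F V)ˣ) →*
      Algebra.adjoin F ({(u : Module.End F V)} : Set (Module.End F V)) :=
    { toFun := fun g => ⟨((g : (Module.End F V)ˣ) : Module.End F V),
        val_mem_adjoin_of_mem_centralizer hr hu hu1 hord g.2⟩
      map_one' := rfl
      map_mul' := fun a b => rfl }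
  have hf : Function.Injective f := by
    intro a b hab
    apply Subtype.ext
    apply Units.ext
    exact congrArg Subtype.val hab
  have hfin : Finite (Module.End F V) := Module.finite_of_finite F
  exact isCyclic_of_injective_ringHom f hf

/-- The centralizer of `u` in the unit group of `End_F(V)` has order `q ^ n - 1`. -/
theorem card_centralizer_units {r : ℕ} (hr : r.Prime) {u : (Module.End F V)ˣ}
    (hu : (u : Module.End F V) ^ r = 1) (hu1 : (u : Module.End F V) ≠ 1)
    (hord : orderOf ((Fintype.card F : ℕ) : ZMod r) = Module.finrank F V) :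
    Nat.card (Subgroup.centralizer ({u} : Set (Module.End F V)ˣ)) =
      Fintype.card F ^ Module.finrank F V - 1 := by
  have hV : Nontrivial V := nontrivial_of_ne_one hu1
  have : Finite V := Module.finite_of_finite F
  obtain ⟨v, hv⟩ := exists_ne (0 : V)
  let φ : Subgroup.centralizer ({u} : Set (Module.End F V)ˣ) → {w : V // w ≠ 0} := fun g =>
    ⟨((g : (Module.End F V)ˣ) : Module.End F V) v, by
      intro h
      have h1 : (((g : (Module.End F V)ˣ)⁻¹ : (Module.End F V)ˣ) : Module.End F V)
          (((g : (Module.End F V)ˣ) : Module.End F V) v) = v := by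
        rw [← Module.End.mul_apply, Units.inv_mul]
        rfl
      rw [h, map_zero] at h1
      exact hv h1.symm⟩
  have hφ : Function.Bijective φ := by
    constructor
    · intro a b hab
      have h1 : ((a : (Module.End F V)ˣ) : Module.End F V) v =
          ((b : (Module.End F V)ˣ) : Module.End F V) v := congrArg Subtype.val hab
      have ha := val_mem_adjoin_of_mem_centralizer hr hu hu1 hord a.2
      have hb := val_mem_adjoin_of_mem_centralizer hr hu hu1 hord b.2
      have h2 := (adjoinEval_bijective hr hu hu1 hord hv).1 (a₁ := ⟨_, ha⟩) (a₂ := ⟨_, hb⟩) h1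
      exact Subtype.ext (Units.ext (congrArg Subtype.val h2))
    · rintro ⟨w, hw⟩
      obtain ⟨a, ha, hav⟩ := exists_adjoin_apply_eq hr hu hu1 hord hv w
      have ha0 : a ≠ 0 := by
        rintro rfl
        exact hw (by simpa using hav.symm)
      have hbij := bijective_of_mem_adjoin hr hu hu1 hord ha ha0
      have hunit : IsUnit a := (Module.End.isUnit_iff a).mpr hbij
      refine ⟨⟨hunit.unit, ?_⟩, ?_⟩
      · rw [Subgroup.mem_centralizer_iff]
        intro h hh
        rw [Set.mem_singleton_iff] at hh
        subst hh
        apply Units.ext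
        simp only [Units.val_mul, IsUnit.unit_spec]
        exact (commute_of_mem_adjoin ha).symm
      · apply Subtype.ext
        simpa [φ] using hav
  rw [Nat.card_eq_of_bijective φ hφ]
  classical
  have : Fintype V := Fintype.ofFinite V
  rw [Nat.card_eq_fintype_card, Fintype.card_subtype_compl, Fintype.card_subtype_eq,
    Module.card_eq_pow_finrank (K := F) (V := V)]

end Singer

end Cfsg.Agent.Lib.helper77
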