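import Mathlib
import Cfsg.Agent.Lib.helper77.Singer

/-!
# Irreducible modules for a cyclic group of prime order over a finite field

`finrank_eq_orderOf_of_irreducible` : if `x` is an endomorphism of the finite-dimensional space `V`
over the finite field `F` with `x ^ r = 1`, `x ≠ 1` (`r` a prime not dividing `#F`), and `x` acts
irreducibly, then `dim V` is the multiplicative order of `#F` modulo `r`.
-/

set_option autoImplicit false

namespace Cfsg.Agent.Lib.helper77

section IrredPrime

open Polynomial

variable {F V : Type*} [Field F] [Fintype F] [AddCommGroup V] [Module F V] [Module.Finite F V]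

omit [Fintype F] [Module.Finite F V] in
/-- An irreducible `x ≠ 1` has no non-zero fixed vector. -/
theorem ker_sub_one_eq_bot_of_irreducible {x : Module.End F V} (hx1 : x ≠ 1)
    (hirr : ∀ W : Submodule F V, (∀ w ∈ W, x w ∈ W) → W = ⊥ ∨ W = ⊤) :
    LinearMap.ker (x - 1) = ⊥ := by
  have hinv : ∀ w ∈ LinearMap.ker (x - 1), x w ∈ LinearMap.ker (x - 1) := by
    intro w hw
    have h1 : x w = w := by
      have h2 : (x - 1) w = 0 := hw
      simpa [sub_eq_zero] using h2
    rw [h1]
    exact hw
  rcases hirr _ hinv with h | h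
  · exact h
  · exact absurd (sub_eq_zero.mp (LinearMap.ker_eq_top.mp h)) hx1

/-- The order of `#F` modulo `r` divides `dim V`. -/
theorem orderOf_dvd_finrank_of_irreducible {r : ℕ} (hr : r.Prime) {x : Module.End F V}
    (hx : x ^ r = 1) (hx1 : x ≠ 1)
    (hirr : ∀ W : Submodule F V, (∀ w ∈ W, x w ∈ W) → W = ⊥ ∨ W = ⊤) :
    orderOf ((Fintype.card F : ℕ) : ZMod r) ∣ Module.finrank F V := by
  have : Finite V := Module.finite_of_finite F
  have hker := ker_sub_one_eq_bot_of_irreducible hx1 hirr
  have h1 := card_modEq_card_fixedPoints_of_iterate hr (⇑x)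
    (by rw [← Module.End.coe_pow, hx]; rfl)
  have h2 : Function.fixedPoints (⇑x) = {0} := by
    ext w
    simp only [Function.mem_fixedPoints, Function.IsFixedPt, Set.mem_singleton_iff]
    constructor
    · intro hw
      have h3 : w ∈ LinearMap.ker (x - 1) := by simp [hw]
      rw [hker] at h3
      simpa using h3
    · rintro rfl
      simp
  rw [h2] at h1
  have hV : Nat.card V = Fintype.card F ^ Module.finrank F V := by
    rw [Module.natCard_eq_pow_finrank (K := F) (V := V), Nat.card_eq_fintype_card]
  have h3 : ((Fintype.card F : ℕ) : ZMod r) ^ Module.finrank F V = 1 := by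
    have h := (ZMod.natCast_eq_natCast_iff _ _ _).mpr h1
    rw [hV] at h
    simpa using h
  exact orderOf_dvd_of_pow_eq_one h3

omit [Fintype F] [Module.Finite F V] in
/-- If `P(x) = 0` for a polynomial `P ≠ 0` and `x` acts irreducibly on `V ≠ 0`, then
`dim V ≤ deg P`. -/
theorem finrank_le_natDegree_of_irreducible {x : Module.End F V} (hV : Nontrivial V)
    (hirr : ∀ W : Submodule F V, (∀ w ∈ W, x w ∈ W) → W = ⊥ ∨ W = ⊤)
    {P : F[X]} (hP0 : P ≠ 0) (hP : aeval x P = 0) (hdeg : 1 ≤ P.natDegree) :
    Module.finrank F V ≤ P.natDegree := by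
  obtain ⟨v, hv⟩ := exists_ne (0 : V)
  let φ : degreeLT F P.natDegree →ₗ[F] V :=
    ((LinearMap.applyₗ v).comp (aeval x).toLinearMap).comp (degreeLT F P.natDegree).subtype
  have hφ : ∀ f : degreeLT F P.natDegree, φ f = (aeval x (f : F[X])) v := fun f => rfl
  have hmod : ∀ g : F[X], aeval x (g % P) = aeval x g := by
    intro g
    have h1 := EuclideanDomain.div_add_mod g P
    have h2 := congrArg (aeval x) h1
    rw [map_add, map_mul, hP, zero_mul, zero_add] at h2
    exact h2
  have hmem : ∀ g : F[X], g % P ∈ degreeLT F P.natDegree := by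
    intro g
    rw [mem_degreeLT]
    calc (g % P).degree < P.degree := degree_mod_lt g hP0
      _ = (P.natDegree : WithBot ℕ) := degree_eq_natDegree hP0
  have hinv : ∀ w ∈ LinearMap.range φ, x w ∈ LinearMap.range φ := by
    rintro w ⟨f, rfl⟩
    refine ⟨⟨(X * (f : F[X])) % P, hmem _⟩, ?_⟩
    rw [hφ, hφ]
    change (aeval x ((X * (f : F[X])) % P)) v = x ((aeval x (f : F[X])) v)
    rw [hmod, map_mul, aeval_X]
    rfl
  have hvmem : v ∈ LinearMap.range φ := by
    have h1 : (1 : F[X]) ∈ degreeLT F P.natDegree := by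
      rw [mem_degreeLT, degree_one]
      exact_mod_cast hdeg
    refine ⟨⟨1, h1⟩, ?_⟩
    rw [hφ]
    simp
  have htop : LinearMap.range φ = ⊤ := by
    rcases hirr _ hinv with h | h
    · rw [h] at hvmem
      exact absurd ((Submodule.mem_bot F).mp hvmem) hv
    · exact h
  have h1 : Module.finrank F (LinearMap.range φ) ≤ Module.finrank F (degreeLT F P.natDegree) :=
    LinearMap.finrank_range_le φ
  rw [htop, finrank_top] at h1
  have h2 : Module.finrank F (degreeLT F P.natDegree) = P.natDegree := by
    rw [(degreeLTEquiv F P.natDegree).finrank_eq, Module.finrank_fin_fun]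
  rw [h2] at h1
  exact h1

/-- An irreducible module for a cyclic group of prime order `r` over a finite field with `q`
elements, with non-trivial action, has dimension the order of `q` modulo `r`. -/
theorem finrank_eq_orderOf_of_irreducible {r : ℕ} (hr : r.Prime) {x : Module.End F V}
    (hx : x ^ r = 1) (hx1 : x ≠ 1) (hrq : ¬ r ∣ Fintype.card F)
    (hirr : ∀ W : Submodule F V, (∀ w ∈ W, x w ∈ W) → W = ⊥ ∨ W = ⊤) :
    Module.finrank F V = orderOf ((Fintype.card F : ℕ) : ZMod r) := by
  have hfact : Fact r.Prime := ⟨hr⟩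
  have hV : Nontrivial V := nontrivial_of_ne_one hx1
  have hker := ker_sub_one_eq_bot_of_irreducible hx1 hirr
  have hdvd := orderOf_dvd_finrank_of_irreducible hr hx hx1 hirr
  have hnpos : 0 < Module.finrank F V := Module.finrank_pos
  -- the minimal polynomial and an irreducible factor
  have hint : IsIntegral F x := Algebra.IsIntegral.isIntegral x
  have hμ : minpoly F x ∣ X ^ r - 1 := minpoly.dvd F x (by simp [hx])
  obtain ⟨P, hPirr, hPμ⟩ := WfDvdMonoid.exists_irreducible_factor (minpoly.not_isUnit F x)
    (minpoly.ne_zero hint)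
  have hPcyc : P ∣ cyclotomic r F := by
    have h1 : P ∣ cyclotomic r F * (X - 1) := by
      rw [cyclotomic_prime_mul_X_sub_one]
      exact hPμ.trans hμ
    rcases hPirr.prime.dvd_or_dvd h1 with h | h
    · exact h
    · exfalso
      have h2 : Associated P (X - C (1 : F)) := by
        apply hPirr.associated_of_dvd (irreducible_X_sub_C 1)
        simpa using h
      have h3 : (X - C (1 : F)) ∣ minpoly F x := h2.symm.dvd.trans hPμ
      have h4 : (minpoly F x).IsRoot 1 := dvd_iff_isRoot.mp h3
      have h5 := Module.End.hasEigenvalue_of_isRoot h4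
      obtain ⟨w, hw⟩ := h5.exists_hasEigenvector
      have h6 : w ∈ LinearMap.ker (x - 1) := by
        have h7 := hw.apply_eq_smul
        simp [h7]
      rw [hker] at h6
      exact hw.2 (by simpa using h6)
  -- the degree of `P`
  obtain ⟨p, hchar⟩ := CharP.exists F
  obtain ⟨f, hp, hcard⟩ := FiniteField.card F p
  have hpfact : Fact p.Prime := ⟨hp⟩
  have hpr : p.Coprime r := by
    rw [Nat.coprime_primes hp hr]
    rintro rfl
    exact hrq (hcard ▸ dvd_pow_self p f.ne_zero)
  have hdeg := natDegree_of_dvd_cyclotomic_of_irreducible hcard hpr hPcyc hPirr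
  have hdeg' : P.natDegree = orderOf ((Fintype.card F : ℕ) : ZMod r) := by
    rw [hdeg, ← orderOf_units, ZMod.coe_unitOfCoprime, hcard]
  -- `P(x) = 0`
  have hPx : aeval x P = 0 := by
    have hinv : ∀ w ∈ LinearMap.ker (aeval x P), x w ∈ LinearMap.ker (aeval x P) := by
      intro w hw
      rw [LinearMap.mem_ker] at hw ⊢
      have h1 : aeval x P * x = x * aeval x P := by
        have h2 : aeval x (P * X) = aeval x (X * P) := by rw [mul_comm]
        simpa using h2
      have h3 : (aeval x P) (x w) = x ((aeval x P) w) := by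
        have h4 := congrArg (fun z : Module.End F V => z w) h1
        simpa using h4
      rw [h3, hw, map_zero]
    rcases hirr _ hinv with h | h
    · exfalso
      obtain ⟨Q, hQ⟩ := hPμ
      have hQ0 : Q ≠ 0 := by
        rintro rfl
        rw [mul_zero] at hQ
        exact minpoly.ne_zero hint hQ
      have h1 : aeval x P * aeval x Q = 0 := by
        rw [← map_mul, ← hQ, minpoly.aeval]
      have h2 : aeval x Q = 0 := by
        apply LinearMap.ext
        intro w
        have h3 := congrArg (fun z : Module.End F V => z w) h1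
        have h4 : (aeval x P) ((aeval x Q) w) = 0 := by simpa using h3
        have h5 : (aeval x Q) w ∈ LinearMap.ker (aeval x P) := h4
        rw [h] at h5
        simpa using h5
      have h6 : minpoly F x ∣ Q := minpoly.dvd F x h2
      rw [hQ] at h6
      have h7 : P * Q ∣ 1 * Q := by simpa using h6
      have h8 : P ∣ 1 := (mul_dvd_mul_iff_right hQ0).mp h7
      exact hPirr.not_isUnit (isUnit_of_dvd_one h8)
    · exact LinearMap.ker_eq_top.mp h
  have hdegpos : 1 ≤ P.natDegree := by
    rw [hdeg']
    exact Nat.pos_of_dvd_of_pos hdvd hnpos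
  have hle := finrank_le_natDegree_of_irreducible hV hirr hPirr.ne_zero hPx hdegpos
  rw [hdeg'] at hle
  exact le_antisymm hle (Nat.le_of_dvd hnpos hdvd)

end IrredPrime

section IrredPrimeGroup

/-- Additive form: `V` a finite `ZMod q`-module and `T` an additive endomorphism with `T^[p] = id`,
`T ≠ id`, such that the only `T`-invariant subgroups are `⊥` and `⊤`. Then `#V = q ^ ord_p(q)`. -/
theorem card_eq_pow_orderOf_of_irreducible_add {V : Type*} [AddCommGroup V] [Finite V] {p q : ℕ}
    [hqf : Fact q.Prime] [Module (ZMod q) V] (hp : p.Prime) (hpq : q ≠ p) (T : V →+ V)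
    (hT : ∀ v, T^[p] v = v) (hT1 : ∃ v, T v ≠ v)
    (hirr : ∀ W : AddSubgroup V, (∀ w ∈ W, T w ∈ W) → W = ⊥ ∨ W = ⊤) :
    Nat.card V = q ^ orderOf (q : ZMod p) := by
  let S : Module.End (ZMod q) V := T.toZModLinearMap q
  have hS : ∀ v, S v = T v := fun v => rfl
  have hSpow : ∀ (k : ℕ) (v : V), (S ^ k) v = T^[k] v := by
    intro k
    induction k with
    | zero => intro v; simp
    | succ k ih =>
      intro v
      rw [pow_succ', Module.End.mul_apply, ih, hS, Function.iterate_succ_apply']
  have hSp : S ^ p = 1 := LinearMap.ext fun v => by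
    rw [hSpow, hT]
    rfl
  have hS1 : S ≠ 1 := by
    intro h
    obtain ⟨v, hv⟩ := hT1
    apply hv
    have h1 := congrArg (fun R : Module.End (ZMod q) V => R v) h
    exact h1
  have hirrS : ∀ W : Submodule (ZMod q) V, (∀ w ∈ W, S w ∈ W) → W = ⊥ ∨ W = ⊤ := by
    intro W hW
    rcases hirr W.toAddSubgroup hW with h | h
    · left
      exact Submodule.toAddSubgroup_injective (by rw [h]; rfl)
    · right
      exact Submodule.toAddSubgroup_injective (by rw [h]; rfl)
  have hcardq : ¬ p ∣ Fintype.card (ZMod q) := by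
    rw [ZMod.card]
    intro h
    exact hpq ((Nat.prime_dvd_prime_iff_eq hp hqf.out).mp h).symm
  have hfin := finrank_eq_orderOf_of_irreducible hp hSp hS1 hcardq hirrS
  have h1 : Nat.card V = Nat.card (ZMod q) ^ Module.finrank (ZMod q) V :=
    Module.natCard_eq_pow_finrank (K := ZMod q) (V := V)
  rw [hfin, Nat.card_eq_fintype_card (α := ZMod q), ZMod.card] at h1
  exact h1

/-- Multiplicative form, for a finite commutative group `A` of exponent `q` with an endomorphism
`c` such that `c^[p] = id`, `c ≠ id` and the only `c`-invariant subgroups are `⊥` and `⊤`. -/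
theorem card_eq_pow_orderOf_of_irreducible_comm {A : Type*} [CommGroup A] [Finite A] {p q : ℕ}
    (hp : p.Prime) (hq : q.Prime) (hpq : q ≠ p) (hexp : ∀ a : A, a ^ q = 1) (c : A →* A)
    (hc : ∀ a, c^[p] a = a) (hc1 : ∃ a, c a ≠ a)
    (hirr : ∀ B : Subgroup A, (∀ b ∈ B, c b ∈ B) → B = ⊥ ∨ B = ⊤) :
    Nat.card A = q ^ orderOf (q : ZMod p) := by
  have hmod : ∀ v : Additive A, q • v = 0 := fun v =>
    congrArg Additive.ofMul (hexp (Additive.toMul v))
  have key := @card_eq_pow_orderOf_of_irreducible_add (Additive A) _ _ p q ⟨hq⟩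
    (AddCommGroup.zmodModule hmod) hp hpq (MonoidHom.toAdditive c) hc hc1 (by
      intro W hW
      rcases hirr (AddSubgroup.toSubgroup' W) hW with h | h
      · left
        exact AddSubgroup.toSubgroup'.injective (h.trans (map_bot _).symm)
      · right
        exact AddSubgroup.toSubgroup'.injective (h.trans (map_top _).symm))
  exact key

/-- A subgroup whose elements commute, as a commutative group. -/
@[reducible] def commGroupOfComm {G : Type*} [Group G] (A : Subgroup G)
    (h : ∀ a ∈ A, ∀ b ∈ A, a * b = b * a) : CommGroup A :=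
  { (inferInstance : Group A) with mul_comm := fun a b => Subtype.ext (h a a.2 b b.2) }

/-- Group form: a normal elementary abelian `q`-subgroup `A` on which an element `x` with
`x ^ p = 1` acts non-trivially and irreducibly (by conjugation) has order `q ^ ord_p(q)`. -/
theorem card_eq_pow_orderOf_of_irreducible {G : Type*} [Group G] [Finite G] {p q : ℕ}
    (hp : p.Prime) (hq : q.Prime) (hpq : q ≠ p) (A : Subgroup G) [hAn : A.Normal]
    (hAcomm : ∀ a ∈ A, ∀ b ∈ A, a * b = b * a) (hAexp : ∀ a ∈ A, a ^ q = 1)
    (x : G) (hx : x ^ p = 1) (hxA : ∃ a ∈ A, x * a * x⁻¹ ≠ a)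
    (hirr : ∀ B : Subgroup G, B ≤ A → (∀ b ∈ B, x * b * x⁻¹ ∈ B) → B = ⊥ ∨ B = A) :
    Nat.card A = q ^ orderOf (q : ZMod p) := by
  let c : A →* A :=
    { toFun := fun a => ⟨x * a * x⁻¹, hAn.conj_mem a a.2 x⟩
      map_one' := Subtype.ext (by simp)
      map_mul' := fun a b => Subtype.ext (by simp [mul_assoc]) }
  have hcval : ∀ a : A, ((c a : A) : G) = x * a * x⁻¹ := fun a => rfl
  have hciter : ∀ (k : ℕ) (a : A), ((c^[k] a : A) : G) = x ^ k * a * (x ^ k)⁻¹ := by
    intro k
    induction k with
    | zero => intro a; simp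
    | succ k ih =>
      intro a
      rw [Function.iterate_succ_apply', hcval, ih, pow_succ']
      simp [mul_assoc]
  have hexp : ∀ a : A, a ^ q = 1 := fun a => Subtype.ext (by simpa using hAexp a a.2)
  have hc : ∀ a : A, c^[p] a = a := fun a => Subtype.ext (by rw [hciter, hx]; simp)
  have hc1 : ∃ a : A, c a ≠ a := by
    obtain ⟨a, ha, hne⟩ := hxA
    exact ⟨⟨a, ha⟩, fun h => hne (congrArg Subtype.val h)⟩
  have hirr' : ∀ B : Subgroup A, (∀ b ∈ B, c b ∈ B) → B = ⊥ ∨ B = ⊤ := by
    intro B hB
    have h1 := hirr (B.map A.subtype) (Subgroup.map_subtype_le B) (by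
      rintro _ ⟨b, hb, rfl⟩
      exact ⟨c b, hB b hb, rfl⟩)
    rcases h1 with h | h
    · left
      exact (Subgroup.map_eq_bot_iff_of_injective B A.subtype_injective).mp h
    · right
      rw [eq_top_iff]
      intro a _
      have h2 : (a : G) ∈ B.map A.subtype := by
        rw [h]
        exact a.2
      obtain ⟨b, hb, hba⟩ := h2
      have h3 : b = a := Subtype.ext hba
      exact h3 ▸ hb
  exact @card_eq_pow_orderOf_of_irreducible_comm ↥A (commGroupOfComm A hAcomm) _ p q hp hq hpq
    hexp c hc hc1 hirr'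

end IrredPrimeGroup

end Cfsg.Agent.Lib.helper77
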