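import Mathlib
import Cfsg.Agent.Lib.helper44.LODefs

/-! S2363 split (architect helper44), cores of the pieces SZ and TD4: the arithmetic of the
orders of the Suzuki groups and of the triality groups, with the ARITH piece (`lo_good`) taken
as a hypothesis. -/

set_option autoImplicit false

namespace Cfsg.Agent.Lib.helper44.LO

theorem helper77_ndvd_pred {p x : ℕ} (hp : p.Prime) (hx : p ∣ x) (hx0 : 0 < x) : ¬ p ∣ x - 1 := by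
  intro h
  have h1 : p ∣ x - (x - 1) := Nat.dvd_sub hx h
  have h3 : x - (x - 1) = 1 := by omega
  rw [h3] at h1
  exact hp.one_lt.ne' (Nat.dvd_one.1 h1)

theorem helper77_ndvd_succ {p x : ℕ} (hp : p.Prime) (hx : p ∣ x) : ¬ p ∣ x + 1 := by
  intro h
  have h1 : p ∣ 1 := (Nat.dvd_add_right hx).1 h
  exact hp.one_lt.ne' (Nat.dvd_one.1 h1)

theorem helper77_sz_lt (a : ℕ) (ha : 1 ≤ a) : (a - 1) * (a ^ 2 + 1) < a ^ 3 := by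
  obtain ⟨b, rfl⟩ : ∃ b, a = b + 1 := ⟨a - 1, by omega⟩
  have h1 : b + 1 - 1 = b := by omega
  rw [h1]
  have h3 : (b + 1) ^ 3 = b * ((b + 1) ^ 2 + 1) + (b ^ 2 + b + 1) := by ring
  rw [h3]
  omega

theorem helper77_td4_lt (a : ℕ) (ha : 1 ≤ a) : (a - 1) * (a ^ 4 + a ^ 2 + 1) < a ^ 5 := by
  obtain ⟨b, rfl⟩ : ∃ b, a = b + 1 := ⟨a - 1, by omega⟩
  have h1 : b + 1 - 1 = b := by omega
  rw [h1]
  have h3 : (b + 1) ^ 5 = b * ((b + 1) ^ 4 + (b + 1) ^ 2 + 1) +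
      (b ^ 4 + 3 * b ^ 3 + 4 * b ^ 2 + 2 * b + 1) := by ring
  rw [h3]
  omega

/-- core of SZ -/
theorem helper77_lo_sz_core (f : ℕ) (hf : 1 ≤ f)
    (hgood : ∀ (c n N M e : ℕ), c * n = (2 ^ f) ^ N * M → ¬ 2 ∣ c → ¬ 2 ∣ M →
      M < c * (2 ^ f) ^ e → e ≤ 2 * N → 3 * e ≤ 5 * N → LOGood 2 n)
    (n : ℕ) (hn : n = (2 ^ f) ^ 2 * (2 ^ f - 1) * ((2 ^ f) ^ 2 + 1)) : LOGood 2 n := by
  have hq2 : 2 ∣ 2 ^ f := dvd_pow_self 2 (by omega)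
  have hqpos : 0 < 2 ^ f := by positivity
  refine hgood 1 n 2 ((2 ^ f - 1) * ((2 ^ f) ^ 2 + 1)) 3 ?_ (by decide) ?_ ?_ (by norm_num)
    (by norm_num)
  · rw [one_mul, hn, mul_assoc]
  · intro h
    rcases (Nat.prime_two.dvd_mul).1 h with h1 | h1
    · exact helper77_ndvd_pred Nat.prime_two hq2 hqpos h1
    · exact helper77_ndvd_succ Nat.prime_two (dvd_pow hq2 (by norm_num)) h1
  · rw [one_mul]
    exact helper77_sz_lt _ hqpos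

/-- core of TD4 -/
theorem helper77_lo_td4_core {p : ℕ} (hp : p.Prime) (j : ℕ) (hj : 1 ≤ j)
    (hgood : ∀ (c n N M e : ℕ), c * n = (p ^ j) ^ N * M → ¬ p ∣ c → ¬ p ∣ M →
      M < c * (p ^ j) ^ e → e ≤ 2 * N → 3 * e ≤ 5 * N → LOGood p n)
    (n : ℕ) (hn : n = (p ^ j) ^ 12 * ((p ^ j) ^ 2 - 1) * ((p ^ j) ^ 6 - 1) *
      ((p ^ j) ^ 8 + (p ^ j) ^ 4 + 1)) : LOGood p n := by
  have hqp : p ∣ p ^ j := dvd_pow_self p (by omega)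
  have hqpos : 0 < p ^ j := pow_pos hp.pos j
  have hpk : ∀ k : ℕ, k ≠ 0 → p ∣ (p ^ j) ^ k := fun k hk => dvd_pow hqp hk
  have hkpos : ∀ k : ℕ, 0 < (p ^ j) ^ k := fun k => pow_pos hqpos k
  refine hgood 1 n 12 (((p ^ j) ^ 2 - 1) * ((p ^ j) ^ 6 - 1) * ((p ^ j) ^ 8 + (p ^ j) ^ 4 + 1)) 16
    ?_ ?_ ?_ ?_ (by norm_num) (by norm_num)
  · rw [one_mul, hn, mul_assoc, mul_assoc, mul_assoc]
  · intro h
    exact hp.one_lt.ne' (Nat.dvd_one.1 h)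
  · intro h
    rcases (hp.dvd_mul).1 h with h1 | h1
    · rcases (hp.dvd_mul).1 h1 with h3 | h3
      · exact helper77_ndvd_pred hp (hpk 2 (by norm_num)) (hkpos 2) h3
      · exact helper77_ndvd_pred hp (hpk 6 (by norm_num)) (hkpos 6) h3
    · have h4 : p ∣ (p ^ j) ^ 8 + (p ^ j) ^ 4 :=
        dvd_add (hpk 8 (by norm_num)) (hpk 4 (by norm_num))
      exact helper77_ndvd_succ hp h4 h1
  · rw [one_mul]
    have h1 : ((p ^ j) ^ 2 - 1) * (((p ^ j) ^ 2) ^ 4 + ((p ^ j) ^ 2) ^ 2 + 1) < ((p ^ j) ^ 2) ^ 5 :=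
      helper77_td4_lt _ (hkpos 2)
    have h3 : (p ^ j) ^ 6 - 1 < (p ^ j) ^ 6 := Nat.sub_lt (hkpos 6) Nat.one_pos
    have e1 : ((p ^ j) ^ 2) ^ 4 = (p ^ j) ^ 8 := by rw [← pow_mul]
    have e2 : ((p ^ j) ^ 2) ^ 2 = (p ^ j) ^ 4 := by rw [← pow_mul]
    have e3 : ((p ^ j) ^ 2) ^ 5 = (p ^ j) ^ 10 := by rw [← pow_mul]
    rw [e1, e2, e3] at h1
    calc ((p ^ j) ^ 2 - 1) * ((p ^ j) ^ 6 - 1) * ((p ^ j) ^ 8 + (p ^ j) ^ 4 + 1)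
        = (((p ^ j) ^ 2 - 1) * ((p ^ j) ^ 8 + (p ^ j) ^ 4 + 1)) * ((p ^ j) ^ 6 - 1) := by ring
      _ < (p ^ j) ^ 10 * (p ^ j) ^ 6 := Nat.mul_lt_mul'' h1 h3
      _ = (p ^ j) ^ 16 := by rw [← pow_add]

end Cfsg.Agent.Lib.helper44.LO
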