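import Mathlib
import Cfsg.Prelude.Def_LieTypeChar
import Cfsg.Agent.Lib.helper44.LODefs
import Cfsg.Agent.Lib.helper6.LOARITH
import Cfsg.Agent.Lib.helper77.LOSZTD4core
import Cfsg.Agent.S1163

/-! S2363 split (architect helper44), piece SZ: the order bound for the Suzuki groups. -/

set_option autoImplicit false

namespace Cfsg.Agent.Lib.helper44.LO

open Cfsg

/-- SZ. -/
theorem lo_sz {F : Type} [Field F] [Fintype F] (m : ℕ) (hm : 1 ≤ m) (hF : Fintype.card F = 2 ^ (2 * m + 1)) :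
    LOGood 2 (Nat.card ↥(Cfsg.Lie.Sz F (2 ^ (m + 1)))) :=
  helper77_lo_sz_core (2 * m + 1) (by omega)
    (fun c n N M e hc hcp hMp hM h1 h2 =>
      lo_good Nat.prime_two (2 * m + 1) (by omega) c n N M e hc hcp hMp hM h1 h2)
    _ (Cfsg.Agent.S1163.result hm hF).1

end Cfsg.Agent.Lib.helper44.LO
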