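import Mathlib
import Cfsg.Prelude.Def_LieTypeChar
import Cfsg.Agent.Lib.helper44.LODefs
import Cfsg.Agent.Lib.helper6.LOARITH
import Cfsg.Agent.Lib.helper77.LOSZTD4core
import Cfsg.Agent.S1067

/-! S2363 split (architect helper44), piece TD4: the order bound for the triality groups. -/

set_option autoImplicit false

namespace Cfsg.Agent.Lib.helper44.LO

open Cfsg

/-- TD4. -/
theorem lo_td4 {K : Type} [Field K] [Fintype K] (p : ℕ) (hp : p.Prime) [CharP K p] (q : ℕ) (hq : IsPrimePow q)
    (hK : Fintype.card K = q ^ 3) : LOGood p (Nat.card ↥(Cfsg.Lie.twistedD4 K q)) := by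
  obtain ⟨n, -, hn⟩ := FiniteField.card K p
  have hdvd : q ∣ p ^ (n : ℕ) := by
    rw [← hn, hK]
    exact dvd_pow_self q (by norm_num)
  obtain ⟨j, -, rfl⟩ := (Nat.dvd_prime_pow hp).1 hdvd
  have hj : 1 ≤ j := by
    by_contra h0
    have hj0 : j = 0 := by omega
    rw [hj0, pow_zero] at hq
    exact not_isPrimePow_one hq
  exact helper77_lo_td4_core hp j hj
    (fun c n N M e hc hcp hMp hM h1 h2 => lo_good hp j hj c n N M e hc hcp hMp hM h1 h2)
    _ (Cfsg.Agent.S1067.result hq hK)

end Cfsg.Agent.Lib.helper44.LO
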