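import Mathlib
import Cfsg.Agent.Lib.helper21.M11Defs
import Cfsg.Agent.Lib.helper75.SimpleOrd
import Cfsg.Agent.Lib.helper82.CharSums

set_option autoImplicit false

namespace Cfsg.Agent.Lib.helper77

open Cfsg Cfsg.Agent.Lib.helper4 Cfsg.Agent.Lib.helper21

universe u

/-- Piece F of S4429 with pieces V (`irr_vanish_of_defect_zero`) and CL (`class_count_mul`) as
explicit hypotheses for this group. -/
theorem m11_sylow_five_of_patI_of {G : Type u} [Group G] [Fintype G] [Fintype (IrrCharacter G)]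
    [IsSimpleGroup G] (hG : Nat.card G = 7920) (P : Subgroup G) (hP : Nat.card P = 11)
    (h : M11PatI P) (Q : Sylow 5 G)
    (hV : ∀ (ψ : IrrCharacter G) (p n : ℕ), p.Prime → p ^ n ∣ Nat.card G →
      ¬ p ^ (n + 1) ∣ Nat.card G → p ^ n ∣ charDegree (ψ : G → ℂ) → ∀ x : G, p ∣ orderOf x →
        (ψ : G → ℂ) x = 0)
    (hCL : ∀ a b c : G, ∃ N : ℕ, (N : ℂ) * (Nat.card (Subgroup.centralizer ({a} : Set G)) : ℂ) *
        (Nat.card (Subgroup.centralizer ({b} : Set G)) : ℂ) =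
      (Nat.card G : ℂ) * ∑ χ : IrrCharacter G,
        (χ : G → ℂ) a * (χ : G → ℂ) b * (starRingEnd ℂ) ((χ : G → ℂ) c) / (χ : G → ℂ) 1 ∧
      (N = 0 ↔ ¬ ∃ u v : G, IsConj a u ∧ IsConj b v ∧ u * v = c)) :
    Subgroup.centralizer ((Q : Subgroup G) : Set G) ≤ (Q : Subgroup G) ∧
      Nat.card (Subgroup.normalizer ((Q : Subgroup G) : Set G)) = 20 := by
  classical
  have h5 : Nat.Prime 5 := by norm_num
  have h11 : Nat.Prime 11 := by norm_num
  have : Fact (Nat.Prime 5) := ⟨h5⟩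
  have : Fact (Nat.Prime 11) := ⟨h11⟩
  obtain ⟨α₁, α₂, α₃, β, γ₁, γ₂, hnd, hα₁, hα₂, hα₃, hβ, hγ₁, hγ₂, hrest, hPval, hrel⟩ := h
  obtain ⟨hQcard, hn1, hmod, ⟨k, hstab, hdk⟩, ⟨e, he, he1, hCe⟩⟩ :=
    Cfsg.Agent.Lib.helper75.sylow_setup 1584 (by rw [hG]) (by norm_num) (by norm_num) Q
  rw [Sylow.stabilizer_eq_normalizer] at hstab hCe
  obtain ⟨y, hyQ, hy5⟩ :=
    Cfsg.Agent.Lib.helper75.exists_mem_orderOf_prime (Q : Subgroup G) 5 (by rw [hQcard])
  obtain ⟨x, hxP, hx11⟩ :=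
    Cfsg.Agent.Lib.helper75.exists_mem_orderOf_prime P 11 (by rw [hP])
  have hx1 : x ≠ 1 := by
    rintro rfl
    simp at hx11
  have hQy : (Q : Subgroup G) = Subgroup.zpowers y := by
    symm
    apply Subgroup.eq_of_le_of_card_ge
    · exact (Subgroup.zpowers_le).mpr hyQ
    · rw [Nat.card_zpowers, hy5, hQcard]
  have hCy : Subgroup.centralizer ((Q : Subgroup G) : Set G) =
      Subgroup.centralizer ({y} : Set G) := by
    ext g
    rw [Subgroup.mem_centralizer_iff, Subgroup.mem_centralizer_iff]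
    constructor
    · intro hg z hz
      rw [Set.mem_singleton_iff] at hz
      subst hz
      exact hg z hyQ
    · intro hg z hz
      rw [SetLike.mem_coe, hQy, Subgroup.mem_zpowers_iff] at hz
      obtain ⟨n, rfl⟩ := hz
      have hc : Commute y g := hg y rfl
      exact (hc.zpow_left n).eq
  have hyrel := hrel y (fun hh hmem => by
    exfalso
    have h1 : orderOf (hh * y * hh⁻¹) ∣ Nat.card P := Subgroup.orderOf_dvd_natCard P hmem
    have h2 : orderOf (hh * y * hh⁻¹) = 5 := by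
      rw [← hy5]
      exact (MulAut.conj hh).orderOf_eq y
    rw [h2, hP] at h1
    norm_num at h1)
  have hv5 : ∀ ψ : IrrCharacter G, 5 ∣ charDegree (ψ : G → ℂ) → (ψ : G → ℂ) y = 0 := by
    intro ψ hd
    exact hV ψ 5 1 h5 (by rw [hG]; norm_num) (by rw [hG]; norm_num) (by simpa using hd) y
      (by rw [hy5])
  have hv11 : ∀ ψ : IrrCharacter G, 11 ∣ charDegree (ψ : G → ℂ) → (ψ : G → ℂ) x = 0 := by
    intro ψ hd
    exact hV ψ 11 1 h11 (by rw [hG]; norm_num) (by rw [hG]; norm_num) (by simpa using hd) x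
      (by rw [hx11])
  have hα₁y : (α₁ : G → ℂ) y = 0 := hv5 α₁ (by rw [hα₁]; norm_num)
  have hα₂y : (α₂ : G → ℂ) y = 0 := hv5 α₂ (by rw [hα₂]; norm_num)
  have hα₃y : (α₃ : G → ℂ) y = 0 := hv5 α₃ (by rw [hα₃]; norm_num)
  have hβy : (β : G → ℂ) y = 0 := hv5 β (by rw [hβ]; norm_num)
  have hγ₁y : (γ₁ : G → ℂ) y = 1 := by
    rw [hyrel.1, hα₁y, hα₂y, hα₃y, hβy]
    ring
  have hγ₂y : (γ₂ : G → ℂ) y = 1 := by rw [hyrel.2, hγ₁y]
  obtain ⟨-, -, -, -, hγx⟩ := hPval x hxP hx1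
  obtain ⟨N, hN, -⟩ := hCL y y x
  have hsum : ∑ χ : IrrCharacter G, (χ : G → ℂ) y * (χ : G → ℂ) y *
      (starRingEnd ℂ) ((χ : G → ℂ) x) / (χ : G → ℂ) 1 = 15 / 16 := by
    rw [← Finset.sum_add_sum_compl [trivIrr G, α₁, α₂, α₃, β, γ₁, γ₂].toFinset]
    rw [Finset.sum_eq_zero (s := [trivIrr G, α₁, α₂, α₃, β, γ₁, γ₂].toFinsetᶜ), add_zero,
      List.sum_toFinset _ hnd]
    · simp only [List.map_cons, List.map_nil, List.sum_cons, List.sum_nil]
      rw [hα₁y, hα₂y, hα₃y, hβy, hγ₁y, hγ₂y]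
      rw [Cfsg.Agent.Lib.helper82.irr_one_eq γ₁, Cfsg.Agent.Lib.helper82.irr_one_eq γ₂, hγ₁, hγ₂]
      have htriv : ∀ g : G, (trivIrr G : G → ℂ) g = 1 := fun g => rfl
      rw [htriv y, htriv x, htriv 1]
      have hconj : (starRingEnd ℂ) ((γ₁ : G → ℂ) x) + (starRingEnd ℂ) ((γ₂ : G → ℂ) x) = -1 := by
        rw [← map_add, hγx]
        simp
      simp only [map_one]
      push_cast
      linear_combination (1 / 16 : ℂ) * hconj
    · intro χ hχ
      rw [Finset.mem_compl, List.mem_toFinset] at hχ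
      rw [hv11 χ (hrest χ hχ)]
      simp
  rw [hsum, hG] at hN
  obtain ⟨m, hm⟩ : ∃ m : ℕ, m = Nat.card (Subgroup.centralizer ({y} : Set G)) := ⟨_, rfl⟩
  rw [← hm] at hN
  have hNm : N * m * m = 7425 := by
    have h1 : ((N * m * m : ℕ) : ℂ) = ((7425 : ℕ) : ℂ) := by
      push_cast
      rw [hN]
      norm_num
    exact_mod_cast h1
  have hm5 : 5 ∣ m := by
    rw [hm, ← hy5]
    apply Subgroup.orderOf_dvd_natCard
    rw [Subgroup.mem_centralizer_iff]
    intro z hz
    rw [Set.mem_singleton_iff.mp hz]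
  obtain ⟨c, hc⟩ := hm5
  rw [hCy, ← hm] at hCe
  have hc13 : c = 1 ∨ c = 3 := by
    subst hc
    have h297 : N * c * c = 297 := by nlinarith
    have hc17 : c ≤ 17 := by
      by_contra hcon
      push Not at hcon
      have hN0 : N ≠ 0 := by
        rintro rfl
        simp at h297
      have : 1 * c * c ≤ N * c * c := by
        apply Nat.mul_le_mul_right
        apply Nat.mul_le_mul_right
        omega
      nlinarith
    interval_cases c <;> omega
  have he24 : e = 2 ∨ e = 4 := by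
    have hle : e ≤ 4 := Nat.le_of_dvd (by norm_num) he
    interval_cases e
    · simp at he
    · exact absurd rfl he1
    · left; rfl
    · norm_num at he
    · right; rfl
  have hfin : m = 5 ∧ k = 4 := by
    subst hc
    have hk : k = c * e := by nlinarith
    subst hk
    rcases hc13 with rfl | rfl <;> rcases he24 with rfl | rfl <;> omega
  obtain ⟨hm5', hk4⟩ := hfin
  have hN' : Nat.card (Subgroup.normalizer ((Q : Subgroup G) : Set G)) = 5 * k := hstab
  refine ⟨?_, by rw [hN', hk4]⟩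
  have hle : (Q : Subgroup G) ≤ Subgroup.centralizer ((Q : Subgroup G) : Set G) := by
    intro a ha
    rw [hCy, Subgroup.mem_centralizer_iff]
    intro z hz
    rw [Set.mem_singleton_iff.mp hz]
    rw [hQy, Subgroup.mem_zpowers_iff] at ha
    obtain ⟨n, rfl⟩ := ha
    exact ((Commute.refl y).zpow_right n).eq
  have heq : (Q : Subgroup G) = Subgroup.centralizer ((Q : Subgroup G) : Set G) := by
    apply Subgroup.eq_of_le_of_card_ge hle
    rw [hCy, ← hm, hm5', hQcard]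
  exact heq.ge

end Cfsg.Agent.Lib.helper77
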