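/-
S5006 (M24 has a single 2-block) piece CONST3: `psum3_const` -- the sum of an irreducible character
over the two nontrivial powers of an element of order 3 depends only on its number of fixed points.
-/
import Mathlib
import Cfsg.Agent.Lib.helper33.M24BDefs
import Cfsg.Agent.Lib.helper81.CharOrtho
import Cfsg.Agent.S5601

set_option autoImplicit false
open Cfsg Cfsg.Agent.Lib.helper33.M24B
open scoped ComplexConjugate Pointwise

namespace Cfsg.Agent.Lib.helper77.M24B

/-- The fixed points of a cyclic subgroup are those of a generator. -/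
theorem helper77_fixset_zpowers (x : ↥M24) :
    {p : GolayPt | ∀ z ∈ Subgroup.zpowers x, ((z : ↥M24) : Equiv.Perm GolayPt) p = p}.ncard
      = fixN x := by
  unfold fixN
  rw [← Set.ncard_coe_finset]
  congr 1
  ext p
  simp only [Set.mem_ofPred_eq, Finset.coe_filter, Finset.mem_univ, true_and]
  constructor
  · intro h
    exact h x (Subgroup.mem_zpowers x)
  · intro h z hz
    obtain ⟨k, rfl⟩ := Subgroup.mem_zpowers_iff.mp hz
    rw [Subgroup.coe_zpow]
    exact Equiv.Perm.zpow_apply_eq_self_of_apply_eq_self h k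

/-- `psum` for `n = 3`. -/
theorem helper77_psum3 {G : Type*} [Group G] (χ : G → ℂ) (y : G) :
    psum χ 3 y = χ y + χ (y ^ 2) := by
  unfold psum
  have h : Finset.Ico 1 3 = {1, 2} := by decide
  rw [h, Finset.sum_pair (by norm_num), pow_one]

/-- CONST3 -/
theorem psum3_const (χ : IrrCharacter ↥M24) (y y' : ↥M24) (hy : orderOf y = 3)
    (hy' : orderOf y' = 3) (hf : fixN y = fixN y') :
    psum (χ : ↥M24 → ℂ) 3 y' = psum (χ : ↥M24 → ℂ) 3 y := by
  have h4 := Cfsg.Agent.S5601.result.2.2.2
  obtain ⟨k, hk⟩ := h4 (Subgroup.zpowers y) (Subgroup.zpowers y')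
    (by rw [Nat.card_zpowers, hy]) (by rw [Nat.card_zpowers, hy'])
    (by rw [helper77_fixset_zpowers, helper77_fixset_zpowers, hf])
  have hmem : y' ∈ MulAut.conj k • Subgroup.zpowers y := by
    rw [hk]
    exact Subgroup.mem_zpowers y'
  rw [Subgroup.mem_pointwise_smul_iff_inv_smul_mem, mem_zpowers_iff_mem_range_orderOf, hy]
    at hmem
  simp only [Finset.mem_image, Finset.mem_range] at hmem
  obtain ⟨j, hj3, hj⟩ := hmem
  have hy'eq : y' = k * y ^ j * k⁻¹ := by
    rw [hj]
    simp only [MulAut.smul_def, MulAut.conj_inv_apply]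
    group
  have hcf := Cfsg.Agent.Lib.helper81.irr_classFun χ
  have hy3 : y ^ 3 = 1 := by rw [← hy]; exact pow_orderOf_eq_one y
  rw [helper77_psum3, helper77_psum3]
  interval_cases j
  · exfalso
    rw [pow_zero, mul_one, mul_inv_cancel] at hy'eq
    rw [hy'eq, orderOf_one] at hy'
    omega
  · rw [pow_one] at hy'eq
    have h2 : y' ^ 2 = k * y ^ 2 * k⁻¹ := by rw [hy'eq, conj_pow]
    rw [h2, hy'eq, hcf, hcf]
  · have h2 : y' ^ 2 = k * y * k⁻¹ := by
      rw [hy'eq, conj_pow, ← pow_mul]
      have : y ^ (2 * 2) = y := by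
        calc y ^ (2 * 2) = y ^ 3 * y := by group
          _ = y := by rw [hy3, one_mul]
      rw [this]
    rw [h2, hy'eq, hcf, hcf, add_comm]

end Cfsg.Agent.Lib.helper77.M24B
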