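/-
S5006 (M24 has a single 2-block) piece CNT_A: `count_3A` -- there are at least 226688 elements of
order 3 with 6 fixed points.
-/
import Mathlib
import Cfsg.Agent.Lib.helper33.M24BDefs
import Cfsg.Agent.Lib.helper77.M24B_CONST3
import Cfsg.Agent.S5601
import Cfsg.Agent.S5600
import Cfsg.Agent.S0364

set_option autoImplicit false
open Cfsg Cfsg.Agent.Lib.helper33.M24B
open scoped ComplexConjugate Pointwise

namespace Cfsg.Agent.Lib.helper77.M24B

/-- The set of fixed points of an element. -/
def helper77_Fx (z : ↥M24) : Finset GolayPt :=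
  Finset.univ.filter fun p : GolayPt => (z : Equiv.Perm GolayPt) p = p

theorem helper77_mem_Fx (z : ↥M24) (p : GolayPt) :
    p ∈ helper77_Fx z ↔ (z : Equiv.Perm GolayPt) p = p := by
  simp [helper77_Fx]

theorem helper77_fixN_eq (z : ↥M24) : fixN z = (helper77_Fx z).card := rfl

/-- The fixed points of a conjugate. -/
theorem helper77_Fx_conj (g z : ↥M24) : helper77_Fx (g * z * g⁻¹) = g • helper77_Fx z := by
  ext p
  rw [← Finset.inv_smul_mem_iff, helper77_mem_Fx, helper77_mem_Fx]
  have h1 : ((g * z * g⁻¹ : ↥M24) : Equiv.Perm GolayPt) p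
      = (g : Equiv.Perm GolayPt) ((z : Equiv.Perm GolayPt) (g⁻¹ • p)) := rfl
  have h2 : p = (g : Equiv.Perm GolayPt) (g⁻¹ • p) := by
    have : g • (g⁻¹ • p) = p := smul_inv_smul g p
    exact this.symm
  rw [h1]
  constructor
  · intro h
    apply (g : Equiv.Perm GolayPt).injective
    rw [h]
    exact h2
  · intro h
    rw [h]
    exact h2.symm

/-- The fixed points of the square of an element of order 3. -/
theorem helper77_Fx_sq (y : ↥M24) (hy : y ^ 3 = 1) : helper77_Fx (y ^ 2) = helper77_Fx y := by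
  ext p
  rw [helper77_mem_Fx, helper77_mem_Fx]
  have h1 : ((y ^ 2 : ↥M24) : Equiv.Perm GolayPt) p
      = (y : Equiv.Perm GolayPt) ((y : Equiv.Perm GolayPt) p) := by
    rw [pow_two]
    rfl
  have h3 : (y : Equiv.Perm GolayPt) ((y : Equiv.Perm GolayPt) ((y : Equiv.Perm GolayPt) p))
      = p := by
    have : ((y ^ 3 : ↥M24) : Equiv.Perm GolayPt) p = p := by rw [hy]; rfl
    rw [pow_succ, pow_two] at this
    exact this
  rw [h1]
  constructor
  · intro h
    have h4 := h3
    rw [h] at h4
    exact h4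
  · intro h
    rw [h, h]

/-- A subgroup of order 3 is generated by an element of order 3. -/
theorem helper77_gen3 (X : Subgroup ↥M24) (hX : Nat.card X = 3) :
    ∃ x : ↥M24, orderOf x = 3 ∧ X = Subgroup.zpowers x := by
  have hfin : Finite X := Nat.finite_of_card_ne_zero (by omega)
  obtain ⟨x, hx, hx1⟩ : ∃ x ∈ X, x ≠ 1 := by
    by_contra hcon
    have hbot : X = ⊥ := by
      rw [Subgroup.eq_bot_iff_forall]
      intro x hx
      by_contra hx1
      exact hcon ⟨x, hx, hx1⟩
    rw [hbot] at hX
    simp at hX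
  have ho : orderOf x = 3 := by
    have hdvd : orderOf x ∣ 3 := by
      rw [← hX]
      exact Subgroup.orderOf_dvd_natCard X hx
    rcases (Nat.dvd_prime (by norm_num : Nat.Prime 3)).1 hdvd with h | h
    · exact absurd (orderOf_eq_one_iff.1 h) hx1
    · exact h
  refine ⟨x, ho, ?_⟩
  symm
  apply Subgroup.eq_of_le_of_card_ge
  · rw [Subgroup.zpowers_le]
    exact hx
  · rw [Nat.card_zpowers, ho, hX]

/-- CNT_A -/
theorem count_3A : 226688 ≤ Set.ncard {y : ↥M24 | orderOf y = 3 ∧ fixN y = 6} := by
  obtain ⟨X, hX3, hX6⟩ := Cfsg.Agent.S5601.result.2.1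
  obtain ⟨y, hy, rfl⟩ := helper77_gen3 X hX3
  rw [helper77_fixset_zpowers] at hX6
  have hy3 : y ^ 3 = 1 := by rw [← hy]; exact pow_orderOf_eq_one y
  have hE : (helper77_Fx y).card = 6 := hX6
  obtain ⟨-, h16, h2160⟩ := Cfsg.Agent.S5600.result (helper77_Fx y) hE
  -- the fixed set is not contained in an octad
  have hnot : ¬ ∃ o ∈ octads, helper77_Fx y ⊆ o := by
    intro hoct
    have hc := h16 hoct
    let H : Subgroup (Equiv.Perm GolayPt) :=
      { carrier := {g | g ∈ M24 ∧ ∀ p ∈ helper77_Fx y, g p = p}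
        mul_mem' := by
          rintro a b ⟨ha, ha'⟩ ⟨hb, hb'⟩
          refine ⟨mul_mem ha hb, fun p hp => ?_⟩
          rw [Equiv.Perm.mul_apply, hb' p hp, ha' p hp]
        one_mem' := ⟨one_mem _, fun p _ => rfl⟩
        inv_mem' := by
          rintro a ⟨ha, ha'⟩
          refine ⟨inv_mem ha, fun p hp => ?_⟩
          rw [Equiv.Perm.inv_eq_iff_eq]
          exact (ha' p hp).symm }
    have hH : Nat.card H = 16 := hc
    have hyH : (y : Equiv.Perm GolayPt) ∈ H :=
      ⟨y.2, fun p hp => (helper77_mem_Fx y p).1 hp⟩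
    have hdvd := Subgroup.orderOf_dvd_natCard H hyH
    rw [Subgroup.orderOf_coe, hy, hH] at hdvd
    omega
  have hstab := (h2160 hnot).2
  -- the orbit of the fixed set
  have horb : Nat.card (MulAction.orbit ↥M24 (helper77_Fx y)) = 113344 := by
    have h1 : Nat.card (MulAction.orbit ↥M24 (helper77_Fx y)) *
        Nat.card (MulAction.stabilizer ↥M24 (helper77_Fx y)) = Nat.card ↥M24 := by
      classical
      let _ := Fintype.ofFinite ↥M24
      let _ := Fintype.ofFinite (MulAction.orbit ↥M24 (helper77_Fx y))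
      let _ := Fintype.ofFinite (MulAction.stabilizer ↥M24 (helper77_Fx y))
      rw [Nat.card_eq_fintype_card, Nat.card_eq_fintype_card, Nat.card_eq_fintype_card]
      exact MulAction.card_orbit_mul_card_stabilizer_eq_card_group ↥M24 (helper77_Fx y)
    rw [hstab, Cfsg.Agent.S0364.result] at h1
    omega
  -- the injection
  have hchoose : ∀ e : MulAction.orbit ↥M24 (helper77_Fx y),
      ∃ g : ↥M24, g • helper77_Fx y = (e : Finset GolayPt) := fun e => MulAction.mem_orbit_iff.1 e.2
  choose γ hγ using hchoose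
  have hmem : ∀ q : MulAction.orbit ↥M24 (helper77_Fx y) × Fin 2,
      γ q.1 * y ^ (q.2.val + 1) * (γ q.1)⁻¹ ∈ {z : ↥M24 | orderOf z = 3 ∧ fixN z = 6} := by
    rintro ⟨e, i⟩
    have hpow : orderOf (y ^ (i.val + 1)) = 3 ∧ helper77_Fx (y ^ (i.val + 1)) = helper77_Fx y := by
      have hi := i.isLt
      have hcases : i.val = 0 ∨ i.val = 1 := by omega
      rcases hcases with h | h
      · rw [h]
        simp [hy]
      · rw [h]
        refine ⟨?_, helper77_Fx_sq y hy3⟩
        have hc : (orderOf y).Coprime 2 := by rw [hy]; decide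
        rw [hc.orderOf_pow, hy]
    refine ⟨?_, ?_⟩
    · have := (MulAut.conj (γ e)).orderOf_eq (y ^ (i.val + 1))
      rw [MulAut.conj_apply] at this
      rw [this, hpow.1]
    · rw [helper77_fixN_eq, helper77_Fx_conj, Finset.card_smul_finset, hpow.2, hE]
  have hinj : Function.Injective
      (fun q : MulAction.orbit ↥M24 (helper77_Fx y) × Fin 2 =>
        (⟨γ q.1 * y ^ (q.2.val + 1) * (γ q.1)⁻¹, hmem q⟩ :
          {z : ↥M24 | orderOf z = 3 ∧ fixN z = 6})) := by
    rintro ⟨e, i⟩ ⟨e', i'⟩ h
    have h0 : γ e * y ^ (i.val + 1) * (γ e)⁻¹ = γ e' * y ^ (i'.val + 1) * (γ e')⁻¹ :=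
      congrArg Subtype.val h
    have hfx : ∀ (e : MulAction.orbit ↥M24 (helper77_Fx y)) (i : Fin 2),
        helper77_Fx (γ e * y ^ (i.val + 1) * (γ e)⁻¹) = (e : Finset GolayPt) := by
      intro e i
      rw [helper77_Fx_conj, ← hγ e]
      congr 1
      have hi := i.isLt
      have hcases : i.val = 0 ∨ i.val = 1 := by omega
      rcases hcases with h | h
      · rw [h]
        simp
      · rw [h]
        exact helper77_Fx_sq y hy3
    have he : e = e' := by
      apply Subtype.ext
      rw [← hfx e i, ← hfx e' i', h0]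
    subst he
    have h1 : y ^ (i.val + 1) = y ^ (i'.val + 1) := by
      have := congrArg (fun z => (γ e)⁻¹ * z * γ e) h0
      simpa [mul_assoc] using this
    have hii : i = i' := by
      apply Fin.ext
      have hi := i.isLt
      have hi' := i'.isLt
      by_contra hne
      have hy1 : y = 1 := by
        have hcases : (i.val = 0 ∧ i'.val = 1) ∨ (i.val = 1 ∧ i'.val = 0) := by omega
        rcases hcases with ⟨ha, hb⟩ | ⟨ha, hb⟩
        · rw [ha, hb] at h1
          simp only [zero_add, pow_one] at h1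
          have : y * 1 = y * y := by rw [mul_one, ← pow_two]; exact h1
          exact (mul_left_cancel this).symm
        · rw [ha, hb] at h1
          simp only [zero_add, pow_one] at h1
          have : y * 1 = y * y := by rw [mul_one, ← pow_two]; exact h1.symm
          exact (mul_left_cancel this).symm
      rw [hy1, orderOf_one] at hy
      omega
    rw [hii]
  have hfin : Finite ↥M24 := inferInstance
  have hcard := Nat.card_le_card_of_injective _ hinj
  rw [Nat.card_prod, horb, Nat.card_fin, Nat.card_coe_set_eq] at hcard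
  omega

end Cfsg.Agent.Lib.helper77.M24B
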