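import Cfsg.Agent.S3869

set_option autoImplicit false

/-!
Common machinery for the structure of minimal non-`p`-closed-type groups
(groups `G` with a minimal normal `p'`-subgroup `N` of index `p` on which an element of order `p`
acts without centralising any "large" invariant subgroup).
-/

namespace Cfsg.Agent.Lib.helper77

open scoped Pointwise

/-- An element of a `p'`-subgroup whose order is a power of `p` is trivial. -/
theorem eq_one_of_mem_of_pow_prime_pow_eq_one {G : Type*} [Group G] [Finite G] {p : ℕ}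
    [Fact p.Prime] (N : Subgroup G) (hpN : ¬ p ∣ Nat.card N) {c : G} (hc : c ∈ N) {k : ℕ}
    (hk : c ^ p ^ k = 1) : c = 1 := by
  have h1 : orderOf c ∣ p ^ k := orderOf_dvd_of_pow_eq_one hk
  have h2 : orderOf c ∣ Nat.card N := by
    have h3 := orderOf_dvd_natCard (⟨c, hc⟩ : N)
    rwa [Subgroup.orderOf_mk] at h3
  have hcop : Nat.Coprime (p ^ k) (Nat.card N) :=
    Nat.Coprime.pow_left k ((Nat.Prime.coprime_iff_not_dvd Fact.out).mpr hpN)
  have h4 : orderOf c = 1 := Nat.eq_one_of_dvd_coprimes hcop h1 h2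
  exact orderOf_eq_one_iff.mp h4

/-- A normal subgroup `N ≠ ⊤` with `N ⊔ ⟨y⟩ = ⊤`, `y` of prime order `p`, has index `p`. -/
theorem index_eq_of_sup_zpowers_eq_top {G : Type*} [Group G] [Finite G] {p : ℕ} [Fact p.Prime]
    (N : Subgroup G) [N.Normal] (hN : N ≠ ⊤) (y : G) (hy : orderOf y = p)
    (h : N ⊔ Subgroup.zpowers y = ⊤) : N.index = p := by
  have h1 : N.index = N.relIndex (Subgroup.zpowers y) := by
    rw [← Subgroup.relIndex_top_right, ← h, sup_comm, Subgroup.relIndex_sup_right]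
  have h2 : N.index ∣ p := by
    rw [h1]
    have h3 := Subgroup.relIndex_dvd_card N (Subgroup.zpowers y)
    rwa [Nat.card_zpowers, hy] at h3
  rcases (Nat.dvd_prime Fact.out).mp h2 with h3 | h3
  · exact absurd (Subgroup.index_eq_one.mp h3) hN
  · exact h3

/-- A finite group with a nontrivial normal subgroup `M` has a minimal normal subgroup inside
`M`. -/
theorem exists_minimal_normal_le {G : Type*} [Group G] [Finite G] (M : Subgroup G) [M.Normal]
    (hM : M ≠ ⊥) :
    ∃ N : Subgroup G, N.Normal ∧ N ≠ ⊥ ∧ N ≤ M ∧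
      ∀ B : Subgroup G, B.Normal → B ≤ N → B = ⊥ ∨ B = N := by
  classical
  have hex : ∃ k, ∃ B : Subgroup G, B.Normal ∧ B ≠ ⊥ ∧ B ≤ M ∧ Nat.card B = k :=
    ⟨_, M, inferInstance, hM, le_rfl, rfl⟩
  obtain ⟨N, hNn, hNne, hNM, hNk⟩ := Nat.find_spec hex
  refine ⟨N, hNn, hNne, hNM, ?_⟩
  intro B hBn hBN
  by_cases hB : B = ⊥
  · exact Or.inl hB
  · right
    apply Subgroup.eq_of_le_of_card_ge hBN
    rw [hNk]
    exact Nat.find_min' hex ⟨B, hBn, hB, hBN.trans hNM, rfl⟩

/-- A normal Sylow `p`-subgroup contains every `p`-element. -/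
theorem mem_sylow_of_normal_of_pow_eq_one {G : Type*} [Group G] {p : ℕ} [Fact p.Prime]
    (P : Sylow p G) (hP : (P : Subgroup G).Normal) {g : G} {k : ℕ} (hg : g ^ p ^ k = 1) :
    g ∈ (P : Subgroup G) := by
  have hz : IsPGroup p (Subgroup.zpowers g) := by
    rintro ⟨h, hh⟩
    obtain ⟨j, rfl⟩ := Subgroup.mem_zpowers_iff.mp hh
    refine ⟨k, Subtype.ext ?_⟩
    show (g ^ j) ^ p ^ k = 1
    rw [← zpow_natCast, ← zpow_mul, mul_comm, zpow_mul, zpow_natCast, hg, one_zpow]
  have h3 : IsPGroup p (Subgroup.zpowers g ⊔ (P : Subgroup G) : Subgroup G) :=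
    hz.to_sup_of_normal_right P.isPGroup'
  have h4 := P.is_maximal' h3 le_sup_right
  rw [← h4]
  exact le_sup_left (a := Subgroup.zpowers g) (Subgroup.mem_zpowers g)

/-- If `N` is central and `N ⊔ P = ⊤` then `P` is normal. -/
theorem normal_of_sup_central_eq_top {G : Type*} [Group G] (N P : Subgroup G)
    (hN : N ≤ Subgroup.center G) (h : N ⊔ P = ⊤) : P.Normal := by
  rw [← Subgroup.normalizer_eq_top_iff, eq_top_iff, ← h]
  exact sup_le (hN.trans (Subgroup.center_le_normalizer _)) Subgroup.le_normalizer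

/-- If the quotient by the normal subgroup `N` has normal Sylow `p`-subgroups then `N ⊔ P` is
normal for every Sylow `p`-subgroup `P`. -/
theorem sup_sylow_normal_of_quotient {G : Type*} [Group G] [Finite G] {p : ℕ} [Fact p.Prime]
    (N : Subgroup G) [N.Normal] (hq : ∀ Q : Sylow p (G ⧸ N), (Q : Subgroup (G ⧸ N)).Normal)
    (P : Sylow p G) : (N ⊔ (P : Subgroup G)).Normal := by
  have h1 := hq (P.mapSurjective (QuotientGroup.mk'_surjective N))
  rw [Sylow.coe_mapSurjective] at h1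
  have h2 := h1.comap (QuotientGroup.mk' N)
  rwa [QuotientGroup.comap_map_mk'] at h2

/-- If `Q` is a normal `p`-subgroup and `G ⧸ Q` has normal Sylow `p`-subgroups, then so has
`G`. -/
theorem sylow_normal_of_quotient_by_pGroup {G : Type*} [Group G] [Finite G] {p : ℕ}
    [Fact p.Prime] (Q : Subgroup G) [Q.Normal] (hQ : IsPGroup p Q)
    (hq : ∀ S : Sylow p (G ⧸ Q), (S : Subgroup (G ⧸ Q)).Normal) (P : Sylow p G) :
    (P : Subgroup G).Normal := by
  have h1 := sup_sylow_normal_of_quotient Q hq P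
  have h3 : IsPGroup p ((P : Subgroup G) ⊔ Q : Subgroup G) :=
    P.isPGroup'.to_sup_of_normal_right hQ
  have h4 := P.is_maximal' h3 le_sup_left
  rw [sup_comm, h4] at h1
  exact h1

/-- A Sylow `p`-subgroup of `G` lying in a normal subgroup `H` whose Sylow `p`-subgroups are
normal is itself normal in `G`. -/
theorem sylow_normal_of_le_normal {G : Type*} [Group G] [Finite G] {p : ℕ} [Fact p.Prime]
    (H : Subgroup G) [H.Normal] (hH : ∀ Q : Sylow p ↥H, (Q : Subgroup ↥H).Normal)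
    (P : Sylow p G) (hP : (P : Subgroup G) ≤ H) : (P : Subgroup G).Normal := by
  have h1 := hH (P.subtype hP)
  have hchar := Sylow.characteristic_of_normal (P.subtype hP) h1
  have h2 : ((P.subtype hP : Subgroup ↥H).map H.subtype).Normal := inferInstance
  rwa [Sylow.coe_subtype, Subgroup.map_subgroupOf_eq_of_le hP] at h2

/-- In a subgroup `H` with normal Sylow `p`-subgroups, a `p`-element `y` of `H` centralises every
element of `H` lying in a normal `p'`-subgroup `N` of `G`. -/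
theorem conj_eq_of_sylow_normal {G : Type*} [Group G] [Finite G] {p : ℕ} [Fact p.Prime]
    (N : Subgroup G) [N.Normal] (hpN : ¬ p ∣ Nat.card N) (H : Subgroup G)
    (hH : ∀ P : Sylow p ↥H, (P : Subgroup ↥H).Normal) {y n : G} (hyH : y ∈ H) (hyp : y ^ p = 1)
    (hnH : n ∈ H) (hnN : n ∈ N) : y * n * y⁻¹ = n := by
  have hz : IsPGroup p (Subgroup.zpowers (⟨y, hyH⟩ : H)) := by
    rintro ⟨h, hh⟩
    obtain ⟨j, rfl⟩ := Subgroup.mem_zpowers_iff.mp hh
    refine ⟨1, Subtype.ext ?_⟩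
    show ((⟨y, hyH⟩ : H) ^ j) ^ p ^ 1 = 1
    have h0 : (⟨y, hyH⟩ : H) ^ p = 1 := Subtype.ext (by simpa using hyp)
    rw [pow_one, ← zpow_natCast, ← zpow_mul, mul_comm, zpow_mul, zpow_natCast, h0, one_zpow]
  obtain ⟨Q, hQ⟩ := hz.exists_le_sylow
  have hQn := hH Q
  have hyQ : (⟨y, hyH⟩ : H) ∈ (Q : Subgroup H) := hQ (Subgroup.mem_zpowers _)
  have hc : (⟨y, hyH⟩ : H) * ((⟨n, hnH⟩ : H) * (⟨y, hyH⟩ : H)⁻¹ * (⟨n, hnH⟩ : H)⁻¹) ∈
      (Q : Subgroup H) :=
    Subgroup.mul_mem _ hyQ (hQn.conj_mem _ (Subgroup.inv_mem _ hyQ) _)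
  obtain ⟨k, hk⟩ := Q.isPGroup' ⟨_, hc⟩
  have hk' : (y * (n * y⁻¹ * n⁻¹)) ^ p ^ k = 1 := by
    have h5 := congrArg (fun z : (Q : Subgroup H) => ((z : H) : G)) hk
    simpa using h5
  have hcN : y * (n * y⁻¹ * n⁻¹) ∈ N := by
    have h6 : y * (n * y⁻¹ * n⁻¹) = (y * n * y⁻¹) * n⁻¹ := by group
    rw [h6]
    exact N.mul_mem (‹N.Normal›.conj_mem n hnN y) (N.inv_mem hnN)
  have h1 := eq_one_of_mem_of_pow_prime_pow_eq_one N hpN hcN hk'
  calc y * n * y⁻¹ = (y * (n * y⁻¹ * n⁻¹)) * n := by group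
    _ = n := by rw [h1, one_mul]

/-- In a subgroup `K` whose elements of order dividing `p` form a subgroup, an element `y` of `K`
with `y ^ p = 1` centralises every element of `K` lying in a normal `p'`-subgroup `N` of `G`. -/
theorem conj_eq_of_omega_subgroup {G : Type*} [Group G] [Finite G] {p : ℕ} [Fact p.Prime]
    (N : Subgroup G) [N.Normal] (hpN : ¬ p ∣ Nat.card N) (K : Subgroup G)
    (hK : ∃ H : Subgroup ↥K, (H : Set ↥K) = {g : ↥K | g ^ p = 1}) {y n : G} (hyK : y ∈ K)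
    (hyp : y ^ p = 1) (hnK : n ∈ K) (hnN : n ∈ N) : y * n * y⁻¹ = n := by
  obtain ⟨H, hH⟩ := hK
  have hmem : ∀ g : ↥K, g ∈ H ↔ g ^ p = 1 := fun g => by
    rw [← SetLike.mem_coe, hH]
    rfl
  have h1 : (⟨y, hyK⟩ : K) ∈ H := (hmem _).mpr (Subtype.ext (by simpa using hyp))
  have h2 : (⟨n, hnK⟩ : K) * (⟨y, hyK⟩ : K)⁻¹ * (⟨n, hnK⟩ : K)⁻¹ ∈ H := (hmem _).mpr (by
    apply Subtype.ext
    show (n * y⁻¹ * n⁻¹) ^ p = 1
    rw [conj_pow, inv_pow, hyp]
    simp)
  have h3 := (hmem _).mp (H.mul_mem h1 h2)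
  have hk' : (y * (n * y⁻¹ * n⁻¹)) ^ p ^ 1 = 1 := by
    have h5 := congrArg Subtype.val h3
    rw [pow_one]
    simpa [mul_assoc] using h5
  have hcN : y * (n * y⁻¹ * n⁻¹) ∈ N := by
    have h6 : y * (n * y⁻¹ * n⁻¹) = (y * n * y⁻¹) * n⁻¹ := by group
    rw [h6]
    exact N.mul_mem (‹N.Normal›.conj_mem n hnN y) (N.inv_mem hnN)
  have h4 := eq_one_of_mem_of_pow_prime_pow_eq_one N hpN hcN hk'
  calc y * n * y⁻¹ = (y * (n * y⁻¹ * n⁻¹)) * n := by group
    _ = n := by rw [h4, one_mul]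

/-- A `p`-element acting by conjugation on a normal `p'`-subgroup `N` fixes some Sylow
`r`-subgroup of `N`. -/
theorem exists_invariant_sylow {G : Type*} [Group G] [Finite G] {p r : ℕ} [Fact p.Prime]
    [Fact r.Prime] (N : Subgroup G) [N.Normal] (hpN : ¬ p ∣ Nat.card N) (y : G)
    (hy : y ^ p = 1) :
    ∃ R : Sylow r ↥N, ∀ n ∈ (R : Subgroup ↥N).map N.subtype,
      y * n * y⁻¹ ∈ (R : Subgroup ↥N).map N.subtype := by
  classical
  obtain ⟨g, hgdef⟩ : ∃ g : ConjAct G, g = ConjAct.toConjAct y := ⟨_, rfl⟩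
  have hgp : g ^ p = 1 := by
    rw [hgdef, ← map_pow, hy, map_one]
  have hg : IsPGroup p (Subgroup.zpowers g) := by
    rintro ⟨h, hh⟩
    obtain ⟨j, rfl⟩ := Subgroup.mem_zpowers_iff.mp hh
    refine ⟨1, Subtype.ext ?_⟩
    show (g ^ j) ^ p ^ 1 = 1
    rw [pow_one, ← zpow_natCast, ← zpow_mul, mul_comm, zpow_mul, zpow_natCast, hgp, one_zpow]
  have hcard : ¬ p ∣ Nat.card (Sylow r ↥N) := by
    obtain ⟨R0⟩ : Nonempty (Sylow r ↥N) := inferInstance
    intro h
    exact hpN (h.trans ((Sylow.card_dvd_index R0).trans (Subgroup.index_dvd_card _)))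
  obtain ⟨R, hR⟩ := hg.nonempty_fixed_point_of_prime_not_dvd_card (Sylow r ↥N) hcard
  refine ⟨R, ?_⟩
  have hfix : g • R = R := hR ⟨g, Subgroup.mem_zpowers g⟩
  rintro _ ⟨n, hn, rfl⟩
  refine ⟨g • n, ?_, ?_⟩
  · have h1 : g • n ∈ g • (R : Subgroup ↥N) := Subgroup.smul_mem_pointwise_smul n g _ hn
    rw [← Sylow.pointwise_smul_def, hfix] at h1
    exact h1
  · rw [hgdef]
    simp [ConjAct.Subgroup.val_conj_smul, ConjAct.smul_def]

/-- **Common structure lemma.**  Let `N` be a minimal normal subgroup of `G` of prime index `p`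
and order prime to `p`, let `y` be an element of order `p` not centralising `N`, and suppose that
`y` centralises every `y`-invariant subgroup `R` of `N` with `R ⊔ ⟨y⟩ ≠ ⊤`.  Then `N` is
elementary abelian of order `q ^ e`, `e` the multiplicative order of `q` modulo `p`. -/
theorem structure_of_minimal {G : Type*} [Group G] [Finite G] {p : ℕ} [Fact p.Prime]
    (N : Subgroup G) [N.Normal] (hidx : N.index = p) (hpN : ¬ p ∣ Nat.card N)
    (hmin : ∀ B : Subgroup G, B.Normal → B ≤ N → B = ⊥ ∨ B = N)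
    (y : G) (hy : orderOf y = p) (hyN : ∃ n ∈ N, y * n * y⁻¹ ≠ n)
    (hstar : ∀ R : Subgroup G, R ≤ N → (∀ n ∈ R, y * n * y⁻¹ ∈ R) →
      R ⊔ Subgroup.zpowers y ≠ ⊤ → ∀ n ∈ R, y * n * y⁻¹ = n) :
    ∃ q : ℕ, q.Prime ∧ q ≠ p ∧ Nat.card G = p * q ^ orderOf (q : ZMod p) ∧
      Nat.card N = q ^ orderOf (q : ZMod p) ∧ Cfsg.IsElementaryAbelian q N := by
  classical
  have hp : p.Prime := Fact.out
  have hyp : y ^ p = 1 := by rw [← hy]; exact pow_orderOf_eq_one y
  have hNne : N ≠ ⊥ := by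
    intro h
    obtain ⟨n, hn, hne⟩ := hyN
    rw [h, Subgroup.mem_bot] at hn
    apply hne
    rw [hn]
    simp
  -- the centraliser of `y` in `N`
  obtain ⟨CN, hCNdef⟩ : ∃ CN : Subgroup G, CN = N ⊓ Subgroup.centralizer ({y} : Set G) :=
    ⟨_, rfl⟩
  have hCNle : CN ≤ N := hCNdef ▸ inf_le_left
  have hCNne : CN ≠ N := by
    intro h
    obtain ⟨n, hn, hne⟩ := hyN
    have h1 : n ∈ CN := h ▸ hn
    rw [hCNdef] at h1
    have h2 := (Subgroup.mem_inf.mp h1).2
    rw [Subgroup.mem_centralizer_iff] at h2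
    have h3 := h2 y (Set.mem_singleton y)
    apply hne
    rw [h3]
    simp
  obtain ⟨m, hm⟩ := Subgroup.card_dvd_of_le hCNle
  have hm1 : m ≠ 1 := by
    intro h
    rw [h, mul_one] at hm
    exact hCNne (Subgroup.eq_of_le_of_card_ge hCNle hm.le)
  obtain ⟨r, hrdef⟩ : ∃ r : ℕ, r = m.minFac := ⟨_, rfl⟩
  have hrp : r.Prime := hrdef ▸ Nat.minFac_prime hm1
  have hrm : r ∣ m := hrdef ▸ Nat.minFac_dvd m
  have hrN : r ∣ Nat.card N := by
    rw [hm]
    exact hrm.trans (Dvd.intro_left _ rfl)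
  have hrne : r ≠ p := fun h => hpN (h ▸ hrN)
  have : Fact r.Prime := ⟨hrp⟩
  obtain ⟨R, hRinv⟩ := exists_invariant_sylow (r := r) N hpN y hyp
  obtain ⟨R', hR'def⟩ : ∃ R' : Subgroup G, R' = (R : Subgroup ↥N).map N.subtype := ⟨_, rfl⟩
  rw [← hR'def] at hRinv
  have hR'le : R' ≤ N := hR'def ▸ Subgroup.map_subtype_le _
  have hR'card : Nat.card R' = r ^ (Nat.card N).factorization r := by
    rw [hR'def, Subgroup.card_map_of_injective N.subtype_injective]
    exact Sylow.card_eq_multiplicity R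
  have hfac : 0 < (Nat.card N).factorization r :=
    hrp.factorization_pos_of_dvd Nat.card_pos.ne' hrN
  have hR'ne : R' ≠ ⊥ := by
    intro h
    rw [h, Subgroup.card_bot] at hR'card
    have h1 : 1 < r ^ (Nat.card N).factorization r := Nat.one_lt_pow hfac.ne' hrp.one_lt
    omega
  have htop : R' ⊔ Subgroup.zpowers y = ⊤ := by
    by_contra hne
    have hcen := hstar R' hR'le hRinv hne
    have hle : R' ≤ CN := by
      intro n hn
      rw [hCNdef]
      refine Subgroup.mem_inf.mpr ⟨hR'le hn, ?_⟩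
      rw [Subgroup.mem_centralizer_iff]
      intro h hh
      rw [Set.mem_singleton_iff] at hh
      subst hh
      have h1 := hcen n hn
      calc h * n = h * n * h⁻¹ * h := by simp
        _ = n * h := by rw [h1]
    have h1 : r ^ (Nat.card N).factorization r ∣ Nat.card CN :=
      hR'card ▸ Subgroup.card_dvd_of_le hle
    have h2 : r ^ ((Nat.card N).factorization r + 1) ∣ Nat.card N := by
      rw [pow_succ]
      calc r ^ (Nat.card N).factorization r * r ∣ Nat.card CN * m := Nat.mul_dvd_mul h1 hrm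
        _ = Nat.card N := hm.symm
    exact Nat.pow_succ_factorization_not_dvd Nat.card_pos.ne' hrp h2
  have hR'normal : R'.Normal := by
    rw [← Subgroup.normalizer_eq_top_iff, eq_top_iff, ← htop]
    apply sup_le
    · exact Subgroup.le_normalizer
    · rw [Subgroup.zpowers_le, Subgroup.mem_normalizer_iff]
      intro h
      constructor
      · exact hRinv h
      · intro hh
        have h1 := Cfsg.Agent.S3869.conj_pow_mem R' y hRinv (p - 1) _ hh
        have h2 : y ^ (p - 1) * (y * h * y⁻¹) * (y ^ (p - 1))⁻¹ = h := by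
          have h3 : y ^ (p - 1) * y = 1 := by
            rw [← pow_succ, Nat.sub_add_cancel hp.pos, hyp]
          have h4 : y⁻¹ * (y ^ (p - 1))⁻¹ = 1 := by
            rw [← mul_inv_rev, h3, inv_one]
          calc y ^ (p - 1) * (y * h * y⁻¹) * (y ^ (p - 1))⁻¹
              = (y ^ (p - 1) * y) * h * (y⁻¹ * (y ^ (p - 1))⁻¹) := by group
            _ = h := by rw [h3, h4]; simp
        rwa [h2] at h1
  have hRN : R' = N := (hmin R' hR'normal hR'le).resolve_left hR'ne
  obtain ⟨k, hk⟩ : ∃ k, Nat.card R' = r ^ k := ⟨_, hR'card⟩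
  have hNcard : Nat.card N = r ^ k := by rw [← hk, hRN]
  have hNr : IsPGroup r N := IsPGroup.of_card hNcard
  have hNnt : Nontrivial N := by
    rw [Subgroup.nontrivial_iff_ne_bot]
    exact hNne
  -- `N` is abelian
  have hcomm : ∀ a ∈ N, ∀ b ∈ N, a * b = b * a := by
    obtain ⟨Z, hZdef⟩ : ∃ Z : Subgroup G, Z = N ⊓ Subgroup.centralizer (N : Set G) := ⟨_, rfl⟩
    have hZn : Z.Normal := by
      rw [hZdef]
      infer_instance
    have hZne : Z ≠ ⊥ := by
      have := hNr.center_nontrivial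
      obtain ⟨z, hz⟩ := exists_ne (1 : Subgroup.center N)
      intro h
      have hzZ : ((z : N) : G) ∈ Z := by
        rw [hZdef]
        refine Subgroup.mem_inf.mpr ⟨(z : N).2, ?_⟩
        rw [Subgroup.mem_centralizer_iff]
        intro h hh
        have h1 := Subgroup.mem_center_iff.mp z.2 ⟨h, hh⟩
        exact congrArg Subtype.val h1
      rw [h, Subgroup.mem_bot] at hzZ
      apply hz
      exact Subtype.ext (Subtype.ext hzZ)
    have hZN : Z = N := (hmin Z hZn (hZdef ▸ inf_le_left)).resolve_left hZne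
    intro a ha b hb
    have h1 : b ∈ Z := hZN ▸ hb
    rw [hZdef] at h1
    have h2 := (Subgroup.mem_inf.mp h1).2
    rw [Subgroup.mem_centralizer_iff] at h2
    exact h2 a ha
  -- `N` has exponent `r`
  have hexp : ∀ a ∈ N, a ^ r = 1 := by
    obtain ⟨E, hEdef⟩ : ∃ E : Subgroup G, ∀ g, g ∈ E ↔ (g ∈ N ∧ g ^ r = 1) :=
      ⟨{ carrier := {g | g ∈ N ∧ g ^ r = 1}
         one_mem' := ⟨N.one_mem, one_pow r⟩
         mul_mem' := by
           rintro a b ⟨ha, ha'⟩ ⟨hb, hb'⟩
           refine ⟨N.mul_mem ha hb, ?_⟩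
           rw [(show Commute a b from hcomm a ha b hb).mul_pow, ha', hb', one_mul]
         inv_mem' := by
           rintro a ⟨ha, ha'⟩
           exact ⟨N.inv_mem ha, by rw [inv_pow, ha', inv_one]⟩ }, fun g => Iff.rfl⟩
    have hEn : E.Normal := ⟨fun a ha g => by
      rw [hEdef] at ha ⊢
      refine ⟨‹N.Normal›.conj_mem a ha.1 g, ?_⟩
      rw [conj_pow, ha.2]
      simp⟩
    have hEne : E ≠ ⊥ := by
      obtain ⟨z, hz⟩ := exists_prime_orderOf_dvd_card' (G := N) r hrN
      intro h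
      have hzE : (z : G) ∈ E := by
        rw [hEdef]
        refine ⟨z.2, ?_⟩
        have h1 : z ^ r = 1 := by rw [← hz]; exact pow_orderOf_eq_one z
        have h2 := congrArg Subtype.val h1
        simpa using h2
      rw [h, Subgroup.mem_bot] at hzE
      have h3 : z = 1 := Subtype.ext hzE
      rw [h3, orderOf_one] at hz
      exact hrp.one_lt.ne hz
    have hEN : E = N := (hmin E hEn (fun a ha => ((hEdef a).mp ha).1)).resolve_left hEne
    intro a ha
    have h1 : a ∈ E := hEN ▸ ha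
    exact ((hEdef a).mp h1).2
  have hna : ¬ IsMulCommutative G := by
    intro h
    obtain ⟨n, hn, hne⟩ := hyN
    apply hne
    rw [isMulCommutative_iff] at h
    rw [h y n]
    simp
  obtain ⟨-, -, key_irr⟩ := Cfsg.Agent.S3869.structure_facts hna N hcomm hpN hidx hmin
  have hcardN := card_eq_pow_orderOf_of_irreducible hp hrp hrne N hcomm hexp y hyp hyN
    (key_irr y hy)
  refine ⟨r, hrp, hrne, ?_, hcardN, ⟨?_, hexp⟩⟩
  · rw [← Subgroup.card_mul_index N, hidx, hcardN, mul_comm]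
  · rw [isMulCommutative_iff]
    intro a b
    exact Subtype.ext (hcomm a a.2 b b.2)

end Cfsg.Agent.Lib.helper77
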