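import Mathlib

set_option autoImplicit false

namespace Cfsg.Agent.Lib.helper77

/-- Hand-off AL3 for S2149: in a group of order `126000`, if the normalizer of `⟨x⟩`
(`x` of order `7`) consists of elements `s ^ j * x ^ i` (`j < 3`, `i < 7`), then every
Sylow `7`-normalizer has order `21`. -/
theorem norm_syl7 {G : Type*} [Group G] [Finite G] (hcard : Nat.card G = 126000) (x s : G)
    (hx : orderOf x = 7)
    (h : ∀ n : G, n * x * n⁻¹ ∈ Subgroup.zpowers x → ∃ j < 3, ∃ i < 7, n = s ^ j * x ^ i) :
    ∀ S : Sylow 7 G, Nat.card (Subgroup.normalizer ((S : Subgroup G) : Set G)) = 21 := by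
  classical
  have hp : Fact (Nat.Prime 7) := ⟨by norm_num⟩
  set X : Subgroup G := Subgroup.zpowers x with hXdef
  have hX : Nat.card X = 7 := by rw [hXdef, Nat.card_zpowers, hx]
  have hXp : IsPGroup 7 X := IsPGroup.of_card (n := 1) (by rw [hX, pow_one])
  have hXidx : X.index = 18000 := by
    have h1 := Subgroup.card_mul_index X
    rw [hX, hcard] at h1
    omega
  have hXndvd : ¬ 7 ∣ X.index := by rw [hXidx]; norm_num
  set P : Sylow 7 G := hXp.toSylow hXndvd with hPdef
  have hPX : (P : Subgroup G) = X := IsPGroup.toSylow_coe hXp hXndvd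
  set N : Subgroup G := Subgroup.normalizer ((P : Subgroup G) : Set G) with hNdef
  have hNX : N = Subgroup.normalizer (X : Set G) := by rw [hNdef, hPX]
  -- |N| ≤ 21
  have hNle : Nat.card N ≤ 21 := by
    have hex : ∀ n : N, ∃ ji : Fin 3 × Fin 7, (n : G) = s ^ (ji.1 : ℕ) * x ^ (ji.2 : ℕ) := by
      intro n
      have hn : (n : G) * x * (n : G)⁻¹ ∈ X := by
        have hn' : (n : G) ∈ Subgroup.normalizer (X : Set G) :=
          (SetLike.ext_iff.mp hNX _).mp n.2
        exact (Subgroup.mem_normalizer_iff.mp hn' x).mp (Subgroup.mem_zpowers x)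
      obtain ⟨j, hj, i, hi, e⟩ := h n hn
      exact ⟨(⟨j, hj⟩, ⟨i, hi⟩), e⟩
    choose f hf using hex
    have hinj : Function.Injective f := by
      intro a b hab
      apply Subtype.ext
      rw [hf a, hf b, hab]
    have h1 := Nat.card_le_card_of_injective f hinj
    rw [Nat.card_prod, Nat.card_fin, Nat.card_fin] at h1
    exact h1
  -- 7 ∣ |N|
  have h7N : 7 ∣ Nat.card N := by
    have h1 : X ≤ N := by rw [hNX]; exact Subgroup.le_normalizer
    have h2 := Subgroup.card_dvd_of_le h1
    rwa [hX] at h2
  have hNidx : Nat.card N * N.index = 126000 := by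
    rw [Subgroup.card_mul_index, hcard]
  have hsyl : Nat.card (Sylow 7 G) = N.index := Sylow.card_eq_index_normalizer P
  have hmod : Nat.card (Sylow 7 G) ≡ 1 [MOD 7] := card_sylow_modEq_one 7 G
  have hNcard : Nat.card N = 21 ∧ N.index = 6000 := by
    rw [hsyl] at hmod
    have hpos : 0 < Nat.card N := Nat.card_pos
    obtain ⟨c, hc⟩ := h7N
    have hc3 : c = 1 ∨ c = 2 ∨ c = 3 := by omega
    unfold Nat.ModEq at hmod
    rcases hc3 with rfl | rfl | rfl
    · rw [hc] at hNidx
      have : N.index = 18000 := by omega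
      rw [this] at hmod
      norm_num at hmod
    · rw [hc] at hNidx
      have : N.index = 9000 := by omega
      rw [this] at hmod
      norm_num at hmod
    · rw [hc] at hNidx
      exact ⟨by omega, by omega⟩
  intro S
  have h1 : Nat.card (Sylow 7 G) = (Subgroup.normalizer ((S : Subgroup G) : Set G)).index :=
    Sylow.card_eq_index_normalizer S
  have h2 := Subgroup.card_mul_index (Subgroup.normalizer ((S : Subgroup G) : Set G))
  rw [← h1, hsyl, hNcard.2, hcard] at h2
  omega

end Cfsg.Agent.Lib.helper77
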