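import Mathlib
import Cfsg.Agent.Lib.helper79.PearlX

set_option autoImplicit false
set_option linter.unusedVariables false

namespace Cfsg.Agent.Lib.helper79.P3

open Cfsg Cfsg.Agent.Lib.helper68

/-- NONUNIF, sub-piece (a): a non-uniform `h ∉ P_2` centralizes some `u ∈ P_2 ∖ P_(n-1)`.
(`hFRAT` is the statement of the leaf FRAT.) -/
theorem helper77_p3_nonunif_a {G : Type*} [Group G] [Finite G] (n : ℕ) (hn : 4 ≤ n) (hG : Nat.card G = 3 ^ n) (x : G)
    (hC : Nat.card (Subgroup.centralizer ({x} : Set G)) = 3 ^ 2)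
    (hFRAT : ∀ H : Subgroup G, H ⊔ gam G 2 = ⊤ → H = ⊤) (h : G) (hh : h ∉ gam G 2)
    (hCh : Nat.card (Subgroup.centralizer ({h} : Set G)) ≠ 3 ^ 2) :
    ∃ u ∈ gam G 2, u ∉ gam G (n - 1) ∧ u * h = h * u := by
  have : Fact (Nat.Prime 3) := ⟨Nat.prime_three⟩
  have hP2 : Nat.card (gam G 2) = 3 ^ (n - 2) :=
    Cfsg.Agent.Lib.helper79.h79_px_card 3 n hG x hC (by omega) 2 le_rfl (by omega)
  have hPl : Nat.card (gam G (n - 1)) = 3 ^ (n - (n - 1)) :=
    Cfsg.Agent.Lib.helper79.h79_px_card 3 n hG x hC (by omega) (n - 1) (by omega) (by omega)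
  have hPl3 : Nat.card (gam G (n - 1)) = 3 := by
    rw [hPl, show n - (n - 1) = 1 by omega, pow_one]
  have hI2 : (gam G 2).index = 3 ^ 2 :=
    Cfsg.Agent.Lib.helper79.h79_px_index 3 n hG x hC (by omega) 2 le_rfl (by omega)
  obtain ⟨C, hCdef⟩ : ∃ C : Subgroup G, C = Subgroup.centralizer ({h} : Set G) := ⟨_, rfl⟩
  rw [← hCdef] at hCh
  have hmemC : ∀ u : G, u ∈ C ↔ h * u = u * h := by
    intro u
    rw [hCdef, Subgroup.mem_centralizer_iff]
    constructor
    · intro hu
      exact hu h rfl
    · intro hu g hg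
      rw [Set.mem_singleton_iff] at hg
      rw [hg]
      exact hu
  have key : 9 ≤ Nat.card (gam G 2 ⊓ C : Subgroup G) := by
    by_cases hCtop : C = ⊤
    · rw [hCtop, inf_top_eq, hP2]
      calc 9 = 3 ^ 2 := by norm_num
        _ ≤ 3 ^ (n - 2) := Nat.pow_le_pow_right (by norm_num) (by omega)
    · have hsup : C ⊔ gam G 2 ≠ ⊤ := fun hs => hCtop (hFRAT C hs)
      have hrel_dvd : (gam G 2).relIndex C ∣ 3 ^ 2 := by
        have h1 := Subgroup.relIndex_dvd_index_of_normal (gam G 2) C
        rw [hI2] at h1
        exact h1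
      have hrel_ne : (gam G 2).relIndex C ≠ 3 ^ 2 := by
        intro h9
        have h1 : (gam G 2).relIndex (C ⊔ gam G 2) * (C ⊔ gam G 2).index = (gam G 2).index :=
          Subgroup.relIndex_mul_index le_sup_right
        rw [Subgroup.relIndex_sup_right, h9, hI2] at h1
        have h2 : (C ⊔ gam G 2).index = 1 := by
          have h3 : (3 ^ 2 : ℕ) * (C ⊔ gam G 2).index = 3 ^ 2 * 1 := by rw [h1, mul_one]
          exact Nat.eq_of_mul_eq_mul_left (by norm_num) h3
        exact hsup (Subgroup.index_eq_one.mp h2)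
      have hrel_le : (gam G 2).relIndex C ≤ 3 := by
        obtain ⟨k, hk, hrk⟩ := (Nat.dvd_prime_pow Nat.prime_three).mp hrel_dvd
        rw [hrk] at hrel_ne ⊢
        interval_cases k
        · norm_num
        · norm_num
        · exact absurd rfl hrel_ne
      have hmul : Nat.card (gam G 2 ⊓ C : Subgroup G) * (gam G 2).relIndex C = Nat.card C := by
        have h1 := Subgroup.relIndex_mul_relIndex (⊥ : Subgroup G) (gam G 2 ⊓ C) C bot_le inf_le_right
        rw [Subgroup.relIndex_bot_left, Subgroup.relIndex_bot_left, Subgroup.inf_relIndex_right] at h1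
        exact h1
      have hcardC : 27 ≤ Nat.card C := by
        have hdvdC : Nat.card C ∣ 3 ^ n := hG ▸ Subgroup.card_subgroup_dvd_card C
        obtain ⟨k, hk, hCk⟩ := (Nat.dvd_prime_pow Nat.prime_three).mp hdvdC
        have hZle : Subgroup.center G ≤ C := by
          intro z hz
          rw [hmemC]
          exact Subgroup.mem_center_iff.mp hz h
        have hhC : h ∈ C := (hmemC h).mpr rfl
        have hhZ : h ∉ Subgroup.center G := by
          intro hz
          apply hCtop
          rw [eq_top_iff]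
          intro u _
          rw [hmemC]
          exact (Subgroup.mem_center_iff.mp hz u).symm
        have hZlt : Nat.card (Subgroup.center G) < Nat.card C := by
          by_contra hcon
          have e : Subgroup.center G = C :=
            Subgroup.eq_of_le_of_card_ge hZle (not_lt.mp hcon)
          exact hhZ (e ▸ hhC)
        have hG1 : Nontrivial G := by
          rw [← Finite.one_lt_card_iff_nontrivial, hG]
          exact Nat.one_lt_pow (by omega) (by norm_num)
        have hZnt : Nontrivial (Subgroup.center G) :=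
          IsPGroup.center_nontrivial (IsPGroup.of_card hG)
        have hZ1 : 1 < Nat.card (Subgroup.center G) := Finite.one_lt_card_iff_nontrivial.mpr hZnt
        have hdvdZ : Nat.card (Subgroup.center G) ∣ 3 ^ n :=
          hG ▸ Subgroup.card_subgroup_dvd_card (Subgroup.center G)
        obtain ⟨j, hj, hZj⟩ := (Nat.dvd_prime_pow Nat.prime_three).mp hdvdZ
        have hj1 : 1 ≤ j := by
          rcases Nat.eq_zero_or_pos j with h0 | h0
          · rw [h0, pow_zero] at hZj
            omega
          · exact h0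
        have hjk : j < k := by
          rw [hZj, hCk] at hZlt
          exact (Nat.pow_lt_pow_iff_right (by norm_num)).mp hZlt
        have hk2 : k ≠ 2 := by
          intro h2
          rw [h2] at hCk
          exact hCh hCk
        have hk3 : 3 ≤ k := by omega
        rw [hCk]
        calc 27 = 3 ^ 3 := by norm_num
          _ ≤ 3 ^ k := Nat.pow_le_pow_right (by norm_num) hk3
      by_contra hlt
      have h8 : Nat.card (gam G 2 ⊓ C : Subgroup G) ≤ 8 := by omega
      have : Nat.card (gam G 2 ⊓ C : Subgroup G) * (gam G 2).relIndex C ≤ 8 * 3 :=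
        Nat.mul_le_mul h8 hrel_le
      omega
  by_contra hcon
  have hle : gam G 2 ⊓ C ≤ gam G (n - 1) := by
    intro u hu
    by_contra hu'
    exact hcon ⟨u, hu.1, hu', ((hmemC u).mp hu.2).symm⟩
  have h3 := Subgroup.card_le_of_le hle
  omega

end Cfsg.Agent.Lib.helper79.P3
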