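import Mathlib
import Cfsg.Agent.Lib.helper79.PearlX
import Cfsg.Agent.Lib.helper77.P3NUA

set_option autoImplicit false
set_option linter.unusedVariables false

namespace Cfsg.Agent.Lib.helper79.P3

open Cfsg Cfsg.Agent.Lib.helper68

theorem helper77_com_eq_one_iff {G : Type*} [Group G] (a b : G) : com a b = 1 ↔ a * b = b * a := by
  unfold com
  constructor
  · intro h
    have e : a * b = b * a * (a⁻¹ * b⁻¹ * a * b) := by group
    rw [e, h, mul_one]
  · intro h
    calc a⁻¹ * b⁻¹ * a * b = a⁻¹ * b⁻¹ * (a * b) := by group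
      _ = a⁻¹ * b⁻¹ * (b * a) := by rw [h]
      _ = 1 := by group

/-- `X Y = Y X` on the abelian normal subgroup `P_2` (`X v = com v x`, `Y v = com v h`). -/
theorem helper77_com_com_swap {G : Type*} [Group G]
    (hab : ∀ a ∈ gam G 2, ∀ b ∈ gam G 2, a * b = b * a) (x h v : G) (hv : v ∈ gam G 2) :
    com (com v h) x = com (com v x) h := by
  have hc : com h⁻¹ x⁻¹ ∈ gam G (1 + 1) :=
    com_mem (i := 1) (j := 1) (by simp [gam]) (by simp [gam])
  have hce : com h⁻¹ x⁻¹ = h * x * h⁻¹ * x⁻¹ := by unfold com; group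
  rw [hce] at hc
  have hvc : v * (h * x * h⁻¹ * x⁻¹) = h * x * h⁻¹ * x⁻¹ * v := hab v hv _ hc
  have hN : (gam G 2).Normal := inferInstance
  have ha : h⁻¹ * v * h ∈ gam G 2 := by
    have h1 := hN.conj_mem v hv h⁻¹
    simpa using h1
  have hb : x⁻¹ * v * x ∈ gam G 2 := by
    have h1 := hN.conj_mem v hv x⁻¹
    simpa using h1
  have e1 : com (com v h) x =
      (h⁻¹ * v * h)⁻¹ * v * (x⁻¹ * v * x)⁻¹ * (x⁻¹ * h⁻¹ * v * h * x) := by
    unfold com; group
  have e2 : com (com v x) h =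
      (x⁻¹ * v * x)⁻¹ * v * (h⁻¹ * v * h)⁻¹ * (h⁻¹ * x⁻¹ * v * x * h) := by
    unfold com; group
  have ed : x⁻¹ * h⁻¹ * v * h * x = h⁻¹ * x⁻¹ * v * x * h := by
    have e3 : x⁻¹ * h⁻¹ * v * h * x =
        h⁻¹ * x⁻¹ * ((h * x * h⁻¹ * x⁻¹)⁻¹ * (v * (h * x * h⁻¹ * x⁻¹))) * x * h := by group
    rw [e3, hvc]
    group
  have hA := (gam G 2).inv_mem ha
  have hB := (gam G 2).inv_mem hb
  have hAv := hab _ hA v hv
  have hAB := hab _ hA _ hB
  have hvB := hab v hv _ hB
  have hABv : (h⁻¹ * v * h)⁻¹ * v * (x⁻¹ * v * x)⁻¹ = (x⁻¹ * v * x)⁻¹ * v * (h⁻¹ * v * h)⁻¹ := by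
    calc (h⁻¹ * v * h)⁻¹ * v * (x⁻¹ * v * x)⁻¹
        = (h⁻¹ * v * h)⁻¹ * (v * (x⁻¹ * v * x)⁻¹) := mul_assoc _ _ _
      _ = (h⁻¹ * v * h)⁻¹ * ((x⁻¹ * v * x)⁻¹ * v) := by rw [hvB]
      _ = (h⁻¹ * v * h)⁻¹ * (x⁻¹ * v * x)⁻¹ * v := (mul_assoc _ _ _).symm
      _ = (x⁻¹ * v * x)⁻¹ * (h⁻¹ * v * h)⁻¹ * v := by rw [hAB]
      _ = (x⁻¹ * v * x)⁻¹ * ((h⁻¹ * v * h)⁻¹ * v) := mul_assoc _ _ _
      _ = (x⁻¹ * v * x)⁻¹ * (v * (h⁻¹ * v * h)⁻¹) := by rw [hAv]
      _ = (x⁻¹ * v * x)⁻¹ * v * (h⁻¹ * v * h)⁻¹ := (mul_assoc _ _ _).symm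
  rw [e1, e2, ed, hABv]

theorem helper77_comm_of_comm {G : Type*} [Group G]
    (hab : ∀ a ∈ gam G 2, ∀ b ∈ gam G 2, a * b = b * a) (x h v : G) (hv : v ∈ gam G 2)
    (hvh : v * h = h * v) : com v x * h = h * com v x := by
  have h1 : com v h = 1 := (helper77_com_eq_one_iff v h).mpr hvh
  have h2 := helper77_com_com_swap hab x h v hv
  rw [h1] at h2
  have h3 : com (1 : G) x = 1 := by unfold com; group
  rw [h3] at h2
  exact (helper77_com_eq_one_iff _ _).mp h2.symm

/-- NONUNIF, sub-piece (b): the `Y`-shift. (`hab` = P2AB, `hFRAT` = FRAT as hypotheses.) -/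
theorem helper77_p3_nonunif_b {G : Type*} [Group G] [Finite G] (n : ℕ) (hn : 4 ≤ n) (hG : Nat.card G = 3 ^ n) (x : G)
    (hx : x ^ 3 = 1) (hC : Nat.card (Subgroup.centralizer ({x} : Set G)) = 3 ^ 2)
    (hab : ∀ a ∈ gam G 2, ∀ b ∈ gam G 2, a * b = b * a)
    (hFRAT : ∀ H : Subgroup G, H ⊔ gam G 2 = ⊤ → H = ⊤) (h : G) (hh : h ∉ gam G 2)
    (hCh : Nat.card (Subgroup.centralizer ({h} : Set G)) ≠ 3 ^ 2) :
    ∀ j, 2 ≤ j → ∀ v ∈ gam G j, com v h ∈ gam G (j + 2) := by
  have : Fact (Nat.Prime 3) := ⟨Nat.prime_three⟩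
  have hx1 : x ∈ gam G 1 := by simp [gam]
  have hh1 : h ∈ gam G 1 := by simp [gam]
  obtain ⟨u, hu2, hun, huh⟩ := helper77_p3_nonunif_a n hn hG x hC hFRAT h hh hCh
  have L1 : ∀ k d, 2 ≤ d → d + k = n - 2 → ∀ m ∈ gam G d, m ∉ gam G (n - 1) → m * h = h * m →
      ∃ m' ∈ gam G (n - 2), m' ∉ gam G (n - 1) ∧ m' * h = h * m' := by
    intro k
    induction k with
    | zero =>
      intro d hd hdk m hm hm' hmh
      have hdn : d = n - 2 := by omega
      subst hdn
      exact ⟨m, hm, hm', hmh⟩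
    | succ k ih =>
      intro d hd hdk m hm hm' hmh
      by_cases hm1 : m ∈ gam G (d + 1)
      · exact ih (d + 1) (by omega) (by omega) m hm1 hm' hmh
      · have hu := Cfsg.Agent.Lib.helper79.h79_px_unis 3 n hG x hC (by omega) d hd (by omega) m hm hm1
        refine ih (d + 1) (by omega) (by omega) (com m x) hu.1 ?_ ?_
        · intro hcon
          exact hu.2 (gam_antitone (show d + 2 ≤ n - 1 by omega) hcon)
        · exact helper77_comm_of_comm hab x h m (gam_antitone hd hm) hmh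
  obtain ⟨m, hm, hm', hmh⟩ := L1 (n - 2 - 2) 2 le_rfl (by omega) u hu2 hun huh
  have hm2 := Cfsg.Agent.Lib.helper79.h79_px_unis 3 n hG x hC (by omega) (n - 2) (by omega) (by omega) m hm
    (by rwa [show n - 2 + 1 = n - 1 by omega])
  have hm2h : com m x * h = h * com m x :=
    helper77_comm_of_comm hab x h m (gam_antitone (show 2 ≤ n - 2 by omega) hm) hmh
  have hcent : ∀ v ∈ gam G (n - 2), v * h = h * v := by
    obtain ⟨C, hCdef⟩ : ∃ C : Subgroup G, C = Subgroup.centralizer ({h} : Set G) := ⟨_, rfl⟩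
    have hmemC : ∀ u : G, u ∈ C ↔ h * u = u * h := by
      intro u
      rw [hCdef, Subgroup.mem_centralizer_iff]
      constructor
      · intro hu
        exact hu h rfl
      · intro hu g hg
        rw [Set.mem_singleton_iff] at hg
        rw [hg]
        exact hu
    have hcardP : Nat.card (gam G (n - 2)) = 9 := by
      have h1 := Cfsg.Agent.Lib.helper79.h79_px_card 3 n hG x hC (by omega) (n - 2) (by omega) (by omega)
      rw [h1, show n - (n - 2) = 2 by omega]
      norm_num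
    have hpow : ∀ K : Subgroup G, ∃ a, Nat.card K = 3 ^ a := by
      intro K
      have hdvd : Nat.card K ∣ 3 ^ n := hG ▸ Subgroup.card_subgroup_dvd_card K
      obtain ⟨a, -, ha⟩ := (Nat.dvd_prime_pow Nat.prime_three).mp hdvd
      exact ⟨a, ha⟩
    have hlt : ∀ (H K : Subgroup G), H ≤ K → ∀ g ∈ K, g ∉ H → Nat.card H < Nat.card K := by
      intro H K hle g hg hg'
      by_contra hcon
      have e : H = K := Subgroup.eq_of_le_of_card_ge hle (not_lt.mp hcon)
      exact hg' (e ▸ hg)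
    have h1 : Nat.card (⊥ : Subgroup G) < Nat.card (C ⊓ gam G (n - 1) : Subgroup G) := by
      refine hlt _ _ bot_le (com m x) ⟨(hmemC _).mpr hm2h.symm, ?_⟩ ?_
      · have h0 := hm2.1
        rwa [show n - 2 + 1 = n - 1 by omega] at h0
      · intro hcon
        rw [Subgroup.mem_bot] at hcon
        apply hm2.2
        rw [hcon]
        exact Subgroup.one_mem _
    have h2 : Nat.card (C ⊓ gam G (n - 1) : Subgroup G) < Nat.card (C ⊓ gam G (n - 2) : Subgroup G) := by
      refine hlt _ _ (inf_le_inf_left C (gam_antitone (by omega))) m ⟨(hmemC _).mpr hmh.symm, hm⟩ ?_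
      intro hcon
      exact hm' hcon.2
    rw [Subgroup.card_bot] at h1
    obtain ⟨a, ha⟩ := hpow (C ⊓ gam G (n - 1))
    obtain ⟨b, hb⟩ := hpow (C ⊓ gam G (n - 2))
    have ha1 : 1 ≤ a := by
      rcases Nat.eq_zero_or_pos a with h0 | h0
      · rw [ha, h0, pow_zero] at h1
        omega
      · exact h0
    have hab' : a < b := by
      rw [ha, hb] at h2
      exact (Nat.pow_lt_pow_iff_right (by norm_num)).mp h2
    have h9 : 9 ≤ Nat.card (C ⊓ gam G (n - 2) : Subgroup G) := by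
      rw [hb]
      calc 9 = 3 ^ 2 := by norm_num
        _ ≤ 3 ^ b := Nat.pow_le_pow_right (by norm_num) (by omega)
    have e : C ⊓ gam G (n - 2) = gam G (n - 2) :=
      Subgroup.eq_of_le_of_card_ge inf_le_right (by rw [hcardP]; exact h9)
    intro v hv
    have hvC : v ∈ C := by
      rw [← e] at hv
      exact hv.1
    exact ((hmemC v).mp hvC).symm
  have main : ∀ k j, 2 ≤ j → n - 2 ≤ j + k → ∀ v ∈ gam G j, com v h ∈ gam G (j + 2) := by
    intro k
    induction k with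
    | zero =>
      intro j hj hjk v hv
      have hvh := hcent v (gam_antitone (show n - 2 ≤ j by omega) hv)
      rw [(helper77_com_eq_one_iff v h).mpr hvh]
      exact Subgroup.one_mem _
    | succ k ih =>
      intro j hj hjk v hv
      by_cases hjn : n - 2 ≤ j
      · have hvh := hcent v (gam_antitone hjn hv)
        rw [(helper77_com_eq_one_iff v h).mpr hvh]
        exact Subgroup.one_mem _
      · by_contra hcon
        have h1 : com v h ∈ gam G (j + 1) := com_mem hv hh1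
        have hu := Cfsg.Agent.Lib.helper79.h79_px_unis 3 n hG x hC (by omega) (j + 1) (by omega) (by omega)
          (com v h) h1 hcon
        have hsw := helper77_com_com_swap hab x h v (gam_antitone hj hv)
        have h3 : com (com v x) h ∈ gam G (j + 1 + 2) :=
          ih (j + 1) (by omega) (by omega) (com v x) (com_mem hv hx1)
        rw [← hsw] at h3
        exact hu.2 h3
  intro j hj v hv
  exact main n j hj (by omega) v hv

end Cfsg.Agent.Lib.helper79.P3
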