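import Mathlib
import Cfsg.Agent.Lib.helper79.PearlX
import Cfsg.Agent.Lib.helper77.P3NUB
import Cfsg.Agent.Lib.helper6.P3P2AB
import Cfsg.Agent.Lib.helper58.P3FRAT
import Cfsg.Agent.Lib.helper72.P3NUC
import Cfsg.Agent.Lib.helper1.P3NUC1
import Cfsg.Agent.Lib.helper6.P3NUC3

set_option autoImplicit false

namespace Cfsg.Agent.Lib.helper79.P3

open Cfsg Cfsg.Agent.Lib.helper68

/-- NONUNIF (racer copy of `p3_nonuniform`): assembled from (b) (helper77.P3NUB), P2AB (helper6), FRAT (helper58),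
the (c) core (helper72), (c1) (helper1) and (c3) (helper6). -/
theorem helper77_p3_nonuniform {G : Type*} [Group G] [Finite G] (n : ℕ) (hn : 4 ≤ n) (hG : Nat.card G = 3 ^ n) (x : G)
    (hx : x ^ 3 = 1) (hC : Nat.card (Subgroup.centralizer ({x} : Set G)) = 3 ^ 2) (h : G) (hh : h ∉ gam G 2)
    (hCh : Nat.card (Subgroup.centralizer ({h} : Set G)) ≠ 3 ^ 2) :
    (∀ j, 2 ≤ j → ∀ v ∈ gam G j, com v h ∈ gam G (j + 2)) ∧
      (5 ≤ n → h ^ 3 ∈ gam G 3 ∧ h ^ 3 ∉ gam G 4) := by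
  have hab := p3_gam2_comm n (by omega) hG x hx hC
  have hb := helper77_p3_nonunif_b n hn hG x hx hC hab (fun H hH => p3_frat n (by omega) hG H hH) h hh hCh
  exact ⟨hb, fun h5 => h72_p3_nonunif_c_core n h5 hG x hx hC hab h hb
    (h1_p3_c1 n hn hG x hx hC h hh hCh) (h6_p3_nu_c3 n (by omega) hG x hC h)⟩

end Cfsg.Agent.Lib.helper79.P3
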