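import Mathlib
import Cfsg.Prelude.Def_Blocks
import Cfsg.Agent.S0919
import Cfsg.Agent.S0933
import Cfsg.Agent.Lib.helper20.NilCentral
import Cfsg.Agent.Lib.helper20.OrbitSum
import Cfsg.Agent.Lib.helper4.CharTheory
import Cfsg.Agent.Lib.helper80.KRCount
import Cfsg.Agent.Lib.helper81.Blocks

/-!
# Blocks of the centralizer of a `p`-subgroup induce blocks (helper77)

* `exists_induced_centralizer_subgroup`: for a `p`-subgroup `P` of `G`, every block of `C_G(P)`
  induces a block of `G` (the Brauer homomorphism for `C_G(P)`; `P` need not lie in `C_G(P)`);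
* `isInducedBlock_centralizer_iff_om`: a block `f` of `C_G(P)` induces the block `B` iff the
  central character of `f` does not vanish (modulo the local ideal) on the restriction of the
  idempotent of `B`.
-/

set_option autoImplicit false

namespace Cfsg.Agent.Lib.helper77

open Cfsg

universe u

section PrincTypeA

variable {G : Type u} [Group G]

/-- For `H = C_G(P)` the Brauer central character is the induced central character. -/
theorem brauerCentralChar_centralizer (P : Subgroup G)
    (ξ : Subgroup.centralizer (P : Set G) → ℂ) (g : G) :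
    brauerCentralChar P (Subgroup.centralizer (P : Set G)) ξ g
      = inducedCentralChar (Subgroup.centralizer (P : Set G)) ξ g := by
  unfold brauerCentralChar inducedCentralChar
  apply finsum_mem_congr
  · ext h
    simp only [Set.mem_ofPred_eq]
    exact ⟨fun hh => hh.1, fun hh => ⟨hh, h.2⟩⟩
  · intro _ _; rfl

/-- Every block of the centralizer of a `p`-subgroup induces a block of `G`. -/
theorem exists_induced_centralizer_subgroup [Finite G] {p : ℕ} [Fact p.Prime]
    {M : Ideal AlgInt} (hM : IsPModular p M) (P : Subgroup G) (hP : IsPGroup p P)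
    (b : Set (IrrCharacter (Subgroup.centralizer (P : Set G)))) (hb : IsPBlock M b) :
    ∃ B : Set (IrrCharacter G), IsInducedBlock M (Subgroup.centralizer (P : Set G)) b B := by
  classical
  have : Fintype G := Fintype.ofFinite G
  have : Fintype (Subgroup.centralizer (P : Set G)) := Fintype.ofFinite _
  have hMp := helper20.isPrime_of_isPModular hM
  have hHN : Subgroup.centralizer (P : Set G) ≤ Subgroup.normalizer (P : Set G) :=
    Subgroup.centralizer_le_normalizer _
  have hCH : Subgroup.centralizer (P : Set G) ≤ Subgroup.centralizer (P : Set G) := le_refl _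
  obtain ⟨ξ₀, rfl⟩ := hb
  have hξ1 := helper20.isIrrCharacter_one_ne_zero _ ξ₀.2
  have key : ∃ χ₀ : IrrCharacter G, ∀ g : G, MemLocalIdeal M
      (brauerCentralChar P (Subgroup.centralizer (P : Set G))
        (ξ₀ : Subgroup.centralizer (P : Set G) → ℂ) g - centralChar (χ₀ : G → ℂ) g) := by
    by_contra hcon
    push Not at hcon
    have : Fintype (IrrCharacter G) := Fintype.ofFinite _
    have hΛsub : ∀ a c, helper20.omega (ξ₀ : Subgroup.centralizer (P : Set G) → ℂ)
          (Cfsg.Agent.S0919.brauerRes P (Subgroup.centralizer (P : Set G))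
            (a - c • (1 : MonoidAlgebra ℂ G)))
        = helper20.omega (ξ₀ : Subgroup.centralizer (P : Set G) → ℂ)
          (Cfsg.Agent.S0919.brauerRes P (Subgroup.centralizer (P : Set G)) a) - c := by
      intro a c
      rw [Cfsg.Agent.S0919.brauerRes_sub, Cfsg.Agent.S0919.brauerRes_smul,
        Cfsg.Agent.S0919.brauerRes_one, helper20.omega_sub, helper20.omega_smul,
        helper20.omega_one _ hξ1, mul_one]
    obtain ⟨z, hzc, hzl, hz0, hzΛ⟩ := helper20.exists_separator hMp
      (fun a => helper20.omega (ξ₀ : Subgroup.centralizer (P : Set G) → ℂ)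
        (Cfsg.Agent.S0919.brauerRes P (Subgroup.centralizer (P : Set G)) a))
      (by
        show ¬ MemLocalIdeal M (helper20.omega (ξ₀ : Subgroup.centralizer (P : Set G) → ℂ)
          (Cfsg.Agent.S0919.brauerRes P (Subgroup.centralizer (P : Set G)) 1))
        rw [Cfsg.Agent.S0919.brauerRes_one, helper20.omega_one _ hξ1]
        exact helper20.not_memLocalIdeal_one)
      (fun a hac hal => helper20.memLocalRing_omega hMp _ (helper20.isIrrCharacter_conj ξ₀.2)
        (helper20.memLocalRing_centralChar hMp _ ξ₀.2) _
        (Cfsg.Agent.S0919.isCentralElt_brauerRes P _ hHN a hac)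
        (Cfsg.Agent.S0919.localCoeff_brauerRes hMp P _ a hal))
      (fun a c hac hal hcc hcl => by
        show MemLocalIdeal M (helper20.omega (ξ₀ : Subgroup.centralizer (P : Set G) → ℂ)
            (Cfsg.Agent.S0919.brauerRes P (Subgroup.centralizer (P : Set G)) (a * c))
          - helper20.omega (ξ₀ : Subgroup.centralizer (P : Set G) → ℂ)
              (Cfsg.Agent.S0919.brauerRes P (Subgroup.centralizer (P : Set G)) a)
            * helper20.omega (ξ₀ : Subgroup.centralizer (P : Set G) → ℂ)
              (Cfsg.Agent.S0919.brauerRes P (Subgroup.centralizer (P : Set G)) c))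
        rw [← helper20.omega_mul _ ξ₀.2 _ _ (Cfsg.Agent.S0919.isCentralElt_brauerRes P _ hHN a hac),
          ← helper20.omega_sub]
        apply Cfsg.Agent.S0919.memLocalIdeal_omega_of_coeff hMp _ ξ₀.2
        · exact (Cfsg.Agent.S0919.isCentralElt_brauerRes P _ hHN _ (hac.mul hcc)).sub
            ((Cfsg.Agent.S0919.isCentralElt_brauerRes P _ hHN a hac).mul
              (Cfsg.Agent.S0919.isCentralElt_brauerRes P _ hHN c hcc))
        · intro h
          exact Cfsg.Agent.S0919.coeff_brauerRes_mul hM P _ hP hCH a c hac hal hcc hcl h)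
      (List.map (fun χ : IrrCharacter G => (χ : G → ℂ)) Finset.univ.toList)
      (by
        intro χ hχ
        obtain ⟨χ', _, rfl⟩ := List.mem_map.mp hχ
        exact χ'.2)
      (by
        intro χ hχ
        obtain ⟨χ', _, rfl⟩ := List.mem_map.mp hχ
        obtain ⟨g, hg⟩ := hcon χ'
        refine ⟨helper20.classSum g - centralChar (χ' : G → ℂ) g • 1,
          (helper20.isCentralElt_classSum g).sub (helper20.isCentralElt_one.smul _),
          (helper20.localCoeff_classSum hMp g).sub hMp
            ((helper20.localCoeff_one hMp).smul hMp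
              (helper20.memLocalRing_centralChar hMp _ χ'.2 g)),
          helper20.omega_classSum_sub _ χ'.2 g, ?_⟩
        show ¬ MemLocalIdeal M (helper20.omega (ξ₀ : Subgroup.centralizer (P : Set G) → ℂ)
          (Cfsg.Agent.S0919.brauerRes P (Subgroup.centralizer (P : Set G))
            (helper20.classSum g - centralChar (χ' : G → ℂ) g • 1)))
        rw [hΛsub, Cfsg.Agent.S0919.omega_brauerRes_classSum]
        exact hg)
    have hz : z = 0 := by
      have hzero := Cfsg.Agent.Lib.helper4.eq_zero_of_forall_irr_sum_mul_eq_zero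
        (f := fun g : G => z.coeff g)
        (fun g h => (helper20.isCentralElt_iff z).mp hzc g h)
        (fun χ => by
          have h1 := hz0 (χ : G → ℂ) (List.mem_map.mpr ⟨χ, Finset.mem_toList.mpr
            (Finset.mem_univ _), rfl⟩)
          unfold helper20.omega at h1
          rcases div_eq_zero_iff.mp h1 with h2 | h2
          · exact h2
          · exact absurd h2 (helper20.isIrrCharacter_one_ne_zero _ χ.2))
      apply MonoidAlgebra.coeff_injective
      ext g
      exact congrFun hzero g
    apply hzΛ
    show MemLocalIdeal M (helper20.omega (ξ₀ : Subgroup.centralizer (P : Set G) → ℂ)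
      (Cfsg.Agent.S0919.brauerRes P (Subgroup.centralizer (P : Set G)) z))
    rw [hz, Cfsg.Agent.S0919.brauerRes_zero, helper20.omega_zero]
    exact helper20.memLocalIdeal_zero hMp
  obtain ⟨χ₀, hχ₀⟩ := key
  refine ⟨blockOf M (χ₀ : G → ℂ), ⟨ξ₀, rfl⟩, ⟨χ₀, rfl⟩, ?_⟩
  intro ξ hξ χ hχ g
  have e3 := Cfsg.Agent.S0933.inducedCentralChar_congr M hMp (Subgroup.centralizer (P : Set G))
    (ξ₀ : Subgroup.centralizer (P : Set G) → ℂ) (ξ : Subgroup.centralizer (P : Set G) → ℂ)
    (helper20.isCharacter_of_isIrrCharacter ξ₀.2) (helper20.isCharacter_of_isIrrCharacter ξ.2)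
    hξ g
  have e4 := hχ₀ g
  rw [brauerCentralChar_centralizer] at e4
  have e5 : MemLocalIdeal M (centralChar (χ₀ : G → ℂ) g - centralChar (χ : G → ℂ) g) := hχ g
  have := helper20.memLocalIdeal_add hMp (helper20.memLocalIdeal_add hMp e3 e4) e5
  convert this using 1
  ring

/-- A block `f` of `C_G(P)` (`P` a `p`-subgroup) induces the block `B` of `G` iff the central
character of `f` is nonzero modulo the local ideal on the restricted idempotent of `B`. -/
theorem isInducedBlock_centralizer_iff_om [Fintype G] {p : ℕ} [Fact p.Prime]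
    {M : Ideal AlgInt} (hM : IsPModular p M) (P : Subgroup G)
    [Fintype (Subgroup.centralizer (P : Set G))] (hP : IsPGroup p P)
    {f : Set (IrrCharacter (Subgroup.centralizer (P : Set G)))} (hf : IsPBlock M f)
    {B : Set (IrrCharacter G)} (hB : IsPBlock M B)
    {ξ : IrrCharacter (Subgroup.centralizer (P : Set G))} (hξ : ξ ∈ f) :
    IsInducedBlock M (Subgroup.centralizer (P : Set G)) f B ↔
      ¬ MemLocalIdeal M (helper80.om (ξ : Subgroup.centralizer (P : Set G) → ℂ)
        (helper80.resFun (Subgroup.centralizer (P : Set G)) (blockCoeff B))) := by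
  have hMp := helper20.isPrime_of_isPModular hM
  have hcf : IsClassFunction G (blockCoeff B) := fun g x => helper81.blockCoeff_conj B g x
  have hloc : ∀ g, MemLocalRing M (blockCoeff B g) := helper81.memLocalRing_blockCoeff hMp hB
  constructor
  · intro h hmem
    obtain ⟨χ, hχ⟩ := helper80.isPBlock_nonempty hMp hB
    have h1 := ((helper80.isInducedBlock_iff_om hMp _ f B).mp h).2.2 ξ hξ χ hχ _ hcf hloc
    rw [helper80.om_blockCoeff, if_pos hχ] at h1
    have h2 := helper20.memLocalIdeal_sub hMp hmem h1
    rw [sub_sub_cancel] at h2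
    exact helper20.not_memLocalIdeal_one h2
  · intro h
    obtain ⟨B', hB'⟩ := exists_induced_centralizer_subgroup hM P hP f hf
    obtain ⟨χ', hχ'⟩ := helper80.isPBlock_nonempty hMp hB'.2.1
    have h1 := ((helper80.isInducedBlock_iff_om hMp _ f B').mp hB').2.2 ξ hξ χ' hχ' _ hcf hloc
    rw [helper80.om_blockCoeff] at h1
    by_cases hχB : χ' ∈ B
    · rw [helper80.isPBlock_eq_of_mem hMp hB hB'.2.1 hχB hχ']
      exact hB'
    · rw [if_neg hχB, sub_zero] at h1
      exact absurd h1 h

end PrincTypeA

end Cfsg.Agent.Lib.helper77
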