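import Mathlib
import Cfsg.Prelude.Def_Blocks
import Cfsg.Agent.Lib.helper77.FongSolv
import Cfsg.Agent.Lib.helper14.PConstrained2
import Cfsg.Agent.Lib.helper54.AxB
import Cfsg.Agent.Lib.helper27.AxB

/-!
# Fong's theorem over a `p'`-subgroup with a self-centralizing `p`-section (helper77)

`W ≤ L` normal subgroups of `X`, `W` of order prime to `p`, `L/W` a `p`-group, and every
`p'`-element of `X` centralizing the section `L/W` lies in `W`.  Then for an `X`-invariant
irreducible character `θ` of `W` the characters of `X` over `θ` form a block whose defect groups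
have index prime to `p` (`fong_cover_of_section`).

`mem_of_coprime_of_section` verifies the hypothesis for the centralizer of a `p`-subgroup `R` in a
group `G` with `K = O_{p'}`-like, `L/K` a `p`-group containing its centralizer (Thompson's
`A × B` lemma in `G/K`).
-/

set_option autoImplicit false

namespace Cfsg.Agent.Lib.helper77

open Cfsg

universe u

section SectCent

variable {X : Type u} [Group X]

/-- A subgroup all of whose elements have `p`-power order is a `p`-group. -/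
theorem isPGroup_of_forall_mem_pow {p : ℕ} (H : Subgroup X)
    (h : ∀ y ∈ H, ∃ k : ℕ, y ^ (p ^ k) = 1) : IsPGroup p H := by
  rintro ⟨y, hy⟩
  obtain ⟨k, hk⟩ := h y hy
  exact ⟨k, Subtype.ext hk⟩

/-- The centralizer of the section `L/W`: the elements `x` with `[x, L] ⊆ W`. -/
def sectCentralizer (W L : Subgroup X) [hW : W.Normal] : Subgroup X where
  carrier := {x | ∀ l ∈ L, x * l * x⁻¹ * l⁻¹ ∈ W}
  mul_mem' := by
    intro a b ha hb l hl
    have h1 : a * b * l * (a * b)⁻¹ * l⁻¹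
        = a * (b * l * b⁻¹ * l⁻¹) * a⁻¹ * (a * l * a⁻¹ * l⁻¹) := by group
    rw [h1]
    exact W.mul_mem (hW.conj_mem _ (hb l hl) a) (ha l hl)
  one_mem' := by
    intro l _
    have h1 : (1 : X) * l * 1⁻¹ * l⁻¹ = 1 := by group
    rw [h1]
    exact W.one_mem
  inv_mem' := by
    intro a ha l hl
    have h1 : a⁻¹ * l * a⁻¹⁻¹ * l⁻¹ = a⁻¹ * (a * l * a⁻¹ * l⁻¹)⁻¹ * a⁻¹⁻¹ := by group
    rw [h1]
    exact hW.conj_mem _ (W.inv_mem (ha l hl)) a⁻¹

theorem mem_sectCentralizer (W L : Subgroup X) [W.Normal] (x : X) :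
    x ∈ sectCentralizer W L ↔ ∀ l ∈ L, x * l * x⁻¹ * l⁻¹ ∈ W := Iff.rfl

instance sectCentralizer_normal (W L : Subgroup X) [hW : W.Normal] [hL : L.Normal] :
    (sectCentralizer W L).Normal := by
  constructor
  intro x hx g l hl
  have h1 : g * x * g⁻¹ * l * (g * x * g⁻¹)⁻¹ * l⁻¹
      = g * (x * (g⁻¹ * l * g⁻¹⁻¹) * x⁻¹ * (g⁻¹ * l * g⁻¹⁻¹)⁻¹) * g⁻¹ := by group
  rw [h1]
  exact hW.conj_mem _ (hx _ (hL.conj_mem l hl g⁻¹)) g

/-- The relative index of a normal subgroup is the order of the image in the quotient. -/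
theorem relIndex_eq_card_map_mk (W N : Subgroup X) [W.Normal] :
    W.relIndex N = Nat.card (N.map (QuotientGroup.mk' W)) := by
  have h1 : W = (⊥ : Subgroup (X ⧸ W)).comap (QuotientGroup.mk' W) := by
    rw [MonoidHom.comap_bot, QuotientGroup.ker_mk']
  conv_lhs => rw [h1]
  rw [Subgroup.relIndex_comap, Subgroup.relIndex_bot_left]

variable [Finite X] {p : ℕ} [Fact p.Prime]

theorem isPGroup_map_section (W L : Subgroup X) [hW : W.Normal] [hL : L.Normal]
    (hLp : ∀ l ∈ L, ∃ j : ℕ, l ^ (p ^ j) ∈ W)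
    (hKC : ∀ x : X, (orderOf x).Coprime p → (∀ l ∈ L, x * l * x⁻¹ * l⁻¹ ∈ W) → x ∈ W) :
    IsPGroup p ((L ⊔ sectCentralizer W L).map (QuotientGroup.mk' W)) := by
  rw [Subgroup.map_sup]
  have h1 : IsPGroup p (L.map (QuotientGroup.mk' W)) := by
    apply isPGroup_of_forall_mem_pow
    rintro _ ⟨l, hl, rfl⟩
    obtain ⟨j, hj⟩ := hLp l hl
    refine ⟨j, ?_⟩
    rw [← map_pow, QuotientGroup.mk'_apply, QuotientGroup.eq_one_iff]
    exact hj
  have h2 : IsPGroup p ((sectCentralizer W L).map (QuotientGroup.mk' W)) := by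
    apply isPGroup_of_forall_mem_pow
    rintro _ ⟨c, hc, rfl⟩
    obtain ⟨k, hk⟩ := helper27.exists_pow_coprime p c
    refine ⟨k, ?_⟩
    rw [← map_pow, QuotientGroup.mk'_apply, QuotientGroup.eq_one_iff]
    exact hKC _ hk (fun l hl => (sectCentralizer W L).pow_mem hc _ l hl)
  have : ((sectCentralizer W L).map (QuotientGroup.mk' W)).Normal :=
    Subgroup.Normal.map inferInstance _ (QuotientGroup.mk'_surjective W)
  exact IsPGroup.to_sup_of_normal_right h1 h2

theorem relIndex_section (W L : Subgroup X) [hW : W.Normal] [hL : L.Normal]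
    (hLp : ∀ l ∈ L, ∃ j : ℕ, l ^ (p ^ j) ∈ W)
    (hKC : ∀ x : X, (orderOf x).Coprime p → (∀ l ∈ L, x * l * x⁻¹ * l⁻¹ ∈ W) → x ∈ W) :
    ∃ k : ℕ, W.relIndex (L ⊔ sectCentralizer W L) = p ^ k := by
  rw [relIndex_eq_card_map_mk]
  exact IsPGroup.iff_card.mp (isPGroup_map_section W L hLp hKC)

theorem centralizer_le_section (W L : Subgroup X) [hW : W.Normal] [hL : L.Normal]
    (hWL : W ≤ L) (hWp : (Nat.card W).Coprime p)
    (hLp : ∀ l ∈ L, ∃ j : ℕ, l ^ (p ^ j) ∈ W)
    (hKC : ∀ x : X, (orderOf x).Coprime p → (∀ l ∈ L, x * l * x⁻¹ * l⁻¹ ∈ W) → x ∈ W)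
    (Q' : Subgroup X) (hQN : Q' ≤ L ⊔ sectCentralizer W L) (hQp : IsPGroup p Q')
    (hQS : ¬ p ∣ Q'.relIndex (L ⊔ sectCentralizer W L)) :
    Subgroup.centralizer (Q' : Set X) ≤ L ⊔ sectCentralizer W L := by
  have hp : p.Prime := Fact.out
  obtain ⟨k, hk⟩ := relIndex_section W L hLp hKC
  have hWN : W ≤ L ⊔ sectCentralizer W L := le_sup_of_le_left hWL
  have hsup : Q' ⊔ W = L ⊔ sectCentralizer W L := by
    apply Subgroup.eq_of_le_of_card_ge (sup_le hQN hWN)
    have c1 : Nat.card W * W.relIndex (L ⊔ sectCentralizer W L)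
        = Nat.card (L ⊔ sectCentralizer W L : Subgroup X) := by
      have := Subgroup.relIndex_mul_relIndex ⊥ W (L ⊔ sectCentralizer W L) bot_le hWN
      rwa [Subgroup.relIndex_bot_left, Subgroup.relIndex_bot_left] at this
    have c2 : Nat.card Q' * Q'.relIndex (L ⊔ sectCentralizer W L)
        = Nat.card (L ⊔ sectCentralizer W L : Subgroup X) := by
      have := Subgroup.relIndex_mul_relIndex ⊥ Q' (L ⊔ sectCentralizer W L) bot_le hQN
      rwa [Subgroup.relIndex_bot_left, Subgroup.relIndex_bot_left] at this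
    obtain ⟨j, hj⟩ := IsPGroup.iff_card.mp hQp
    have hinf : W ⊓ Q' = ⊥ :=
      (Subgroup.disjoint_of_coprime_natCard
        (by rw [hj]; exact Nat.Coprime.pow_right j hWp)).eq_bot
    have c3 : Nat.card (Q' ⊔ W : Subgroup X) = Nat.card W * Nat.card Q' := by
      have h1 := Subgroup.relIndex_mul_relIndex ⊥ W (Q' ⊔ W) bot_le le_sup_right
      rw [Subgroup.relIndex_bot_left, Subgroup.relIndex_bot_left, Subgroup.relIndex_sup_right,
        ← Subgroup.inf_relIndex_right, hinf, Subgroup.relIndex_bot_left] at h1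
      exact h1.symm
    have hkj : p ^ k ∣ p ^ j := by
      have h1 : p ^ k ∣ p ^ j * Q'.relIndex (L ⊔ sectCentralizer W L) := by
        rw [← hj, c2, ← c1, hk]
        exact dvd_mul_left _ _
      exact (Nat.Coprime.dvd_mul_right
        (Nat.Coprime.pow_left k ((Nat.Prime.coprime_iff_not_dvd hp).mpr hQS))).mp h1
    rw [c3, ← c1, hk, hj]
    exact Nat.mul_le_mul_left _ (Nat.le_of_dvd (pos_of_ne_zero (pow_ne_zero _ hp.ne_zero)) hkj)
  intro y hy
  apply Subgroup.mem_sup_right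
  intro l hl
  have hlN : l ∈ Q' ⊔ W := by
    rw [hsup]
    exact Subgroup.mem_sup_left hl
  obtain ⟨q, hq, w, hw, rfl⟩ := Subgroup.mem_sup_of_normal_right.mp hlN
  have hyq : q * y = y * q := (Subgroup.mem_centralizer_iff.mp hy) q hq
  have h1 : y * (q * w) * y⁻¹ * (q * w)⁻¹ = q * (y * w * y⁻¹ * w⁻¹) * q⁻¹ := by
    have h2 : y * (q * w) = q * (y * w) := by rw [← mul_assoc, ← hyq, mul_assoc]
    rw [h2]
    group
  rw [h1]
  exact hW.conj_mem _ (W.mul_mem (hW.conj_mem w hw y) (W.inv_mem hw)) q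

end SectCent

section FongSection

variable {X : Type u} [Group X] [Fintype X] {p : ℕ} [Fact p.Prime]

/-- **Fong's theorem for a self-centralizing `p`-section.** -/
theorem fong_cover_of_section {M : Ideal AlgInt} (hM : IsPModular p M)
    (W L : Subgroup X) [hW : W.Normal] [hL : L.Normal] [Fintype W]
    (hWL : W ≤ L) (hWp : (Nat.card W).Coprime p)
    (hLp : ∀ l ∈ L, ∃ j : ℕ, l ^ (p ^ j) ∈ W)
    (hKC : ∀ x : X, (orderOf x).Coprime p → (∀ l ∈ L, x * l * x⁻¹ * l⁻¹ ∈ W) → x ∈ W)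
    (θ : IrrCharacter W) (hinv : ∀ g : X, cjIrr W g θ = θ) :
    IsPBlock M {χ : IrrCharacter X |
        classInner (fun n : W => (χ : X → ℂ) n) (θ : W → ℂ) ≠ 0} ∧
      ∀ D : Subgroup X, IsDefectGroup p M {χ : IrrCharacter X |
        classInner (fun n : W => (χ : X → ℂ) n) (θ : W → ℂ) ≠ 0} D → ¬ p ∣ D.index := by
  have hpp : p.Prime := Fact.out
  have : Fintype (L ⊔ sectCentralizer W L : Subgroup X) := Fintype.ofFinite _
  obtain ⟨k, hk⟩ := relIndex_section W L hLp hKC
  exact fong_cover_structure W (L ⊔ sectCentralizer W L) hM (le_sup_of_le_left hWL)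
    (fun h => hpp.one_lt.ne' (Nat.Coprime.eq_one_of_dvd hWp.symm h)) hk
    (fun Q' hQ' hQp hQS => centralizer_le_section W L hWL hWp hLp hKC Q' hQ' hQp hQS) θ hinv

end FongSection

section KC

variable {G : Type u} [Group G] [Finite G] {p : ℕ} [Fact p.Prime]

/-- `K ≤ L` normal in `G`, `K` a `p'`-group, `L/K` a `p`-group, `Q ≤ L` a `p`-subgroup with
`C_G(Q) ≤ L`.  A `p'`-element of `C_G(R)` (`R` a `p`-subgroup) centralizing the section
`C_L(R) K / K` lies in `K`. -/
theorem mem_of_coprime_of_section (K L : Subgroup G) [hK : K.Normal] [hL : L.Normal]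
    (hKL : K ≤ L) (hKp : (Nat.card K).Coprime p)
    (hLp : ∀ l ∈ L, ∃ j : ℕ, l ^ (p ^ j) ∈ K)
    (Q : Subgroup G) (hQL : Q ≤ L) (hQp : IsPGroup p Q)
    (hCQ : Subgroup.centralizer (Q : Set G) ≤ L)
    (R : Subgroup G) (hR : IsPGroup p R) (x : G)
    (hxR : x ∈ Subgroup.centralizer (R : Set G)) (hx : (orderOf x).Coprime p)
    (hxL : ∀ l ∈ L, l ∈ Subgroup.centralizer (R : Set G) → x * l * x⁻¹ * l⁻¹ ∈ K) :
    x ∈ K := by
  have hLbar : IsPGroup p (L.map (QuotientGroup.mk' K)) := by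
    apply isPGroup_of_forall_mem_pow
    rintro _ ⟨l, hl, rfl⟩
    obtain ⟨j, hj⟩ := hLp l hl
    refine ⟨j, ?_⟩
    rw [← map_pow, QuotientGroup.mk'_apply, QuotientGroup.eq_one_iff]
    exact hj
  have hLn : (L.map (QuotientGroup.mk' K)).Normal :=
    Subgroup.Normal.map hL _ (QuotientGroup.mk'_surjective K)
  have hnorm : ∀ y : G ⧸ K, y ∈ Subgroup.normalizer
      ((L.map (QuotientGroup.mk' K) : Subgroup (G ⧸ K)) : Set (G ⧸ K)) := by
    intro y
    rw [Subgroup.normalizer_eq_top]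
    exact Subgroup.mem_top y
  have hd : (orderOf (QuotientGroup.mk' K x)).Coprime p :=
    Nat.Coprime.coprime_dvd_left (orderOf_map_dvd (QuotientGroup.mk' K) x) hx
  have hcent : ∀ q ∈ L.map (QuotientGroup.mk' K),
      QuotientGroup.mk' K x * q = q * QuotientGroup.mk' K x := by
    apply helper54.thompson_AxB (R.map (QuotientGroup.mk' K)) (hR.map _)
      (QuotientGroup.mk' K x) hd ?_ (L.map (QuotientGroup.mk' K)) hLbar
      (fun y _ => hnorm y) (hnorm _) ?_
    · rintro _ ⟨r, hr, rfl⟩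
      rw [← map_mul, ← map_mul, (Subgroup.mem_centralizer_iff.mp hxR) r hr]
    · intro q hq hqR
      have hqc : q ∈ Subgroup.centralizer
          ((R.map (QuotientGroup.mk' K) : Subgroup (G ⧸ K)) : Set (G ⧸ K)) :=
        Subgroup.mem_centralizer_iff.mpr hqR
      rw [← helper14.map_centralizer_of_coprime K hKp R hR] at hqc
      obtain ⟨c, hc, rfl⟩ := hqc
      obtain ⟨l, hl, hlc⟩ := hq
      have hcL : c ∈ L := by
        have h1 : l⁻¹ * c ∈ K := by
          rw [← QuotientGroup.eq_one_iff, ← QuotientGroup.mk'_apply, map_mul, map_inv, hlc]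
          group
        have h2 : c = l * (l⁻¹ * c) := by group
        rw [h2]
        exact L.mul_mem hl (hKL h1)
      have h3 := hxL c hcL hc
      have h4 : QuotientGroup.mk' K (x * c * x⁻¹ * c⁻¹) = 1 := by
        rw [QuotientGroup.mk'_apply, QuotientGroup.eq_one_iff]
        exact h3
      rw [map_mul, map_mul, map_mul, map_inv, map_inv] at h4
      calc QuotientGroup.mk' K x * QuotientGroup.mk' K c
          = (QuotientGroup.mk' K x * QuotientGroup.mk' K c * (QuotientGroup.mk' K x)⁻¹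
              * (QuotientGroup.mk' K c)⁻¹) * (QuotientGroup.mk' K c * QuotientGroup.mk' K x) := by
            group
        _ = QuotientGroup.mk' K c * QuotientGroup.mk' K x := by rw [h4, one_mul]
  have h2 : QuotientGroup.mk' K x ∈ Subgroup.centralizer
      ((Q.map (QuotientGroup.mk' K) : Subgroup (G ⧸ K)) : Set (G ⧸ K)) := by
    rw [Subgroup.mem_centralizer_iff]
    intro q hq
    exact (hcent q (Subgroup.map_mono hQL hq)).symm
  rw [← helper14.map_centralizer_of_coprime K hKp Q hQp] at h2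
  have h3 : QuotientGroup.mk' K x ∈ L.map (QuotientGroup.mk' K) := Subgroup.map_mono hCQ h2
  obtain ⟨j, hj⟩ := hLbar ⟨QuotientGroup.mk' K x, h3⟩
  have hj' : (QuotientGroup.mk' K x) ^ (p ^ j) = 1 := by
    simpa using congrArg Subtype.val hj
  have h4 : orderOf (QuotientGroup.mk' K x) ∣ p ^ j := orderOf_dvd_of_pow_eq_one hj'
  have h5 : orderOf (QuotientGroup.mk' K x) = 1 :=
    Nat.Coprime.eq_one_of_dvd (Nat.Coprime.pow_right j hd) h4
  rw [orderOf_eq_one_iff, QuotientGroup.mk'_apply, QuotientGroup.eq_one_iff] at h5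
  exact h5

end KC

end Cfsg.Agent.Lib.helper77
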