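import Mathlib
import Cfsg.Prelude.Def_Blocks
import Cfsg.Agent.Lib.helper77.Fong
import Cfsg.Agent.Lib.helper77.BlockCover
import Cfsg.Agent.Lib.helper82.GlaubP
import Cfsg.Agent.Lib.helper82.GlaubSub
import Cfsg.Agent.Lib.helper4.CharDecomp
import Cfsg.Agent.Lib.helper20.PiKer2
import Cfsg.Agent.Lib.helper20.NilTrace
import Cfsg.Agent.Lib.helper82.CharQuot
import Cfsg.Agent.Lib.helper82.CharSums

/-!
# The idempotent of `Irr(G | θ)` on a subgroup, and the Glauberman correspondent (helper77)

`K` a normal subgroup of `G`, `θ` a `G`-invariant irreducible character of `K`, `C` a subgroup of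
`G` and `W = K ∩ C` (as the subgroup `K.subgroupOf C` of `C`).

* `resFun_blockCoeff_coverSet`: the idempotent of `Irr(G | θ)` restricted to `C` is supported on
  `W`, where it is the restriction of the idempotent of `θ`;
* `not_memLocalIdeal_om_iff_grel`: for `ξ ∈ Irr(C)` over `η ∈ Irr(W)`, the central character of
  `ξ` is nonzero (mod the local ideal) on that restricted idempotent iff `p ∤ [θ_W, η]`
  (`K` of order prime to `p`);
* `exists_glauberman_sub`: for `C = C_G(R)`, `R` a `p`-group, exactly one `η₀ ∈ Irr(W)` has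
  `p ∤ [θ_W, η₀]` (Glauberman), and it is `C`-invariant (`glauberman_sub_invariant`).
-/

set_option autoImplicit false

namespace Cfsg.Agent.Lib.helper77

open Cfsg
open scoped ComplexConjugate

universe u

section PrincTypeC

variable {G : Type u} [Group G] (K : Subgroup G) (C : Subgroup G)

/-- The inclusion of `K ∩ C`, as a subgroup of `C`, into `K`. -/
def sgIncl : ↥(K.subgroupOf C) →* ↥K where
  toFun w := ⟨((w : C) : G), Subgroup.mem_subgroupOf.mp w.2⟩
  map_one' := rfl
  map_mul' _ _ := rfl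

theorem sgIncl_coe (w : K.subgroupOf C) : ((sgIncl K C w : K) : G) = ((w : C) : G) := rfl

theorem sgIncl_injective : Function.Injective (sgIncl K C) := by
  intro a b h
  have h1 : ((a : C) : G) = ((b : C) : G) := congrArg (fun k : K => (k : G)) h
  exact Subtype.ext (Subtype.ext h1)

variable [Fintype G] [hK : K.Normal] [Fintype K]

/-- The idempotent of `Irr(G | θ)` restricted to `C`. -/
theorem resFun_blockCoeff_coverSet (θ : IrrCharacter K) (hinv : ∀ g : G, cjIrr K g θ = θ) :
    helper80.resFun C (blockCoeff (coverSet K {θ}))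
      = helper80.extFun (K.subgroupOf C)
          (fun w : K.subgroupOf C => blockCoeff ({θ} : Set (IrrCharacter K)) (sgIncl K C w)) := by
  have hst : ∀ g : G, ∀ θ' ∈ ({θ} : Set (IrrCharacter K)),
      cjIrr K g θ' ∈ ({θ} : Set (IrrCharacter K)) := by
    intro g θ' hθ'
    rw [Set.mem_singleton_iff] at hθ' ⊢
    rw [hθ']
    exact hinv g
  funext c
  rw [helper80.resFun_apply, ← blockCoeff_coverSet K _ hst (c : G)]
  by_cases hc : c ∈ K.subgroupOf C
  · rw [helper80.extFun_of_mem _ _ hc,
      helper80.extFun_of_mem _ _ (Subgroup.mem_subgroupOf.mp hc)]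
    rfl
  · rw [helper80.extFun_of_not_mem _ _ hc,
      helper80.extFun_of_not_mem _ _ (fun h => hc (Subgroup.mem_subgroupOf.mpr h))]

variable [Fintype (K.subgroupOf C)]

omit [Fintype G] hK in
/-- The central character of `η ∈ Irr(K ∩ C)` on the restricted idempotent of `θ`. -/
theorem om_sgIncl_blockCoeff (θ : IrrCharacter K) (η : IrrCharacter (K.subgroupOf C)) (n : ℕ)
    (hn : classInner (fun w : K.subgroupOf C => (θ : K → ℂ) (sgIncl K C w))
      (η : K.subgroupOf C → ℂ) = n) :
    helper80.om (η : K.subgroupOf C → ℂ)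
        (fun w : K.subgroupOf C => blockCoeff ({θ} : Set (IrrCharacter K)) (sgIncl K C w))
      = ((charDegree (θ : K → ℂ) * Nat.card (K.subgroupOf C) * n : ℕ) : ℂ)
          / ((Nat.card K * charDegree (η : K.subgroupOf C → ℂ) : ℕ) : ℂ) := by
  have hθ1 := helper82.irr_one_eq θ
  have hη1 := helper82.irr_one_eq η
  have hη0 : (η : K.subgroupOf C → ℂ) 1 ≠ 0 := helper20.isIrrCharacter_one_ne_zero _ η.2
  have hW0 : (Nat.card (K.subgroupOf C) : ℂ) ≠ 0 := by exact_mod_cast Nat.card_pos.ne'
  have hK0 : (Nat.card K : ℂ) ≠ 0 := by exact_mod_cast Nat.card_pos.ne'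
  have hsum : ∑ w : K.subgroupOf C,
      conj ((θ : K → ℂ) (sgIncl K C w)) * (η : K.subgroupOf C → ℂ) w
        = (Nat.card (K.subgroupOf C) : ℂ) * n := by
    have h1 : conj (classInner (fun w : K.subgroupOf C => (θ : K → ℂ) (sgIncl K C w))
        (η : K.subgroupOf C → ℂ)) = (n : ℂ) := by
      rw [hn, Complex.conj_natCast]
    unfold classInner at h1
    rw [map_mul, map_inv₀, Complex.conj_natCast, map_sum] at h1
    have h2 : ∀ w : K.subgroupOf C,
        conj ((θ : K → ℂ) (sgIncl K C w) * conj ((η : K.subgroupOf C → ℂ) w))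
          = conj ((θ : K → ℂ) (sgIncl K C w)) * (η : K.subgroupOf C → ℂ) w := by
      intro w
      rw [map_mul, Complex.conj_conj]
    simp_rw [h2] at h1
    rw [← h1, ← mul_assoc, mul_inv_cancel₀ hW0, one_mul]
  have e1 : ∀ w : K.subgroupOf C, blockCoeff ({θ} : Set (IrrCharacter K)) (sgIncl K C w)
      = (Nat.card K : ℂ)⁻¹ * ((θ : K → ℂ) 1 * conj ((θ : K → ℂ) (sgIncl K C w))) := by
    intro w
    unfold blockCoeff
    rw [finsum_mem_singleton]
  unfold helper80.om
  simp_rw [e1]
  have e2 : ∑ w : K.subgroupOf C, (Nat.card K : ℂ)⁻¹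
        * ((θ : K → ℂ) 1 * conj ((θ : K → ℂ) (sgIncl K C w))) * (η : K.subgroupOf C → ℂ) w
      = (Nat.card K : ℂ)⁻¹ * (θ : K → ℂ) 1 * ∑ w : K.subgroupOf C,
          conj ((θ : K → ℂ) (sgIncl K C w)) * (η : K.subgroupOf C → ℂ) w := by
    rw [Finset.mul_sum]
    apply Finset.sum_congr rfl
    intro w _
    ring
  rw [e2, hsum, hθ1, hη1]
  have hη0' : (charDegree (η : K.subgroupOf C → ℂ) : ℂ) ≠ 0 := by rw [← hη1]; exact hη0
  push_cast
  field_simp

/-- For `ξ ∈ Irr(C)` over `η ∈ Irr(K ∩ C)`: the central character of `ξ` does not vanish modulo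
the local ideal on the restricted idempotent of `Irr(G | θ)` iff `p ∤ [θ_{K ∩ C}, η]`. -/
theorem not_memLocalIdeal_om_iff_grel [Fintype C] {p : ℕ} [Fact p.Prime] {M : Ideal AlgInt}
    (hM : IsPModular p M) (hKp : (Nat.card K).Coprime p)
    (θ : IrrCharacter K) (hinv : ∀ g : G, cjIrr K g θ = θ)
    {ξ : IrrCharacter C} {η : IrrCharacter (K.subgroupOf C)}
    (hξη : classInner (fun w : K.subgroupOf C => (ξ : C → ℂ) w) (η : K.subgroupOf C → ℂ) ≠ 0) :
    ¬ MemLocalIdeal M (helper80.om (ξ : C → ℂ)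
        (helper80.resFun C (blockCoeff (coverSet K {θ}))))
      ↔ helper82.GRel p (sgIncl K C) (θ : K → ℂ) (η : K.subgroupOf C → ℂ) := by
  have hpp : p.Prime := Fact.out
  have hst : ∀ g : G, ∀ θ' ∈ ({θ} : Set (IrrCharacter K)),
      cjIrr K g θ' ∈ ({θ} : Set (IrrCharacter K)) := by
    intro g θ' hθ'
    rw [Set.mem_singleton_iff] at hθ' ⊢
    rw [hθ']
    exact hinv g
  have ha : ∀ (g : C) (n : K.subgroupOf C),
      blockCoeff ({θ} : Set (IrrCharacter K))
          (sgIncl K C ⟨g * n * g⁻¹, Subgroup.Normal.conj_mem inferInstance (n : C) n.2 g⟩)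
        = blockCoeff ({θ} : Set (IrrCharacter K)) (sgIncl K C n) :=
    fun g n => blockCoeff_conj_of_stable K _ hst (g : G) (sgIncl K C n)
  rw [resFun_blockCoeff_coverSet K C θ hinv,
    om_extFun_of_constituent (K.subgroupOf C) hξη _ ha]
  obtain ⟨n, hn⟩ := helper4.exists_nat_classInner_irr
    (helper4.isCharacter_comp (sgIncl K C) (helper20.isCharacter_of_isIrrCharacter θ.2)) η.2
  rw [om_sgIncl_blockCoeff K C θ η n hn, helper82.grel_iff_nat p _ _ _ n hn]
  have hdθ : (charDegree (θ : K → ℂ)).Coprime p :=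
    Nat.Coprime.coprime_dvd_left (helper82.irr_degree_dvd_card θ) hKp
  have hWcop : (Nat.card (K.subgroupOf C)).Coprime p :=
    Nat.Coprime.coprime_dvd_left
      (Subgroup.card_dvd_of_injective (sgIncl K C) (sgIncl_injective K C)) hKp
  have hdη : (charDegree (η : K.subgroupOf C → ℂ)).Coprime p :=
    Nat.Coprime.coprime_dvd_left (helper82.irr_degree_dvd_card η) hWcop
  have hden : (Nat.card K * charDegree (η : K.subgroupOf C → ℂ)).Coprime p :=
    Nat.Coprime.mul_left hKp hdη
  have hη0 : charDegree (η : K.subgroupOf C → ℂ) ≠ 0 := by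
    intro h0
    have h1 := helper82.irr_one_eq η
    rw [h0, Nat.cast_zero] at h1
    exact helper20.isIrrCharacter_one_ne_zero _ η.2 h1
  constructor
  · intro h hdvd
    apply h
    obtain ⟨m', rfl⟩ := hdvd
    have e : ((charDegree (θ : K → ℂ) * Nat.card (K.subgroupOf C) * (p * m') : ℕ) : ℂ)
          / ((Nat.card K * charDegree (η : K.subgroupOf C → ℂ) : ℕ) : ℂ)
        = (p : ℂ) * (((charDegree (θ : K → ℂ) * Nat.card (K.subgroupOf C) * m' : ℕ) : ℂ)
          / ((Nat.card K * charDegree (η : K.subgroupOf C → ℂ) : ℕ) : ℂ)) := by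
      push_cast
      ring
    rw [e]
    exact helper20.memLocalIdeal_mul_right (helper20.isPrime_of_isPModular hM)
      (helper20.memLocalIdeal_prime hM) (helper20.memLocalRing_natCast_div hM _ _ hden)
  · intro hnd
    exact helper20.not_memLocalIdeal_natCast_div hM _ _
      (Nat.Coprime.mul_left (Nat.Coprime.mul_left hdθ hWcop)
        ((Nat.Prime.coprime_iff_not_dvd hpp).mpr hnd).symm)
      (Nat.mul_pos Nat.card_pos (Nat.pos_of_ne_zero hη0))

end PrincTypeC

section Glaub

variable {G : Type u} [Group G] [Fintype G] (K : Subgroup G) [hK : K.Normal] [Fintype K]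
  (R : Subgroup G) [Fintype (K.subgroupOf (Subgroup.centralizer (R : Set G)))]

omit [Fintype G] in
/-- **Glauberman correspondent** of a `G`-invariant `θ ∈ Irr(K)` (`K` a `p'`-group) with respect to
a `p`-subgroup `R`: the unique irreducible character of `C_K(R)` with multiplicity prime to `p` in
the restriction of `θ`. -/
theorem exists_glauberman_sub {p : ℕ} [Fact p.Prime] (hKp : (Nat.card K).Coprime p)
    (hR : IsPGroup p R) (θ : IrrCharacter K) (hinv : ∀ g : G, cjIrr K g θ = θ) :
    ∃ η₀ : IrrCharacter (K.subgroupOf (Subgroup.centralizer (R : Set G))),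
      ∀ η : IrrCharacter (K.subgroupOf (Subgroup.centralizer (R : Set G))),
        helper82.GRel p (sgIncl K (Subgroup.centralizer (R : Set G))) (θ : K → ℂ)
          (η : K.subgroupOf (Subgroup.centralizer (R : Set G)) → ℂ) ↔ η = η₀ := by
  have hpp : p.Prime := Fact.out
  have hnorm : ∀ s ∈ R, ∀ g ∈ K, s * g * s⁻¹ ∈ K := fun s _ g hg => hK.conj_mem g hg s
  have hX : IsPGroup p (helper82.conjHom K R hnorm).range :=
    IsPGroup.of_surjective hR (helper82.conjHom K R hnorm).rangeRestrict
      (MonoidHom.rangeRestrict_surjective _)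
  have hpK : ¬ p ∣ Nat.card K := fun h =>
    hpp.one_lt.ne' (Nat.Coprime.eq_one_of_dvd hKp.symm h)
  have hC : ∀ g : K, g ∈ (sgIncl K (Subgroup.centralizer (R : Set G))).range
      ↔ g ∈ helper82.fixedPts (helper82.conjHom K R hnorm).range := by
    intro g
    rw [helper82.mem_fixedPts_conj_iff]
    constructor
    · rintro ⟨w, rfl⟩
      exact (w : Subgroup.centralizer (R : Set G)).2
    · intro hg
      exact ⟨⟨⟨(g : G), hg⟩, Subgroup.mem_subgroupOf.mpr g.2⟩, rfl⟩
  have hcorr := helper82.glauberman_pgroup p (helper82.conjHom K R hnorm).range hX hpK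
    (sgIncl K (Subgroup.centralizer (R : Set G)))
    (sgIncl_injective K (Subgroup.centralizer (R : Set G))) hC
  have hθinv : helper82.IsInvFun (helper82.conjHom K R hnorm).range (θ : K → ℂ) := by
    rintro σ ⟨s, rfl⟩ g
    have h1 := cjIrr_apply_conj K (s : G) θ g
    rw [hinv] at h1
    exact h1
  obtain ⟨β, hβ⟩ := hcorr.1 θ hθinv
  refine ⟨β, fun η => ⟨fun h => hβ.unique h, fun h => ?_⟩⟩
  rw [h]
  exact hβ.grel

omit [Fintype G] [Fintype K] in
/-- The Glauberman correspondent is invariant in `C_G(R)`. -/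
theorem glauberman_sub_invariant {p : ℕ} (θ : IrrCharacter K) (hinv : ∀ g : G, cjIrr K g θ = θ)
    (η₀ : IrrCharacter (K.subgroupOf (Subgroup.centralizer (R : Set G))))
    (hη₀ : ∀ η : IrrCharacter (K.subgroupOf (Subgroup.centralizer (R : Set G))),
        helper82.GRel p (sgIncl K (Subgroup.centralizer (R : Set G))) (θ : K → ℂ)
          (η : K.subgroupOf (Subgroup.centralizer (R : Set G)) → ℂ) ↔ η = η₀)
    (c : Subgroup.centralizer (R : Set G)) :
    cjIrr (K.subgroupOf (Subgroup.centralizer (R : Set G))) c η₀ = η₀ := by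
  apply (hη₀ _).mp
  have h0 := (hη₀ η₀).mpr rfl
  intro k
  have h1 : helper82.cconj (K.subgroupOf (Subgroup.centralizer (R : Set G))) c
      (fun w : K.subgroupOf (Subgroup.centralizer (R : Set G)) =>
        (θ : K → ℂ) (sgIncl K (Subgroup.centralizer (R : Set G)) w))
      = fun w : K.subgroupOf (Subgroup.centralizer (R : Set G)) =>
        (θ : K → ℂ) (sgIncl K (Subgroup.centralizer (R : Set G)) w) := by
    rw [helper82.cconj_eq_iff]
    intro n
    have h2 := cjIrr_apply_conj K ((c : Subgroup.centralizer (R : Set G)) : G) θ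
      (sgIncl K (Subgroup.centralizer (R : Set G)) n)
    rw [hinv] at h2
    exact h2
  have h3 := helper82.classInner_cconj (K.subgroupOf (Subgroup.centralizer (R : Set G))) c
    (fun w : K.subgroupOf (Subgroup.centralizer (R : Set G)) =>
        (θ : K → ℂ) (sgIncl K (Subgroup.centralizer (R : Set G)) w))
    (η₀ : K.subgroupOf (Subgroup.centralizer (R : Set G)) → ℂ)
  rw [h1] at h3
  rw [cjIrr_coe, h3]
  exact h0 k

end Glaub

end Cfsg.Agent.Lib.helper77
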