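import Cfsg.Agent.Lib.helper77.RS_C0
import Cfsg.Agent.Lib.helper92.RS_C1

set_option autoImplicit false

open Cfsg Cfsg.FusionSystem

namespace Cfsg.Agent.Lib.helper77.RS

open Cfsg.Agent.Lib

theorem model_pPrimeResidual {Ω : Type*} [Group Ω] {S : Subgroup Ω} [Finite S] (p : ℕ)
    [Fact p.Prime] (hS : IsPGroup p S) (F : Cfsg.FusionSystem S) (hF : F.IsSaturated p)
    {G : Type*} [Group G] (ι : S →* G) (hM : F.IsModel p G ι)
    (E : Cfsg.FusionSystem S) (hE : F.IsPPrimeResidual p E) :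
    ∃ (H : Subgroup G) (ιH : S →* ↥H), H.Normal ∧ E.IsModel p ↥H ιH ∧ H.index.Coprime p ∧
      H = Subgroup.closure {g : G | ∃ k : ℕ, orderOf g = p ^ k} :=
  model_pPrimeResidual_of p hS F ι hM E hE
    (fun h hh P hP φ hφ hc =>
      helper92.RS.conj_mem_of_primeToPIndex p hS F hF ι hM E hE.1 hE.2.1 h hh P hP φ hφ hc)

end Cfsg.Agent.Lib.helper77.RS
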