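import Mathlib
import Cfsg.Prelude.Def_FusionSystem
import Cfsg.Prelude.Def_FusionComponents
import Cfsg.Agent.Lib.helper90.Realized
import Cfsg.Agent.Lib.helper54.CharP
import Cfsg.Agent.Lib.helper26.RS_C2

set_option autoImplicit false

open Cfsg Cfsg.FusionSystem

namespace Cfsg.Agent.Lib.helper77.RS

open Cfsg.Agent.Lib

private lemma rsc_closure_normal {G : Type*} [Group G] (p : ℕ) :
    (Subgroup.closure {g : G | ∃ k : ℕ, orderOf g = p ^ k}).Normal := by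
  refine ⟨fun n hn g => ?_⟩
  induction hn using Subgroup.closure_induction with
  | mem x hx =>
    apply Subgroup.subset_closure
    obtain ⟨k, hk⟩ := hx
    refine ⟨k, ?_⟩
    rw [← hk]
    exact (MulAut.conj g).orderOf_eq x
  | one => simp
  | mul x y _ _ hx hy =>
    have : g * (x * y) * g⁻¹ = (g * x * g⁻¹) * (g * y * g⁻¹) := by group
    rw [this]
    exact Subgroup.mul_mem _ hx hy
  | inv x _ hx =>
    have : g * x⁻¹ * g⁻¹ = (g * x * g⁻¹)⁻¹ := by group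
    rw [this]
    exact Subgroup.inv_mem _ hx

private lemma rsc_transport {Ω : Type*} [Group Ω] {T S : Subgroup Ω} (h : T = S)
    (D : Cfsg.FusionSystem T) (p : ℕ) :
    ∃ D' : Cfsg.FusionSystem S, (∀ P : Subgroup Ω, D'.Hom P = D.Hom P) ∧
      (D.IsSaturated p → D'.IsSaturated p) := by
  subst h
  exact ⟨D, fun _ => rfl, id⟩

/-- RS-C with RS-C1 (`conj_mem_of_primeToPIndex`, for this `F`, `G`, `ι`, `E`) as an explicit
hypothesis. -/
theorem model_pPrimeResidual_of {Ω : Type*} [Group Ω] {S : Subgroup Ω} [Finite S] (p : ℕ)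
    [Fact p.Prime] (hS : IsPGroup p S) (F : Cfsg.FusionSystem S)
    {G : Type*} [Group G] (ι : S →* G) (hM : F.IsModel p G ι)
    (E : Cfsg.FusionSystem S) (hE : F.IsPPrimeResidual p E)
    (hC1 : ∀ h : G, h ∈ Subgroup.closure {g : G | ∃ k : ℕ, orderOf g = p ^ k} →
      ∀ (P : Subgroup Ω) (hP : P ≤ S) (φ : P →* Ω) (hφ : ∀ x : P, φ x ∈ S),
        (∀ x : P, ι ⟨φ x, hφ x⟩ = h * ι ⟨x, hP x.2⟩ * h⁻¹) → φ ∈ E.Hom P) :
    ∃ (H : Subgroup G) (ιH : S →* ↥H), H.Normal ∧ E.IsModel p ↥H ιH ∧ H.index.Coprime p ∧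
      H = Subgroup.closure {g : G | ∃ k : ℕ, orderOf g = p ^ k} := by
  have hp : p.Prime := Fact.out
  obtain ⟨hfin, hR, ⟨T, hT⟩, hcent⟩ := hM
  set H : Subgroup G := Subgroup.closure {g : G | ∃ k : ℕ, orderOf g = p ^ k} with hHdef
  have hHn : H.Normal := rsc_closure_normal p
  have hmem : ∀ s : S, ι s ∈ H := by
    intro s
    apply Subgroup.subset_closure
    obtain ⟨k, hk⟩ := hS s
    have h1 : (ι s) ^ (p ^ k) = 1 := by rw [← map_pow, hk, map_one]
    obtain ⟨j, -, hj⟩ := (Nat.dvd_prime_pow hp).mp (orderOf_dvd_of_pow_eq_one h1)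
    exact ⟨j, hj⟩
  have hpre : helper90.preT ι H = S := by
    apply le_antisymm (helper90.preT_le ι H)
    intro x hx
    exact helper90.mem_preT.mpr ⟨hx, hmem ⟨x, hx⟩⟩
  obtain ⟨E₀, hE₀hom, hE₀sat⟩ := rsc_transport hpre (helper90.normalSubsystem F ι H) p
  have hE₀sat' : E₀.IsSaturated p := hE₀sat (helper90.normalSubsystem_saturated hR T hT H)
  have hE₀mem : ∀ (P : Subgroup Ω) (hP : P ≤ S) (φ : P →* Ω) (hφ : ∀ x : P, φ x ∈ S),
      φ ∈ E₀.Hom P ↔ ∃ h ∈ H, ∀ x : P, ι ⟨φ x, hφ x⟩ = h * ι ⟨x, hP x.2⟩ * h⁻¹ := by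
    intro P hP φ hφ
    rw [hE₀hom P]
    have hP' : P ≤ helper90.preT ι H := by rw [hpre]; exact hP
    have hφ' : ∀ x : P, φ x ∈ helper90.preT ι H := by rw [hpre]; exact hφ
    exact helper90.mem_normalSubsystem_iff hR hP' hφ'
  have hE₀idx : E₀.HasPrimeToPIndexIn F p :=
    helper26.RS.primeToPIndex_of_conj p hS F ι hR H (fun g hg => Subgroup.subset_closure hg)
      E₀ hE₀mem
  have hEE₀ : E.IsSubsystemOf E₀ := hE.2.2 E₀ hE₀sat' hE₀idx
  have hTH : (T : Subgroup G) ≤ H := by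
    rw [hT]
    rintro _ ⟨s, rfl⟩
    exact hmem s
  refine ⟨H, ι.codRestrict H hmem, hHn, ⟨inferInstance, ⟨?_, ?_⟩, ?_, ?_⟩, ?_, rfl⟩
  · intro a b hab
    exact hR.1 (congrArg Subtype.val hab)
  · intro P hP φ hφ
    constructor
    · intro hφE
      obtain ⟨h, hh, hc⟩ := (hE₀mem P hP φ hφ).mp (hEE₀ P hφE)
      exact ⟨⟨h, hh⟩, fun x => Subtype.ext (hc x)⟩
    · rintro ⟨h, hc⟩
      exact hC1 h h.2 P hP φ hφ (fun x => congrArg Subtype.val (hc x))
  · refine ⟨T.subtype hTH, ?_⟩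
    rw [Sylow.coe_subtype, hT]
    ext y
    rw [Subgroup.mem_subgroupOf]
    constructor
    · rintro ⟨s, hs⟩
      exact ⟨s, Subtype.ext hs⟩
    · rintro ⟨s, rfl⟩
      exact ⟨s, rfl⟩
  · have h1 : helper54.CharPIn p (⊤ : Subgroup G) := helper54.charPIn_top hcent
    have h2 : helper54.CharPIn p H :=
      helper54.CharPIn.of_normal le_top (by rw [Subgroup.normalizer_eq_top]) h1
    exact (helper54.charPIn_iff H).mp h2
  · have h1 : H.index ∣ (T : Subgroup G).index := Subgroup.index_dvd_of_le hTH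
    have h2 : ¬ p ∣ (T : Subgroup G).index := T.not_dvd_index
    exact Nat.Coprime.symm ((Nat.Prime.coprime_iff_not_dvd hp).mpr (fun h => h2 (h.trans h1)))

end Cfsg.Agent.Lib.helper77.RS
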