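import Mathlib
import Cfsg.Agent.Lib.helper45.RUDefs

/-! S2279 split (helper45), piece C: `Om_wrap` (race copy by helper77, prefixed name). -/

set_option autoImplicit false

namespace Cfsg.Agent.Lib.helper45.RU

open Matrix Cfsg.Agent.Lib.helper44

variable {n : ℕ} {F : Type*} [Field F] {S : Set (Matrix (Fin n) (Fin n) F)}

/-- Formula (C): a commutator of two rank one perturbations. -/
theorem helper77_ru_formC (a b φ ψ : Fin n → F) (h1 : ψ ⬝ᵥ a = 0) (h2 : ψ ⬝ᵥ b = 0) :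
    (1 + vecMulVec a φ) * (1 + vecMulVec b ψ) =
      (1 + vecMulVec a ((φ ⬝ᵥ b) • ψ)) * ((1 + vecMulVec b ψ) * (1 + vecMulVec a φ)) := by
  have hBA : vecMulVec b ψ * vecMulVec a φ = 0 := by
    rw [Matrix.vecMulVec_mul_vecMulVec, h1, zero_smul, Matrix.vecMulVec_zero]
  have hCA : vecMulVec a ((φ ⬝ᵥ b) • ψ) * vecMulVec a φ = 0 := by
    rw [Matrix.vecMulVec_mul_vecMulVec, smul_dotProduct, h1, smul_zero, zero_smul,
      Matrix.vecMulVec_zero]
  have hCB : vecMulVec a ((φ ⬝ᵥ b) • ψ) * vecMulVec b ψ = 0 := by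
    rw [Matrix.vecMulVec_mul_vecMulVec, smul_dotProduct, h2, smul_zero, zero_smul,
      Matrix.vecMulVec_zero]
  have hAB : vecMulVec a φ * vecMulVec b ψ = vecMulVec a ((φ ⬝ᵥ b) • ψ) :=
    Matrix.vecMulVec_mul_vecMulVec _ _ _ _
  have e1 : (1 + vecMulVec a φ) * (1 + vecMulVec b ψ) =
      1 + vecMulVec a φ + vecMulVec b ψ + vecMulVec a ((φ ⬝ᵥ b) • ψ) := by
    rw [mul_add, mul_one, add_mul, one_mul, hAB]
    abel
  have e2 : (1 + vecMulVec b ψ) * (1 + vecMulVec a φ) =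
      1 + vecMulVec a φ + vecMulVec b ψ := by
    rw [mul_add, mul_one, add_mul, one_mul, hBA]
    abel
  rw [e1, e2, add_mul, one_mul, mul_add, mul_add, mul_one, hCA, hCB]
  abel

theorem helper77_ru_jm_pow_mem (hS : MatGrp S) (hJ : jm F n ∈ S) (s : ℕ) : jm F n ^ s ∈ S := by
  induction s with
  | zero =>
    rw [pow_zero]
    exact MatGrp_one_mem hS hJ
  | succ s ih =>
    rw [pow_succ]
    exact hS.mul ih hJ

/-- C (race copy) -/
theorem h77_Om_wrap (hS : MatGrp S) (hJ : jm F n ∈ S) (l : Fin n) (hl : l.val + 1 = n)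
    (i i' : ℕ) (hi : i + 2 ≤ n) (hi' : i' + 2 ≤ n) (h : n ≤ i + i' + 1) {x y : F}
    (hx : x ∈ Om S l i) (hy : y ∈ Om S l i') : x * y ∈ Om S l (i + i' + 1 - n) := by
  obtain ⟨s, hs⟩ : ∃ s, i + s + 1 = n := ⟨n - 1 - i, by omega⟩
  obtain ⟨k, hk⟩ : ∃ k, k + s = i' := ⟨i' - s, by omega⟩
  have hk' : i + i' + 1 - n = k := by omega
  rw [hk']
  have hJs := helper77_ru_jm_pow_mem hS hJ s
  have hy' : 1 + vecMulVec (Pi.single l 1) (y • rowv F n i') ∈ S := hy
  have hM : 1 + vecMulVec (jm F n ^ s *ᵥ Pi.single l 1) (y • rowv F n k) ∈ S := by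
    apply hS.conj hJs hy'
    have key := conj_rankOne (jm F n ^ s) (Pi.single l (1 : F)) (y • rowv F n k)
    rw [Matrix.smul_vecMul, ← rowv_add, hk] at key
    exact key.symm
  have hx' : 1 + vecMulVec (Pi.single l 1) (x • rowv F n i) ∈ S := hx
  have h1 : (y • rowv F n k) ⬝ᵥ (Pi.single l (1 : F)) = 0 := by
    rw [smul_dotProduct, rowv_dot_last k l hl (by omega), smul_zero]
  have h2 : (y • rowv F n k) ⬝ᵥ (jm F n ^ s *ᵥ Pi.single l (1 : F)) = 0 := by
    rw [Matrix.dotProduct_mulVec, Matrix.smul_vecMul, ← rowv_add, hk, smul_dotProduct,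
      rowv_dot_last i' l hl hi', smul_zero]
  have h3 : (x • rowv F n i) ⬝ᵥ (jm F n ^ s *ᵥ Pi.single l (1 : F)) = x := by
    rw [Matrix.dotProduct_mulVec, Matrix.smul_vecMul, ← rowv_add, smul_dotProduct,
      rowv_dot_last_top (i + s) l hl hs, smul_eq_mul, mul_one]
  have hC := helper77_ru_formC (Pi.single l (1 : F)) (jm F n ^ s *ᵥ Pi.single l 1)
    (x • rowv F n i) (y • rowv F n k) h1 h2
  rw [h3, smul_smul] at hC
  exact MatGrp_comm_mem hS hx' hM hC

end Cfsg.Agent.Lib.helper45.RU
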