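import Mathlib
import Cfsg.Agent.Lib.helper45.RUDefs

/-! S2279 split (helper45), piece U: `main_of_core`. -/

set_option autoImplicit false

namespace Cfsg.Agent.Lib.helper45.RU

open Matrix Cfsg.Agent.Lib.helper44

variable {n : ℕ} {F : Type*} [Field F] {S : Set (Matrix (Fin n) (Fin n) F)}

theorem helper77_ru_single_eq (i j : Fin n) (c : F) :
    (Matrix.single i j c : Matrix (Fin n) (Fin n) F) =
      vecMulVec (Pi.single i 1) (c • Pi.single j 1) := by
  rw [Matrix.vecMulVec_smul, ← Matrix.single_eq_single_vecMulVec_single, Matrix.smul_single,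
    smul_eq_mul, mul_one]

/-- `(1 + c E_{l,z}) J = vmat (1 + c E_{l,z})` (own copy of piece V). -/
theorem helper77_ru_vmat_conj (hn : 3 ≤ n) (c : F) (z o l' l : Fin n) (hz : z.val = 0)
    (ho : o.val = 1) (hl' : l'.val + 2 = n) (hl : l.val + 1 = n) :
    (1 + Matrix.single l z c) * jm F n = vmat c z o l' l * (1 + Matrix.single l z c) := by
  have ha : Matrix.single l z c * jm F n = Matrix.single l z c + Matrix.single l o c := by
    rw [helper77_ru_single_eq l z, Matrix.vecMulVec_mul, Matrix.smul_vecMul,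
      single_vecMul_jm z o (by omega), smul_add, Matrix.vecMulVec_add,
      ← helper77_ru_single_eq, ← helper77_ru_single_eq]
  have hb : jm F n * Matrix.single l z c = Matrix.single l z c + Matrix.single l' z c := by
    rw [helper77_ru_single_eq l z, Matrix.mul_vecMulVec, jm_mulVec_single l l' (by omega),
      Matrix.add_vecMulVec, ← helper77_ru_single_eq, ← helper77_ru_single_eq]
  have hol : o ≠ l := by
    intro e
    rw [e] at ho
    omega
  have hzl : z ≠ l := by
    intro e
    rw [e] at hz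
    omega
  have hc : Matrix.single l o c * Matrix.single l z c = 0 :=
    Matrix.single_mul_single_of_ne _ _ _ _ hol _
  have hd : Matrix.single l' z c * Matrix.single l z c = 0 :=
    Matrix.single_mul_single_of_ne _ _ _ _ hzl _
  unfold vmat
  rw [add_mul, one_mul, ha, mul_add, mul_one, sub_mul, add_mul, hb, hc, hd]
  abel

/-- U -/
theorem main_of_core [Fintype F] (n : ℕ) (hn : 4 ≤ n)
    (hcore : ∀ (S : Set (Matrix (Fin n) (Fin n) F)) (c : F) (z o l' l : Fin n), MatGrp S →
      (∀ a : F, a ≠ 0 → ∃ m : ℕ, 0 < m ∧ c ^ m = a) → z.val = 0 → o.val = 1 →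
      l'.val + 2 = n → l.val + 1 = n → jm F n ∈ S → vmat c z o l' l ∈ S →
      ∀ i j : Fin n, i ≠ j → ∀ x : F, 1 + Matrix.single i j x ∈ S) :
    ∃ u g : Matrix.SpecialLinearGroup (Fin n) F,
      (IsNilpotent ((u : Matrix (Fin n) (Fin n) F) - 1) ∧
        ((u : Matrix (Fin n) (Fin n) F) - 1) ^ (n - 1) ≠ 0) ∧
      Subgroup.closure ({u, g * u * g⁻¹} : Set (Matrix.SpecialLinearGroup (Fin n) F)) = ⊤ := by
  obtain ⟨c, hc⟩ := exists_pow_generator (F := F)
  obtain ⟨z, hz⟩ : ∃ z : Fin n, z.val = 0 := ⟨⟨0, by omega⟩, rfl⟩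
  obtain ⟨o, ho⟩ : ∃ o : Fin n, o.val = 1 := ⟨⟨1, by omega⟩, rfl⟩
  obtain ⟨l', hl'⟩ : ∃ l' : Fin n, l'.val + 2 = n := ⟨⟨n - 2, by omega⟩, by simp only; omega⟩
  obtain ⟨l, hl⟩ : ∃ l : Fin n, l.val + 1 = n := ⟨⟨n - 1, by omega⟩, by simp only; omega⟩
  have hlz : l ≠ z := by
    intro e
    rw [e] at hl
    omega
  obtain ⟨u, hu⟩ : ∃ u : Matrix.SpecialLinearGroup (Fin n) F,
      (u : Matrix (Fin n) (Fin n) F) = jm F n := ⟨⟨jm F n, det_jm⟩, rfl⟩
  obtain ⟨g, hg⟩ : ∃ g : Matrix.SpecialLinearGroup (Fin n) F,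
      (g : Matrix (Fin n) (Fin n) F) = 1 + Matrix.single l z c :=
    ⟨Matrix.SpecialLinearGroup.transvection hlz c, rfl⟩
  have hsub : (u : Matrix (Fin n) (Fin n) F) - 1 = shiftMat F n := by
    rw [hu, jm, add_sub_cancel_left]
  refine ⟨u, g, ⟨?_, ?_⟩, ?_⟩
  · rw [hsub]
    exact ⟨n, shiftMat_pow_self F n⟩
  · rw [hsub]
    exact shiftMat_pow_ne_zero F n (n - 1) (by omega)
  · have hu' : u ∈ Subgroup.closure ({u, g * u * g⁻¹} :
        Set (Matrix.SpecialLinearGroup (Fin n) F)) := Subgroup.subset_closure (by simp)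
    have hgu : g * u * g⁻¹ ∈ Subgroup.closure ({u, g * u * g⁻¹} :
        Set (Matrix.SpecialLinearGroup (Fin n) F)) := Subgroup.subset_closure (by simp)
    have hS := matGrp_matCarrier (Subgroup.closure ({u, g * u * g⁻¹} :
        Set (Matrix.SpecialLinearGroup (Fin n) F)))
    have hJ : jm F n ∈ matCarrier (Subgroup.closure ({u, g * u * g⁻¹} :
        Set (Matrix.SpecialLinearGroup (Fin n) F))) := ⟨u, hu', hu⟩
    have hv : vmat c z o l' l ∈ matCarrier (Subgroup.closure ({u, g * u * g⁻¹} :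
        Set (Matrix.SpecialLinearGroup (Fin n) F))) := by
      refine ⟨g * u * g⁻¹, hgu, ?_⟩
      have e1 : ((g * u * g⁻¹ : Matrix.SpecialLinearGroup (Fin n) F) :
          Matrix (Fin n) (Fin n) F) * (g : Matrix (Fin n) (Fin n) F) =
          (g : Matrix (Fin n) (Fin n) F) * jm F n := by
        rw [← Matrix.SpecialLinearGroup.coe_mul, inv_mul_cancel_right,
          Matrix.SpecialLinearGroup.coe_mul, hu]
      have e2 : (g : Matrix (Fin n) (Fin n) F) * jm F n =
          vmat c z o l' l * (g : Matrix (Fin n) (Fin n) F) := by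
        rw [hg]
        exact helper77_ru_vmat_conj (by omega) c z o l' l hz ho hl' hl
      have e3 : (g : Matrix (Fin n) (Fin n) F) *
          ((g⁻¹ : Matrix.SpecialLinearGroup (Fin n) F) : Matrix (Fin n) (Fin n) F) = 1 := by
        rw [← Matrix.SpecialLinearGroup.coe_mul, mul_inv_cancel,
          Matrix.SpecialLinearGroup.coe_one]
      calc ((g * u * g⁻¹ : Matrix.SpecialLinearGroup (Fin n) F) : Matrix (Fin n) (Fin n) F)
          = ((g * u * g⁻¹ : Matrix.SpecialLinearGroup (Fin n) F) : Matrix (Fin n) (Fin n) F) *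
            ((g : Matrix (Fin n) (Fin n) F) *
              ((g⁻¹ : Matrix.SpecialLinearGroup (Fin n) F) : Matrix (Fin n) (Fin n) F)) := by
            rw [e3, mul_one]
        _ = vmat c z o l' l * ((g : Matrix (Fin n) (Fin n) F) *
              ((g⁻¹ : Matrix.SpecialLinearGroup (Fin n) F) : Matrix (Fin n) (Fin n) F)) := by
            rw [← mul_assoc, e1, e2, mul_assoc]
        _ = vmat c z o l' l := by rw [e3, mul_one]
    have hall := hcore _ c z o l' l hS hc hz ho hl' hl hJ hv
    have hnt : Nontrivial (Fin n) := Fin.nontrivial_iff_two_le.mpr (by omega)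
    apply Cfsg.Agent.Lib.helper45.eq_top_of_transvection_mem
    intro i j hij a
    obtain ⟨x, hx, e⟩ := hall i j hij a
    have hxe : x = Matrix.SpecialLinearGroup.transvection hij a :=
      Subtype.ext (by rw [e]; rfl)
    rw [← hxe]
    exact hx

end Cfsg.Agent.Lib.helper45.RU
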