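import Mathlib
import Cfsg.Agent.Lib.helper89.S60Defs

/-! S6000 split (architect helper89), piece N5, core: the element of order 5 of `SL_2` on a plane
is a derangement for the normalizer of `R`.  The pieces X5, BFC, BTF enter as hypotheses.
(Adapted from the landed S6002 piece `helper4.S6eN35core`.) -/

set_option autoImplicit false

namespace Cfsg.Agent.Lib.helper89.S60

open Matrix Cfsg Cfsg.Geo

/-- if the centraliser of `y` in `R` has 64 elements then `y` is scalar -/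
theorem helper77_s60_centr_full {F : Type*} [Field F] [Fintype F] (R : Subgroup (GL (Fin 4) F))
    (w : F) (hG : Good R w) (y : GL (Fin 4) F)
    (hc : Nat.card {s : GL (Fin 4) F // s ∈ R ∧ y * s = s * y} = 64) :
    ∃ c : F, (y : Matrix (Fin 4) (Fin 4) F) = c • (1 : Matrix (Fin 4) (Fin 4) F) := by
  have hinj : Function.Injective
      (fun s : {s : GL (Fin 4) F // s ∈ R ∧ y * s = s * y} => (⟨s.1, s.2.1⟩ : R)) := by
    intro a b hab
    exact Subtype.ext (congrArg (fun t : R => (t : GL (Fin 4) F)) hab)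
  have hbij := (Nat.bijective_iff_injective_and_card _).2 ⟨hinj, by rw [hc, hG.card]⟩
  have hall : ∀ s ∈ R, y * s = s * y := by
    intro s hs
    obtain ⟨⟨s', hs'⟩, hss⟩ := hbij.2 ⟨s, hs⟩
    have h2 : s' = s := congrArg (fun t : R => (t : GL (Fin 4) F)) hss
    rw [← h2]
    exact hs'.2
  apply hG.schur
  intro s hs
  have h2 := congrArg (fun g : GL (Fin 4) F => (g : Matrix (Fin 4) (Fin 4) F)) (hall s hs)
  simpa using h2

/-- powers of a conjugate -/
theorem helper77_s60_conj_pow {G : Type*} [Group G] (g x : G) (n : ℕ) :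
    (g⁻¹ * x * g) ^ n = g⁻¹ * x ^ n * g := by
  have h := conj_pow (i := n) (a := g⁻¹) (b := x)
  rwa [inv_inv] at h

/-- the trace of a conjugate -/
theorem helper77_s60_trace_conj {F : Type*} [Field F] (g x : GL (Fin 4) F) :
    Matrix.trace ((g⁻¹ * x * g : GL (Fin 4) F) : Matrix (Fin 4) (Fin 4) F)
      = Matrix.trace (x : Matrix (Fin 4) (Fin 4) F) := by
  rw [Units.val_mul, Units.val_mul, Matrix.trace_mul_comm, ← Matrix.mul_assoc, ← Units.val_mul,
    mul_inv_cancel, Units.val_one, Matrix.one_mul]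

/-- a conjugate of a non-scalar element is not scalar -/
theorem helper77_s60_conj_scalar {F : Type*} [Field F] (g x : GL (Fin 4) F) (c : F)
    (h : ((g⁻¹ * x * g : GL (Fin 4) F) : Matrix (Fin 4) (Fin 4) F) =
      c • (1 : Matrix (Fin 4) (Fin 4) F)) :
    (x : Matrix (Fin 4) (Fin 4) F) = c • (1 : Matrix (Fin 4) (Fin 4) F) := by
  have e : x = g * (g⁻¹ * x * g) * g⁻¹ := by group
  rw [e, Units.val_mul, Units.val_mul, h, Matrix.mul_smul, Matrix.mul_one, Matrix.smul_mul,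
    ← Units.val_mul, mul_inv_cancel, Units.val_one]

/-- N5, core -/
theorem helper77_s60_nec_five_core {F : Type*} [Field F] [Fintype F] (h2 : (2 : F) ≠ 0)
    (R : Subgroup (GL (Fin 4) F)) (w : F) (hG : Good R w) (h5 : (5 : F) ≠ 0)
    (hX5 : ∃ x : GL (Fin 4) F, x ∈ specialLinear (Fin 4) F ∧ x ^ 5 = 1 ∧
      (∀ z : F, (x : Matrix (Fin 4) (Fin 4) F) ≠ z • (1 : Matrix (Fin 4) (Fin 4) F)) ∧
      ∃ τ : F, τ ^ 2 + τ - 1 = 0 ∧ Matrix.trace (x : Matrix (Fin 4) (Fin 4) F) = 2 + τ ∧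
        Matrix.trace ((x⁻¹ : GL (Fin 4) F) : Matrix (Fin 4) (Fin 4) F) = 2 + τ)
    (hBFC : ∀ y : GL (Fin 4) F, y ∈ subgroupNormalizer R → y ^ 5 = 1 →
      Nat.card {s : GL (Fin 4) F // s ∈ R ∧ y * s = s * y} ∣ 64 ∧
      4 ∣ Nat.card {s : GL (Fin 4) F // s ∈ R ∧ y * s = s * y} ∧
      Nat.card {s : GL (Fin 4) F // s ∈ R ∧ y * s = s * y} % 5 = 64 % 5)
    (hBTF : ∀ y : GL (Fin 4) F, y ∈ subgroupNormalizer R → ∀ k : ℕ, Odd k → y ^ k = 1 →
      4 * (Matrix.trace (y : Matrix (Fin 4) (Fin 4) F) *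
        Matrix.trace ((y⁻¹ : GL (Fin 4) F) : Matrix (Fin 4) (Fin 4) F)) =
        ((Nat.card {s : GL (Fin 4) F // s ∈ R ∧ y * s = s * y} : ℕ) : F)) :
    Derang R 5 := by
  obtain ⟨x, hx, hx5, hxs, τ, hτ, htx, htxi⟩ := hX5
  refine ⟨x, hx, hx5, hxs, ?_⟩
  intro g hy
  have hy5 : (g⁻¹ * x * g) ^ 5 = 1 := by
    rw [helper77_s60_conj_pow, hx5]
    group
  have hty : Matrix.trace ((g⁻¹ * x * g : GL (Fin 4) F) : Matrix (Fin 4) (Fin 4) F) = 2 + τ := by
    rw [helper77_s60_trace_conj, htx]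
  have htyi : Matrix.trace (((g⁻¹ * x * g)⁻¹ : GL (Fin 4) F) : Matrix (Fin 4) (Fin 4) F) =
      2 + τ := by
    have e : (g⁻¹ * x * g)⁻¹ = g⁻¹ * x⁻¹ * g := by group
    rw [e, helper77_s60_trace_conj, htxi]
  obtain ⟨hdvd, h4dvd, hmod⟩ := hBFC _ hy hy5
  have hF := hBTF _ hy 5 (by decide) hy5
  rw [hty, htyi] at hF
  obtain ⟨c, hc⟩ : ∃ c : ℕ,
      c = Nat.card {s : GL (Fin 4) F // s ∈ R ∧ g⁻¹ * x * g * s = s * (g⁻¹ * x * g)} := ⟨_, rfl⟩
  rw [← hc] at hdvd h4dvd hmod hF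
  have hcle : c ≤ 64 := Nat.le_of_dvd (by norm_num) hdvd
  have hc2 : c = 4 ∨ c = 64 := by
    interval_cases c <;> omega
  rcases hc2 with h4c | h64
  · rw [h4c] at hF
    have hF' : (4 : F) * ((2 + τ) * (2 + τ)) = 4 := by
      rw [hF]
      norm_num
    have h20 : (4 : F) * 5 = 0 := by
      linear_combination (3 * τ - 1) * hF' - 4 * (3 * τ + 8) * hτ
    rcases mul_eq_zero.1 h20 with h | h
    · apply h2
      have h22 : (2 : F) * 2 = 0 := by
        rw [← h]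
        norm_num
      exact (mul_self_eq_zero.1 h22)
    · exact h5 h
  · obtain ⟨z, hz⟩ := helper77_s60_centr_full R w hG (g⁻¹ * x * g) (by rw [← hc, h64])
    exact hxs z (helper77_s60_conj_scalar g x z hz)

end Cfsg.Agent.Lib.helper89.S60
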