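import Mathlib
import Cfsg.Agent.Lib.helper89.S60Defs
import Cfsg.Agent.Lib.helper32.S6eE34r
import Cfsg.Agent.Lib.helper32.S6eE12r

set_option autoImplicit false

namespace Cfsg.Agent.Lib.helper89.S60

open Matrix Cfsg Cfsg.Geo

/-- the block embedding `A ↦ A ⊕ 1 ⊕ 1` of `2 × 2` matrices into `4 × 4` matrices -/
def helper77_emb4 {F : Type*} [Field F] (A : Matrix (Fin 2) (Fin 2) F) : Matrix (Fin 4) (Fin 4) F :=
  !![A 0 0, A 0 1, 0, 0; A 1 0, A 1 1, 0, 0; 0, 0, 1, 0; 0, 0, 0, 1]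

theorem helper77_emb4_mul {F : Type*} [Field F] (A B : Matrix (Fin 2) (Fin 2) F) :
    helper77_emb4 (A * B) = helper77_emb4 A * helper77_emb4 B := by
  ext i j
  fin_cases i <;> fin_cases j <;>
    simp [helper77_emb4, Matrix.mul_apply, Fin.sum_univ_four, Fin.sum_univ_two]

theorem helper77_emb4_one {F : Type*} [Field F] :
    helper77_emb4 (1 : Matrix (Fin 2) (Fin 2) F) = 1 := by
  ext i j
  fin_cases i <;> fin_cases j <;> simp [helper77_emb4]

theorem helper77_emb4_trace {F : Type*} [Field F] (A : Matrix (Fin 2) (Fin 2) F) :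
    Matrix.trace (helper77_emb4 A) = 2 + Matrix.trace A := by
  simp [helper77_emb4, Matrix.trace, Fin.sum_univ_four, Fin.sum_univ_two]
  ring

theorem helper77_emb4_det {F : Type*} [Field F] (A : Matrix (Fin 2) (Fin 2) F) :
    Matrix.det (helper77_emb4 A) = Matrix.det A := by
  rw [Matrix.det_fin_two]
  simp [helper77_emb4, Matrix.det_succ_row_zero, Fin.sum_univ_succ, Fin.succAbove]
  ring

theorem helper77_emb4_pow {F : Type*} [Field F] (A : Matrix (Fin 2) (Fin 2) F) (n : ℕ) :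
    helper77_emb4 (A ^ n) = helper77_emb4 A ^ n := by
  induction n with
  | zero => rw [pow_zero, pow_zero]; exact helper77_emb4_one
  | succ n ih => rw [pow_succ, pow_succ, helper77_emb4_mul, ih]

theorem helper77_emb4_ne_smul {F : Type*} [Field F] (A : Matrix (Fin 2) (Fin 2) F) (hA : A ≠ 1)
    (z : F) : helper77_emb4 A ≠ z • (1 : Matrix (Fin 4) (Fin 4) F) := by
  intro h
  have h22 := congrFun (congrFun h 2) 2
  have h00 := congrFun (congrFun h 0) 0
  have h01 := congrFun (congrFun h 0) 1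
  have h10 := congrFun (congrFun h 1) 0
  have h11 := congrFun (congrFun h 1) 1
  simp [helper77_emb4] at h22 h00 h01 h10 h11
  apply hA
  ext i j
  fin_cases i <;> fin_cases j <;> simp [h00, h01, h10, h11, ← h22]

theorem helper77_trace_adj2 {F : Type*} [Field F] (A : Matrix (Fin 2) (Fin 2) F) :
    Matrix.trace (Matrix.adjugate A) = Matrix.trace A := by
  rw [Matrix.trace_fin_two, Matrix.trace_fin_two, Matrix.adjugate_fin_two]
  simp
  ring

/-- X5 (racer copy of `s60_exists_five`). -/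
theorem helper77_s60_exists_five {F : Type*} [Field F] [Fintype F] (h2 : (2 : F) ≠ 0)
    (hdiv : 5 ∣ Fintype.card F ^ 2 - 1) :
    ∃ x : GL (Fin 4) F, x ∈ specialLinear (Fin 4) F ∧ x ^ 5 = 1 ∧ (∀ z : F, (x : Matrix (Fin 4) (Fin 4) F) ≠ z • (1 : Matrix (Fin 4) (Fin 4) F)) ∧
      ∃ τ : F, τ ^ 2 + τ - 1 = 0 ∧ Matrix.trace (x : Matrix (Fin 4) (Fin 4) F) = 2 + τ ∧
        Matrix.trace ((x⁻¹ : GL (Fin 4) F) : Matrix (Fin 4) (Fin 4) F) = 2 + τ := by
  have : Fact (Nat.Prime 5) := ⟨Nat.prime_five⟩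
  obtain ⟨A, hdet, hA5, hA1⟩ := Cfsg.Agent.Lib.helper24.h32_s6_sl2_elt (F := F) 5 hdiv
  have htr := Cfsg.Agent.Lib.helper24.h32_s6_sl2_trace5 h2 A hdet hA5 hA1
  have hm1 : helper77_emb4 A * helper77_emb4 (Matrix.adjugate A) = 1 := by
    rw [← helper77_emb4_mul, Matrix.mul_adjugate, hdet, one_smul, helper77_emb4_one]
  have hm2 : helper77_emb4 (Matrix.adjugate A) * helper77_emb4 A = 1 := by
    rw [← helper77_emb4_mul, Matrix.adjugate_mul, hdet, one_smul, helper77_emb4_one]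
  refine ⟨⟨helper77_emb4 A, helper77_emb4 (Matrix.adjugate A), hm1, hm2⟩, ?_, ?_, ?_,
    Matrix.trace A, htr, ?_, ?_⟩
  · show (Matrix.GeneralLinearGroup.det : GL (Fin 4) F →* Fˣ) _ = 1
    apply Units.ext
    show Matrix.det (helper77_emb4 A) = 1
    rw [helper77_emb4_det, hdet]
  · apply Units.ext
    rw [Units.val_pow_eq_pow_val]
    show helper77_emb4 A ^ 5 = 1
    rw [← helper77_emb4_pow, hA5, helper77_emb4_one]
  · intro z
    exact helper77_emb4_ne_smul A hA1 z
  · exact helper77_emb4_trace A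
  · show Matrix.trace (helper77_emb4 (Matrix.adjugate A)) = 2 + Matrix.trace A
    rw [helper77_emb4_trace, helper77_trace_adj2]

end Cfsg.Agent.Lib.helper89.S60
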