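import Mathlib
import Cfsg.Agent.Lib.helper89.S60Defs
import Cfsg.Agent.Lib.helper77.S60N5core
import Cfsg.Agent.Lib.helper77.S60X5
import Cfsg.Agent.Lib.helper31.S60BFC
import Cfsg.Agent.Lib.helper29.S60BTF

set_option autoImplicit false

namespace Cfsg.Agent.Lib.helper89.S60

open Matrix Cfsg Cfsg.Geo

/-- N5 (canonical): assembled from the landed core, X5 (`helper77_s60_exists_five`), BFC and BTF. -/
theorem s60_nec_five {F : Type*} [Field F] [Fintype F] (h2 : (2 : F) ≠ 0) (R : Subgroup (GL (Fin 4) F)) (w : F) (hG : Good R w)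
    (h5 : (5 : F) ≠ 0) (hdiv : 5 ∣ Fintype.card F ^ 2 - 1) : Derang R 5 := by
  have : Fact (Nat.Prime 5) := ⟨by norm_num⟩
  exact helper77_s60_nec_five_core h2 R w hG h5 (helper77_s60_exists_five h2 hdiv)
    (fun y hy hyr =>
      let h := s60_fix_count h2 R w hG 5 y hy hyr
      ⟨h.1, h.2.1, h.2.2.1⟩)
    (fun y hy k hk hyk => s60_trace_formula h2 R w hG y hy k hk hyk)

end Cfsg.Agent.Lib.helper89.S60
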