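import Mathlib
import Cfsg.Agent.Lib.helper89.S60Defs
import Cfsg.Agent.Lib.helper77.S60N5core

/-! S6000 split (architect helper89), piece NBIG, core: primes `r ≥ 7` give derangements.
The pieces BFC and HALF enter as hypotheses. -/

set_option autoImplicit false

namespace Cfsg.Agent.Lib.helper89.S60

open Matrix Cfsg Cfsg.Geo

theorem helper77_s60_arith (r c : ℕ) (hr : r.Prime) (hr7 : 7 ≤ r) (hc : c ∣ 64) (h4 : 4 ∣ c)
    (hmod : c % r = 64 % r) : c = 64 ∨ (c = 8 ∧ r = 7) := by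
  have hc64 : c ≤ 64 := Nat.le_of_dvd (by norm_num) hc
  by_cases hne : c = 64
  · exact Or.inl hne
  · right
    have hlt : c < 64 := lt_of_le_of_ne hc64 hne
    have hdvd : r ∣ 64 - c := (Nat.modEq_iff_dvd' hc64).1 hmod
    have hr64 : r ≤ 64 := le_trans (Nat.le_of_dvd (by omega) hdvd) (by omega)
    interval_cases c <;> first
      | omega
      | (interval_cases r <;> first | omega | (exfalso; revert hr; norm_num))

/-- the case `(c, r) = (8, 7)` is impossible -/
theorem helper77_s60_case87 {F : Type*} [Field F] [Fintype F] (h2 : (2 : F) ≠ 0)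
    (R : Subgroup (GL (Fin 4) F)) (w : F) (hG : Good R w) (y : GL (Fin 4) F)
    (hc8 : Nat.card {s : GL (Fin 4) F // s ∈ R ∧ y * s = s * y} = 8)
    (hT : ∀ s₀ ∈ R, y * s₀ = s₀ * y →
      Nat.card {t : GL (Fin 4) F // t ∈ R ∧ (t : Matrix (Fin 4) (Fin 4) F) *
          (s₀ : Matrix (Fin 4) (Fin 4) F) = -((s₀ : Matrix (Fin 4) (Fin 4) F) *
          (t : Matrix (Fin 4) (Fin 4) F)) ∧ y * t = t * y} % 7 =
        Nat.card {t : GL (Fin 4) F // t ∈ R ∧ (t : Matrix (Fin 4) (Fin 4) F) *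
          (s₀ : Matrix (Fin 4) (Fin 4) F) = -((s₀ : Matrix (Fin 4) (Fin 4) F) *
          (t : Matrix (Fin 4) (Fin 4) F))} % 7)
    (hHALF : ∀ s₀ ∈ R, (∀ c : F, (s₀ : Matrix (Fin 4) (Fin 4) F) ≠
        c • (1 : Matrix (Fin 4) (Fin 4) F)) →
      Nat.card {t : GL (Fin 4) F // t ∈ R ∧ (t : Matrix (Fin 4) (Fin 4) F) *
          (s₀ : Matrix (Fin 4) (Fin 4) F) = -((s₀ : Matrix (Fin 4) (Fin 4) F) *
          (t : Matrix (Fin 4) (Fin 4) F))} = 32) : False := by
  classical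
  -- a non-scalar element of the centralizer
  have hex : ∃ s₀ : GL (Fin 4) F, s₀ ∈ R ∧ y * s₀ = s₀ * y ∧
      ∀ c : F, (s₀ : Matrix (Fin 4) (Fin 4) F) ≠ c • (1 : Matrix (Fin 4) (Fin 4) F) := by
    by_contra hcon
    push Not at hcon
    have hroot : ∀ c : F, c ^ 4 = 1 → c ∈ ({1, -1, w, -w} : Finset F) := by
      intro c hc4
      have h1 : (c - 1) * (c + 1) * ((c - w) * (c + w)) = 0 := by
        have e : (c - 1) * (c + 1) * ((c - w) * (c + w)) =
            c ^ 4 - 1 - (c ^ 2 - 1) * (w * w + 1) := by ring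
        rw [e, hc4, hG.wsq]
        ring
      simp only [Finset.mem_insert, Finset.mem_singleton]
      rcases mul_eq_zero.1 h1 with h | h
      · rcases mul_eq_zero.1 h with h' | h'
        · exact Or.inl (sub_eq_zero.1 h')
        · exact Or.inr (Or.inl (eq_neg_of_add_eq_zero_left h'))
      · rcases mul_eq_zero.1 h with h' | h'
        · exact Or.inr (Or.inr (Or.inl (sub_eq_zero.1 h')))
        · exact Or.inr (Or.inr (Or.inr (eq_neg_of_add_eq_zero_left h')))
    have hentry : ∀ c : F, (c • (1 : Matrix (Fin 4) (Fin 4) F)) 0 0 = c := by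
      intro c
      simp
    let f : {s : GL (Fin 4) F // s ∈ R ∧ y * s = s * y} → ({1, -1, w, -w} : Finset F) :=
      fun s => ⟨(s.1 : Matrix (Fin 4) (Fin 4) F) 0 0, by
        obtain ⟨c, hc⟩ := hcon s.1 s.2.1 s.2.2
        rw [hc, hentry]
        exact hroot c (hG.scal s.1 s.2.1 c hc)⟩
    have hf : Function.Injective f := by
      intro a b hab
      have h00 : (a.1 : Matrix (Fin 4) (Fin 4) F) 0 0 = (b.1 : Matrix (Fin 4) (Fin 4) F) 0 0 :=
        congrArg Subtype.val hab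
      obtain ⟨ca, hca⟩ := hcon a.1 a.2.1 a.2.2
      obtain ⟨cb, hcb⟩ := hcon b.1 b.2.1 b.2.2
      rw [hca, hcb, hentry, hentry] at h00
      apply Subtype.ext
      apply Units.ext
      rw [hca, hcb, h00]
    have hle := Nat.card_le_card_of_injective f hf
    rw [hc8, Nat.card_eq_fintype_card, Fintype.card_coe] at hle
    have h4 := Finset.card_le_four (a := (1 : F)) (b := -1) (c := w) (d := -w)
    omega
  obtain ⟨s₀, hs₀R, hys₀, hs₀ns⟩ := hex
  obtain ⟨z0, hz0R, hz0⟩ := hG.wmem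
  have hz0pow : ∀ e : ℕ, ((z0 ^ e : GL (Fin 4) F) : Matrix (Fin 4) (Fin 4) F) =
      (w ^ e) • (1 : Matrix (Fin 4) (Fin 4) F) := by
    intro e
    rw [Units.val_pow_eq_pow_val, hz0, smul_pow, one_pow]
  have hw2 : w ^ 2 = -1 := by
    rw [pow_two]
    exact hG.wsq
  have hne1 : (-1 : F) ≠ 1 := by
    intro h
    apply h2
    have h3 : (2 : F) = 1 - (-1) := by norm_num
    rw [h3, h, sub_self]
  have hscal_inj : ∀ a b : F, a • (1 : Matrix (Fin 4) (Fin 4) F) = b • 1 → a = b := by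
    intro a b hab
    have h00 := congrFun (congrFun hab 0) 0
    simpa using h00
  have hord : orderOf z0 = 4 := by
    have h1 : ¬ z0 ^ 2 ^ 1 = 1 := by
      intro h
      have h3 := congrArg (fun u : GL (Fin 4) F => (u : Matrix (Fin 4) (Fin 4) F)) h
      simp only [pow_one] at h3
      rw [hz0pow, hw2, Units.val_one] at h3
      have h4 : (-1 : F) = 1 := hscal_inj _ _ (by rw [h3, one_smul])
      exact hne1 h4
    have h3 : z0 ^ 2 ^ (1 + 1) = 1 := by
      apply Units.ext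
      have h4 : (2 : ℕ) ^ (1 + 1) = 4 := by norm_num
      rw [h4, hz0pow, Units.val_one]
      have h5 : w ^ 4 = 1 := by
        have : w ^ 4 = (w ^ 2) ^ 2 := by ring
        rw [this, hw2]
        norm_num
      rw [h5, one_smul]
    have h4 := orderOf_eq_prime_pow h1 h3
    rw [h4]
    norm_num
  -- commuting and anticommuting with `s₀` exclude each other
  have hcontra : ∀ u : GL (Fin 4) F,
      (u : Matrix (Fin 4) (Fin 4) F) * (s₀ : Matrix (Fin 4) (Fin 4) F) =
        (s₀ : Matrix (Fin 4) (Fin 4) F) * (u : Matrix (Fin 4) (Fin 4) F) →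
      (u : Matrix (Fin 4) (Fin 4) F) * (s₀ : Matrix (Fin 4) (Fin 4) F) =
        -((s₀ : Matrix (Fin 4) (Fin 4) F) * (u : Matrix (Fin 4) (Fin 4) F)) → False := by
    intro u h1 h3
    rw [h1] at h3
    have h4 : (2 : F) • ((s₀ : Matrix (Fin 4) (Fin 4) F) * (u : Matrix (Fin 4) (Fin 4) F)) = 0 := by
      rw [two_smul]
      nth_rewrite 1 [h3]
      exact neg_add_cancel _
    have h5 : (s₀ : Matrix (Fin 4) (Fin 4) F) * (u : Matrix (Fin 4) (Fin 4) F) = 0 :=
      (smul_eq_zero.1 h4).resolve_left h2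
    have h6 : ((s₀ * u : GL (Fin 4) F) : Matrix (Fin 4) (Fin 4) F) = 0 := by
      rw [Units.val_mul]
      exact h5
    exact Units.ne_zero _ h6
  have hscal_comm : ∀ (u : GL (Fin 4) F) (c : F),
      (u : Matrix (Fin 4) (Fin 4) F) = c • (1 : Matrix (Fin 4) (Fin 4) F) →
      (u : Matrix (Fin 4) (Fin 4) F) * (s₀ : Matrix (Fin 4) (Fin 4) F) =
        (s₀ : Matrix (Fin 4) (Fin 4) F) * (u : Matrix (Fin 4) (Fin 4) F) := by
    intro u c hu
    rw [hu, Matrix.smul_mul, Matrix.mul_smul, Matrix.one_mul, Matrix.mul_one]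
  have hyz : ∀ e : ℕ, y * z0 ^ e = z0 ^ e * y := by
    intro e
    apply Units.ext
    rw [Units.val_mul, Units.val_mul, hz0pow, Matrix.smul_mul, Matrix.mul_smul, Matrix.one_mul,
      Matrix.mul_one]
  -- the injection
  let φ : Option (Fin 4) ⊕ {t : GL (Fin 4) F // t ∈ R ∧ (t : Matrix (Fin 4) (Fin 4) F) *
        (s₀ : Matrix (Fin 4) (Fin 4) F) = -((s₀ : Matrix (Fin 4) (Fin 4) F) *
        (t : Matrix (Fin 4) (Fin 4) F)) ∧ y * t = t * y} →
      {s : GL (Fin 4) F // s ∈ R ∧ y * s = s * y} := fun a =>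
    match a with
    | Sum.inl none => ⟨s₀, hs₀R, hys₀⟩
    | Sum.inl (some e) => ⟨z0 ^ (e : ℕ), R.pow_mem hz0R _, hyz _⟩
    | Sum.inr t => ⟨t.1, t.2.1, t.2.2.2⟩
  have hφ : Function.Injective φ := by
    intro a b hab
    have hval : (φ a).1 = (φ b).1 := congrArg Subtype.val hab
    match a, b with
    | Sum.inl none, Sum.inl none => rfl
    | Sum.inl none, Sum.inl (some e) =>
      exfalso
      have h1 : s₀ = z0 ^ (e : ℕ) := hval
      exact hs₀ns (w ^ (e : ℕ)) (by rw [h1, hz0pow])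
    | Sum.inl (some e), Sum.inl none =>
      exfalso
      have h1 : z0 ^ (e : ℕ) = s₀ := hval
      exact hs₀ns (w ^ (e : ℕ)) (by rw [← h1, hz0pow])
    | Sum.inl (some e), Sum.inl (some e') =>
      have h1 : z0 ^ (e : ℕ) = z0 ^ (e' : ℕ) := hval
      have h3 : (e : ℕ) = (e' : ℕ) :=
        pow_injOn_Iio_orderOf (by rw [Set.mem_Iio, hord]; exact e.2)
          (by rw [Set.mem_Iio, hord]; exact e'.2) h1
      rw [Fin.ext h3]
    | Sum.inl none, Sum.inr t =>
      exfalso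
      have h1 : s₀ = t.1 := hval
      exact hcontra t.1 (by rw [← h1]) t.2.2.1
    | Sum.inr t, Sum.inl none =>
      exfalso
      have h1 : t.1 = s₀ := hval
      exact hcontra t.1 (by rw [h1]) t.2.2.1
    | Sum.inl (some e), Sum.inr t =>
      exfalso
      have h1 : z0 ^ (e : ℕ) = t.1 := hval
      exact hcontra t.1 (hscal_comm t.1 (w ^ (e : ℕ)) (by rw [← h1, hz0pow])) t.2.2.1
    | Sum.inr t, Sum.inl (some e) =>
      exfalso
      have h1 : t.1 = z0 ^ (e : ℕ) := hval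
      exact hcontra t.1 (hscal_comm t.1 (w ^ (e : ℕ)) (by rw [h1, hz0pow])) t.2.2.1
    | Sum.inr t, Sum.inr t' =>
      have h1 : t.1 = t'.1 := hval
      rw [Subtype.ext h1]
  have hle := Nat.card_le_card_of_injective φ hφ
  rw [hc8, Nat.card_sum, Nat.card_eq_fintype_card (α := Option (Fin 4)), Fintype.card_option,
    Fintype.card_fin] at hle
  have h7 := hT s₀ hs₀R hys₀
  rw [hHALF s₀ hs₀R hs₀ns] at h7
  omega

/-- NBIG core: BFC and HALF as hypotheses. -/
theorem helper77_s60_nec_big_core {F : Type*} [Field F] [Fintype F] (h2 : (2 : F) ≠ 0)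
    (R : Subgroup (GL (Fin 4) F)) (w : F) (hG : Good R w) (r : ℕ) [Fact r.Prime] (hr : 7 ≤ r)
    (hdvd : r ∣ Nat.card (specialLinear (Fin 4) F))
    (hBFC : ∀ y : GL (Fin 4) F, y ∈ subgroupNormalizer R → y ^ r = 1 →
      Nat.card {s : GL (Fin 4) F // s ∈ R ∧ y * s = s * y} ∣ 64 ∧
      4 ∣ Nat.card {s : GL (Fin 4) F // s ∈ R ∧ y * s = s * y} ∧
      Nat.card {s : GL (Fin 4) F // s ∈ R ∧ y * s = s * y} % r = 64 % r ∧
      ∀ s₀ ∈ R, y * s₀ = s₀ * y →
        Nat.card {t : GL (Fin 4) F // t ∈ R ∧ (t : Matrix (Fin 4) (Fin 4) F) *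
            (s₀ : Matrix (Fin 4) (Fin 4) F) = -((s₀ : Matrix (Fin 4) (Fin 4) F) *
            (t : Matrix (Fin 4) (Fin 4) F)) ∧ y * t = t * y} % r =
          Nat.card {t : GL (Fin 4) F // t ∈ R ∧ (t : Matrix (Fin 4) (Fin 4) F) *
            (s₀ : Matrix (Fin 4) (Fin 4) F) = -((s₀ : Matrix (Fin 4) (Fin 4) F) *
            (t : Matrix (Fin 4) (Fin 4) F))} % r)
    (hHALF : ∀ s₀ ∈ R, (∀ c : F, (s₀ : Matrix (Fin 4) (Fin 4) F) ≠
        c • (1 : Matrix (Fin 4) (Fin 4) F)) →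
      Nat.card {t : GL (Fin 4) F // t ∈ R ∧ (t : Matrix (Fin 4) (Fin 4) F) *
          (s₀ : Matrix (Fin 4) (Fin 4) F) = -((s₀ : Matrix (Fin 4) (Fin 4) F) *
          (t : Matrix (Fin 4) (Fin 4) F))} = 32) :
    Derang R r := by
  classical
  have hrp : r.Prime := Fact.out
  obtain ⟨x', hx'⟩ := exists_prime_orderOf_dvd_card' r hdvd
  have hxr : (x' : GL (Fin 4) F) ^ r = 1 := by
    have h1 := pow_orderOf_eq_one x'
    rw [hx'] at h1
    have h := congrArg Subtype.val h1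
    simpa using h
  have ho : orderOf (x' : GL (Fin 4) F) = r := by
    rw [← hx']
    exact Subgroup.orderOf_coe x'
  have hns : ∀ z : F, ((x' : GL (Fin 4) F) : Matrix (Fin 4) (Fin 4) F) ≠
      z • (1 : Matrix (Fin 4) (Fin 4) F) := by
    intro z hz
    have hdet : ((x' : GL (Fin 4) F) : Matrix (Fin 4) (Fin 4) F).det = 1 := by
      have h1 : Matrix.GeneralLinearGroup.det (x' : GL (Fin 4) F) = 1 := MonoidHom.mem_ker.1 x'.2
      have h3 := congrArg Units.val h1
      simpa using h3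
    rw [hz, Matrix.det_smul, Matrix.det_one, mul_one, Fintype.card_fin] at hdet
    have h4 : (x' : GL (Fin 4) F) ^ 4 = 1 := by
      apply Units.ext
      rw [Units.val_pow_eq_pow_val, Units.val_one, hz, smul_pow, one_pow, hdet, one_smul]
    have h5 := orderOf_dvd_of_pow_eq_one h4
    rw [ho] at h5
    have h6 := Nat.le_of_dvd (by norm_num) h5
    omega
  refine ⟨(x' : GL (Fin 4) F), x'.2, hxr, hns, ?_⟩
  intro g hmem
  have hyr : (g⁻¹ * (x' : GL (Fin 4) F) * g) ^ r = 1 := by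
    rw [helper77_s60_conj_pow, hxr]
    group
  obtain ⟨hc64, h4c, hcmod, hT⟩ := hBFC _ hmem hyr
  rcases helper77_s60_arith r _ hrp hr hc64 h4c hcmod with hc | ⟨hc8, hr7⟩
  · obtain ⟨z, hz⟩ := helper77_s60_centr_full R w hG _ hc
    exact hns z (helper77_s60_conj_scalar g _ z hz)
  · subst hr7
    exact helper77_s60_case87 h2 R w hG _ hc8 hT hHALF

end Cfsg.Agent.Lib.helper89.S60
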