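import Mathlib
import Cfsg.Agent.Lib.helper89.S60Defs
import Cfsg.Agent.Lib.helper77.S60NBIGcore
import Cfsg.Agent.Lib.helper31.S60BFC
import Cfsg.Agent.Lib.helper46.S60HALF

/-! S6000 split (architect helper89), piece NBIG: canonical wrapper of the core with the landed
pieces BFC (`s60_fix_count`, helper31) and HALF (`s60_half`, helper46). -/

set_option autoImplicit false

namespace Cfsg.Agent.Lib.helper89.S60

open Matrix Cfsg Cfsg.Geo

/-- NBIG (L; uses BFC HALF). -/
theorem s60_nec_big {F : Type*} [Field F] [Fintype F] (h2 : (2 : F) ≠ 0) (R : Subgroup (GL (Fin 4) F)) (w : F) (hG : Good R w)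
    (r : ℕ) [Fact r.Prime] (hr : 7 ≤ r) (hdvd : r ∣ Nat.card (specialLinear (Fin 4) F)) : Derang R r :=
  helper77_s60_nec_big_core h2 R w hG r hr hdvd
    (fun y hy hyr => s60_fix_count h2 R w hG r y hy hyr)
    (fun s₀ hs hns => s60_half h2 R w hG s₀ hs hns)

end Cfsg.Agent.Lib.helper89.S60
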