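import Mathlib
import Cfsg.Agent.Lib.helper69.SNDefs

/-! S4073 split (helper69), piece E2-ABS: `sn_central_invol_comm` (race copy by helper77). -/

set_option autoImplicit false

namespace Cfsg.Agent.Lib.helper77.SNG

open Cfsg.Agent.Lib.helper69.SNG

universe u

/-- Transfer into an abelian Sylow `2`-subgroup: a normal subgroup of `2`-power index avoiding
a given central involution. -/
theorem helper77_sng_transfer_ker {C : Type u} [Group C] [Finite C] (S : Sylow 2 C)
    (hSc : ∀ a ∈ (S : Subgroup C), ∀ b ∈ (S : Subgroup C), a * b = b * a) (t : C)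
    (ht : orderOf t = 2) (htc : t ∈ Subgroup.center C) :
    ∃ K : Subgroup C, K.Normal ∧ t ∉ K ∧ ∀ c : C, ∃ j : ℕ, c ^ (2 ^ j) ∈ K := by
  let _ : CommGroup ↥(S : Subgroup C) :=
    { (S : Subgroup C).toGroup with
      mul_comm := fun a b => Subtype.ext (hSc a a.2 b b.2) }
  refine ⟨(MonoidHom.transfer (MonoidHom.id ↥(S : Subgroup C))).ker, inferInstance, ?_, ?_⟩
  · intro htK
    have key : ∀ (k : ℕ) (g₀ : C), g₀⁻¹ * t ^ k * g₀ ∈ (S : Subgroup C) →
        g₀⁻¹ * t ^ k * g₀ = t ^ k := by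
      intro k g₀ _
      have h0 := Subgroup.mem_center_iff.mp (Subgroup.pow_mem _ htc k) g₀
      rw [mul_assoc, ← h0, inv_mul_cancel_left]
    have h1 := MonoidHom.transfer_eq_pow (MonoidHom.id ↥(S : Subgroup C)) t key
    have h2 : MonoidHom.transfer (MonoidHom.id ↥(S : Subgroup C)) t = 1 :=
      MonoidHom.mem_ker.mp htK
    have h3 : t ^ (S : Subgroup C).index = 1 := by
      have h4 := congrArg Subtype.val (h1.symm.trans h2)
      simpa using h4
    have h5 : orderOf t ∣ (S : Subgroup C).index := orderOf_dvd_of_pow_eq_one h3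
    rw [ht] at h5
    exact S.not_dvd_index h5
  · intro c
    obtain ⟨j, hj⟩ := S.isPGroup' (MonoidHom.transfer (MonoidHom.id ↥(S : Subgroup C)) c)
    refine ⟨j, ?_⟩
    rw [MonoidHom.mem_ker, map_pow]
    exact hj

/-- The odd part of an abelian normal subgroup of `2`-power index. -/
theorem helper77_sng_odd_part {C : Type u} [Group C] [Finite C] (K : Subgroup C) [K.Normal]
    (hKc : ∀ a ∈ K, ∀ b ∈ K, a * b = b * a) (hK2 : ∀ c : C, ∃ j : ℕ, c ^ (2 ^ j) ∈ K) :
    ∃ (O : Subgroup C) (m : ℕ), O.Normal ∧ O ≤ K ∧ ¬ 2 ∣ m ∧ (∀ x ∈ O, x ^ m = 1) ∧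
      ∀ c : C, ∃ j : ℕ, c ^ (2 ^ j) ∈ O := by
  have hn0 : Nat.card C ≠ 0 := Nat.card_pos.ne'
  have hm : ¬ 2 ∣ Nat.card C / 2 ^ (Nat.card C).factorization 2 :=
    Nat.not_dvd_ordCompl Nat.prime_two hn0
  have hmul : 2 ^ (Nat.card C).factorization 2 * (Nat.card C / 2 ^ (Nat.card C).factorization 2)
      = Nat.card C := Nat.ordProj_mul_ordCompl_eq_self (Nat.card C) 2
  refine ⟨{ carrier := {x | x ∈ K ∧ x ^ (Nat.card C / 2 ^ (Nat.card C).factorization 2) = 1}
            mul_mem' := ?_
            one_mem' := ⟨K.one_mem, one_pow _⟩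
            inv_mem' := ?_ }, Nat.card C / 2 ^ (Nat.card C).factorization 2, ?_, ?_, hm, ?_, ?_⟩
  · intro x y hx hy
    refine ⟨K.mul_mem hx.1 hy.1, ?_⟩
    have hc : Commute x y := hKc x hx.1 y hy.1
    rw [hc.mul_pow, hx.2, hy.2, one_mul]
  · intro x hx
    refine ⟨K.inv_mem hx.1, ?_⟩
    rw [inv_pow, hx.2, inv_one]
  · constructor
    intro n hn g
    refine ⟨Subgroup.Normal.conj_mem inferInstance n hn.1 g, ?_⟩
    rw [conj_pow, hn.2, mul_one, mul_inv_cancel]
  · intro x hx
    exact hx.1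
  · intro x hx
    exact hx.2
  · intro c
    obtain ⟨j, hj⟩ := hK2 c
    refine ⟨j + (Nat.card C).factorization 2, ?_, ?_⟩
    · rw [pow_add, pow_mul]
      exact K.pow_mem hj _
    · rw [← pow_mul, pow_add, mul_assoc, hmul, mul_comm, pow_mul, pow_card_eq_one', one_pow]

/-- A normal odd subgroup of `2`-power index and a Sylow `2`-subgroup generate the group and
intersect trivially. -/
theorem helper77_sng_sup_top {C : Type u} [Group C] [Finite C] (S : Sylow 2 C)
    (O : Subgroup C) [O.Normal] (m : ℕ) (hm : ¬ 2 ∣ m) (hO : ∀ x ∈ O, x ^ m = 1)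
    (hO2 : ∀ c : C, ∃ j : ℕ, c ^ (2 ^ j) ∈ O) :
    (S : Subgroup C) ⊔ O = ⊤ ∧ ∀ x ∈ (S : Subgroup C), x ∈ O → x = 1 := by
  constructor
  · have hpg : IsPGroup 2 (C ⧸ O) := by
      intro g
      obtain ⟨c, rfl⟩ := QuotientGroup.mk_surjective g
      obtain ⟨j, hj⟩ := hO2 c
      refine ⟨j, ?_⟩
      rw [← QuotientGroup.mk_pow]
      exact (QuotientGroup.eq_one_iff _).mpr hj
    obtain ⟨n, hn⟩ := IsPGroup.iff_card.mp hpg
    have h1 : ((S : Subgroup C) ⊔ O).index ∣ 2 ^ n := by
      rw [← hn, ← Subgroup.index_eq_card]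
      exact Subgroup.index_dvd_of_le le_sup_right
    have h2 : ((S : Subgroup C) ⊔ O).index ∣ (S : Subgroup C).index :=
      Subgroup.index_dvd_of_le le_sup_left
    obtain ⟨i, -, hi⟩ := (Nat.dvd_prime_pow Nat.prime_two).mp h1
    rcases Nat.eq_zero_or_pos i with h0 | h0
    · rw [h0, pow_zero] at hi
      exact Subgroup.index_eq_one.mp hi
    · exfalso
      apply S.not_dvd_index
      refine dvd_trans ?_ h2
      rw [hi]
      exact dvd_pow_self 2 h0.ne'
  · intro x hxS hxO
    obtain ⟨k, hk⟩ := S.isPGroup' ⟨x, hxS⟩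
    have hk' : x ^ 2 ^ k = 1 := congrArg Subtype.val hk
    have h1 : orderOf x ∣ Nat.gcd (2 ^ k) m :=
      Nat.dvd_gcd (orderOf_dvd_of_pow_eq_one hk') (orderOf_dvd_of_pow_eq_one (hO x hxO))
    have hcop : Nat.Coprime (2 ^ k) m :=
      Nat.Coprime.pow_left k ((Nat.Prime.coprime_iff_not_dvd Nat.prime_two).mpr hm)
    rw [hcop.gcd_eq_one, Nat.dvd_one] at h1
    exact orderOf_eq_one_iff.mp h1

/-- **[E2-ABS]** -/
theorem sn_central_invol_comm {C : Type u} [Group C] [Finite C] (h : SN C) (S : Sylow 2 C)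
    (hS : IsMulCommutative S) (hcyc : ¬ IsCyclic S) (t : C) (ht : orderOf t = 2)
    (htc : t ∈ Subgroup.center C) : IsMulCommutative C := by
  by_contra hna
  have hSc : ∀ a ∈ (S : Subgroup C), ∀ b ∈ (S : Subgroup C), a * b = b * a :=
    fun a ha b hb => congrArg Subtype.val (hS.is_comm.comm ⟨a, ha⟩ ⟨b, hb⟩)
  obtain ⟨K, hKn, htK, hK2⟩ := helper77_sng_transfer_ker S hSc t ht htc
  have hKtop : K ≠ ⊤ := by
    intro hK
    apply htK
    rw [hK]
    exact Subgroup.mem_top t
  have hKc : ∀ a ∈ K, ∀ b ∈ K, a * b = b * a := (comm_iff K).mp (h.normal_comm K hKtop)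
  obtain ⟨O, m, hOn, hOK, hm, hO, hO2⟩ := helper77_sng_odd_part K hKc hK2
  obtain ⟨hsup, hinf⟩ := helper77_sng_sup_top S O m hm hO hO2
  -- the quotient `C ⧸ O` is the image of `S`
  have hmap : (S : Subgroup C).map (QuotientGroup.mk' O) = ⊤ := by
    have h1 : ((S : Subgroup C) ⊔ O).map (QuotientGroup.mk' O) = ⊤ := by
      rw [hsup]
      exact Subgroup.map_top_of_surjective _ (QuotientGroup.mk'_surjective O)
    rw [Subgroup.map_sup, QuotientGroup.map_mk'_self, sup_bot_eq] at h1
    exact h1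
  have hrep : ∀ a : C ⧸ O, ∃ u ∈ (S : Subgroup C), QuotientGroup.mk' O u = a := by
    intro a
    have h1 : a ∈ (S : Subgroup C).map (QuotientGroup.mk' O) := by
      rw [hmap]
      exact Subgroup.mem_top a
    exact Subgroup.mem_map.mp h1
  have hqc : ∀ a b : C ⧸ O, a * b = b * a := by
    intro a b
    obtain ⟨u, hu, rfl⟩ := hrep a
    obtain ⟨v, hv, rfl⟩ := hrep b
    rw [← map_mul, ← map_mul, hSc u hu v hv]
  -- every element of `S` centralizes `O`
  have hcent : ∀ s ∈ (S : Subgroup C), ∀ o ∈ O, s * o = o * s := by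
    intro s hs o ho
    have hHn : ((Subgroup.zpowers (QuotientGroup.mk' O s)).comap (QuotientGroup.mk' O)).Normal := by
      have h1 : (Subgroup.zpowers (QuotientGroup.mk' O s)).Normal := by
        constructor
        intro n hn g
        rw [hqc g n, mul_inv_cancel_right]
        exact hn
      exact Subgroup.Normal.comap h1 _
    have hHtop : (Subgroup.zpowers (QuotientGroup.mk' O s)).comap (QuotientGroup.mk' O) ≠ ⊤ := by
      intro hH
      apply hcyc
      refine ⟨⟨⟨s, hs⟩, ?_⟩⟩
      rintro ⟨u, hu⟩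
      have h1 : u ∈ (Subgroup.zpowers (QuotientGroup.mk' O s)).comap (QuotientGroup.mk' O) := by
        rw [hH]
        exact Subgroup.mem_top u
      rw [Subgroup.mem_comap] at h1
      obtain ⟨i, hi⟩ := Subgroup.mem_zpowers_iff.mp h1
      have h2 : QuotientGroup.mk' O (s ^ i) = QuotientGroup.mk' O u := by
        rw [map_zpow]
        exact hi
      have h3 : (s ^ i)⁻¹ * u ∈ O := by
        have h4 : ((s ^ i : C) : C ⧸ O) = ((u : C) : C ⧸ O) := h2
        exact QuotientGroup.eq.mp h4
      have h5 : (s ^ i)⁻¹ * u = 1 :=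
        hinf _ (Subgroup.mul_mem _ (Subgroup.inv_mem _ (Subgroup.zpow_mem _ hs i)) hu) h3
      have h6 : s ^ i = u := inv_mul_eq_one.mp h5
      exact ⟨i, Subtype.ext h6⟩
    have hHc := (comm_iff _).mp (h.normal_comm _ hHtop)
    apply hHc
    · rw [Subgroup.mem_comap]
      exact Subgroup.mem_zpowers _
    · rw [Subgroup.mem_comap]
      have h1 : QuotientGroup.mk' O o = 1 := (QuotientGroup.eq_one_iff o).mpr ho
      rw [h1]
      exact Subgroup.one_mem _
  -- `S` and `O` are central
  have hScen : (S : Subgroup C) ≤ Subgroup.center C := by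
    intro s hs
    have h1 : (S : Subgroup C) ⊔ O ≤ Subgroup.centralizer ({s} : Set C) := by
      apply sup_le
      · intro u hu
        rw [Subgroup.mem_centralizer_iff]
        intro y hy
        rw [Set.mem_singleton_iff] at hy
        rw [hy]
        exact hSc s hs u hu
      · intro o ho
        rw [Subgroup.mem_centralizer_iff]
        intro y hy
        rw [Set.mem_singleton_iff] at hy
        rw [hy]
        exact hcent s hs o ho
    rw [hsup] at h1
    rw [Subgroup.mem_center_iff]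
    intro g
    have h2 := Subgroup.mem_centralizer_iff.mp (h1 (Subgroup.mem_top g)) s (Set.mem_singleton s)
    exact h2.symm
  have hOcen : O ≤ Subgroup.center C := by
    intro o ho
    have h1 : (S : Subgroup C) ⊔ O ≤ Subgroup.centralizer ({o} : Set C) := by
      apply sup_le
      · intro u hu
        rw [Subgroup.mem_centralizer_iff]
        intro y hy
        rw [Set.mem_singleton_iff] at hy
        rw [hy]
        exact (hcent u hu o ho).symm
      · intro o' ho'
        rw [Subgroup.mem_centralizer_iff]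
        intro y hy
        rw [Set.mem_singleton_iff] at hy
        rw [hy]
        exact hKc o (hOK ho) o' (hOK ho')
    rw [hsup] at h1
    rw [Subgroup.mem_center_iff]
    intro g
    have h2 := Subgroup.mem_centralizer_iff.mp (h1 (Subgroup.mem_top g)) o (Set.mem_singleton o)
    exact h2.symm
  have hcen : Subgroup.center C = ⊤ := by
    apply top_le_iff.mp
    rw [← hsup]
    exact sup_le hScen hOcen
  apply hna
  rw [comm_iff_top]
  intro a b
  have h1 : b ∈ Subgroup.center C := by
    rw [hcen]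
    exact Subgroup.mem_top b
  exact Subgroup.mem_center_iff.mp h1 a

end Cfsg.Agent.Lib.helper77.SNG
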