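import Mathlib
import Cfsg.Agent.Lib.helper49.SPEDefs

/-! S2333 split (architect helper49), piece ECOUNT (racer copy by helper77): there are at least
`(q ^ n - 1) * (q ^ n - q)` linearly independent pairs of vectors in `F ^ n`. -/

set_option autoImplicit false

namespace Cfsg.Agent.Lib.helper49.SPE

open Matrix

/-- ECOUNT (L), racer copy -/
theorem helper77_card_indep {F : Type*} [Field F] [Fintype F] {n : ℕ} :
    (Fintype.card F ^ n - 1) * (Fintype.card F ^ n - Fintype.card F) ≤
      Nat.card {p : (Fin n → F) × (Fin n → F) // Indep p.1 p.2} := by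
  classical
  rw [Nat.card_eq_fintype_card, Fintype.card_subtype]
  set S : Finset (Σ _ : Fin n → F, Fin n → F) :=
    (Finset.univ.filter (fun u : Fin n → F => u ≠ 0)).sigma
      (fun u => Finset.univ \ Finset.univ.image (fun κ : F => κ • u)) with hS
  have hcardS : (Fintype.card F ^ n - 1) * (Fintype.card F ^ n - Fintype.card F) ≤ S.card := by
    rw [hS, Finset.card_sigma]
    have h1 : (Finset.univ.filter (fun u : Fin n → F => u ≠ 0)).card =
        Fintype.card F ^ n - 1 := by
      rw [Finset.filter_ne', Finset.card_erase_of_mem (Finset.mem_univ _), Finset.card_univ,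
        Fintype.card_pi_const]
    rw [← h1, ← smul_eq_mul]
    apply Finset.card_nsmul_le_sum
    intro u _
    refine le_trans ?_ (Finset.le_card_sdiff _ _)
    rw [Finset.card_univ, Fintype.card_pi_const]
    apply Nat.sub_le_sub_left
    exact Finset.card_image_le.trans (by rw [Finset.card_univ])
  refine hcardS.trans ?_
  apply Finset.card_le_card_of_injOn (fun x => (x.1, x.2))
  · intro x hx
    rw [hS, Finset.mem_coe, Finset.mem_sigma] at hx
    obtain ⟨hx1, hx2⟩ := hx
    rw [Finset.mem_filter] at hx1
    rw [Finset.mem_sdiff, Finset.mem_image] at hx2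
    simp only [Finset.mem_coe, Finset.mem_filter, Finset.mem_univ, true_and]
    intro s t hst
    by_cases ht : t = 0
    · subst ht
      rw [zero_smul, add_zero] at hst
      exact ⟨(smul_eq_zero.1 hst).resolve_right hx1.2, rfl⟩
    · exfalso
      apply hx2.2
      refine ⟨-(t⁻¹ * s), Finset.mem_univ _, ?_⟩
      have h3 : t • x.2 = -(s • x.1) := by
        rw [eq_neg_iff_add_eq_zero, add_comm]
        exact hst
      calc -(t⁻¹ * s) • x.1 = t⁻¹ • (-(s • x.1)) := by rw [neg_smul, mul_smul, smul_neg]
        _ = t⁻¹ • (t • x.2) := by rw [h3]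
        _ = x.2 := by rw [smul_smul, inv_mul_cancel₀ ht, one_smul]
  · intro x _ y _ h
    have h1 : x.1 = y.1 := congrArg Prod.fst h
    have h3 : x.2 = y.2 := congrArg Prod.snd h
    exact Sigma.ext h1 (heq_of_eq h3)

end Cfsg.Agent.Lib.helper49.SPE
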