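import Mathlib
import Cfsg.Agent.Lib.helper49.SPEDefs

/-! S2333 split (architect helper49), piece ENORM (racer copy by helper77): an anisotropic binary
quadratic form over a finite field of characteristic 2 takes the value `a` at most `q + 1` times. -/

set_option autoImplicit false

namespace Cfsg.Agent.Lib.helper49.SPE

open Matrix

theorem helper77_bq_smul {F : Type*} [Field F] (a b c k s t : F) :
    bq a b c (k * s) (k * t) = k ^ 2 * bq a b c s t := by
  unfold bq
  ring

/-- ENORM (M), racer copy -/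
theorem helper77_card_norm_le {F : Type*} [Field F] [Fintype F] (h2 : (2 : F) = 0) (a b c : F)
    (haniso : ∀ s t : F, bq a b c s t = 0 → s = 0 ∧ t = 0) :
    Nat.card {p : F × F // bq a b c p.1 p.2 = a} ≤ Fintype.card F + 1 := by
  classical
  have ha : a ≠ 0 := by
    intro ha
    have h1 : bq a b c 1 0 = 0 := by
      unfold bq
      rw [ha]
      ring
    exact one_ne_zero (haniso 1 0 h1).1
  let f : Option (Fˣ × {p : F × F // bq a b c p.1 p.2 = a}) → F × F := fun o =>
    match o with
    | none => 0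
    | some x => ((x.1 : F) * x.2.1.1, (x.1 : F) * x.2.1.2)
  have hne : ∀ x : Fˣ × {p : F × F // bq a b c p.1 p.2 = a},
      ((x.1 : F) * x.2.1.1, (x.1 : F) * x.2.1.2) ≠ (0 : F × F) := by
    intro x h0
    have h1 : (x.1 : F) * x.2.1.1 = 0 := congrArg Prod.fst h0
    have h3 : (x.1 : F) * x.2.1.2 = 0 := congrArg Prod.snd h0
    have hk : (x.1 : F) ≠ 0 := x.1.ne_zero
    have h4 : x.2.1.1 = 0 := (mul_eq_zero.1 h1).resolve_left hk
    have h5 : x.2.1.2 = 0 := (mul_eq_zero.1 h3).resolve_left hk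
    have h6 := x.2.2
    rw [h4, h5] at h6
    apply ha
    rw [← h6]
    unfold bq
    ring
  have hinj : Function.Injective f := by
    intro o o' h
    match o, o' with
    | none, none => rfl
    | none, some x => exact absurd h.symm (hne x)
    | some x, none => exact absurd h (hne x)
    | some x, some x' =>
      have h1 : (x.1 : F) * x.2.1.1 = (x'.1 : F) * x'.2.1.1 := congrArg Prod.fst h
      have h3 : (x.1 : F) * x.2.1.2 = (x'.1 : F) * x'.2.1.2 := congrArg Prod.snd h
      have h4 : (x.1 : F) ^ 2 * a = (x'.1 : F) ^ 2 * a := by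
        have e1 := helper77_bq_smul a b c (x.1 : F) x.2.1.1 x.2.1.2
        have e2 := helper77_bq_smul a b c (x'.1 : F) x'.2.1.1 x'.2.1.2
        rw [x.2.2] at e1
        rw [x'.2.2] at e2
        rw [← e1, ← e2, h1, h3]
      have h5 : (x.1 : F) ^ 2 = (x'.1 : F) ^ 2 := mul_right_cancel₀ ha h4
      have h6 : ((x.1 : F) - (x'.1 : F)) ^ 2 = 0 := by
        have : ((x.1 : F) - (x'.1 : F)) ^ 2 =
            (x.1 : F) ^ 2 + (x'.1 : F) ^ 2 - 2 * ((x.1 : F) * (x'.1 : F)) := by ring
        rw [this, h2, h5, zero_mul, sub_zero, ← two_mul, h2, zero_mul]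
      have h7 : (x.1 : F) = (x'.1 : F) := sub_eq_zero.1 (pow_eq_zero_iff (two_ne_zero) |>.1 h6)
      have hk : (x'.1 : F) ≠ 0 := x'.1.ne_zero
      rw [h7] at h1 h3
      have h8 : x.2.1.1 = x'.2.1.1 := mul_left_cancel₀ hk h1
      have h9 : x.2.1.2 = x'.2.1.2 := mul_left_cancel₀ hk h3
      have h10 : x.1 = x'.1 := Units.ext h7
      have h11 : x.2 = x'.2 := Subtype.ext (Prod.ext h8 h9)
      rw [Prod.ext h10 h11]
  have hcard := Nat.card_le_card_of_injective f hinj
  rw [Finite.card_option, Nat.card_prod, Nat.card_units, Nat.card_prod, Nat.card_eq_fintype_card]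
    at hcard
  have hq : 2 ≤ Fintype.card F := Fintype.one_lt_card
  obtain ⟨k, hk⟩ : ∃ k, Fintype.card F = k + 2 := ⟨Fintype.card F - 2, by omega⟩
  rw [hk] at hcard ⊢
  have h3 : k + 2 - 1 = k + 1 := by omega
  rw [h3] at hcard
  by_contra hlt
  push Not at hlt
  have h4 : k + 2 + 1 + 1 ≤ Nat.card {p : F × F // bq a b c p.1 p.2 = a} := hlt
  have h5 : (k + 1) * (k + 2 + 1 + 1) ≤
      (k + 1) * Nat.card {p : F × F // bq a b c p.1 p.2 = a} := Nat.mul_le_mul_left _ h4
  nlinarith
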