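import Mathlib
import Cfsg.Agent.Lib.helper49.SPEDefs

/-! S2333 split (architect helper49), piece GSYM: the pairing `gam` is symmetric. -/

set_option autoImplicit false

namespace Cfsg.Agent.Lib.helper49.SPE

open Matrix

/-- GSYM (S) -/
theorem gam_symm {F : Type*} [Field F] {n : ℕ} (y a : Matrix (Fin n) (Fin n) F) :
    gam y a = gam a y := by
  unfold gam
  apply Finset.sum_congr rfl
  intro i _
  apply Finset.sum_congr rfl
  intro j _
  unfold upT
  by_cases h : i ≤ j
  · rw [if_pos h, if_pos h, mul_comm]
  · rw [if_neg h, if_neg h, zero_mul, zero_mul]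

end Cfsg.Agent.Lib.helper49.SPE
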