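import Mathlib

/-! S3350 split (helper70), piece P3: `swap_eq_of_comm_stab`. -/

set_option autoImplicit false
open Equiv

namespace Cfsg.Agent.Lib.helper70.SR

/-- A point of `Fin m` outside a short list. -/
theorem helper77_sr_exists_notMem (m : ℕ) (l : List (Fin m)) (hl : l.length < m) :
    ∃ w : Fin m, ∀ x ∈ l, w ≠ x := by
  by_contra hcon
  have huniv : l.toFinset = Finset.univ := by
    apply Finset.eq_univ_of_forall
    intro w
    by_contra hw
    apply hcon
    refine ⟨w, fun x hx hwx => hw ?_⟩
    rw [List.mem_toFinset, hwx]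
    exact hx
  have h1 := List.toFinset_card_le l
  rw [huniv, Finset.card_univ, Fintype.card_fin] at h1
  omega

/-- P3 (a transposition commuting with a two-point stabilizer). -/
theorem swap_eq_of_comm_stab (m : ℕ) (hm : 5 ≤ m) (a b i j : Fin m) (hab : a ≠ b) (hij : i ≠ j)
    (h : ∀ σ : Perm (Fin m), σ a = a → σ b = b → σ * swap i j = swap i j * σ) :
    swap i j = swap a b := by
  have _hab := hab
  obtain ⟨l, hl⟩ := helper77_sr_exists_notMem m [a, b, i, j] (by show 4 < m; omega)
  have hla : l ≠ a := hl a (by simp)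
  have hlb : l ≠ b := hl b (by simp)
  have hli : l ≠ i := hl i (by simp)
  have hlj : l ≠ j := hl j (by simp)
  have hi : i = a ∨ i = b := by
    by_contra hcon
    simp only [not_or] at hcon
    have hσ := h (swap i l) (swap_apply_of_ne_of_ne (Ne.symm hcon.1) (Ne.symm hla))
      (swap_apply_of_ne_of_ne (Ne.symm hcon.2) (Ne.symm hlb))
    have h6 := congrArg (fun τ : Perm (Fin m) => τ i) hσ
    simp only [Perm.mul_apply, swap_apply_left] at h6
    rw [swap_apply_of_ne_of_ne (Ne.symm hij) (Ne.symm hlj),
      swap_apply_of_ne_of_ne hli hlj] at h6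
    exact hlj h6.symm
  have hj : j = a ∨ j = b := by
    by_contra hcon
    simp only [not_or] at hcon
    have hσ := h (swap j l) (swap_apply_of_ne_of_ne (Ne.symm hcon.1) (Ne.symm hla))
      (swap_apply_of_ne_of_ne (Ne.symm hcon.2) (Ne.symm hlb))
    have h6 := congrArg (fun τ : Perm (Fin m) => τ j) hσ
    simp only [Perm.mul_apply, swap_apply_right] at h6
    rw [swap_apply_of_ne_of_ne hij (Ne.symm hli), swap_apply_left,
      swap_apply_of_ne_of_ne hli hlj] at h6
    exact hli h6.symm
  rcases hi with h1 | h1
  · rcases hj with h2 | h2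
    · exact absurd (h1.trans h2.symm) hij
    · rw [h1, h2]
  · rcases hj with h2 | h2
    · rw [h1, h2]
      exact swap_comm _ _
    · exact absurd (h1.trans h2.symm) hij

end Cfsg.Agent.Lib.helper70.SR
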