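import Mathlib
import Cfsg.Agent.Lib.helper77.SR_P3

/-! S3350 split (helper70), piece P1: `perm_rigid`. -/

set_option autoImplicit false
open Equiv

namespace Cfsg.Agent.Lib.helper70.SR

theorem helper77_sr_eq_swap {m : ℕ} (π : Perm (Fin m)) (x y : Fin m) (hx : π x = y)
    (hy : π y = x) (hz : ∀ z, z ≠ x → z ≠ y → π z = z) : π = swap x y := by
  apply Equiv.ext
  intro z
  by_cases h1 : z = x
  · rw [h1, hx, swap_apply_left]
  · by_cases h2 : z = y
    · rw [h2, hy, swap_apply_right]
    · rw [hz z h1 h2, swap_apply_of_ne_of_ne h1 h2]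

/-- P1 (rigidity of a permutation with a large centralizer). -/
theorem perm_rigid (m : ℕ) (hm : 8 ≤ m) (a b c d e : Fin m)
    (hab : a ≠ b) (hac : a ≠ c) (had : a ≠ d) (hae : a ≠ e) (hbc : b ≠ c) (hbd : b ≠ d)
    (hbe : b ≠ e) (hcd : c ≠ d) (hce : c ≠ e) (hde : d ≠ e)
    (π : Perm (Fin m))
    (h1 : ∀ σ : Perm (Fin m), σ a = a → σ b = b → σ c = c → σ d = d → σ e = e → σ * π = π * σ)
    (h2 : π * swap c d = swap c d * π)
    (h3 : π * π = 1)
    (h4 : (π * swap a b) ^ 3 = 1)
    (h5 : π ≠ swap a b) :
    π = swap a e ∨ π = swap b e := by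
  -- Step 1: `π` fixes every point outside `{a, b, c, d, e}`
  have hfix : ∀ u : Fin m, u ≠ a → u ≠ b → u ≠ c → u ≠ d → u ≠ e → π u = u := by
    intro u hua hub huc hud hue
    by_contra hne
    obtain ⟨w, hw⟩ := helper77_sr_exists_notMem m [a, b, c, d, e, u, π u] (by show 7 < m; omega)
    have hwa : w ≠ a := hw a (by simp)
    have hwb : w ≠ b := hw b (by simp)
    have hwc : w ≠ c := hw c (by simp)
    have hwd : w ≠ d := hw d (by simp)
    have hwe : w ≠ e := hw e (by simp)
    have hwu : w ≠ u := hw u (by simp)
    have hwv : w ≠ π u := hw (π u) (by simp)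
    have hσ := h1 (swap u w) (swap_apply_of_ne_of_ne (Ne.symm hua) (Ne.symm hwa))
      (swap_apply_of_ne_of_ne (Ne.symm hub) (Ne.symm hwb))
      (swap_apply_of_ne_of_ne (Ne.symm huc) (Ne.symm hwc))
      (swap_apply_of_ne_of_ne (Ne.symm hud) (Ne.symm hwd))
      (swap_apply_of_ne_of_ne (Ne.symm hue) (Ne.symm hwe))
    have h6 := congrArg (fun τ : Perm (Fin m) => τ u) hσ
    simp only [Perm.mul_apply, swap_apply_left] at h6
    rw [swap_apply_of_ne_of_ne hne (Ne.symm hwv)] at h6
    exact hwu (π.injective h6).symm
  have hpp : ∀ z, π (π z) = z := fun z => by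
    have h6 := congrArg (fun τ : Perm (Fin m) => τ z) h3
    simpa only [Perm.mul_apply, Perm.one_apply] using h6
  have hc2 : ∀ z, π (swap c d z) = swap c d (π z) := fun z => by
    have h6 := congrArg (fun τ : Perm (Fin m) => τ z) h2
    simpa only [Perm.mul_apply] using h6
  have hρ : ∀ z, π (swap a b (π (swap a b (π (swap a b z))))) = z := fun z => by
    have h6 := congrArg (fun τ : Perm (Fin m) => τ z) h4
    simpa only [pow_succ, pow_zero, one_mul, Perm.mul_apply, Perm.one_apply] using h6
  -- Step 2: `{a, b, c, d, e}` is preserved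
  have hT : ∀ t : Fin m, (t = a ∨ t = b ∨ t = c ∨ t = d ∨ t = e) →
      (π t = a ∨ π t = b ∨ π t = c ∨ π t = d ∨ π t = e) := by
    intro t ht
    by_contra hcon
    simp only [not_or] at hcon
    obtain ⟨h1', h2', h3', h4', h5'⟩ := hcon
    have h6 := hfix (π t) h1' h2' h3' h4' h5'
    have h7 := π.injective h6
    rw [h7] at h1' h2' h3' h4' h5'
    rcases ht with h | h | h | h | h
    · exact h1' h
    · exact h2' h
    · exact h3' h
    · exact h4' h
    · exact h5' h
  -- Step 3: `π` preserves `{c, d}`
  have hcc : π c = c ∨ π c = d := by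
    by_contra hcon
    simp only [not_or] at hcon
    have h6 := hc2 c
    rw [swap_apply_left, swap_apply_of_ne_of_ne hcon.1 hcon.2] at h6
    exact hcd (π.injective h6).symm
  -- Step 4: `π` fixes `c` and `d`
  have hpc : π c = c := by
    rcases hcc with h | h
    · exact h
    · exfalso
      have hd : π d = c := by rw [← h, hpp]
      have h6 := hρ c
      rw [swap_apply_of_ne_of_ne (Ne.symm hac) (Ne.symm hbc), h,
        swap_apply_of_ne_of_ne (Ne.symm had) (Ne.symm hbd), hd,
        swap_apply_of_ne_of_ne (Ne.symm hac) (Ne.symm hbc), h] at h6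
      exact hcd h6.symm
  have hpd : π d = d := by
    have h6 := hc2 d
    rw [swap_apply_right, hpc] at h6
    have h7 : swap c d (swap c d (π d)) = swap c d c := congrArg (swap c d) h6.symm
    rw [swap_apply_self, swap_apply_left] at h7
    exact h7
  have hnc : ∀ t, t ≠ c → π t ≠ c := fun t ht h => ht (by
    have h6 := hpp t
    rw [h, hpc] at h6
    exact h6.symm)
  have hnd : ∀ t, t ≠ d → π t ≠ d := fun t ht h => ht (by
    have h6 := hpp t
    rw [h, hpd] at h6
    exact h6.symm)
  have hother : ∀ z, z ≠ a → z ≠ b → z ≠ e → π z = z := by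
    intro z hza hzb hze
    by_cases hzc : z = c
    · rw [hzc]
      exact hpc
    · by_cases hzd : z = d
      · rw [hzd]
        exact hpd
      · exact hfix z hza hzb hzc hzd hze
  have hTa := hT a (Or.inl rfl)
  have hTb := hT b (Or.inr (Or.inl rfl))
  have hTe := hT e (Or.inr (Or.inr (Or.inr (Or.inr rfl))))
  rcases hTa with h | h | h | h | h
  · rcases hTb with g | g | g | g | g
    · exact absurd (π.injective (g.trans h.symm)) (Ne.symm hab)
    · exfalso
      have h6 := hρ a
      rw [swap_apply_left, g, swap_apply_right, h, swap_apply_left, g] at h6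
      exact hab h6.symm
    · exact absurd g (hnc b hbc)
    · exact absurd g (hnd b hbd)
    · right
      have he : π e = b := by rw [← g, hpp]
      exact helper77_sr_eq_swap π b e g he (fun z hzb hze => by
        by_cases hza : z = a
        · rw [hza]
          exact h
        · exact hother z hza hzb hze)
  · exfalso
    have hb : π b = a := by rw [← h, hpp]
    apply h5
    exact helper77_sr_eq_swap π a b h hb (fun z hza hzb => by
      by_cases hze : z = e
      · rw [hze]
        rcases hTe with k | k | k | k | k
        · exact absurd (π.injective (k.trans hb.symm)) (Ne.symm hbe)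
        · exact absurd (π.injective (k.trans h.symm)) (Ne.symm hae)
        · exact absurd k (hnc e (Ne.symm hce))
        · exact absurd k (hnd e (Ne.symm hde))
        · exact k
      · exact hother z hza hzb hze)
  · exact absurd h (hnc a hac)
  · exact absurd h (hnd a had)
  · left
    have he : π e = a := by rw [← h, hpp]
    exact helper77_sr_eq_swap π a e h he (fun z hza hze => by
      by_cases hzb : z = b
      · rw [hzb]
        rcases hTb with k | k | k | k | k
        · exact absurd (π.injective (k.trans he.symm)) hbe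
        · exact k
        · exact absurd k (hnc b hbc)
        · exact absurd k (hnd b hbd)
        · exact absurd (π.injective (k.trans h.symm)) (Ne.symm hab)
      · exact hother z hza hzb hze)

end Cfsg.Agent.Lib.helper70.SR
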