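import Mathlib
import Cfsg.Agent.Lib.helper44.SUWDefs

/-! S2335 split (helper44): core of piece RANK1 (a skew-Hermitian matrix all of whose isotropic
vectors lie in its kernel has rank one). -/

set_option autoImplicit false

namespace Cfsg.Agent.Lib.helper44.SUW

open Matrix

/-- RANK1 with the field facts and ANISO as hypotheses. -/
theorem helper77_rank_one_core {K : Type*} [Field K] {m : ℕ}
    (σ : K →+* K) (hσσ : ∀ x, σ (σ x) = x)
    (hnorm : ∀ β : K, β ≠ 0 → σ β = β → ∃ c : K, c * σ c = β)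
    (Y : Matrix (Fin m) (Fin m) K) (hY : Y ∈ skewH σ m)
    (haniso : ∃ v : Fin m → K, hval σ Y v ≠ 0)
    (hiso : ∀ x : Fin m → K, hval σ Y x = 0 → Y *ᵥ x = 0) :
    ∃ (c : K) (z : Fin m → K), c ≠ 0 ∧ z ≠ 0 ∧
      Y = c • Matrix.vecMulVec z (fun j => σ (z j)) := by
  classical
  obtain ⟨v, hv⟩ := haniso
  let P : (Fin m → K) → (Fin m → K) → K := fun u x => (fun k => σ (u k)) ⬝ᵥ (Y *ᵥ x)
  have hP : ∀ u x, P u x = (fun k => σ (u k)) ⬝ᵥ (Y *ᵥ x) := fun _ _ => rfl
  have hval_eq : ∀ x, hval σ Y x = P x x := by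
    intro x
    simp only [hval, hP, dotProduct, Matrix.mulVec, Finset.mul_sum, mul_assoc]
  have hP_add_r : ∀ u x x', P u (x + x') = P u x + P u x' := by
    intro u x x'
    simp only [hP, Matrix.mulVec_add, dotProduct_add]
  have hP_smul_r : ∀ u (c : K) x, P u (c • x) = c * P u x := by
    intro u c x
    simp only [hP, Matrix.mulVec_smul, dotProduct_smul, smul_eq_mul]
  have hP_add_l : ∀ u u' x, P (u + u') x = P u x + P u' x := by
    intro u u' x
    simp only [hP, Pi.add_apply, map_add, dotProduct, add_mul, Finset.sum_add_distrib]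
  have hP_smul_l : ∀ (c : K) u x, P (c • u) x = σ c * P u x := by
    intro c u x
    simp only [hP, Pi.smul_apply, smul_eq_mul, map_mul, dotProduct, Finset.mul_sum, mul_assoc]
  have hP_skew : ∀ u x, P x u = - σ (P u x) := by
    intro u x
    simp only [hP, dotProduct, Matrix.mulVec, map_sum, map_mul, hσσ, Finset.mul_sum]
    rw [← Finset.sum_neg_distrib, Finset.sum_comm]
    apply Finset.sum_congr rfl
    intro i _
    rw [← Finset.sum_neg_distrib]
    apply Finset.sum_congr rfl
    intro j _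
    rw [hY]
    ring
  have hσself : ∀ u, σ (P u u) = - P u u := by
    intro u
    have h1 := hP_skew u u
    linear_combination h1
  have ha0 : P v v ≠ 0 := by
    rw [← hval_eq]
    exact hv
  have key : ∀ x, Y *ᵥ x = ((P v v)⁻¹ * P v x) • (Y *ᵥ v) := by
    intro x
    have hPvw : P v (x - ((P v v)⁻¹ * P v x) • v) = 0 := by
      rw [sub_eq_add_neg, ← neg_smul, hP_add_r, hP_smul_r]
      field_simp
      ring
    have hPwv : P (x - ((P v v)⁻¹ * P v x) • v) v = 0 := by
      rw [hP_skew v _, hPvw, map_zero, neg_zero]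
    have hYw : Y *ᵥ (x - ((P v v)⁻¹ * P v x) • v) = 0 := by
      by_contra hne
      have hb : P (x - ((P v v)⁻¹ * P v x) • v) (x - ((P v v)⁻¹ * P v x) • v) ≠ 0 := by
        intro h0
        exact hne (hiso _ (by rw [hval_eq]; exact h0))
      generalize x - ((P v v)⁻¹ * P v x) • v = w at hPvw hPwv hne hb
      have hβ0 : - P v v / P w w ≠ 0 := div_ne_zero (neg_ne_zero.mpr ha0) hb
      have hβσ : σ (- P v v / P w w) = - P v v / P w w := by
        rw [map_div₀, map_neg, hσself, hσself]
        field_simp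
      obtain ⟨μ, hμ⟩ := hnorm _ hβ0 hβσ
      have hz : P (v + μ • w) (v + μ • w) = 0 := by
        have h3 : μ * σ μ * P w w = - P v v := by
          rw [hμ]
          field_simp
        rw [hP_add_l, hP_add_r, hP_add_r, hP_smul_l, hP_smul_r, hP_smul_r, hP_smul_l, hPvw, hPwv]
        linear_combination h3
      have hYz := hiso (v + μ • w) (by rw [hval_eq]; exact hz)
      have hPvz : P v (v + μ • w) = 0 := by
        rw [hP, hYz, dotProduct_zero]
      rw [hP_add_r, hP_smul_r, hPvw, mul_zero, add_zero] at hPvz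
      exact ha0 hPvz
    have hx : x = (x - ((P v v)⁻¹ * P v x) • v) + ((P v v)⁻¹ * P v x) • v := by
      abel
    conv_lhs => rw [hx]
    rw [Matrix.mulVec_add, Matrix.mulVec_smul, hYw, zero_add]
  have hy0 : Y *ᵥ v ≠ 0 := by
    intro h0
    apply ha0
    rw [hP, h0, dotProduct_zero]
  refine ⟨-(P v v)⁻¹, Y *ᵥ v, neg_ne_zero.mpr (inv_ne_zero ha0), hy0, ?_⟩
  ext i j
  have h1 := congrFun (key (Pi.single j 1)) i
  rw [Matrix.mulVec_single_one] at h1
  have h2 : σ ((Y *ᵥ v) j) = - P v (Pi.single j 1) := by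
    rw [hP, Matrix.mulVec_single_one]
    simp only [dotProduct, Matrix.mulVec, Matrix.col_apply, map_sum, map_mul]
    rw [← Finset.sum_neg_distrib]
    apply Finset.sum_congr rfl
    intro k _
    rw [hY]
    ring
  rw [Matrix.smul_apply, Matrix.vecMulVec_apply, h2]
  change Y i j = _ at h1
  rw [h1, Pi.smul_apply, smul_eq_mul, smul_eq_mul]
  ring

end Cfsg.Agent.Lib.helper44.SUW
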