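import Mathlib
import Cfsg.Agent.Lib.helper44.SUWDefs
import Cfsg.Agent.Lib.helper17.HermForm
import Cfsg.Agent.Lib.helper29.SUWFSIG
import Cfsg.Agent.Lib.helper57.SUWANISO
import Cfsg.Agent.Lib.helper77.SUWRANK1core

/-! S2335 split (helper44): piece RANK1 (canonical name), from the core, FSIG, ANISO and the
surjectivity of the norm. -/

set_option autoImplicit false

namespace Cfsg.Agent.Lib.helper44.SUW

open Matrix

/-- RANK1 (L) -/
theorem rank_one {K : Type*} [Field K] [Fintype K] {q m : ℕ} (hK : Fintype.card K = q ^ 2)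
    (σ : K →+* K) (hσ : ∀ x, σ x = x ^ q) (Y : Matrix (Fin m) (Fin m) K) (hY : Y ∈ skewH σ m)
    (hY0 : Y ≠ 0) (hiso : ∀ x : Fin m → K, hval σ Y x = 0 → Y *ᵥ x = 0) :
    ∃ (c : K) (z : Fin m → K), c ≠ 0 ∧ z ≠ 0 ∧ Y = c • Matrix.vecMulVec z (fun j => σ (z j)) := by
  obtain ⟨hσσ, hσid⟩ := sigma_facts hK σ hσ
  exact helper77_rank_one_core σ hσσ
    (fun β hβ hβσ => Cfsg.Agent.Lib.helper17.norm_surj σ hσid hσσ β hβ hβσ) Y hY
    (exists_aniso hK σ hσ Y hY hY0) hiso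

end Cfsg.Agent.Lib.helper44.SUW
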