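import Mathlib
import Cfsg.Agent.Lib.helper24.SffDefs

/-! S5965 split (helper24), piece IRR: `sff_irr_model`. -/

set_option autoImplicit false

namespace Cfsg.Agent.Lib.helper24

open Module Matrix Polynomial

/-- The minimal polynomial of an operator without proper nonzero invariant subspaces is
irreducible. -/
theorem helper77_sff_minpoly_irr {F : Type*} [Field F] {V : Type*} [AddCommGroup V] [Module F V]
    [FiniteDimensional F V] [Nontrivial V] (f : Module.End F V)
    (hmin : ∀ W : Submodule F V, (∀ w ∈ W, f w ∈ W) → W = ⊥ ∨ W = ⊤) :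
    Irreducible (minpoly F f) := by
  have hint : IsIntegral F f := Algebra.IsIntegral.isIntegral f
  have hne : minpoly F f ≠ 0 := minpoly.ne_zero hint
  have hnu : ¬ IsUnit (minpoly F f) := minpoly.not_isUnit F f
  obtain ⟨p, hp, q, hq⟩ := WfDvdMonoid.exists_irreducible_factor hnu hne
  have hcomm : Commute f (Polynomial.aeval f p) := by
    have h0 := (Polynomial.commute_X p).map (Polynomial.aeval f)
    rw [Polynomial.aeval_X] at h0
    exact h0
  have hinv : ∀ w ∈ LinearMap.ker (Polynomial.aeval f p),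
      f w ∈ LinearMap.ker (Polynomial.aeval f p) := by
    intro w hw
    rw [LinearMap.mem_ker] at hw ⊢
    rw [← Module.End.mul_apply, ← hcomm.eq, Module.End.mul_apply, hw, map_zero]
  rcases hmin _ hinv with h0 | h1
  · exfalso
    have hq0 : Polynomial.aeval f q = 0 := by
      apply LinearMap.ext
      intro w
      have h2 : (Polynomial.aeval f p) ((Polynomial.aeval f q) w) = 0 := by
        rw [← Module.End.mul_apply, ← map_mul, ← hq, minpoly.aeval, LinearMap.zero_apply]
      have hmem : (Polynomial.aeval f q) w ∈ LinearMap.ker (Polynomial.aeval f p) :=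
        LinearMap.mem_ker.mpr h2
      rw [h0, Submodule.mem_bot] at hmem
      rw [hmem, LinearMap.zero_apply]
    have hdvd : minpoly F f ∣ q := minpoly.dvd F f hq0
    have hq_ne : q ≠ 0 := by
      rintro rfl
      rw [mul_zero] at hq
      exact hne hq
    have hp_ne : p ≠ 0 := hp.ne_zero
    have hdeg : (minpoly F f).natDegree = p.natDegree + q.natDegree := by
      rw [hq, Polynomial.natDegree_mul hp_ne hq_ne]
    have hpdeg : 0 < p.natDegree := hp.natDegree_pos
    have hle : (minpoly F f).natDegree ≤ q.natDegree := Polynomial.natDegree_le_of_dvd hdvd hq_ne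
    omega
  · have hp0 : Polynomial.aeval f p = 0 := by
      apply LinearMap.ext
      intro w
      have h2 : w ∈ LinearMap.ker (Polynomial.aeval f p) := by
        rw [h1]
        exact Submodule.mem_top
      rw [LinearMap.mem_ker.mp h2, LinearMap.zero_apply]
    obtain ⟨u, hu⟩ := minpoly.dvd F f hp0
    rcases hp.isUnit_or_isUnit hu with h | h
    · exact absurd h hnu
    · have hassoc : Associated (minpoly F f) p := ⟨h.unit, by rw [hu, IsUnit.unit_spec]⟩
      exact hassoc.symm.irreducible hp

/-- IRR -/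
theorem sff_irr_model {F : Type*} [Field F] {V : Type*} [AddCommGroup V] [Module F V]
    [FiniteDimensional F V] [Nontrivial V] (f : Module.End F V)
    (hmin : ∀ W : Submodule F V, (∀ w ∈ W, f w ∈ W) → W = ⊥ ∨ W = ⊤) :
    Irreducible (minpoly F f) ∧
      ∃ e : AdjoinRoot (minpoly F f) ≃ₗ[F] V, ∀ a : AdjoinRoot (minpoly F f),
        e (AdjoinRoot.root (minpoly F f) * a) = f (e a) := by
  have hirr := helper77_sff_minpoly_irr f hmin
  refine ⟨hirr, ?_⟩
  have hfact : Fact (Irreducible (minpoly F f)) := ⟨hirr⟩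
  obtain ⟨v, hv⟩ := exists_ne (0 : V)
  have hker : ∀ a : F[X], a ∈ (Ideal.span {minpoly F f} : Ideal F[X]) →
      Polynomial.aeval f a = 0 := by
    intro a ha
    obtain ⟨c, rfl⟩ := Ideal.mem_span_singleton.mp ha
    rw [map_mul, minpoly.aeval, zero_mul]
  obtain ⟨φ, hφ⟩ : ∃ φ : AdjoinRoot (minpoly F f) →ₐ[F] Module.End F V,
      ∀ p : F[X], φ (AdjoinRoot.mk (minpoly F f) p) = Polynomial.aeval f p :=
    ⟨Ideal.Quotient.liftₐ (Ideal.span {minpoly F f}) (Polynomial.aeval f) hker, fun p => rfl⟩
  have hφroot : φ (AdjoinRoot.root (minpoly F f)) = f := by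
    rw [AdjoinRoot.root, hφ, Polynomial.aeval_X]
  obtain ⟨e₀, he₀⟩ : ∃ e₀ : AdjoinRoot (minpoly F f) →ₗ[F] V, ∀ a, e₀ a = φ a v :=
    ⟨{ toFun := fun a => φ a v
       map_add' := fun a b => by rw [map_add, LinearMap.add_apply]
       map_smul' := fun c a => by rw [map_smul, LinearMap.smul_apply, RingHom.id_apply] },
      fun a => rfl⟩
  have hroot : ∀ a, e₀ (AdjoinRoot.root (minpoly F f) * a) = f (e₀ a) := by
    intro a
    rw [he₀, he₀, map_mul, hφroot, Module.End.mul_apply]
  have hinj : Function.Injective e₀ := by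
    rw [← LinearMap.ker_eq_bot, Submodule.eq_bot_iff]
    intro a ha
    by_contra ha0
    have h1 : a⁻¹ * a = 1 := inv_mul_cancel₀ ha0
    have h2 : φ a⁻¹ (φ a v) = v := by
      rw [← Module.End.mul_apply, ← map_mul, h1, map_one, Module.End.one_apply]
    have h3 : φ a v = 0 := by
      rw [← he₀]
      exact LinearMap.mem_ker.mp ha
    rw [h3, map_zero] at h2
    exact hv h2.symm
  have hsurj : Function.Surjective e₀ := by
    rw [← LinearMap.range_eq_top]
    have hrinv : ∀ w ∈ LinearMap.range e₀, f w ∈ LinearMap.range e₀ := by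
      rintro w ⟨a, rfl⟩
      exact ⟨AdjoinRoot.root (minpoly F f) * a, hroot a⟩
    rcases hmin (LinearMap.range e₀) hrinv with h | h
    · exfalso
      have h1 : e₀ 1 ∈ LinearMap.range e₀ := LinearMap.mem_range_self e₀ 1
      rw [h, Submodule.mem_bot, he₀, map_one, Module.End.one_apply] at h1
      exact hv h1
    · exact h
  exact ⟨LinearEquiv.ofBijective e₀ ⟨hinj, hsurj⟩, fun a => hroot a⟩

end Cfsg.Agent.Lib.helper24
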