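import Mathlib
import Cfsg.Agent.Lib.helper24.SffDefs
import Cfsg.Agent.Lib.helper24.DecMaschke

/-! S5965 split (helper24), piece SPLIT: `sff_split_irr`. -/

set_option autoImplicit false

namespace Cfsg.Agent.Lib.helper24

open Module Matrix Polynomial

/-- SPLIT -/
theorem sff_split_irr {F : Type*} [Field F] {V : Type*} [AddCommGroup V] [Module F V]
    [FiniteDimensional F V] [Nontrivial V] (f : Module.End F V) (r : ℕ) (hrF : (r : F) ≠ 0)
    (hf : f ^ r = 1) :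
    ∃ W W' : Submodule F V, IsCompl W W' ∧ (∀ w ∈ W, f w ∈ W) ∧ (∀ w ∈ W', f w ∈ W') ∧ W ≠ ⊥ ∧
      ∀ U : Submodule F V, U ≤ W → (∀ u ∈ U, f u ∈ U) → U = ⊥ ∨ U = W := by
  classical
  have hex : ∃ d : ℕ, ∃ W : Submodule F V, W ≠ ⊥ ∧ (∀ w ∈ W, f w ∈ W) ∧
      Module.finrank F W = d :=
    ⟨_, ⊤, top_ne_bot, fun w _ => Submodule.mem_top, rfl⟩
  obtain ⟨W, hW0, hWinv, hWd⟩ := Nat.find_spec hex
  have hminW : ∀ U : Submodule F V, U ≤ W → (∀ u ∈ U, f u ∈ U) → U = ⊥ ∨ U = W := by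
    intro U hUW hU
    by_cases hU0 : U = ⊥
    · exact Or.inl hU0
    · right
      apply Submodule.eq_of_le_of_finrank_le hUW
      rw [hWd]
      exact Nat.find_min' hex ⟨U, hU0, hU, rfl⟩
  obtain ⟨W', hc, hW'⟩ := dec_maschke f r 1 one_ne_zero hrF (by rw [hf, one_smul]) W hWinv
  exact ⟨W, W', hc, hWinv, hW', hW0, hminW⟩

end Cfsg.Agent.Lib.helper24
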