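import Mathlib
import Cfsg.Prelude.Def_Classical
import Cfsg.Prelude.Def_GeometricClasses

/-! S5977 / S5978 block [A] (architect helper59), piece EIGB (racer copy by helper77): an involutory
isometry has an orthogonal basis of eigenvectors.  Induction over invariant subspaces on which
the polar form is nondegenerate; no restricted forms. -/

set_option autoImplicit false

namespace Cfsg.Agent.Lib.helper59.Sfk

open Matrix

/-- the induction behind EIGB -/
theorem helper77_eig_aux {F : Type*} [Field F] {ι : Type} [Fintype ι] [DecidableEq ι]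
    (h2 : (2 : F) ≠ 0) (Q : QuadraticForm F (ι → F)) (x : Matrix ι ι F)
    (hiso : ∀ v : ι → F, Q (x *ᵥ v) = Q v) (hxx : ∀ v : ι → F, x *ᵥ (x *ᵥ v) = v) (n : ℕ) :
    ∀ W : Submodule F (ι → F), Module.finrank F W = n → (∀ w ∈ W, x *ᵥ w ∈ W) →
      (∀ w ∈ W, (∀ w' ∈ W, QuadraticMap.polar (⇑Q) w w' = 0) → w = 0) →
      ∃ (m : ℕ) (e : Fin m → (ι → F)) (ε : Fin m → F), (∀ i, e i ∈ W) ∧
        (∀ i j, i ≠ j → QuadraticMap.polar (⇑Q) (e i) (e j) = 0) ∧ (∀ i, Q (e i) ≠ 0) ∧
        (∀ i, ε i = 1 ∨ ε i = -1) ∧ (∀ i, x *ᵥ e i = ε i • e i) ∧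
        W ≤ Submodule.span F (Set.range e) := by
  induction n using Nat.strong_induction_on with
  | _ n ih =>
    intro W hn hinv hnd
    have hpolar : ∀ u v : ι → F, QuadraticMap.polar (⇑Q) (x *ᵥ u) (x *ᵥ v) =
        QuadraticMap.polar (⇑Q) u v := by
      intro u v
      unfold QuadraticMap.polar
      rw [← Matrix.mulVec_add, hiso, hiso, hiso]
    by_cases hW : ∀ w ∈ W, w = 0
    · refine ⟨0, Fin.elim0, Fin.elim0, fun i => i.elim0, fun i => i.elim0, fun i => i.elim0,
        fun i => i.elim0, fun i => i.elim0, ?_⟩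
      intro w hw
      rw [hW w hw]
      exact Submodule.zero_mem _
    · push Not at hW
      obtain ⟨w0, hw0, hw0ne⟩ := hW
      -- a vector of `W` with `Q w ≠ 0`
      obtain ⟨w, hw, hQw⟩ : ∃ w ∈ W, Q w ≠ 0 := by
        by_contra hcon
        push Not at hcon
        apply hw0ne
        apply hnd w0 hw0
        intro w' hw'
        unfold QuadraticMap.polar
        rw [hcon _ (W.add_mem hw0 hw'), hcon _ hw0, hcon _ hw', sub_zero, sub_zero]
      -- an eigenvector with `Q e0 ≠ 0`
      obtain ⟨e0, ε0, he0W, hε0, hxe0, hQe0⟩ : ∃ (e0 : ι → F) (ε0 : F), e0 ∈ W ∧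
          (ε0 = 1 ∨ ε0 = -1) ∧ x *ᵥ e0 = ε0 • e0 ∧ Q e0 ≠ 0 := by
        have hsum : Q (w + x *ᵥ w) + Q (w - x *ᵥ w) = 4 * Q w := by
          have e1 : Q (w + x *ᵥ w) = Q w + Q (x *ᵥ w) + QuadraticMap.polar (⇑Q) w (x *ᵥ w) := by
            unfold QuadraticMap.polar
            ring
          have e2 : Q (w - x *ᵥ w) = Q w + Q (x *ᵥ w) - QuadraticMap.polar (⇑Q) w (x *ᵥ w) := by
            have e3 : Q (w - x *ᵥ w) = Q w + Q (-(x *ᵥ w)) +
                QuadraticMap.polar (⇑Q) w (-(x *ᵥ w)) := by
              unfold QuadraticMap.polar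
              rw [← sub_eq_add_neg]
              ring
            rw [e3, QuadraticMap.polar_neg_right, QuadraticMap.map_neg]
            ring
          rw [e1, e2, hiso]
          ring
        by_cases hp : Q (w + x *ᵥ w) = 0
        · refine ⟨w - x *ᵥ w, -1, W.sub_mem hw (hinv w hw), Or.inr rfl, ?_, ?_⟩
          · rw [Matrix.mulVec_sub, hxx, neg_smul, one_smul, neg_sub]
          · intro h0
            rw [hp, h0, zero_add] at hsum
            have h4 : (4 : F) ≠ 0 := by
              have : (4 : F) = 2 * 2 := by norm_num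
              rw [this]
              exact mul_ne_zero h2 h2
            exact (mul_ne_zero h4 hQw) hsum.symm
        · refine ⟨w + x *ᵥ w, 1, W.add_mem hw (hinv w hw), Or.inl rfl, ?_, hp⟩
          rw [Matrix.mulVec_add, hxx, one_smul, add_comm]
      have hε0ne : ε0 ≠ 0 := by
        rcases hε0 with h | h
        · rw [h]
          exact one_ne_zero
        · rw [h]
          exact neg_ne_zero.2 one_ne_zero
      have hself : QuadraticMap.polar (⇑Q) e0 e0 ≠ 0 := by
        rw [QuadraticMap.polar_self, two_smul, ← two_mul]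
        exact mul_ne_zero h2 hQe0
      -- the orthogonal complement of `e0` in `W`
      have hmemW' : ∀ v : ι → F, v ∈ W ⊓ LinearMap.ker (QuadraticMap.polarBilin Q e0) ↔
          v ∈ W ∧ QuadraticMap.polar (⇑Q) e0 v = 0 := by
        intro v
        rw [Submodule.mem_inf, LinearMap.mem_ker, QuadraticMap.polarBilin_apply_apply]
      set W' : Submodule F (ι → F) := W ⊓ LinearMap.ker (QuadraticMap.polarBilin Q e0) with hW'
      have hW'W : W' ≤ W := inf_le_left
      have hlt : W' < W := by
        refine lt_of_le_of_ne hW'W ?_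
        intro heq
        have h1 : e0 ∈ W' := by
          rw [heq]
          exact he0W
        exact hself ((hmemW' e0).1 h1).2
      have hinv' : ∀ v ∈ W', x *ᵥ v ∈ W' := by
        intro v hv
        obtain ⟨hvW, hv0⟩ := (hmemW' v).1 hv
        refine (hmemW' _).2 ⟨hinv v hvW, ?_⟩
        have h1 : QuadraticMap.polar (⇑Q) (x *ᵥ e0) (x *ᵥ v) = 0 := by rw [hpolar, hv0]
        rw [hxe0, QuadraticMap.polar_smul_left, smul_eq_mul] at h1
        exact (mul_eq_zero.1 h1).resolve_left hε0ne
      -- decomposition of the vectors of `W`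
      have hdec : ∀ v ∈ W, ∃ a : F, v - a • e0 ∈ W' := by
        intro v hv
        refine ⟨QuadraticMap.polar (⇑Q) e0 v / QuadraticMap.polar (⇑Q) e0 e0, ?_⟩
        refine (hmemW' _).2 ⟨W.sub_mem hv (W.smul_mem _ he0W), ?_⟩
        rw [QuadraticMap.polar_sub_right, QuadraticMap.polar_smul_right, smul_eq_mul,
          div_mul_cancel₀ _ hself, sub_self]
      have hnd' : ∀ v ∈ W', (∀ v' ∈ W', QuadraticMap.polar (⇑Q) v v' = 0) → v = 0 := by
        intro v hv hv0
        obtain ⟨hvW, hve0⟩ := (hmemW' v).1 hv
        apply hnd v hvW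
        intro u hu
        obtain ⟨a, ha⟩ := hdec u hu
        have h1 : u = (u - a • e0) + a • e0 := by abel
        rw [h1, QuadraticMap.polar_add_right, hv0 _ ha, QuadraticMap.polar_smul_right,
          QuadraticMap.polar_comm, hve0, smul_zero, add_zero]
      obtain ⟨m', e', ε', he'W, horth', hQ', hε', hx', hspan'⟩ :=
        ih (Module.finrank F W') (hn ▸ Submodule.finrank_lt_finrank_of_lt hlt) W' rfl hinv' hnd'
      refine ⟨m' + 1, Fin.cons e0 e', Fin.cons ε0 ε', ?_, ?_, ?_, ?_, ?_, ?_⟩
      · intro i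
        refine Fin.cases ?_ (fun j => ?_) i
        · rw [Fin.cons_zero]
          exact he0W
        · rw [Fin.cons_succ]
          exact hW'W (he'W j)
      · intro i j
        refine Fin.cases ?_ (fun i' => ?_) i
        · refine Fin.cases ?_ (fun j' => ?_) j
          · intro h
            exact absurd rfl h
          · intro _
            rw [Fin.cons_zero, Fin.cons_succ]
            exact ((hmemW' _).1 (he'W j')).2
        · refine Fin.cases ?_ (fun j' => ?_) j
          · intro _
            rw [Fin.cons_zero, Fin.cons_succ, QuadraticMap.polar_comm]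
            exact ((hmemW' _).1 (he'W i')).2
          · intro h
            rw [Fin.cons_succ, Fin.cons_succ]
            exact horth' i' j' (fun h0 => h (congrArg Fin.succ h0))
      · intro i
        refine Fin.cases ?_ (fun j => ?_) i
        · rw [Fin.cons_zero]
          exact hQe0
        · rw [Fin.cons_succ]
          exact hQ' j
      · intro i
        refine Fin.cases ?_ (fun j => ?_) i
        · rw [Fin.cons_zero]
          exact hε0
        · rw [Fin.cons_succ]
          exact hε' j
      · intro i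
        refine Fin.cases ?_ (fun j => ?_) i
        · rw [Fin.cons_zero, Fin.cons_zero]
          exact hxe0
        · rw [Fin.cons_succ, Fin.cons_succ]
          exact hx' j
      · intro v hv
        obtain ⟨a, ha⟩ := hdec v hv
        have h1 : v = (v - a • e0) + a • e0 := by abel
        rw [h1]
        apply Submodule.add_mem
        · have hsub : Submodule.span F (Set.range e') ≤
              Submodule.span F (Set.range (Fin.cons e0 e' : Fin (m' + 1) → (ι → F))) := by
            apply Submodule.span_mono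
            rintro _ ⟨j, rfl⟩
            exact ⟨j.succ, by rw [Fin.cons_succ]⟩
          exact hsub (hspan' ha)
        · apply Submodule.smul_mem
          apply Submodule.subset_span
          exact ⟨0, by rw [Fin.cons_zero]⟩

/-- EIGB (L), racer copy -/
theorem helper77_sfk_eig_basis {F : Type*} [Field F] {ι : Type} [Fintype ι] [DecidableEq ι]
    (h2 : (2 : F) ≠ 0) (Q : QuadraticForm F (ι → F))
    (hQ : (QuadraticMap.polarBilin Q).Nondegenerate)
    (x : GL ι F) (hx : x ∈ Cfsg.isometryGroup F (⇑Q))
    (hxx : (x : Matrix ι ι F) * (x : Matrix ι ι F) = 1) :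
    ∃ (e : Fin (Fintype.card ι) → (ι → F)) (ε : Fin (Fintype.card ι) → F),
      LinearIndependent F e ∧
      (∀ i j, i ≠ j → QuadraticMap.polar (⇑Q) (e i) (e j) = 0) ∧ (∀ i, Q (e i) ≠ 0) ∧
      (∀ i, ε i = 1 ∨ ε i = -1) ∧ ∀ i, (x : Matrix ι ι F) *ᵥ e i = ε i • e i := by
  have hiso : ∀ v : ι → F, Q ((x : Matrix ι ι F) *ᵥ v) = Q v := fun v => hx v v
  have hxx' : ∀ v : ι → F, (x : Matrix ι ι F) *ᵥ ((x : Matrix ι ι F) *ᵥ v) = v := by
    intro v
    rw [Matrix.mulVec_mulVec, hxx, Matrix.one_mulVec]
  obtain ⟨m, e, ε, -, horth, hQe, hε, hxe, hspan⟩ :=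
    helper77_eig_aux h2 Q (x : Matrix ι ι F) hiso hxx' _ ⊤ rfl (fun w _ => Submodule.mem_top)
      (fun w _ hw => hQ.1 w (fun v => by
        rw [QuadraticMap.polarBilin_apply_apply]
        exact hw v Submodule.mem_top))
  have hli : LinearIndependent F e := by
    apply LinearMap.BilinForm.linearIndependent_of_iIsOrtho (B := QuadraticMap.polarBilin Q)
    · rw [LinearMap.BilinForm.iIsOrtho_def]
      intro i j hij
      rw [QuadraticMap.polarBilin_apply_apply]
      exact horth i j hij
    · intro i
      rw [QuadraticMap.polarBilin_apply_apply, QuadraticMap.polar_self, two_smul, ← two_mul]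
      exact mul_ne_zero h2 (hQe i)
  have hm : m = Fintype.card ι := by
    have b : Module.Basis (Fin m) F (ι → F) := Module.Basis.mk hli hspan
    have h1 := Module.finrank_eq_card_basis b
    rw [Module.finrank_fintype_fun_eq_card, Fintype.card_fin] at h1
    exact h1.symm
  subst hm
  exact ⟨e, ε, hli, horth, hQe, hε, hxe⟩

end Cfsg.Agent.Lib.helper59.Sfk
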