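import Mathlib
import Cfsg.Agent.Lib.helper24.SfuDefs
import Cfsg.Agent.Lib.helper77.SfuORDcore

/-! S5982 split (helper24): core for piece ORDS (stabiliser of a unit vector). -/

set_option autoImplicit false

namespace Cfsg.Agent.Lib.helper24

open Module Matrix Cfsg.Geo

/-- The block embedding `A ↦ diag(A, 1)`. -/
def helper77_sfuExt {F : Type*} [Field F] {m : ℕ} (A : Matrix (Fin m) (Fin m) F) :
    Matrix (Fin (m + 1)) (Fin (m + 1)) F :=
  Matrix.of fun i j =>
    Fin.lastCases (Fin.lastCases (1 : F) (fun _ => 0) j)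
      (fun i' => Fin.lastCases (0 : F) (fun j' => A i' j') j) i

theorem helper77_sfuExt_cc {F : Type*} [Field F] {m : ℕ} (A : Matrix (Fin m) (Fin m) F)
    (i j : Fin m) : helper77_sfuExt A (Fin.castSucc i) (Fin.castSucc j) = A i j := by
  simp [helper77_sfuExt]

theorem helper77_sfuExt_cl {F : Type*} [Field F] {m : ℕ} (A : Matrix (Fin m) (Fin m) F)
    (i : Fin m) : helper77_sfuExt A (Fin.castSucc i) (Fin.last m) = 0 := by
  simp [helper77_sfuExt]

theorem helper77_sfuExt_lc {F : Type*} [Field F] {m : ℕ} (A : Matrix (Fin m) (Fin m) F)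
    (j : Fin m) : helper77_sfuExt A (Fin.last m) (Fin.castSucc j) = 0 := by
  simp [helper77_sfuExt]

theorem helper77_sfuExt_ll {F : Type*} [Field F] {m : ℕ} (A : Matrix (Fin m) (Fin m) F) :
    helper77_sfuExt A (Fin.last m) (Fin.last m) = 1 := by
  simp [helper77_sfuExt]

theorem helper77_sfuExt_one {F : Type*} [Field F] {m : ℕ} :
    helper77_sfuExt (1 : Matrix (Fin m) (Fin m) F) = 1 := by
  ext i j
  induction i using Fin.lastCases with
  | last =>
    induction j using Fin.lastCases with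
    | last => rw [helper77_sfuExt_ll, Matrix.one_apply_eq]
    | cast j =>
      rw [helper77_sfuExt_lc, Matrix.one_apply_ne]
      exact (Fin.castSucc_lt_last j).ne'
  | cast i =>
    induction j using Fin.lastCases with
    | last =>
      rw [helper77_sfuExt_cl, Matrix.one_apply_ne]
      exact (Fin.castSucc_lt_last i).ne
    | cast j =>
      rw [helper77_sfuExt_cc, Matrix.one_apply, Matrix.one_apply]
      simp only [Fin.castSucc_inj]

theorem helper77_sfuExt_mul {F : Type*} [Field F] {m : ℕ} (A B : Matrix (Fin m) (Fin m) F) :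
    helper77_sfuExt (A * B) = helper77_sfuExt A * helper77_sfuExt B := by
  ext i j
  rw [Matrix.mul_apply, Fin.sum_univ_castSucc]
  induction i using Fin.lastCases with
  | last =>
    induction j using Fin.lastCases with
    | last => simp [helper77_sfuExt_ll, helper77_sfuExt_lc]
    | cast j => simp [helper77_sfuExt_ll, helper77_sfuExt_lc]
  | cast i =>
    induction j using Fin.lastCases with
    | last => simp [helper77_sfuExt_cl, helper77_sfuExt_ll, helper77_sfuExt_cc]
    | cast j => simp [helper77_sfuExt_cl, helper77_sfuExt_lc, helper77_sfuExt_cc, Matrix.mul_apply]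

theorem helper77_sfuExt_inj {F : Type*} [Field F] {m : ℕ} (A B : Matrix (Fin m) (Fin m) F)
    (h : helper77_sfuExt A = helper77_sfuExt B) : A = B := by
  ext i j
  rw [← helper77_sfuExt_cc A, h, helper77_sfuExt_cc]

theorem helper77_sfuExt_mulVec_c {F : Type*} [Field F] {m : ℕ} (A : Matrix (Fin m) (Fin m) F)
    (u : Fin (m + 1) → F) (i : Fin m) :
    (helper77_sfuExt A *ᵥ u) (Fin.castSucc i) = (A *ᵥ fun j => u (Fin.castSucc j)) i := by
  simp [Matrix.mulVec, dotProduct, Fin.sum_univ_castSucc, helper77_sfuExt_cc, helper77_sfuExt_cl]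

theorem helper77_sfuExt_mulVec_l {F : Type*} [Field F] {m : ℕ} (A : Matrix (Fin m) (Fin m) F)
    (u : Fin (m + 1) → F) :
    (helper77_sfuExt A *ᵥ u) (Fin.last m) = u (Fin.last m) := by
  simp [Matrix.mulVec, dotProduct, Fin.sum_univ_castSucc, helper77_sfuExt_lc, helper77_sfuExt_ll]

/-- The block embedding as a monoid homomorphism. -/
def helper77_sfuExtHom (F : Type*) [Field F] (m : ℕ) :
    Matrix (Fin m) (Fin m) F →* Matrix (Fin (m + 1)) (Fin (m + 1)) F where
  toFun := helper77_sfuExt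
  map_one' := helper77_sfuExt_one
  map_mul' := helper77_sfuExt_mul

theorem helper77_sfuStd_succ {F : Type*} [Field F] (q₀ m : ℕ) (u w : Fin (m + 1) → F) :
    sfuStd F q₀ (m + 1) u w =
      sfuStd F q₀ m (fun j => u (Fin.castSucc j)) (fun j => w (Fin.castSucc j)) +
        u (Fin.last m) * w (Fin.last m) ^ q₀ := by
  unfold sfuStd
  rw [Fin.sum_univ_castSucc]

theorem helper77_sfuExt_isom_iff {F : Type*} [Field F] {m : ℕ} (q₀ : ℕ)
    (A : Matrix (Fin m) (Fin m) F) :
    (∀ u w : Fin (m + 1) → F, sfuStd F q₀ (m + 1) (helper77_sfuExt A *ᵥ u)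
      (helper77_sfuExt A *ᵥ w) = sfuStd F q₀ (m + 1) u w) ↔
    (∀ a b : Fin m → F, sfuStd F q₀ m (A *ᵥ a) (A *ᵥ b) = sfuStd F q₀ m a b) := by
  have key : ∀ u w : Fin (m + 1) → F, sfuStd F q₀ (m + 1) (helper77_sfuExt A *ᵥ u)
      (helper77_sfuExt A *ᵥ w) = sfuStd F q₀ m (A *ᵥ fun j => u (Fin.castSucc j))
        (A *ᵥ fun j => w (Fin.castSucc j)) + u (Fin.last m) * w (Fin.last m) ^ q₀ := by
    intro u w
    rw [helper77_sfuStd_succ, helper77_sfuExt_mulVec_l, helper77_sfuExt_mulVec_l]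
    have h1 : (fun j => (helper77_sfuExt A *ᵥ u) (Fin.castSucc j)) =
        A *ᵥ fun j => u (Fin.castSucc j) := by
      funext j
      exact helper77_sfuExt_mulVec_c A u j
    have h2 : (fun j => (helper77_sfuExt A *ᵥ w) (Fin.castSucc j)) =
        A *ᵥ fun j => w (Fin.castSucc j) := by
      funext j
      exact helper77_sfuExt_mulVec_c A w j
    rw [h1, h2]
  constructor
  · intro h a b
    have h1 := h (Fin.snoc (α := fun _ => F) a 0) (Fin.snoc (α := fun _ => F) b 0)
    rw [key, helper77_sfuStd_succ] at h1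
    simp only [Fin.snoc_castSucc, Fin.snoc_last, zero_mul, add_zero] at h1
    exact h1
  · intro h u w
    rw [key, helper77_sfuStd_succ, h]

/-- Pairing with the last standard vector reads off the last coordinate. -/
theorem helper77_sfuStd_last {F : Type*} [Field F] (q₀ m : ℕ) (hq : q₀ ≠ 0)
    (x : Fin (m + 1) → F) :
    sfuStd F q₀ (m + 1) x (Pi.single (Fin.last m) 1) = x (Fin.last m) := by
  rw [helper77_sfuStd_succ, Pi.single_eq_same, one_pow, mul_one]
  have h0 : sfuStd F q₀ m (fun j => x (Fin.castSucc j))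
      (fun j => (Pi.single (Fin.last m) (1 : F) : Fin (m + 1) → F) (Fin.castSucc j)) = 0 := by
    unfold sfuStd
    apply Finset.sum_eq_zero
    intro k _
    change x (Fin.castSucc k) *
      (Pi.single (Fin.last m) (1 : F) : Fin (m + 1) → F) (Fin.castSucc k) ^ q₀ = 0
    rw [Pi.single_eq_of_ne (Fin.castSucc_lt_last k).ne, zero_pow hq, mul_zero]
  rw [h0, zero_add]

/-- An isometry of the standard form fixing the last standard vector is a block matrix. -/
theorem helper77_sfu_stab_block {F : Type*} [Field F] {m : ℕ} (q₀ : ℕ) (hq : q₀ ≠ 0)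
    (g : GL (Fin (m + 1)) F) (hg : g ∈ sfuIsom (sfuStd F q₀ (m + 1)))
    (hfix : (g : Matrix (Fin (m + 1)) (Fin (m + 1)) F) *ᵥ Pi.single (Fin.last m) 1 =
      Pi.single (Fin.last m) 1) :
    ∃ A : Matrix (Fin m) (Fin m) F,
      (g : Matrix (Fin (m + 1)) (Fin (m + 1)) F) = helper77_sfuExt A := by
  classical
  have hcol : ∀ i, (g : Matrix (Fin (m + 1)) (Fin (m + 1)) F) i (Fin.last m) =
      (Pi.single (Fin.last m) (1 : F) : Fin (m + 1) → F) i := by
    intro i
    have h1 := congrFun hfix i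
    rw [Matrix.mulVec_single_one] at h1
    exact h1
  have hrow : ∀ u : Fin (m + 1) → F,
      ((g : Matrix (Fin (m + 1)) (Fin (m + 1)) F) *ᵥ u) (Fin.last m) = u (Fin.last m) := by
    intro u
    have h1 := hg u (Pi.single (Fin.last m) 1)
    rw [hfix, helper77_sfuStd_last q₀ m hq, helper77_sfuStd_last q₀ m hq] at h1
    exact h1
  refine ⟨(g : Matrix (Fin (m + 1)) (Fin (m + 1)) F).submatrix Fin.castSucc Fin.castSucc, ?_⟩
  ext i j
  induction i using Fin.lastCases with
  | last =>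
    have h1 := hrow (Pi.single j 1)
    rw [Matrix.mulVec_single_one] at h1
    change (g : Matrix (Fin (m + 1)) (Fin (m + 1)) F) (Fin.last m) j = _ at h1
    rw [h1]
    induction j using Fin.lastCases with
    | last => rw [helper77_sfuExt_ll, Pi.single_eq_same]
    | cast j => rw [helper77_sfuExt_lc, Pi.single_eq_of_ne (Fin.castSucc_lt_last j).ne']
  | cast i =>
    induction j using Fin.lastCases with
    | last => rw [helper77_sfuExt_cl, hcol, Pi.single_eq_of_ne (Fin.castSucc_lt_last i).ne]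
    | cast j => rw [helper77_sfuExt_cc, Matrix.submatrix_apply]

/-- The stabiliser of the last standard vector in the isometry group of the standard form. -/
theorem helper77_sfu_stab_std {F : Type*} [Field F] {m : ℕ} (q₀ : ℕ) (hq : q₀ ≠ 0) :
    Nat.card {g : GL (Fin (m + 1)) F // g ∈ sfuIsom (sfuStd F q₀ (m + 1)) ∧
      (g : Matrix (Fin (m + 1)) (Fin (m + 1)) F) *ᵥ Pi.single (Fin.last m) 1 =
        Pi.single (Fin.last m) 1} = Nat.card (sfuIsom (sfuStd F q₀ m)) := by
  classical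
  have hfixext : ∀ A : Matrix (Fin m) (Fin m) F,
      helper77_sfuExt A *ᵥ Pi.single (Fin.last m) 1 = Pi.single (Fin.last m) 1 := by
    intro A
    funext i
    induction i using Fin.lastCases with
    | last => rw [helper77_sfuExt_mulVec_l]
    | cast i =>
      rw [Matrix.mulVec_single_one]
      change helper77_sfuExt A (Fin.castSucc i) (Fin.last m) = _
      rw [helper77_sfuExt_cl, Pi.single_eq_of_ne (Fin.castSucc_lt_last i).ne]
  symm
  refine Nat.card_congr (Equiv.ofBijective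
    (fun h : sfuIsom (sfuStd F q₀ m) =>
      (⟨Units.map (helper77_sfuExtHom F m) h.1, ?_, ?_⟩ :
        {g : GL (Fin (m + 1)) F // g ∈ sfuIsom (sfuStd F q₀ (m + 1)) ∧
          (g : Matrix (Fin (m + 1)) (Fin (m + 1)) F) *ᵥ Pi.single (Fin.last m) 1 =
            Pi.single (Fin.last m) 1})) ⟨?_, ?_⟩)
  · exact (helper77_sfuExt_isom_iff q₀ _).mpr h.2
  · exact hfixext _
  · intro h₁ h₂ h12
    have h3 := congrArg (fun x => ((x.1 : GL (Fin (m + 1)) F) :
      Matrix (Fin (m + 1)) (Fin (m + 1)) F)) h12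
    apply Subtype.ext
    apply Units.ext
    exact helper77_sfuExt_inj _ _ h3
  · rintro ⟨g, hg, hfix⟩
    obtain ⟨A, hA⟩ := helper77_sfu_stab_block q₀ hq g hg hfix
    have hg' : g⁻¹ ∈ sfuIsom (sfuStd F q₀ (m + 1)) := inv_mem hg
    have hfix' : ((g⁻¹ : GL (Fin (m + 1)) F) : Matrix (Fin (m + 1)) (Fin (m + 1)) F) *ᵥ
        Pi.single (Fin.last m) 1 = Pi.single (Fin.last m) 1 := by
      nth_rewrite 1 [← hfix]
      rw [Matrix.mulVec_mulVec, ← Units.val_mul, inv_mul_cancel, Units.val_one,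
        Matrix.one_mulVec]
    obtain ⟨A', hA'⟩ := helper77_sfu_stab_block q₀ hq g⁻¹ hg' hfix'
    have h1 : A * A' = 1 := by
      apply helper77_sfuExt_inj
      rw [helper77_sfuExt_mul, ← hA, ← hA', ← Units.val_mul, mul_inv_cancel, Units.val_one,
        helper77_sfuExt_one]
    have h2 : A' * A = 1 := by
      apply helper77_sfuExt_inj
      rw [helper77_sfuExt_mul, ← hA, ← hA', ← Units.val_mul, inv_mul_cancel, Units.val_one,
        helper77_sfuExt_one]
    let h : GL (Fin m) F := ⟨A, A', h1, h2⟩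
    have hh : h ∈ sfuIsom (sfuStd F q₀ m) := by
      refine (helper77_sfuExt_isom_iff q₀ A).mp ?_
      intro u w
      rw [← hA]
      exact hg u w
    refine ⟨⟨h, hh⟩, ?_⟩
    apply Subtype.ext
    apply Units.ext
    exact hA.symm

/-- Transport of a stabiliser along a change of basis. -/
theorem helper77_sfu_stab_conj {F : Type*} [Field F] {n : ℕ}
    (f f' : (Fin n → F) → (Fin n → F) → F) (B : GL (Fin n) F)
    (hB : ∀ a b, f ((B : Matrix (Fin n) (Fin n) F) *ᵥ a) ((B : Matrix (Fin n) (Fin n) F) *ᵥ b)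
      = f' a b) (v ε : Fin n → F) (hv : (B : Matrix (Fin n) (Fin n) F) *ᵥ ε = v) :
    Nat.card {g : GL (Fin n) F // g ∈ sfuIsom f ∧ (g : Matrix (Fin n) (Fin n) F) *ᵥ v = v} =
      Nat.card {g : GL (Fin n) F // g ∈ sfuIsom f' ∧
        (g : Matrix (Fin n) (Fin n) F) *ᵥ ε = ε} := by
  have hBi : ∀ u : Fin n → F, (B : Matrix (Fin n) (Fin n) F) *ᵥ
      (((B⁻¹ : GL (Fin n) F) : Matrix (Fin n) (Fin n) F) *ᵥ u) = u := by
    intro u
    rw [Matrix.mulVec_mulVec, ← Units.val_mul, mul_inv_cancel, Units.val_one, Matrix.one_mulVec]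
  have hiB : ∀ u : Fin n → F, ((B⁻¹ : GL (Fin n) F) : Matrix (Fin n) (Fin n) F) *ᵥ
      ((B : Matrix (Fin n) (Fin n) F) *ᵥ u) = u := by
    intro u
    rw [Matrix.mulVec_mulVec, ← Units.val_mul, inv_mul_cancel, Units.val_one, Matrix.one_mulVec]
  refine Nat.card_congr (Equiv.subtypeEquiv
    ⟨fun g => B⁻¹ * g * B, fun h => B * h * B⁻¹, fun g => by group, fun h => by group⟩ ?_)
  intro g
  change (g ∈ sfuIsom f ∧ (g : Matrix (Fin n) (Fin n) F) *ᵥ v = v) ↔
    (B⁻¹ * g * B ∈ sfuIsom f' ∧ ((B⁻¹ * g * B : GL (Fin n) F) : Matrix (Fin n) (Fin n) F) *ᵥ ε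
      = ε)
  have hmv : ∀ a : Fin n → F, ((B⁻¹ * g * B : GL (Fin n) F) : Matrix (Fin n) (Fin n) F) *ᵥ a =
      ((B⁻¹ : GL (Fin n) F) : Matrix (Fin n) (Fin n) F) *ᵥ
        ((g : Matrix (Fin n) (Fin n) F) *ᵥ ((B : Matrix (Fin n) (Fin n) F) *ᵥ a)) := by
    intro a
    rw [Units.val_mul, Units.val_mul, ← Matrix.mulVec_mulVec, ← Matrix.mulVec_mulVec]
  constructor
  · rintro ⟨hg, hgv⟩
    refine ⟨?_, ?_⟩
    · intro a b
      rw [hmv, hmv, ← hB, hBi, hBi, hg, hB]
    · rw [hmv, hv, hgv, ← hv, hiB]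
  · rintro ⟨hg, hgv⟩
    refine ⟨?_, ?_⟩
    · intro u w
      have h1 := hg (((B⁻¹ : GL (Fin n) F) : Matrix (Fin n) (Fin n) F) *ᵥ u)
        (((B⁻¹ : GL (Fin n) F) : Matrix (Fin n) (Fin n) F) *ᵥ w)
      rw [hmv, hmv, ← hB, ← hB, hBi, hBi, hBi, hBi] at h1
      exact h1
    · have h1 : (B : Matrix (Fin n) (Fin n) F) *ᵥ
          (((B⁻¹ * g * B : GL (Fin n) F) : Matrix (Fin n) (Fin n) F) *ᵥ ε) =
          (B : Matrix (Fin n) (Fin n) F) *ᵥ ε := by
        rw [hgv]
      rw [hmv, hBi, hv] at h1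
      exact h1

/-- ORDS, with the sesquilinearity facts and the extension property as hypotheses. -/
theorem helper77_sfu_isom_stab_of {F : Type*} [Field F] {m : ℕ} (q₀ : ℕ) (hq : q₀ ≠ 0)
    (f : (Fin (m + 1) → F) → (Fin (m + 1) → F) → F) (hf : IsUnitaryFormPow q₀ f)
    (hadd2 : ∀ v x y, f v (x + y) = f v x + f v y)
    (hsmul2 : ∀ (c : F) (v x : Fin (m + 1) → F), f v (c • x) = c ^ q₀ * f v x)
    (v : Fin (m + 1) → F)
    (hext : ∃ e : Fin (m + 1) → (Fin (m + 1) → F), LinearIndependent F e ∧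
      (∀ i j, f (e i) (e j) = if i = j then 1 else 0) ∧ e (Fin.last m) = v) :
    Nat.card {g : GL (Fin (m + 1)) F // g ∈ sfuIsom f ∧
      (g : Matrix (Fin (m + 1)) (Fin (m + 1)) F) *ᵥ v = v} =
      Nat.card (sfuIsom (sfuStd F q₀ m)) := by
  classical
  obtain ⟨e, hli, he, hev⟩ := hext
  obtain ⟨B, hB⟩ := helper77_sfu_colmat e hli
  rw [← helper77_sfu_stab_std q₀ hq]
  apply helper77_sfu_stab_conj f (sfuStd F q₀ (m + 1)) B
  · intro a b
    rw [hB, hB, helper77_sfu_gram q₀ f hf hadd2 hsmul2 e he]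
    rfl
  · rw [hB, Finset.sum_eq_single (Fin.last m)]
    · rw [Pi.single_eq_same, one_smul, hev]
    · intro j _ hj
      rw [Pi.single_eq_of_ne hj, zero_smul]
    · intro h
      exact absurd (Finset.mem_univ _) h

end Cfsg.Agent.Lib.helper24
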