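import Mathlib
import Cfsg.Agent.Lib.helper24.SfuDefs
import Cfsg.Agent.Lib.helper9.SfuSESQ
import Cfsg.Agent.Lib.helper32.SfuEXT
import Cfsg.Agent.Lib.helper77.SfuORDcore
import Cfsg.Agent.Lib.helper77.SfuORDScore

/-! S5982 split (helper24): spare (prefixed) copies of pieces ORDT and ORDS. -/

set_option autoImplicit false

namespace Cfsg.Agent.Lib.helper24

open Module Matrix Cfsg.Geo

/-- ORDT (spare, prefixed copy). -/
theorem helper77_sfu_isom_transitive {F : Type*} [Field F] [Fintype F] {n : ℕ} (q₀ : ℕ)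
    (hcard : Fintype.card F = q₀ ^ 2) (f : (Fin n → F) → (Fin n → F) → F)
    (hf : IsUnitaryFormPow q₀ f) (v w : Fin n → F) (hv : f v v = 1) (hw : f w w = 1) :
    ∃ g ∈ sfuIsom f, (g : Matrix (Fin n) (Fin n) F) *ᵥ v = w := by
  obtain ⟨hadd2, hsmul2, -, -, -⟩ := sfu_sesq q₀ hcard f hf
  refine helper77_sfu_isom_transitive_of q₀ f hf hadd2 hsmul2 ?_ v w hv hw
  intro u hu
  cases n with
  | zero =>
    have hne : (1 : F) ≠ 0 := one_ne_zero
    have h0 : f u u = 0 := by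
      have h00 := hf.smul_left 0 u u
      rw [zero_mul] at h00
      rw [← h00]
      congr 1
      exact Subsingleton.elim _ _
    rw [hu] at h0
    exact absurd h0 hne
  | succ m =>
    obtain ⟨e, hli, he, hev⟩ := sfu_onb_extend q₀ hcard f hf u hu
    exact ⟨e, Fin.last m, hli, he, hev⟩

/-- ORDS (spare, prefixed copy). -/
theorem helper77_sfu_isom_stab {F : Type*} [Field F] [Fintype F] {m : ℕ} (q₀ : ℕ)
    (hcard : Fintype.card F = q₀ ^ 2) (f : (Fin (m + 1) → F) → (Fin (m + 1) → F) → F)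
    (hf : IsUnitaryFormPow q₀ f) (v : Fin (m + 1) → F) (hv : f v v = 1) :
    Nat.card {g : GL (Fin (m + 1)) F // g ∈ sfuIsom f ∧
      (g : Matrix (Fin (m + 1)) (Fin (m + 1)) F) *ᵥ v = v} =
      Nat.card (sfuIsom (sfuStd F q₀ m)) := by
  obtain ⟨hadd2, hsmul2, -, -, -⟩ := sfu_sesq q₀ hcard f hf
  have hq : q₀ ≠ 0 := by
    rintro rfl
    rw [zero_pow (by norm_num)] at hcard
    exact Fintype.card_ne_zero hcard
  exact helper77_sfu_isom_stab_of q₀ hq f hf hadd2 hsmul2 v (sfu_onb_extend q₀ hcard f hf v hv)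

end Cfsg.Agent.Lib.helper24
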