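import Mathlib
import Cfsg.Agent.Lib.helper77.Singer

/-!
# Conjugating the commutant of an element of primitive prime order into the Singer group

Setting of `Singer.lean`: `x` an endomorphism of the `F`-space `V` with `x ^ r = 1`, `x ≠ 1`, `r` a
prime with `q = #F` of order `dim V` modulo `r`.
* `isDomain_adjoin` : `F[x]` is a domain;
* `nonempty_algEquiv_adjoin` : `F[x]` is isomorphic, as an `F`-algebra, to every field extension
  `K` of `F` with `#K = #V`;
* `exists_linearEquiv_conj` : for `V = K` there is an `F`-linear automorphism `g` of `K` such that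
  `g a g⁻¹` is the multiplication by an element of `K`, for every `a ∈ F[x]`.
-/

set_option autoImplicit false

namespace Cfsg.Agent.Lib.helper77

section SingerConj

variable {F V : Type*} [Field F] [Fintype F] [AddCommGroup V] [Module F V] [Module.Finite F V]

/-- `F[x]` is a domain. -/
theorem isDomain_adjoin {r : ℕ} (hr : r.Prime) {x : Module.End F V} (hx : x ^ r = 1)
    (hx1 : x ≠ 1) (hord : orderOf ((Fintype.card F : ℕ) : ZMod r) = Module.finrank F V) :
    IsDomain (Algebra.adjoin F ({x} : Set (Module.End F V))) := by
  have hV : Nontrivial V := nontrivial_of_ne_one hx1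
  have hnontriv : Nontrivial (Algebra.adjoin F ({x} : Set (Module.End F V))) :=
    ⟨⟨0, 1, fun h => by
      have h1 : (0 : Module.End F V) = 1 := congrArg Subtype.val h
      obtain ⟨v, hv⟩ := exists_ne (0 : V)
      exact hv (by simpa using (congrArg (fun z : Module.End F V => z v) h1).symm)⟩⟩
  have hnzd : NoZeroDivisors (Algebra.adjoin F ({x} : Set (Module.End F V))) :=
    ⟨by
      intro a b hab
      by_contra hcon
      rw [not_or] at hcon
      obtain ⟨ha, hb⟩ := hcon
      have ha0 : (a : Module.End F V) ≠ 0 := fun h => ha (Subtype.ext h)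
      have hinj := (bijective_of_mem_adjoin hr hx hx1 hord a.2 ha0).1
      apply hb
      apply Subtype.ext
      apply LinearMap.ext
      intro w
      apply hinj
      have h1 : (a : Module.End F V) * (b : Module.End F V) = 0 := congrArg Subtype.val hab
      have h2 := congrArg (fun z : Module.End F V => z w) h1
      simpa using h2⟩
  exact NoZeroDivisors.to_isDomain _

open scoped IsMulCommutative in
open Polynomial in
/-- `F[x]` is isomorphic to any field extension of `F` with as many elements as `V`. -/
theorem nonempty_algEquiv_adjoin {K : Type*} [Field K] [Fintype K] [Algebra F K] {r : ℕ}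
    (hr : r.Prime) {x : Module.End F V} (hx : x ^ r = 1) (hx1 : x ≠ 1)
    (hord : orderOf ((Fintype.card F : ℕ) : ZMod r) = Module.finrank F V)
    (hVK : Nat.card V = Nat.card K) :
    Nonempty (Algebra.adjoin F ({x} : Set (Module.End F V)) ≃ₐ[F] K) := by
  classical
  have : Finite V := Module.finite_of_finite F
  have hfin : Finite (Module.End F V) := Module.finite_of_finite F
  have hdom := isDomain_adjoin hr hx hx1 hord
  let fintypeE : Fintype (Algebra.adjoin F ({x} : Set (Module.End F V))) := Fintype.ofFinite _
  let fieldE : Field (Algebra.adjoin F ({x} : Set (Module.End F V))) := Fintype.fieldOfDomain _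
  let algE : Algebra F (Algebra.adjoin F ({x} : Set (Module.End F V))) :=
    Subalgebra.algebra (Algebra.adjoin F ({x} : Set (Module.End F V)))
  have hcard : Fintype.card (Algebra.adjoin F ({x} : Set (Module.End F V))) = Fintype.card K := by
    rw [← Nat.card_eq_fintype_card, ← Nat.card_eq_fintype_card, card_adjoin hr hx hx1 hord, hVK]
  have h1 := FiniteField.isSplittingField_sub (Algebra.adjoin F ({x} : Set (Module.End F V))) F
  have h2 := FiniteField.isSplittingField_sub K F
  rw [hcard] at h1
  exact ⟨(IsSplittingField.algEquiv _ (X ^ Fintype.card K - X : F[X])).trans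
    (IsSplittingField.algEquiv K (X ^ Fintype.card K - X : F[X])).symm⟩

end SingerConj

section SingerField

variable {F K : Type*} [Field F] [Fintype F] [Field K] [Fintype K] [Algebra F K]

/-- There is an `F`-linear automorphism `g` of `K` conjugating every element of `F[x]` to the
multiplication by an element of `K`. -/
theorem exists_linearEquiv_conj {r : ℕ} (hr : r.Prime) {x : Module.End F K} (hx : x ^ r = 1)
    (hx1 : x ≠ 1) (hord : orderOf ((Fintype.card F : ℕ) : ZMod r) = Module.finrank F K) :
    ∃ g : K ≃ₗ[F] K, ∀ a ∈ Algebra.adjoin F ({x} : Set (Module.End F K)),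
      ∃ k : K, (a ≠ 0 → k ≠ 0) ∧ ∀ w : K, g (a (g.symm w)) = k * w := by
  obtain ⟨σ⟩ := nonempty_algEquiv_adjoin (K := K) hr hx hx1 hord rfl
  let evE : Algebra.adjoin F ({x} : Set (Module.End F K)) ≃ₗ[F] K :=
    LinearEquiv.ofBijective (adjoinEval x 1) (adjoinEval_bijective hr hx hx1 hord one_ne_zero)
  refine ⟨evE.symm.trans σ.toLinearEquiv, ?_⟩
  intro a ha
  refine ⟨σ ⟨a, ha⟩, ?_, ?_⟩
  · intro ha0 hk
    apply ha0
    have h0 : (⟨a, ha⟩ : Algebra.adjoin F ({x} : Set (Module.End F K))) = 0 :=
      σ.injective (by rw [hk, map_zero])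
    exact congrArg Subtype.val h0
  · intro w
    have h1 : (evE.symm.trans σ.toLinearEquiv).symm w = evE (σ.symm w) := rfl
    rw [h1]
    have h2 : a (evE (σ.symm w)) = evE (⟨a, ha⟩ * σ.symm w) := rfl
    rw [h2]
    have h3 : (evE.symm.trans σ.toLinearEquiv) (evE (⟨a, ha⟩ * σ.symm w)) =
        σ (⟨a, ha⟩ * σ.symm w) := by simp
    rw [h3, map_mul, AlgEquiv.apply_symm_apply]

end SingerField

end Cfsg.Agent.Lib.helper77
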