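import Mathlib
import Cfsg.Prelude.Def_Blocks
import Cfsg.Agent.Lib.helper77.Knorr
import Cfsg.Agent.Lib.helper77.FongReynolds
import Cfsg.Agent.Lib.helper80.Transport
import Cfsg.Agent.Lib.helper82.GlaubBasic
import Cfsg.Agent.S0965

/-!
# Defect of a covering block when the defect group of the covered block is self-centralizing
modulo the normal subgroup (helper77)

`N` a normal subgroup of `G`, `b` a block of `N` with a defect group `D` such that `C_G(D) ≤ N`.

* `sameBlock_of_cover_of_centralizer_le`: if `b` is `G`-invariant, any two characters of `G` lying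
  over `b` lie in the same block (the covering block is unique);
* `blockDefect_cover_stab`: for the stabilizer `T` of `b` and a block `B` of `G` covering `b`,
  `d(B) = d(b) + ν_p [T : N]` (Fong–Reynolds, then Fong's theorem in `T`).
-/

set_option autoImplicit false

namespace Cfsg.Agent.Lib.helper77

open Cfsg
open scoped ComplexConjugate

universe u

section StabFong

variable {G : Type u} [Group G] [Fintype G] (N : Subgroup G) [hN : N.Normal] [Fintype N]

/-- **Uniqueness of the covering block.**  `b` a `G`-invariant block of `N` with defect group `D`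
and `C_G(D) ≤ N`: any two characters of `G` lying over `b` are in the same block. -/
theorem sameBlock_of_cover_of_centralizer_le {p : ℕ} [Fact p.Prime] {M : Ideal AlgInt}
    (hM : IsPModular p M) {b : Set (IrrCharacter N)} (hb : IsPBlock M b)
    (hst : ∀ g : G, ∀ θ ∈ b, cjIrr N g θ ∈ b)
    {D : Subgroup N} (hD : IsDefectGroup p M b D)
    (hC : Subgroup.centralizer ((D.map N.subtype : Subgroup G) : Set G) ≤ N)
    {χ₁ χ₂ : IrrCharacter G} (h₁ : χ₁ ∈ coverSet N b) (h₂ : χ₂ ∈ coverSet N b) :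
    SameBlock M (χ₁ : G → ℂ) (χ₂ : G → ℂ) := by
  classical
  have hMp : M.IsPrime := helper20.isPrime_of_isPModular hM
  obtain ⟨ψ₀, hψ₀b⟩ := helper80.isPBlock_nonempty hMp hb
  intro g
  by_cases hg : g ∈ N
  · have hc1 : ∃ χ ∈ blockOf M (χ₁ : G → ℂ), ∃ ψ ∈ b,
        classInner (fun n : N => (χ : G → ℂ) n) (ψ : N → ℂ) ≠ 0 := by
      obtain ⟨ψ, hψb, hψ⟩ := h₁
      exact ⟨χ₁, helper80.mem_blockOf_self hMp χ₁, ψ, hψb, hψ⟩
    have hc2 : ∃ χ ∈ blockOf M (χ₂ : G → ℂ), ∃ ψ ∈ b,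
        classInner (fun n : N => (χ : G → ℂ) n) (ψ : N → ℂ) ≠ 0 := by
      obtain ⟨ψ, hψb, hψ⟩ := h₂
      exact ⟨χ₂, helper80.mem_blockOf_self hMp χ₂, ψ, hψb, hψ⟩
    have e1 := (Cfsg.Agent.S0965.result p M hM N _ (helper80.isPBlock_blockOf M χ₁) b hb).mp hc1
      χ₁ (helper80.mem_blockOf_self hMp χ₁) ψ₀ hψ₀b ⟨g, hg⟩
    have e2 := (Cfsg.Agent.S0965.result p M hM N _ (helper80.isPBlock_blockOf M χ₂) b hb).mp hc2
      χ₂ (helper80.mem_blockOf_self hMp χ₂) ψ₀ hψ₀b ⟨g, hg⟩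
    have e3 := helper20.memLocalIdeal_sub hMp e1 e2
    have e4 : centralChar (χ₁ : G → ℂ) g - centralChar (χ₂ : G → ℂ) g
        = centralChar (χ₁ : G → ℂ) ((⟨g, hg⟩ : N) : G)
            - inducedCentralChar N (ψ₀ : N → ℂ) ((⟨g, hg⟩ : N) : G)
          - (centralChar (χ₂ : G → ℂ) ((⟨g, hg⟩ : N) : G)
            - inducedCentralChar N (ψ₀ : N → ℂ) ((⟨g, hg⟩ : N) : G)) := by
      ring
    rw [e4]
    exact e3
  · exact helper20.memLocalIdeal_sub hMp
      (memLocalIdeal_centralChar_of_cover_off N hM hb hst hD hC h₁ hg)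
      (memLocalIdeal_centralChar_of_cover_off N hM hb hst hD hC h₂ hg)

/-- **Defect of a covering block.**  `b` a block of `N` with defect group `D`, `C_G(D) ≤ N`,
`T` the stabilizer of `b` in `G` and `B` a block of `G` covering `b`.  Then
`d(B) = d(b) + ν_p [T : N]`. -/
theorem blockDefect_cover_stab (T : Subgroup G) [Fintype T] {p : ℕ} [Fact p.Prime]
    {M : Ideal AlgInt} (hM : IsPModular p M) (hNT : N ≤ T) {b : Set (IrrCharacter N)}
    (hb : IsPBlock M b)
    (hTs : ∀ t ∈ T, ∀ θ ∈ b, cjIrr N t θ ∈ b)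
    (hTc : ∀ g : G, ∀ θ ∈ b, cjIrr N g θ ∈ b → g ∈ T)
    {D : Subgroup N} (hD : IsDefectGroup p M b D)
    (hC : Subgroup.centralizer ((D.map N.subtype : Subgroup G) : Set G) ≤ N)
    {B : Set (IrrCharacter G)} (hB : IsPBlock M B)
    (hcov : ∃ χ ∈ B, ∃ θ ∈ b, classInner (fun n : N => (χ : G → ℂ) n) (θ : N → ℂ) ≠ 0) :
    blockDefect p B = blockDefect p b + (N.relIndex T).factorization p := by
  classical
  have hMp : M.IsPrime := helper20.isPrime_of_isPModular hM
  have hpp : p.Prime := Fact.out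
  -- Fong–Reynolds
  obtain ⟨B', hB', hcov', hind⟩ := fr_part_three N T hMp hNT hTc hB hcov
  obtain ⟨B₀, hind₀, -, hirr, hmem⟩ := fr_part_one N T hMp hNT hb hTs hTc hB' hcov'
  have hBeq : B₀ = B := isInducedBlock_unique T hMp hind₀ hind
  rw [hBeq] at hmem
  have h1 : ∀ ψ ∈ B', ∃ χ ∈ B, (χ : G → ℂ) = indFun T (ψ : T → ℂ) := fun ψ hψ =>
    ⟨⟨_, hirr ψ hψ⟩, (hmem _).mpr ⟨ψ, hψ, rfl⟩, rfl⟩
  have h2 : ∀ χ ∈ B, ∃ ψ ∈ B', (χ : G → ℂ) = indFun T (ψ : T → ℂ) := fun χ hχ =>
    (hmem χ).mp hχ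
  have hne : B'.Nonempty := by
    obtain ⟨ψ, hψ, _⟩ := hcov'
    exact ⟨ψ, hψ⟩
  have hdef1 : blockDefect p B = blockDefect p B' := blockDefect_eq_of_indFun T p hne h1 h2
  -- transport of `b` to `N.subgroupOf T`
  have hNTn : (N.subgroupOf T).Normal := hN.subgroupOf T
  have : Fintype (N.subgroupOf T) := Fintype.ofFinite _
  obtain ⟨e, he⟩ : ∃ e : N ≃* N.subgroupOf T, e = (Subgroup.subgroupOfEquivOfLe hNT).symm :=
    ⟨_, rfl⟩
  have hecoe : ∀ n : N, ((e n : T) : G) = (n : G) := by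
    intro n
    rw [he]
    rfl
  have hesymm : ∀ k : N.subgroupOf T, ((e.symm k : N) : G) = ((k : T) : G) := by
    intro k
    rw [he]
    rfl
  obtain ⟨bT, hbT⟩ : ∃ bT : Set (IrrCharacter (N.subgroupOf T)), bT = helper80.blockMap e b :=
    ⟨_, rfl⟩
  have hbTblk : IsPBlock M bT := by
    rw [hbT]
    exact helper80.isPBlock_blockMap e hb
  have hmemT : ∀ θ : IrrCharacter N, helper80.irrMap e θ ∈ bT ↔ θ ∈ b := by
    intro θ
    rw [hbT]
    exact helper80.irrMap_mem_blockMap e b θ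
  have hsurj : ∀ θT : IrrCharacter (N.subgroupOf T), ∃ θ : IrrCharacter N,
      helper80.irrMap e θ = θT := fun θT => ⟨_, helper80.irrMap_irrMap_symm e θT⟩
  -- conjugation commutes with transport
  have hcj : ∀ (t : T) (θ : IrrCharacter N),
      cjIrr (N.subgroupOf T) t (helper80.irrMap e θ) = helper80.irrMap e (cjIrr N (t : G) θ) := by
    intro t θ
    apply Subtype.ext
    funext k
    rw [cjIrr_coe, helper82.cconj_apply, helper80.irrMap_apply, helper80.irrMap_apply, cjIrr_coe,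
      helper82.cconj_apply]
    refine congrArg _ (Subtype.ext ?_)
    rw [hesymm]
    show _ = (t : G)⁻¹ * ((e.symm k : N) : G) * (t : G)
    rw [hesymm]
    rfl
  have hstT : ∀ t : T, ∀ θT ∈ bT, cjIrr (N.subgroupOf T) t θT ∈ bT := by
    intro t θT hθT
    obtain ⟨θ, rfl⟩ := hsurj θT
    rw [hcj, hmemT]
    exact hTs t t.2 θ ((hmemT θ).mp hθT)
  -- covering in `T`
  have hcovT : ∃ ψ ∈ B', ∃ θT ∈ bT,
      classInner (fun n : N.subgroupOf T => (ψ : T → ℂ) n) (θT : N.subgroupOf T → ℂ) ≠ 0 := by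
    obtain ⟨ψ, hψ, θ, hθ, h⟩ := hcov'
    refine ⟨ψ, hψ, helper80.irrMap e θ, (hmemT θ).mpr hθ, ?_⟩
    have h3 := helper82.classInner_comp_equiv e.symm
      (fun n : N => (ψ : T → ℂ) ⟨(n : G), hNT n.2⟩) (θ : N → ℂ)
    rw [← h3] at h
    have h4 : (fun k : N.subgroupOf T => (ψ : T → ℂ) ⟨((e.symm k : N) : G), hNT (e.symm k).2⟩)
        = fun n : N.subgroupOf T => (ψ : T → ℂ) n := by
      funext k
      exact congrArg _ (Subtype.ext (hesymm k))
    rw [h4] at h
    exact h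
  -- defect group in `T`
  have hDT : IsDefectGroup p M bT (D.map e.toMonoidHom) := by
    rw [hbT]
    exact helper80.isDefectGroup_blockMap e hD
  have hCT : Subgroup.centralizer
      ((((D.map e.toMonoidHom).map (N.subgroupOf T).subtype : Subgroup T)) : Set T)
        ≤ N.subgroupOf T := by
    intro t ht
    rw [Subgroup.mem_subgroupOf]
    apply hC
    rw [Subgroup.mem_centralizer_iff]
    rintro x ⟨d, hd, rfl⟩
    have h3 := (Subgroup.mem_centralizer_iff.mp ht) ((N.subgroupOf T).subtype (e d))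
      ⟨e d, ⟨d, hd, rfl⟩, rfl⟩
    have h4 := congrArg (fun y : T => (y : G)) h3
    simp only [Subgroup.coe_mul, Subgroup.coe_subtype] at h4
    rw [hecoe] at h4
    exact h4
  -- uniqueness of the covering block in `T`
  have hmax : ∀ B'' : Set (IrrCharacter T), IsPBlock M B'' →
      (∃ χ ∈ B'', ∃ θ ∈ bT, classInner (fun n : N.subgroupOf T => (χ : T → ℂ) n)
        (θ : N.subgroupOf T → ℂ) ≠ 0) → blockDefect p B'' ≤ blockDefect p B' := by
    intro B'' hB'' ⟨χ, hχ, θ, hθ, h⟩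
    obtain ⟨ψ, hψ, θ', hθ', h'⟩ := hcovT
    have hs := sameBlock_of_cover_of_centralizer_le (N.subgroupOf T) hM hbTblk hstT hDT hCT
      (χ₁ := ψ) (χ₂ := χ) ⟨θ', hθ', h'⟩ ⟨θ, hθ, h⟩
    have h5 : χ ∈ B' := helper81.mem_of_sameBlock hMp hB' hψ hs
    have h6 : B'' = B' := helper80.isPBlock_eq_of_mem hMp hB'' hB' hχ h5
    rw [h6]
  obtain ⟨P', hP'⟩ := helper80.exists_isDefectGroup p hMp hB'
  have hfong := (fong_main (N.subgroupOf T) hM hbTblk hstT hB' hcovT hmax hP').2.2
  -- defects of `b` and its transport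
  have hdef2 : blockDefect p bT = blockDefect p b := by
    have c1 := helper79.card_eq_of_isDefectGroup hM hbTblk hDT
    have c2 := helper79.card_eq_of_isDefectGroup hM hb hD
    have c3 : Nat.card (D.map e.toMonoidHom) = Nat.card D :=
      Subgroup.card_map_of_injective e.injective
    rw [c3, c2] at c1
    exact (Nat.pow_right_injective hpp.two_le c1).symm
  rw [hdef1, hfong, hdef2]
  rfl

end StabFong

end Cfsg.Agent.Lib.helper77
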