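import Mathlib
import Cfsg.Prelude.Def_Blocks
import Cfsg.Prelude.Def_BlockLocal
import Cfsg.Agent.Lib.helper77.Knorr
import Cfsg.Agent.Lib.helper80.NormalSubpair

/-!
# A covered block stable under a defect group (helper77)

`N` a normal subgroup of `G`, `B` a block of `G` with defect group `P`.

* `exists_cent_blockCoeff_orbitUnion`: if `B` covers the block `b` of `N`, the idempotent of the
  union of the conjugates of `b` has a coefficient outside the local ideal at an element of
  `C_N(P)`;
* `exists_stable_block_blockCoeff`: a `G`-stable union `U` of blocks of `N` whose idempotent has a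
  coefficient outside the local ideal at `a ∈ C_N(P)` (`P` a `p`-group) contains a `P`-stable
  block with the same property;
* `exists_stable_cover_defect`: there is a block `c` of `N` covered by `B`, stable under `P`,
  with defect group `P ∩ N`.
-/

set_option autoImplicit false

namespace Cfsg.Agent.Lib.helper77

open Cfsg
open scoped ComplexConjugate

universe u

section StableCover

variable {G : Type u} [Group G] [Fintype G] (N : Subgroup G) [hN : N.Normal] [Fintype N]

/-- If `B` (with defect group `P`) covers `b`, the idempotent of the union of the conjugates of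
`b` has a coefficient outside the local ideal on `C_N(P)`. -/
theorem exists_cent_blockCoeff_orbitUnion {p : ℕ} [Fact p.Prime] {M : Ideal AlgInt}
    (hM : IsPModular p M) {b : Set (IrrCharacter N)} (hb : IsPBlock M b)
    {B : Set (IrrCharacter G)} (hB : IsPBlock M B)
    (hcov : ∃ χ ∈ B, ∃ θ ∈ b, classInner (fun n : N => (χ : G → ℂ) n) (θ : N → ℂ) ≠ 0)
    {P : Subgroup G} (hP : IsDefectGroup p M B P) :
    ∃ a : N, (a : G) ∈ Subgroup.centralizer (P : Set G) ∧
      ¬ MemLocalIdeal M (blockCoeff (orbitUnion N b) a) := by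
  classical
  have hMp : M.IsPrime := helper20.isPrime_of_isPModular hM
  obtain ⟨χ, hχ, θ, hθ, hχθ⟩ := hcov
  have hUst := orbitUnion_stable N b
  have hUun := orbitUnion_union_blocks N hMp hb
  have ha := blockCoeff_conj_of_stable N (orbitUnion N b) hUst
  have hcf := isClassFunction_extFun_of_inv N (blockCoeff (orbitUnion N b)) ha
  have haloc : ∀ n, MemLocalRing M (blockCoeff (orbitUnion N b) n) :=
    memLocalRing_blockCoeff_of_union hMp _ hUun
  have h1 : helper80.om (χ : G → ℂ) (helper80.extFun N (blockCoeff (orbitUnion N b))) = 1 := by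
    rw [om_extFun_of_constituent N hχθ _ ha, helper80.om_blockCoeff,
      if_pos (subset_orbitUnion N b hθ)]
  rw [helper84.om_eq_sum_classes (χ : G → ℂ) (helper4.isClassFunction_of_isIrrCharacter χ.2) _
    hcf] at h1
  have hex : ∃ c : ConjClasses G, ¬ MemLocalIdeal M
      (helper80.extFun N (blockCoeff (orbitUnion N b)) (Quotient.out c)
        * centralChar (χ : G → ℂ) (Quotient.out c)) := by
    by_contra hcon
    push Not at hcon
    have h2 := helper20.memLocalIdeal_sum hMp Finset.univ _ (fun c _ => hcon c)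
    rw [h1] at h2
    exact helper20.not_memLocalIdeal_one h2
  obtain ⟨c, hc⟩ := hex
  obtain ⟨x, hxdef⟩ : ∃ x : G, x = Quotient.out c := ⟨_, rfl⟩
  rw [← hxdef] at hc
  have hxN : x ∈ N := by
    by_contra hx
    apply hc
    rw [helper80.extFun_of_not_mem N _ hx, zero_mul]
    exact helper20.memLocalIdeal_zero hMp
  rw [helper80.extFun_of_mem N _ hxN] at hc
  have hax : ¬ MemLocalIdeal M (blockCoeff (orbitUnion N b) ⟨x, hxN⟩) := fun h =>
    hc (helper20.memLocalIdeal_mul_right hMp h (helper80.memLocalRing_centralChar hMp χ x))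
  have hωx : ¬ MemLocalIdeal M (centralChar (χ : G → ℂ) x) := fun h =>
    hc (helper20.memLocalIdeal_mul_left hMp (haloc _) h)
  have hh : ∀ χ' ∈ B, ¬ MemLocalIdeal M (centralChar (χ' : G → ℂ) x) := by
    intro χ' hχ' hJ
    apply hωx
    have hs := helper80.sameBlock_of_mem hMp hB hχ hχ' x
    have h2 := helper20.memLocalIdeal_add hMp hs hJ
    rwa [sub_add_cancel] at h2
  have hPp : IsPGroup p P := helper80.IsDefectGroup.isPGroup hP
  have hP' := hP
  obtain ⟨y, hy, S, hS⟩ := hP'
  have hyc : y ∈ Subgroup.centralizer (P : Set G) := by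
    rw [Subgroup.mem_centralizer_iff]
    intro d hd
    rw [hS] at hd
    obtain ⟨d', -, rfl⟩ := hd
    have h2 := d'.2
    rw [Subgroup.mem_centralizer_iff] at h2
    exact (h2 y (Set.mem_singleton y)).symm
  obtain ⟨a', ha', hconj⟩ := helper80.exists_conj_mem_centralizer hM hB x hh P hPp y hyc hy.2.1
  obtain ⟨k, hk⟩ := isConj_iff.mp hconj
  have ha'N : a' ∈ N := by
    rw [← hk]
    exact hN.conj_mem x hxN k
  have haa : ¬ MemLocalIdeal M (blockCoeff (orbitUnion N b) ⟨a', ha'N⟩) := by
    have h2 := ha k ⟨x, hxN⟩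
    have e : (⟨a', ha'N⟩ : N) = ⟨k * x * k⁻¹, hN.conj_mem x hxN k⟩ := Subtype.ext hk.symm
    rw [e, h2]
    exact hax
  exact ⟨⟨a', ha'N⟩, ha', haa⟩

open scoped Classical in
/-- A `G`-stable union `U` of blocks of `N` whose idempotent has a coefficient outside the local
ideal at an element of `N` centralizing the `p`-subgroup `P` contains a `P`-stable block whose
idempotent has the same property. -/
theorem exists_stable_block_blockCoeff {p : ℕ} [Fact p.Prime] {M : Ideal AlgInt}
    (hM : IsPModular p M) (U : Set (IrrCharacter N))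
    (hUst : ∀ g : G, ∀ θ ∈ U, cjIrr N g θ ∈ U)
    (hUun : ∀ θ ∈ U, blockOf M (θ : N → ℂ) ⊆ U)
    (P : Subgroup G) (hPp : IsPGroup p P) (a : N)
    (ha : (a : G) ∈ Subgroup.centralizer (P : Set G))
    (hU : ¬ MemLocalIdeal M (blockCoeff U a)) :
    ∃ f : Set (IrrCharacter N), IsPBlock M f ∧ f ⊆ U ∧
      (∀ u ∈ P, helper80.conjSet N u (mem_normalizer_of_normal N u) f = f) ∧
      ¬ MemLocalIdeal M (blockCoeff f a) := by
  have hMp : M.IsPrime := helper20.isPrime_of_isPModular hM
  have hPK : P ≤ Subgroup.normalizer (N : Set G) := fun u _ => mem_normalizer_of_normal N u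
  by_contra hcon
  push Not at hcon
  apply hU
  have hUeq : (⋃ B' ∈ (helper80.blocks M N).filter (fun B' => B' ⊆ U), B') = U := by
    apply Set.eq_of_subset_of_subset
    · intro θ₁ hθ₁
      simp only [Set.mem_iUnion] at hθ₁
      obtain ⟨B', hB', hθB⟩ := hθ₁
      exact (Finset.mem_filter.mp hB').2 hθB
    · intro θ₁ hθ₁
      simp only [Set.mem_iUnion]
      refine ⟨blockOf M (θ₁ : N → ℂ), Finset.mem_filter.mpr ⟨?_, hUun θ₁ hθ₁⟩, ?_⟩
      · exact helper80.mem_blocks.mpr (helper80.isPBlock_blockOf M θ₁)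
      · exact helper80.mem_blockOf_self hMp θ₁
  have hd : ∀ B₁ ∈ (helper80.blocks M N).filter (fun B' => B' ⊆ U),
      ∀ B₂ ∈ (helper80.blocks M N).filter (fun B' => B' ⊆ U),
      B₁ ≠ B₂ → Disjoint B₁ B₂ := by
    intro B₁ hB₁ B₂ hB₂ hne
    exact helper80.blocks_disjoint hMp B₁ (Finset.mem_filter.mp hB₁).1 B₂
      (Finset.mem_filter.mp hB₂).1 hne
  rw [← hUeq, ← helper80.sum_blockCoeff_of_pairwiseDisjoint _ hd]
  rw [← Finset.sum_filter_add_sum_filter_not _
    (fun f => ∀ u : P, helper80.conjSet N (u : G) (hPK u.2) f = f)]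
  apply helper20.memLocalIdeal_add hMp
  · apply helper20.memLocalIdeal_sum hMp
    intro f hf
    rw [Finset.mem_filter, Finset.mem_filter] at hf
    exact hcon f (helper80.mem_blocks.mp hf.1.1) hf.1.2 (fun u hu => hf.2 ⟨u, hu⟩)
  · let _ := helper80.blockAction N P hPK
    apply helper80.sum_orbit_induction hPp _ _ _ (fun f => blockCoeff f a) _ (MemLocalIdeal M)
      (helper20.memLocalIdeal_zero hMp)
      (fun x y hx hy => helper20.memLocalIdeal_add hMp hx hy)
    · intro f hf k hk
      rw [Finset.mem_filter, Finset.mem_filter] at hf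
      apply helper20.memLocalIdeal_mul_right hMp _
        (helper81.memLocalRing_blockCoeff' hMp (helper80.mem_blocks.mp hf.1.1) a)
      exact helper80.memLocalIdeal_natCast hM (dvd_pow_self p hk.ne')
    · intro u f hf
      rw [Finset.mem_filter, Finset.mem_filter] at hf ⊢
      refine ⟨⟨helper80.mem_blocks.mpr
        (helper80.isPBlock_conjSet N (u : G) (hPK u.2) (helper80.mem_blocks.mp hf.1.1)), ?_⟩, ?_⟩
      · rintro ψ ⟨θ, hθ, rfl⟩
        have h1 := hUst (u : G) θ (hf.1.2 hθ)
        rw [cjIrr_eq_conjIrr] at h1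
        exact h1
      · intro hcon'
        apply hf.2
        have hcon'' : ∀ v : P, v • (u • f) = u • f := hcon'
        have h1 : f = u • f := by
          have := hcon'' u⁻¹
          rwa [inv_smul_smul] at this
        intro v
        show v • f = f
        rw [h1]
        exact hcon'' v
    · intro f hf
      rw [Finset.mem_filter] at hf
      have := hf.2
      push Not at this
      exact this
    · intro u f
      apply helper80.blockCoeff_conjSet N (u : G) (hPK u.2) f a a
      have := ha
      rw [Subgroup.mem_centralizer_iff] at this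
      have h2 := this (u : G) u.2
      calc (a : G) = (a : G) * (u : G) * (u : G)⁻¹ := by group
        _ = (u : G) * (a : G) * (u : G)⁻¹ := by rw [← h2]

/-- **A covered block stable under a defect group.**  If `P` is a defect group of the block `B`
of `G`, some block `c` of the normal subgroup `N` is covered by `B`, is stable under `P`, and has
`P ∩ N` as a defect group. -/
theorem exists_stable_cover_defect {p : ℕ} [Fact p.Prime] {M : Ideal AlgInt}
    (hM : IsPModular p M) {B : Set (IrrCharacter G)} (hB : IsPBlock M B)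
    {P : Subgroup G} (hP : IsDefectGroup p M B P) :
    ∃ c : Set (IrrCharacter N), IsPBlock M c ∧ (∀ x ∈ P, StabilizesBlock N c x) ∧
      (∃ χ ∈ B, ∃ θ ∈ c, classInner (fun n : N => (χ : G → ℂ) n) (θ : N → ℂ) ≠ 0) ∧
      IsDefectGroup p M c ((P ⊓ N).subgroupOf N) := by
  classical
  have hMp : M.IsPrime := helper20.isPrime_of_isPModular hM
  obtain ⟨χ, hχ⟩ := helper80.isPBlock_nonempty hMp hB
  obtain ⟨θ, hθ⟩ := exists_constituent_restrict_top N χ
  have hb := helper80.isPBlock_blockOf M θ
  have hθb := helper80.mem_blockOf_self hMp θ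
  have hcov : ∃ χ ∈ B, ∃ θ' ∈ blockOf M (θ : N → ℂ),
      classInner (fun n : N => (χ : G → ℂ) n) (θ' : N → ℂ) ≠ 0 := ⟨χ, hχ, θ, hθb, hθ⟩
  obtain ⟨a, hac, haU⟩ := exists_cent_blockCoeff_orbitUnion N hM hb hB hcov hP
  have hPp : IsPGroup p P := helper80.IsDefectGroup.isPGroup hP
  obtain ⟨c, hc, hcU, hcst, hca⟩ := exists_stable_block_blockCoeff N hM
    (orbitUnion N (blockOf M (θ : N → ℂ))) (orbitUnion_stable N _)
    (orbitUnion_union_blocks N hMp hb) P hPp a hac haU
  -- `B` covers `c`
  obtain ⟨θ', hθ'⟩ := helper80.isPBlock_nonempty hMp hc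
  obtain ⟨t, ht⟩ := hcU hθ'
  have hcov' : ∃ χ ∈ B, ∃ θ'' ∈ c,
      classInner (fun n : N => (χ : G → ℂ) n) (θ'' : N → ℂ) ≠ 0 := by
    refine ⟨χ, hχ, cjIrr N t⁻¹ θ, ?_, ?_⟩
    · have hs : SameBlock M (cjIrr N t θ' : N → ℂ) (θ : N → ℂ) :=
        helper80.sameBlock_of_mem hMp hb ht hθb
      have h2 := sameBlock_cjIrr N t⁻¹ hs
      rw [cjIrr_inv_cjIrr] at h2
      exact helper81.mem_of_sameBlock hMp hc hθ' h2
    · rw [cjIrr_coe, helper82.classInner_restrict_cconj N
        (helper4.isClassFunction_of_isIrrCharacter χ.2) t⁻¹]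
      exact hθ
  refine ⟨c, hc, ?_, hcov', ?_⟩
  · intro x hx
    rw [helper80.stabilizesBlock_iff_eq hMp N x (mem_normalizer_of_normal N x) hc]
    exact hcst x hx
  · obtain ⟨D₂, hD₂⟩ := helper80.exists_isDefectGroup p hMp hc
    have hQp : IsPGroup p ((P ⊓ N).subgroupOf N) := (hPp.to_le inf_le_left).comap_subtype
    have hac' : a ∈ Subgroup.centralizer (((P ⊓ N).subgroupOf N : Subgroup N) : Set N) := by
      rw [Subgroup.mem_centralizer_iff]
      intro q hq
      have hqP : (q : G) ∈ P := (Subgroup.mem_subgroupOf.mp hq).1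
      have h2 := (Subgroup.mem_centralizer_iff.mp hac) (q : G) hqP
      exact Subtype.ext h2
    obtain ⟨n, hn⟩ := helper80.IsDefectGroup.exists_conj_mem hM hc hD₂ _ hQp _ hac' hca
    obtain ⟨g, hg⟩ := exists_conj_le_of_cover N hM hc hD₂ hB hcov' hP
    have hcard : Nat.card D₂ ≤ Nat.card ((P ⊓ N).subgroupOf N) := by
      rw [Nat.card_congr (Subgroup.subgroupOfEquivOfLe (inf_le_right : P ⊓ N ≤ N)).toEquiv]
      apply Nat.card_le_card_of_injective
        (fun d : D₂ => (⟨g⁻¹ * ((d : N) : G) * g,
          ⟨hg _ ⟨(d : N), d.2, rfl⟩, by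
            have h1 := hN.conj_mem ((d : N) : G) (d : N).2 g⁻¹
            rwa [inv_inv] at h1⟩⟩ : (P ⊓ N : Subgroup G)))
      intro d₁ d₂ h
      have h2 : g⁻¹ * ((d₁ : N) : G) * g = g⁻¹ * ((d₂ : N) : G) * g :=
        congrArg (fun d : (P ⊓ N : Subgroup G) => (d : G)) h
      exact Subtype.ext (Subtype.ext (mul_left_cancel (mul_right_cancel h2)))
    have hle : (P ⊓ N).subgroupOf N ≤ D₂.map (MulAut.conj n).toMonoidHom := by
      intro q hq
      refine ⟨n⁻¹ * q * n, hn q hq, ?_⟩
      simp [MulAut.conj_apply, mul_assoc]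
    have heq : (P ⊓ N).subgroupOf N = D₂.map (MulAut.conj n).toMonoidHom := by
      apply Subgroup.eq_of_le_of_card_ge hle
      rw [Subgroup.card_map_of_injective (MulAut.conj n).injective]
      exact hcard
    rw [heq]
    exact helper80.IsDefectGroup.conj hD₂ n

end StableCover

end Cfsg.Agent.Lib.helper77
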