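/-
S5973 piece R2SB: `stp_neg_suff` -- `q` odd: an isometry `x` of `Σ xᵢyᵢ` with `x² = -1` fixes a
totally singular `m`-space (`m < d`) if `q ≡ 1 (mod 4)`, or if `m ≤ d - 2` and (`m` even or
`d` odd).
-/
import Mathlib
import Cfsg.Agent.Lib.helper24.SroDefs
import Cfsg.Agent.Lib.helper24.StsDefs
import Cfsg.Agent.Lib.helper24.SroReal
import Cfsg.Agent.Lib.helper49.PlusOmega
import Cfsg.Agent.Lib.helper49.SreNEGM
import Cfsg.Agent.Lib.helper77.StsINVC
import Cfsg.Agent.Lib.helper77.StpR2SA

set_option autoImplicit false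
set_option linter.unusedSectionVars false
set_option linter.unusedVariables false

namespace Cfsg.Agent.Lib.helper77.StpB

open Module Cfsg.Agent.Lib.helper45 Cfsg.Agent.Lib.helper49 Cfsg.Agent.Lib.helper24
  Cfsg.Agent.Lib.helper77.StsC Cfsg.Agent.Lib.helper77.StpA

universe u

/-- An orthogonal sum of two totally singular subspaces is totally singular. -/
theorem helper77_ts_sup {F : Type*} [Field F] {V : Type*} [AddCommGroup V] [Module F V]
    (Q : QuadraticForm F V) (A B : Submodule F V) (hA : ∀ a ∈ A, Q a = 0) (hB : ∀ b ∈ B, Q b = 0)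
    (horth : ∀ a ∈ A, ∀ b ∈ B, QuadraticMap.polar Q a b = 0) : ∀ w ∈ A ⊔ B, Q w = 0 := by
  intro w hw
  obtain ⟨u, hu, v, hv, rfl⟩ := Submodule.mem_sup.mp hw
  have h1 : Q (u + v) = Q u + Q v + QuadraticMap.polar Q u v := by
    unfold QuadraticMap.polar
    ring
  rw [h1, hA u hu, hB v hv, horth u hu v hv]
  ring

/-- The span of a singular vector is totally singular. -/
theorem helper77_ts_span {F : Type*} [Field F] {V : Type*} [AddCommGroup V] [Module F V]
    (Q : QuadraticForm F V) (v : V) (hv : Q v = 0) : ∀ w ∈ Submodule.span F {v}, Q w = 0 := by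
  intro w hw
  obtain ⟨c, rfl⟩ := Submodule.mem_span_singleton.mp hw
  rw [QuadraticMap.map_smul, hv, smul_zero]

/-- Eigenspaces of an isometry `T` with `T² = -1` for an eigenvalue `lam`, `lam² = -1`. -/
theorem helper77_neg_eigen {F : Type*} [Field F] {V : Type*} [AddCommGroup V] [Module F V]
    [FiniteDimensional F V] (h2 : (2 : F) ≠ 0) (Q : QuadraticForm F V) (T : Module.End F V)
    (hT : ∀ v, Q (T v) = Q v) (lam : F) (hlam : lam * lam = -1) (m : ℕ)
    (hm : m ≤ finrank F (LinearMap.ker (T - lam • (1 : Module.End F V)))) :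
    ∃ W : Submodule F V, finrank F W = m ∧ (∀ w ∈ W, Q w = 0) ∧ ∀ w ∈ W, T w ∈ W := by
  obtain ⟨W, hWE, hWd⟩ := helper77_exists_sub_finrank _ m hm
  have hev : ∀ w ∈ W, T w = lam • w := by
    intro w hw
    have h1 := hWE hw
    rw [LinearMap.mem_ker, LinearMap.sub_apply, LinearMap.smul_apply, Module.End.one_apply,
      sub_eq_zero] at h1
    exact h1
  refine ⟨W, hWd, ?_, ?_⟩
  · intro w hw
    have h1 := hT w
    rw [hev w hw, QuadraticMap.map_smul, hlam, smul_eq_mul] at h1
    have h3 : (2 : F) * Q w = 0 := by linear_combination -h1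
    exact (mul_eq_zero.mp h3).resolve_left h2
  · intro w hw
    rw [hev w hw]
    exact W.smul_mem _ hw

/-- `-1` a nonsquare: invariant totally singular subspaces of every even dimension `≤ d - 2`,
built from planes `⟨v, T v⟩`. -/
theorem helper77_neg_planes {F : Type u} [Field F] [Fintype F] {V : Type u} [AddCommGroup V]
    [Module F V] [FiniteDimensional F V] (h2 : (2 : F) ≠ 0) (Q : QuadraticForm F V)
    (hnd : ∀ v, (∀ w, QuadraticMap.polar Q v w = 0) → v = 0) (d : ℕ)
    (hdim : finrank F V = 2 * d) (T : Module.End F V) (hT : ∀ v, Q (T v) = Q v)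
    (hTT : ∀ v, T (T v) = -v) (hns : ∀ a : F, a * a ≠ -1) :
    ∀ k : ℕ, 2 * k + 2 ≤ d → ∃ W : Submodule F V, finrank F W = 2 * k ∧ (∀ w ∈ W, Q w = 0) ∧
      ∀ w ∈ W, T w ∈ W := by
  classical
  intro k
  induction k with
  | zero =>
    intro _
    refine ⟨⊥, by rw [finrank_bot], ?_, ?_⟩
    · intro w hw
      rw [(Submodule.mem_bot F).mp hw, QuadraticMap.map_zero]
    · intro w hw
      rw [(Submodule.mem_bot F).mp hw, map_zero]
      exact Submodule.zero_mem _
  | succ k ih =>
    intro hk
    obtain ⟨W, hWd, hWQ, hWT⟩ := ih (by omega)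
    obtain ⟨B, hB⟩ : ∃ B : LinearMap.BilinForm F V, B = QuadraticMap.polarBilin Q := ⟨_, rfl⟩
    have hBa : ∀ x y, B x y = QuadraticMap.polar Q x y := by
      intro x y
      rw [hB]
      rfl
    have hsymm : ∀ x y, B x y = B y x := by
      intro x y
      rw [hBa, hBa, QuadraticMap.polar_comm]
    have hBnd : B.Nondegenerate :=
      ⟨fun x hx => hnd x (fun w => by rw [← hBa]; exact hx w),
        fun y hy => hnd y (fun w => by rw [← hBa, hsymm]; exact hy w)⟩
    have hrefl : B.IsRefl := fun x y h => by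
      rw [hsymm]
      exact h
    obtain ⟨P, hP⟩ : ∃ P : Submodule F V, P = B.orthogonal W := ⟨_, rfl⟩
    have hmemP : ∀ v, v ∈ P ↔ ∀ u ∈ W, QuadraticMap.polar Q u v = 0 := by
      intro v
      rw [hP, LinearMap.BilinForm.mem_orthogonal_iff]
      constructor
      · intro h u hu
        rw [← hBa]
        exact h u hu
      · intro h u hu
        show B u v = 0
        rw [hBa]
        exact h u hu
    have hdimP : finrank F P = 2 * d - finrank F W := by
      rw [hP, LinearMap.BilinForm.finrank_orthogonal hBnd, hdim]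
    have hpolW : ∀ u ∈ W, ∀ u' ∈ W, QuadraticMap.polar Q u u' = 0 := by
      intro u hu u' hu'
      unfold QuadraticMap.polar
      rw [hWQ _ (add_mem hu hu'), hWQ u hu, hWQ u' hu']
      simp
    have hWP : W ≤ P := fun u hu => (hmemP u).mpr (fun u' hu' => hpolW u' hu' u hu)
    have hPperp : B.orthogonal P = W := by
      rw [hP]
      exact LinearMap.BilinForm.orthogonal_orthogonal hBnd hrefl W
    obtain ⟨M0, hM0⟩ := Submodule.exists_isCompl W
    obtain ⟨M, hMdef⟩ : ∃ M : Submodule F V, M = M0 ⊓ P := ⟨_, rfl⟩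
    have hMP : M ≤ P := by
      rw [hMdef]
      exact inf_le_right
    have hWM : W ⊓ M = ⊥ := by
      rw [hMdef, ← inf_assoc, hM0.inf_eq_bot, bot_inf_eq]
    have hWMP : W ⊔ M = P := by
      rw [hMdef, ← sup_inf_assoc_of_le M0 hWP, hM0.sup_eq_top, top_inf_eq]
    have hdimM : finrank F M = 2 * d - 4 * k := by
      have h := Submodule.finrank_sup_add_finrank_inf_eq W M
      rw [hWMP, hWM, finrank_bot, hdimP] at h
      omega
    have hMnd : SpNd (QuadraticMap.polarBilin Q) M := by
      intro μ hμ hμ2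
      have h1 : μ ∈ B.orthogonal P := by
        rw [LinearMap.BilinForm.mem_orthogonal_iff]
        intro p hp
        show B p μ = 0
        rw [← hWMP] at hp
        obtain ⟨u, hu, μ', hμ', rfl⟩ := Submodule.mem_sup.mp hp
        rw [map_add, LinearMap.add_apply, hBa, hBa, (hmemP μ).mp (hMP hμ) u hu,
          QuadraticMap.polar_comm, zero_add]
        exact hμ2 μ' hμ'
      rw [hPperp] at h1
      have h3 : μ ∈ W ⊓ M := ⟨h1, hμ⟩
      rw [hWM] at h3
      exact (Submodule.mem_bot F).mp h3
    obtain ⟨L, hLM, hLd, hLQ⟩ := sts_witt Q h2 M hMnd 1 (by omega)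
    have hLne : L ≠ ⊥ := by
      intro h
      rw [h, finrank_bot] at hLd
      omega
    obtain ⟨v, hvL, hv0⟩ := Submodule.exists_mem_ne_zero_of_ne_bot hLne
    have hvM : v ∈ M := hLM hvL
    have hvP : v ∈ P := hMP hvM
    have hQv : Q v = 0 := hLQ v hvL
    have hvW : v ∉ W := by
      intro h
      have h3 : v ∈ W ⊓ M := ⟨h, hvM⟩
      rw [hWM] at h3
      exact hv0 ((Submodule.mem_bot F).mp h3)
    have hTv0 : T v ≠ 0 := by
      intro h
      have h1 := hTT v
      rw [h, map_zero] at h1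
      exact hv0 (neg_eq_zero.mp h1.symm)
    have hQTv : Q (T v) = 0 := by rw [hT, hQv]
    have hpolTv : QuadraticMap.polar Q v (T v) = 0 := by
      have h1 := sr_iso_polar Q T hT v (T v)
      rw [hTT, QuadraticMap.polar_neg_right, QuadraticMap.polar_comm] at h1
      have h3 : (2 : F) * QuadraticMap.polar Q v (T v) = 0 := by linear_combination -h1
      exact (mul_eq_zero.mp h3).resolve_left h2
    have hTvP : ∀ u ∈ W, QuadraticMap.polar Q u (T v) = 0 := by
      intro u hu
      have h1 := sr_iso_polar Q T hT (-(T u)) v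
      rw [map_neg, hTT, neg_neg] at h1
      rw [h1]
      exact (hmemP v).mp hvP _ (W.neg_mem (hWT u hu))
    -- the key independence lemma
    have hKL : ∀ a b : F, a • v + b • T v ∈ W → a = 0 ∧ b = 0 := by
      intro a b hab
      have h1 : T (a • v + b • T v) ∈ W := hWT _ hab
      rw [map_add, map_smul, map_smul, hTT] at h1
      have h3 : (a * a + b * b) • v ∈ W := by
        have h4 : (a * a + b * b) • v = a • (a • v + b • T v) - b • (a • T v + b • -v) := by
          rw [smul_add, smul_add, smul_smul, smul_smul, smul_smul, smul_smul, add_smul, smul_neg]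
          rw [mul_comm b a]
          abel
        rw [h4]
        exact W.sub_mem (W.smul_mem _ hab) (W.smul_mem _ h1)
      have h5 : a * a + b * b = 0 := by
        by_contra hne
        apply hvW
        have h6 := W.smul_mem (a * a + b * b)⁻¹ h3
        rwa [smul_smul, inv_mul_cancel₀ hne, one_smul] at h6
      have hb : b = 0 := by
        by_contra hb
        apply hns (a / b)
        field_simp
        linear_combination h5
      rw [hb, mul_zero, add_zero] at h5
      exact ⟨mul_self_eq_zero.mp h5, hb⟩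
    -- the new subspace
    obtain ⟨W₁, hW₁⟩ : ∃ W₁ : Submodule F V, W₁ = W ⊔ Submodule.span F {v} := ⟨_, rfl⟩
    have hW₁Q : ∀ w ∈ W₁, Q w = 0 := by
      rw [hW₁]
      apply helper77_ts_sup Q W _ hWQ (helper77_ts_span Q v hQv)
      intro a ha b hb
      obtain ⟨c, rfl⟩ := Submodule.mem_span_singleton.mp hb
      rw [QuadraticMap.polar_smul_right, (hmemP v).mp hvP a ha, smul_zero]
    have hW₁d : finrank F W₁ = 2 * k + 1 := by
      have h1 := Submodule.finrank_sup_add_finrank_inf_eq W (Submodule.span F {v})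
      have h3 : W ⊓ Submodule.span F {v} = ⊥ := by
        rw [Submodule.eq_bot_iff]
        rintro x ⟨hxW, hxs⟩
        obtain ⟨c, rfl⟩ := Submodule.mem_span_singleton.mp hxs
        have h4 : c • v + (0 : F) • T v ∈ W := by
          rw [zero_smul, add_zero]
          exact hxW
        rw [(hKL c 0 h4).1, zero_smul]
      rw [h3, finrank_bot, finrank_span_singleton hv0, hWd, ← hW₁] at h1
      omega
    refine ⟨W₁ ⊔ Submodule.span F {T v}, ?_, ?_, ?_⟩
    · have h1 := Submodule.finrank_sup_add_finrank_inf_eq W₁ (Submodule.span F {T v})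
      have h3 : W₁ ⊓ Submodule.span F {T v} = ⊥ := by
        rw [Submodule.eq_bot_iff]
        rintro x ⟨hxW, hxs⟩
        obtain ⟨c, rfl⟩ := Submodule.mem_span_singleton.mp hxs
        rw [hW₁] at hxW
        obtain ⟨w, hw, y, hy, hwy⟩ := Submodule.mem_sup.mp hxW
        obtain ⟨a, rfl⟩ := Submodule.mem_span_singleton.mp hy
        have h4 : (-a) • v + c • T v ∈ W := by
          have h5 : (-a) • v + c • T v = w := by
            rw [← hwy, neg_smul]
            abel
          rw [h5]
          exact hw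
        rw [(hKL (-a) c h4).2, zero_smul]
      rw [h3, finrank_bot, finrank_span_singleton hTv0, hW₁d] at h1
      omega
    · apply helper77_ts_sup Q W₁ _ hW₁Q (helper77_ts_span Q (T v) hQTv)
      intro a ha b hb
      obtain ⟨c, rfl⟩ := Submodule.mem_span_singleton.mp hb
      rw [hW₁] at ha
      obtain ⟨w, hw, y, hy, rfl⟩ := Submodule.mem_sup.mp ha
      obtain ⟨a', rfl⟩ := Submodule.mem_span_singleton.mp hy
      rw [QuadraticMap.polar_smul_right, QuadraticMap.polar_add_left,
        QuadraticMap.polar_smul_left, hTvP w hw, hpolTv, smul_zero, add_zero, smul_zero]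
    · intro x hx
      obtain ⟨y, hy, z, hz, rfl⟩ := Submodule.mem_sup.mp hx
      obtain ⟨c, rfl⟩ := Submodule.mem_span_singleton.mp hz
      rw [hW₁] at hy
      obtain ⟨w, hw, y', hy', rfl⟩ := Submodule.mem_sup.mp hy
      obtain ⟨a, rfl⟩ := Submodule.mem_span_singleton.mp hy'
      rw [map_add, map_add, map_smul, map_smul, hTT]
      have hvmem : v ∈ W₁ := by
        rw [hW₁]
        exact Submodule.mem_sup_right (Submodule.mem_span_singleton_self v)
      have hTvmem : T v ∈ W₁ ⊔ Submodule.span F {T v} :=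
        Submodule.mem_sup_right (Submodule.mem_span_singleton_self (T v))
      have hWle : W ≤ W₁ := by
        rw [hW₁]
        exact le_sup_left
      refine Submodule.add_mem _ (Submodule.add_mem _ ?_ ?_) ?_
      · exact Submodule.mem_sup_left (hWle (hWT w hw))
      · exact Submodule.smul_mem _ _ hTvmem
      · exact Submodule.smul_mem _ _ (Submodule.neg_mem _ (Submodule.mem_sup_left hvmem))

/-- The core of R2SB for a general quadratic form of plus type. -/
theorem helper77_neg_suff_core {F : Type u} [Field F] [Fintype F] {V : Type u} [AddCommGroup V]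
    [Module F V] [FiniteDimensional F V] (h2 : (2 : F) ≠ 0) (Q : QuadraticForm F V)
    (hnd : ∀ v, (∀ w, QuadraticMap.polar Q v w = 0) → v = 0) (d : ℕ)
    (hdim : finrank F V = 2 * d) (htop : SrTy Q ⊤ 1) (T : Module.End F V)
    (hT : ∀ v, Q (T v) = Q v) (hTT : ∀ v, T (T v) = -v) (m : ℕ) (hmd : m < d)
    (hcond : Fintype.card F % 4 = 1 ∨ (m + 2 ≤ d ∧ (Even m ∨ Odd d))) :
    ∃ W : Submodule F V, finrank F W = m ∧ (∀ w ∈ W, Q w = 0) ∧ ∀ w ∈ W, T w ∈ W := by
  classical
  by_cases hsq : ∃ ι₀ : F, ι₀ * ι₀ = -1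
  · obtain ⟨ι₀, hι₀⟩ := hsq
    have hι0 : ι₀ ≠ 0 := by
      rintro rfl
      rw [mul_zero] at hι₀
      exact one_ne_zero (neg_eq_zero.mp hι₀.symm)
    have hsup : LinearMap.ker (T - ι₀ • (1 : Module.End F V)) ⊔
        LinearMap.ker (T - (-ι₀) • (1 : Module.End F V)) = ⊤ := by
      rw [eq_top_iff]
      intro v _
      have h1 : T v + ι₀ • v ∈ LinearMap.ker (T - ι₀ • (1 : Module.End F V)) := by
        rw [LinearMap.mem_ker, LinearMap.sub_apply, LinearMap.smul_apply, Module.End.one_apply,
          map_add, map_smul, hTT, smul_add, smul_smul, hι₀]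
        rw [neg_smul, one_smul]
        abel
      have e1 : (ι₀ * ι₀) • v = -v := by rw [hι₀, neg_smul, one_smul]
      have h3 : T v - ι₀ • v ∈ LinearMap.ker (T - (-ι₀) • (1 : Module.End F V)) := by
        rw [LinearMap.mem_ker, LinearMap.sub_apply, LinearMap.smul_apply, Module.End.one_apply,
          map_sub, map_smul, hTT]
        have e2 : -v - ι₀ • T v - (-ι₀) • (T v - ι₀ • v) = -v - (ι₀ * ι₀) • v := by module
        rw [e2, e1]
        abel
      have h4 : v = (2 * ι₀)⁻¹ • (T v + ι₀ • v) + (-(2 * ι₀)⁻¹) • (T v - ι₀ • v) := by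
        have h5 : (2 * ι₀)⁻¹ • (T v + ι₀ • v) + (-(2 * ι₀)⁻¹) • (T v - ι₀ • v) =
            ((2 * ι₀)⁻¹ * (2 * ι₀)) • v := by module
        rw [h5, inv_mul_cancel₀ (mul_ne_zero h2 hι0), one_smul]
      rw [h4]
      exact Submodule.add_mem_sup (Submodule.smul_mem _ _ h1) (Submodule.smul_mem _ _ h3)
    have hle := Submodule.finrank_add_le_finrank_add_finrank
      (LinearMap.ker (T - ι₀ • (1 : Module.End F V)))
      (LinearMap.ker (T - (-ι₀) • (1 : Module.End F V)))
    rw [hsup, finrank_top, hdim] at hle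
    by_cases hcase : m ≤ finrank F (LinearMap.ker (T - ι₀ • (1 : Module.End F V)))
    · exact helper77_neg_eigen h2 Q T hT ι₀ hι₀ m hcase
    · exact helper77_neg_eigen h2 Q T hT (-ι₀) (by rw [neg_mul_neg, hι₀]) m (by omega)
  · have hns : ∀ a : F, a * a ≠ -1 := fun a ha => hsq ⟨a, ha⟩
    have hcond' : m + 2 ≤ d ∧ (Even m ∨ Odd d) := by
      rcases hcond with h | h
      · exfalso
        have h1 : IsSquare (-1 : F) := FiniteField.isSquare_neg_one_iff.mpr (by omega)
        obtain ⟨r, hr⟩ := h1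
        exact hns r hr.symm
      · exact h
    have hT2 : T * T = -1 := by
      apply LinearMap.ext
      intro v
      rw [Module.End.mul_apply, hTT, LinearMap.neg_apply, Module.End.one_apply]
    have htopnd : SpNd (QuadraticMap.polarBilin Q) ⊤ := by
      intro u _ hu
      apply hnd u
      intro w
      have := hu w Submodule.mem_top
      rwa [QuadraticMap.polarBilin_apply_apply] at this
    have hty := (sre_neg_minus Q h2 T hT hT2 hns ⊤ htopnd (fun x _ => Submodule.mem_top) d
      (by rw [finrank_top, hdim])).1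
    have hdeven : ¬ Odd d := by
      intro hodd
      rw [hodd.neg_one_pow] at hty
      have h3 := Unif.unique htop hty
      rw [neg_one_mul] at h3
      exact sr_pow_ne (F := F) _ h3
    obtain ⟨k, hk⟩ : Even m := hcond'.2.resolve_right hdeven
    obtain ⟨W, hWd, hWQ, hWT⟩ := helper77_neg_planes h2 Q hnd d hdim T hT hTT hns k (by omega)
    exact ⟨W, by omega, hWQ, hWT⟩

end Cfsg.Agent.Lib.helper77.StpB

namespace Cfsg.Agent.Lib.helper24

open Module Cfsg.Agent.Lib.helper45 Cfsg.Agent.Lib.helper49 Cfsg.Agent.Lib.helper77.StsC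
  Cfsg.Agent.Lib.helper77.StpB

universe u

section stpplus

variable {F : Type u} [Field F] [Fintype F]

/-- `q` odd: an isometry `x` of `Σ xᵢyᵢ` with `x² = -1` fixes a totally singular `m`-space
(`m < d`) if `q ≡ 1 (mod 4)`, or if `m ≤ d - 2` and (`m` even or `d` odd). -/
theorem stp_neg_suff (hodd : Odd (Fintype.card F)) (d m : ℕ) (hd : 4 ≤ d) (hm : 1 ≤ m)
    (hmd : m < d) (hcond : Fintype.card F % 4 = 1 ∨ (m + 2 ≤ d ∧ (Even m ∨ Odd d)))
    (x : GL (Fin d ⊕ Fin d) F)
    (hiso : ∀ u : Fin d ⊕ Fin d → F, Cfsg.quadFormPlus d F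
      ((x : Matrix (Fin d ⊕ Fin d) (Fin d ⊕ Fin d) F).mulVec u) = Cfsg.quadFormPlus d F u)
    (hx2 : (x : Matrix (Fin d ⊕ Fin d) (Fin d ⊕ Fin d) F) *
      (x : Matrix (Fin d ⊕ Fin d) (Fin d ⊕ Fin d) F) = -1) :
    ∃ W : Submodule F (Fin d ⊕ Fin d → F), finrank F W = m ∧
      (∀ w ∈ W, Cfsg.quadFormPlus d F w = 0) ∧
      W.map (Matrix.toLin' (x : Matrix (Fin d ⊕ Fin d) (Fin d ⊕ Fin d) F)) ≤ W := by
  classical
  have h2 : (2 : F) ≠ 0 := helper77_two_ne_zero hodd
  have hQ : (QuadraticMap.polarBilin (plusForm d F)).Nondegenerate := nondegenerate_plusForm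
  have hnd : ∀ v, (∀ w, QuadraticMap.polar (plusForm d F) v w = 0) → v = 0 :=
    forall_of_nondegenerate _ hQ
  have hdimV : finrank F (Fin d ⊕ Fin d → F) = 2 * d := by
    rw [Module.finrank_fintype_fun_eq_card, Fintype.card_sum, Fintype.card_fin]
    omega
  have htop : SrTy (plusForm d F) ⊤ 1 := by
    unfold SrTy
    have h1 : finrank F (⊤ : Submodule F (Fin d ⊕ Fin d → F)) / 2 = d := by
      rw [finrank_top, hdimV]
      omega
    rw [h1, one_mul, sro_nu_top]
    exact unif_plus_std d
  obtain ⟨T, hTdef⟩ : ∃ T : Module.End F (Fin d ⊕ Fin d → F),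
      T = Matrix.toLin' (x : Matrix (Fin d ⊕ Fin d) (Fin d ⊕ Fin d) F) := ⟨_, rfl⟩
  have hT : ∀ v, plusForm d F (T v) = plusForm d F v := by
    intro v
    rw [hTdef, Matrix.toLin'_apply]
    exact hiso v
  have hTT : ∀ v, T (T v) = -v := by
    intro v
    rw [hTdef, Matrix.toLin'_apply, Matrix.toLin'_apply, Matrix.mulVec_mulVec, hx2,
      Matrix.neg_mulVec, Matrix.one_mulVec]
  obtain ⟨W, hWd, hWQ, hWT⟩ := helper77_neg_suff_core h2 (plusForm d F) hnd d hdimV htop T hT hTT
    m hmd hcond
  refine ⟨W, hWd, hWQ, ?_⟩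
  rintro _ ⟨w, hw, rfl⟩
  rw [← hTdef]
  exact hWT w hw

end stpplus

end Cfsg.Agent.Lib.helper24
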