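import Cfsg.Agent.Lib.helper68.W2PDefs
import Cfsg.Agent.Lib.helper36.W2P_PV

/-!
# S0720 piece A5, conditional form

`P2_of`: the identity `|R j| = |S j ∩ S' j| + mu_j ^ 2`, with the two counting facts
`|S' j| = |S j|` and `|R' j| = |R j|` (piece A1) as explicit hypotheses.
-/

set_option autoImplicit false

namespace Cfsg.Agent.Lib.helper77.W2P

open Finset Cfsg.Agent.Lib.helper68.W2P
open scoped Classical

variable {p : ℕ} [Fact p.Prime] {ι : Type*}

/-- Parseval for the indicator function of a set. -/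
theorem parseval_indicator {ζ : ℂ} (hζ : IsPrimitiveRoot ζ p) (T : Finset (ZMod p)) :
    ∑ k : ZMod p, Complex.normSq (∑ s ∈ T, (ζ ^ k.val) ^ s.val) = (p : ℝ) * (T.card : ℝ) := by
  have h := Cfsg.Agent.Lib.helper36.W2P.parseval hζ (fun s => if s ∈ T then (1 : ℂ) else 0)
  simp only [ite_mul, one_mul, zero_mul, Finset.sum_ite_mem, Finset.univ_inter] at h
  rw [h]
  congr 1
  have e : ∀ s : ZMod p, Complex.normSq (if s ∈ T then (1 : ℂ) else 0)
      = if s ∈ T then (1 : ℝ) else 0 := by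
    intro s
    split_ifs <;> simp
  rw [Finset.sum_congr rfl (fun s _ => e s), Finset.sum_ite_mem, Finset.univ_inter,
    Finset.sum_const, nsmul_eq_mul, mul_one]

/-- The real-number computation behind `P2`. -/
theorem P2_arith (P x r i A0 C0 SA SC : ℝ) (hP : P ≠ 0)
    (hA : SA = P * (x + r + (r + x)))
    (hC : SC = P * ((x - r) ^ 2 + x + x + 2 * i))
    (hA0 : A0 = x ^ 2 + r ^ 2 + (r ^ 2 + x ^ 2))
    (hC0 : C0 = (x + x - (x - r)) ^ 2)
    (hrel : SA - A0 = (P - 1) * (x - r) ^ 2 + (SC - C0)) :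
    r = i + (x - r) ^ 2 := by
  rw [hA, hC, hA0, hC0] at hrel
  have h : P * (2 * r - 2 * (i + (x - r) ^ 2)) = 0 := by linear_combination hrel
  rcases mul_eq_zero.1 h with h1 | h1
  · exact absurd h1 hP
  · linarith

/-- PIECE A5, with the two counting facts of A1 as hypotheses. -/
theorem P2_of (D : Scheme p ι) {ζ : ℂ} (hζ : IsPrimitiveRoot ζ p) (j : ι) (hj : j ≠ D.i0)
    (hcS' : (D.S' j).card = (D.S j).card) (hcR' : (D.R' j).card = (D.R j).card)
    (hstr : ∀ k : ZMod p, k ≠ 0 →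
      ∑ a, ∑ b, Complex.normSq (hat (D.B j) (ζ ^ k.val) a b) =
        ((D.mu j : ℤ) : ℝ) ^ 2 +
          Complex.normSq ((hat (D.B j) (ζ ^ k.val)).trace - ((D.mu j : ℤ) : ℂ))) :
    ((D.R j).card : ℤ) = ((D.S j ∩ D.S' j).card : ℤ) + D.mu j ^ 2 := by
  have hp : (p : ℝ) ≠ 0 := by exact_mod_cast (Fact.out : p.Prime).ne_zero
  have h0S : (0 : ZMod p) ∉ D.S j := by
    intro h
    rw [Scheme.S, Finset.mem_filter] at h
    exact hj (h.2.symm.trans ((D.diag _ _).2 rfl))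
  have h0S' : (0 : ZMod p) ∉ D.S' j := by
    intro h
    rw [Scheme.S', Finset.mem_filter] at h
    exact hj (h.2.symm.trans ((D.diag _ _).2 rfl))
  obtain ⟨F, hF⟩ : ∃ F : Finset (ZMod p) → ZMod p → ℂ,
      ∀ T k, F T k = ∑ s ∈ T, (ζ ^ k.val) ^ s.val := ⟨_, fun _ _ => rfl⟩
  have hF0 : ∀ T, F T 0 = (T.card : ℂ) := by
    intro T
    rw [hF]
    simp
  have hpars : ∀ T : Finset (ZMod p), ∑ k, Complex.normSq (F T k) = (p : ℝ) * (T.card : ℝ) := by
    intro T
    simp only [hF]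
    exact parseval_indicator hζ T
  -- the entries
  have hentry : ∀ k : ZMod p, ∑ a, ∑ b, Complex.normSq (hat (D.B j) (ζ ^ k.val) a b)
      = Complex.normSq (F (D.S j) k) + Complex.normSq (F (D.R j) k)
        + (Complex.normSq (F (D.R' j) k) + Complex.normSq (F (D.S' j) k)) := by
    intro k
    rw [Fin.sum_univ_two, Fin.sum_univ_two, Fin.sum_univ_two, hatB_00, hatB_01, hatB_10,
      hatB_11, hF, hF, hF, hF]
  -- the trace
  obtain ⟨φ, hφ⟩ : ∃ φ : ZMod p → ℂ, ∀ s, φ s = (if s ∈ D.S j then (1 : ℂ) else 0)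
      + (if s ∈ D.S' j then (1 : ℂ) else 0) - (if s = 0 then ((D.mu j : ℤ) : ℂ) else 0) :=
    ⟨_, fun _ => rfl⟩
  have htrace : ∀ k : ZMod p, (hat (D.B j) (ζ ^ k.val)).trace - ((D.mu j : ℤ) : ℂ)
      = ∑ s, φ s * (ζ ^ k.val) ^ s.val := by
    intro k
    rw [Matrix.trace_fin_two, hatB_00, hatB_11]
    simp only [hφ, sub_mul, add_mul, ite_mul, one_mul, zero_mul, Finset.sum_sub_distrib,
      Finset.sum_add_distrib, Finset.sum_ite_mem, Finset.univ_inter, Finset.sum_ite_eq',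
      Finset.mem_univ, if_true, ZMod.val_zero, pow_zero, mul_one]
  have hnφ : ∀ s, Complex.normSq (φ s) = (if s = 0 then ((D.mu j : ℤ) : ℝ) ^ 2 else 0)
      + (if s ∈ D.S j then (1 : ℝ) else 0) + (if s ∈ D.S' j then (1 : ℝ) else 0)
      + 2 * (if s ∈ D.S j ∩ D.S' j then (1 : ℝ) else 0) := by
    intro s
    rw [hφ]
    by_cases hs : s = 0
    · have h1 : s ∉ D.S j := by rw [hs]; exact h0S
      have h2 : s ∉ D.S' j := by rw [hs]; exact h0S'
      have h3 : s ∉ D.S j ∩ D.S' j := fun h => h1 (Finset.mem_inter.1 h).1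
      rw [if_neg h1, if_neg h2, if_pos hs, if_pos hs, if_neg h1, if_neg h2, if_neg h3]
      have e : (0 : ℂ) + 0 - ((D.mu j : ℤ) : ℂ) = ((-((D.mu j : ℤ) : ℝ) : ℝ) : ℂ) := by
        push_cast
        ring
      rw [e, Complex.normSq_ofReal]
      ring
    · rw [if_neg hs, if_neg hs]
      by_cases h1 : s ∈ D.S j <;> by_cases h2 : s ∈ D.S' j
      · rw [if_pos h1, if_pos h2, if_pos h1, if_pos h2, if_pos (Finset.mem_inter.2 ⟨h1, h2⟩)]
        have e : (1 : ℂ) + 1 - 0 = ((2 : ℝ) : ℂ) := by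
          push_cast
          ring
        rw [e, Complex.normSq_ofReal]
        ring
      · rw [if_pos h1, if_neg h2, if_pos h1, if_neg h2,
          if_neg (fun h => h2 (Finset.mem_inter.1 h).2)]
        simp
      · rw [if_neg h1, if_pos h2, if_neg h1, if_pos h2,
          if_neg (fun h => h1 (Finset.mem_inter.1 h).1)]
        simp
      · rw [if_neg h1, if_neg h2, if_neg h1, if_neg h2,
          if_neg (fun h => h1 (Finset.mem_inter.1 h).1)]
        simp
  have hsumφ : ∑ s, Complex.normSq (φ s) = ((D.mu j : ℤ) : ℝ) ^ 2 + ((D.S j).card : ℝ)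
      + ((D.S' j).card : ℝ) + 2 * ((D.S j ∩ D.S' j).card : ℝ) := by
    rw [Finset.sum_congr rfl (fun s _ => hnφ s)]
    simp only [Finset.sum_add_distrib, ← Finset.mul_sum, Finset.sum_ite_mem, Finset.univ_inter,
      Finset.sum_ite_eq', Finset.mem_univ, if_true, Finset.sum_const, nsmul_eq_mul, mul_one]
  -- the sums over `k`
  obtain ⟨A, hA⟩ : ∃ A : ZMod p → ℝ,
      ∀ k, A k = ∑ a, ∑ b, Complex.normSq (hat (D.B j) (ζ ^ k.val) a b) := ⟨_, fun _ => rfl⟩
  obtain ⟨C, hC⟩ : ∃ C : ZMod p → ℝ, ∀ k, C k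
      = Complex.normSq ((hat (D.B j) (ζ ^ k.val)).trace - ((D.mu j : ℤ) : ℂ)) :=
    ⟨_, fun _ => rfl⟩
  have hSA : ∑ k, A k = (p : ℝ) * (((D.S j).card : ℝ) + ((D.R j).card : ℝ)
      + (((D.R j).card : ℝ) + ((D.S j).card : ℝ))) := by
    simp only [hA, hentry, Finset.sum_add_distrib, hpars, hcS', hcR']
    ring
  have hSC : ∑ k, C k = (p : ℝ) * ((((D.S j).card : ℝ) - ((D.R j).card : ℝ)) ^ 2
      + ((D.S j).card : ℝ) + ((D.S j).card : ℝ) + 2 * ((D.S j ∩ D.S' j).card : ℝ)) := by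
    simp only [hC, htrace]
    rw [Cfsg.Agent.Lib.helper36.W2P.parseval hζ φ, hsumφ, hcS']
    simp [Scheme.mu]
  have hA0 : A 0 = ((D.S j).card : ℝ) ^ 2 + ((D.R j).card : ℝ) ^ 2
      + (((D.R j).card : ℝ) ^ 2 + ((D.S j).card : ℝ) ^ 2) := by
    rw [hA, hentry, hF0, hF0, hF0, hF0, hcS', hcR']
    simp only [Complex.normSq_natCast]
    ring
  have hC0 : C 0 = (((D.S j).card : ℝ) + ((D.S j).card : ℝ)
      - (((D.S j).card : ℝ) - ((D.R j).card : ℝ))) ^ 2 := by
    rw [hC, Matrix.trace_fin_two, hatB_00, hatB_11]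
    have e : ∑ s ∈ D.S j, (ζ ^ (0 : ZMod p).val) ^ s.val + ∑ s ∈ D.S' j, (ζ ^ (0 : ZMod p).val) ^ s.val
        - ((D.mu j : ℤ) : ℂ) = ((((D.S j).card : ℝ) + ((D.S j).card : ℝ)
          - (((D.S j).card : ℝ) - ((D.R j).card : ℝ)) : ℝ) : ℂ) := by
      simp [Scheme.mu, hcS']
    rw [e, Complex.normSq_ofReal]
    ring
  have hrel : ∑ k, A k - A 0 = ((p : ℝ) - 1) * (((D.S j).card : ℝ) - ((D.R j).card : ℝ)) ^ 2
      + (∑ k, C k - C 0) := by
    rw [← Finset.add_sum_erase Finset.univ A (Finset.mem_univ 0),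
      ← Finset.add_sum_erase Finset.univ C (Finset.mem_univ 0), add_sub_cancel_left,
      add_sub_cancel_left]
    have e : ∀ k ∈ Finset.univ.erase (0 : ZMod p),
        A k = (((D.S j).card : ℝ) - ((D.R j).card : ℝ)) ^ 2 + C k := by
      intro k hk
      rw [hA, hC, hstr k (Finset.ne_of_mem_erase hk)]
      simp [Scheme.mu]
    rw [Finset.sum_congr rfl e, Finset.sum_add_distrib, Finset.sum_const, Finset.card_erase_of_mem
      (Finset.mem_univ _), Finset.card_univ, ZMod.card, nsmul_eq_mul,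
      Nat.cast_sub (Fact.out : p.Prime).one_le]
    simp
  have hfin := P2_arith (p : ℝ) ((D.S j).card : ℝ) ((D.R j).card : ℝ)
    ((D.S j ∩ D.S' j).card : ℝ) (A 0) (C 0) (∑ k, A k) (∑ k, C k) hp hSA hSC hA0 hC0 hrel
  have hfin' : (((D.R j).card : ℤ) : ℝ)
      = ((((D.S j ∩ D.S' j).card : ℤ) + D.mu j ^ 2 : ℤ) : ℝ) := by
    push_cast [Scheme.mu]
    exact hfin
  exact_mod_cast hfin'
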