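import Mathlib
import Cfsg.Prelude.Def_Characters
import Cfsg.Agent.Lib.helper77.WinC

/-!
# The Schur bound for a `p`-subgroup acting on a normal `p'`-subgroup (helper77)

`sylow_bound_of_normal_pprime`: let `K` be a normal subgroup of `H` of order prime to `p` and of
`p`-power index, and let `H` have a faithful character of degree `n`.  Then for every
`p`-subgroup `S` of `H` the `p`-part of `|S : C_S(K)|` is at most `p ^ Σ_i ⌊n / ((p-1) p^i)⌋`.
-/

set_option autoImplicit false

namespace Cfsg.Agent.Lib.helper77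

open Cfsg
open Cfsg.Agent.Lib

universe u

theorem sylow_bound_of_normal_pprime {H : Type u} [Group H] [Finite H] (K : Subgroup H)
    [hK : K.Normal] (p : ℕ) (hp : p.Prime) (hKp : (Nat.card K).Coprime p) (b : ℕ)
    (hidx : K.index = p ^ b) (χ : H → ℂ) (hχ : IsCharacter H χ)
    (hfaith : ∀ h : H, χ h = χ 1 → h = 1) (n : ℕ) (hn : χ 1 = n)
    (S : Subgroup H) (hS : IsPGroup p S) :
    (Nat.card S).factorization p ≤
      (Nat.card (S ⊓ Subgroup.centralizer (K : Set H) : Subgroup H)).factorization p +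
        ∑ i ∈ Finset.range (n + 1), n / ((p - 1) * p ^ i) := by
  classical
  have : Fintype H := Fintype.ofFinite _
  have : Fintype K := Fintype.ofFinite _
  have : Fact p.Prime := ⟨hp⟩
  have hcopK : Nat.Coprime (p ^ b) (Nat.card K) := Nat.Coprime.pow_left b hKp.symm
  have hcop : Nat.Coprime K.index (Nat.card K) := by rw [hidx]; exact hcopK
  obtain ⟨A, hA⟩ : ∃ A : Finset (IrrCharacter K), A = Finset.univ.filter
      (fun θ : IrrCharacter K => classInner (fun k : K => χ k) (θ : K → ℂ) ≠ 0) := ⟨_, rfl⟩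
  obtain ⟨ψ, hψ, hpow, h01, hAψ, hconj⟩ := exists_pow_char_cover K hcop A
  have hχK : IsCharacter K (fun k : K => χ k) := helper4.isCharacter_restrict K hχ
  have hψK : IsCharacter K (fun k : K => ψ k) := helper4.isCharacter_restrict K hψ
  have hχcf : IsClassFunction H χ := helper4.isClassFunction_of_isCharacter hχ
  have hmemA : ∀ θ : IrrCharacter K,
      θ ∈ A ↔ classInner (fun k : K => χ k) (θ : K → ℂ) ≠ 0 := by
    intro θ; rw [hA]; simp
  have hsub : ∀ θ' : IrrCharacter K, classInner (fun k : K => ψ k) (θ' : K → ℂ) ≠ 0 →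
      classInner (fun k : K => χ k) (θ' : K → ℂ) ≠ 0 := by
    intro θ' h
    obtain ⟨θ, hθA, g, hg⟩ := hconj θ' h
    rw [hg, helper82.classInner_restrict_cconj K hχcf]
    exact (hmemA θ).mp hθA
  obtain ⟨d, ρ, hρ⟩ := hψ
  have hψ : IsCharacter H ψ := ⟨d, ρ, hρ⟩
  have hψ1 : ψ 1 = d := by rw [← hρ, Representation.char_one, Module.finrank_fin_fun]
  -- the degree of `ψ` is at most `n`
  have hdn : d ≤ n := by
    have hα : IsCharacter K ((fun k : K => χ k) - (fun k : K => ψ k)) := by
      apply helper4.isCharacter_of_nat_classInner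
      · exact helper4.isClassFunction_sub (helper4.isClassFunction_restrict K hχcf)
          (helper4.isClassFunction_restrict K (helper4.isClassFunction_of_isCharacter hψ))
      · intro θ'
        rw [helper4.classInner_sub_left]
        obtain ⟨a, ha⟩ := helper4.exists_nat_classInner_irr hχK θ'.2
        rcases h01 θ' with h0 | h1
        · exact ⟨a, by rw [ha, h0, sub_zero]⟩
        · have hne : classInner (fun k : K => χ k) (θ' : K → ℂ) ≠ 0 :=
            hsub θ' (by rw [h1]; exact one_ne_zero)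
          rw [ha] at hne
          have ha0 : a ≠ 0 := by rintro rfl; exact hne (by simp)
          refine ⟨a - 1, ?_⟩
          rw [ha, h1, Nat.cast_sub (Nat.one_le_iff_ne_zero.mpr ha0)]
          simp
    obtain ⟨n', hn'⟩ := helper4.exists_nat_degree hα
    have h1 : (n : ℂ) - d = n' := by
      have : ((fun k : K => χ k) - (fun k : K => ψ k)) 1 = χ 1 - ψ 1 := by simp
      rw [this, hn, hψ1] at hn'
      exact hn'
    have h2 : (n : ℂ) = ((d + n' : ℕ) : ℂ) := by push_cast; linear_combination h1
    have h3 : n = d + n' := by exact_mod_cast h2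
    omega
  -- the kernel of `ψ` centralizes `K`
  have hker : ∀ u : H, ψ u = d → u ∈ Subgroup.centralizer (K : Set H) := by
    intro u hu
    have hρu : ρ u = 1 :=
      helper82.rep_eq_one_of_char_eq ρ u (by rw [hρ, hu, Module.finrank_fin_fun])
    have hρu' : ρ u⁻¹ = 1 := by
      have := map_mul ρ u⁻¹ u
      rw [inv_mul_cancel, map_one, hρu, mul_one] at this
      exact this.symm
    rw [Subgroup.mem_centralizer_iff]
    intro k hk
    have hcK : u * k * u⁻¹ * k⁻¹ ∈ K := K.mul_mem (hK.conj_mem k hk u) (K.inv_mem hk)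
    have hρc : ρ (u * k * u⁻¹ * k⁻¹) = 1 := by
      rw [map_mul, map_mul, map_mul, hρu, hρu', one_mul, mul_one, ← map_mul, mul_inv_cancel,
        map_one]
    have hψc : ψ (u * k * u⁻¹ * k⁻¹) = ψ 1 := by
      rw [← hρ]
      show LinearMap.trace ℂ _ (ρ _) = LinearMap.trace ℂ _ (ρ 1)
      rw [hρc, map_one ρ]
    have h1 := (char_eq_degree_iff_constituents hψK ⟨_, hcK⟩).mp
      (by show ψ _ = ψ ((1 : K) : H); simpa using hψc)
    have h2 : χ (u * k * u⁻¹ * k⁻¹) = χ 1 := by
      have := (char_eq_degree_iff_constituents hχK ⟨_, hcK⟩).mpr (fun θ hθ => h1 θ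
        (by rw [hAψ θ ((hmemA θ).mpr hθ)]; exact one_ne_zero))
      simpa using this
    have h3 := hfaith _ h2
    have h4 : u * k = k * u := by
      have := congrArg (fun x => x * k * u) h3
      simpa [mul_assoc] using this
    exact h4.symm
  -- values of `ψ` on `S`
  have hcardH : Nat.card H = Nat.card K * p ^ b := by
    rw [← hidx]; exact (Subgroup.card_mul_index K).symm
  have hval : ∀ u ∈ S, ∃ z : ℤ, ψ u = z ∧ z ≤ d ∧ -((d / (p - 1) : ℕ) : ℤ) ≤ z := by
    intro u hu
    obtain ⟨e, he⟩ := (IsPGroup.iff_orderOf.mp hS) ⟨u, hu⟩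
    rw [← Subgroup.orderOf_coe] at he
    cases e with
    | zero =>
      have hu1 : u = 1 := by
        rw [pow_zero] at he
        exact orderOf_eq_one_iff.mp he
      refine ⟨d, by rw [hu1, hψ1]; simp, le_refl _, ?_⟩
      have h1 : (0 : ℤ) ≤ ((d / (p - 1) : ℕ) : ℤ) := by positivity
      have h2 : (0 : ℤ) ≤ (d : ℤ) := by positivity
      omega
    | succ e =>
      have hinv : ∀ k : ℕ, ¬ p ∣ k → ρ.character (u ^ k) = ρ.character u := by
        intro k hk
        obtain ⟨m, hm1, hm2⟩ := Nat.chineseRemainder hcopK k 1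
        have hmK : Nat.Coprime m (Nat.card K) := by
          have := hm2.gcd_eq
          rw [Nat.gcd_one_left] at this
          exact this
        have hmp : Nat.Coprime m (p ^ b) := by
          have h3 := hm1.gcd_eq
          have h4 : Nat.Coprime k (p ^ b) :=
            Nat.Coprime.pow_right b ((Nat.Prime.coprime_iff_not_dvd hp).mpr hk).symm
          rw [Nat.Coprime, h3]
          exact h4
        have hmH : m.Coprime (Nat.card H) := by
          rw [hcardH]; exact Nat.Coprime.mul_right hmK hmp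
        have hord : orderOf u ∣ p ^ b := by
          have h5 : orderOf u ∣ Nat.card K * p ^ b := hcardH ▸ orderOf_dvd_natCard u
          have h6 : Nat.Coprime (orderOf u) (Nat.card K) := by
            rw [he]; exact Nat.Coprime.pow_left _ hKp.symm
          exact h6.dvd_of_dvd_mul_left h5
        have hpw : u ^ m = u ^ k := pow_eq_pow_iff_modEq.mpr (hm1.of_dvd hord)
        rw [hρ, ← hpw]
        exact hpow m hmH hm2 u
      obtain ⟨z, hz, hzd, hzK⟩ := helper78.exists_int_char_of_pow_invariant ρ p hp u e he hinv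
      exact ⟨z, by rw [← hρ]; exact hz, hzd, hzK⟩
  have hdvd := card_dvd_count_mul_factorial ψ hψ S d (d / (p - 1)) hval
  have hcount : Nat.card {u : S // ψ (u : H) = d} ≤
      Nat.card (S ⊓ Subgroup.centralizer (K : Set H) : Subgroup H) := by
    apply Nat.card_le_card_of_injective (fun u =>
      (⟨(u.1 : H), ⟨u.1.2, hker _ u.2⟩⟩ : (S ⊓ Subgroup.centralizer (K : Set H) : Subgroup H)))
    intro u v huv
    apply Subtype.ext
    apply Subtype.ext
    exact congrArg (fun x : (S ⊓ Subgroup.centralizer (K : Set H) : Subgroup H) => (x : H)) huv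
  obtain ⟨s, hs⟩ := hS.exists_card_eq
  have hS0 : IsPGroup p (S ⊓ Subgroup.centralizer (K : Set H) : Subgroup H) :=
    hS.to_le inf_le_left
  obtain ⟨s0, hs0⟩ := hS0.exists_card_eq
  obtain ⟨c, hc⟩ : ∃ c : ℕ, c = Nat.card {u : S // ψ (u : H) = d} := ⟨_, rfl⟩
  rw [← hc] at hdvd hcount
  have hc0 : c ≠ 0 := by
    rw [hc]
    have : Nonempty {u : S // ψ (u : H) = d} := ⟨⟨1, by simpa using hψ1⟩⟩
    exact Nat.card_pos.ne'
  rw [hs] at hdvd
  rw [hs0] at hcount
  have h1 : s ≤ (c * (d + d / (p - 1)).factorial).factorization p :=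
    (hp.pow_dvd_iff_le_factorization (mul_ne_zero hc0 (Nat.factorial_ne_zero _))).mp hdvd
  rw [Nat.factorization_mul hc0 (Nat.factorial_ne_zero _), Finsupp.add_apply,
    helper78.factorization_factorial_schur p hp d] at h1
  have h2 : c.factorization p ≤ s0 := by
    have h3 : p ^ c.factorization p ≤ p ^ s0 :=
      (Nat.le_of_dvd (Nat.pos_of_ne_zero hc0) (Nat.ordProj_dvd c p)).trans hcount
    exact (Nat.pow_le_pow_iff_right hp.one_lt).mp h3
  have h3 : ∑ i ∈ Finset.range (d + 1), d / ((p - 1) * p ^ i) ≤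
      ∑ i ∈ Finset.range (n + 1), n / ((p - 1) * p ^ i) :=
    calc ∑ i ∈ Finset.range (d + 1), d / ((p - 1) * p ^ i)
        ≤ ∑ i ∈ Finset.range (d + 1), n / ((p - 1) * p ^ i) :=
          Finset.sum_le_sum (fun i _ => Nat.div_le_div_right hdn)
      _ ≤ ∑ i ∈ Finset.range (n + 1), n / ((p - 1) * p ^ i) :=
          Finset.sum_le_sum_of_subset (Finset.range_subset_range.mpr (by omega))
  rw [hs, hs0, Nat.Prime.factorization_pow hp, Nat.Prime.factorization_pow hp,
    Finsupp.single_eq_same, Finsupp.single_eq_same]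
  omega

end Cfsg.Agent.Lib.helper77
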