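import Mathlib
import Cfsg.Prelude.Def_Solvable
import Cfsg.Prelude.Def_Local
import Cfsg.Agent.Lib.helper66.DualHH
import Cfsg.Agent.Lib.helper38.HallHigman2
import Cfsg.Agent.Lib.helper1.SZ
import Cfsg.Agent.Lib.helper77.Fong
import Cfsg.Agent.Lib.helper70.OC4B

/-!
# A `p'`-subgroup acted on by a `p`-subgroup in a `p`-solvable group (helper77)

`exists_pprime_pgroup_pair`: in a finite `p`-solvable group `G` there are a `p'`-subgroup `K` and
a `p`-subgroup `S` normalizing `K` such that the `p`-part of `|G : O_p(G)|` is at most the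
`p`-part of `|S : C_S(K)|`.  (`K` is a complement of `O_p(G)` in `O_{p,p'}(G)` and `S` a Sylow
`p`-subgroup of `N_G(K)`; Hall–Higman's lemma gives `C_S(K) ≤ O_p(G)`.)
-/

set_option autoImplicit false

namespace Cfsg.Agent.Lib.helper77

open Cfsg
open Cfsg.Agent.Lib
open scoped Pointwise

universe u

theorem exists_pprime_pgroup_pair {G : Type u} [Group G] [Finite G] (p : ℕ) [hp : Fact p.Prime]
    (hsolv : IsPSolvable p G) :
    ∃ K S : Subgroup G, (Nat.card K).Coprime p ∧ IsPGroup p S ∧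
      S ≤ Subgroup.normalizer (K : Set G) ∧
      ((pCore p G).index).factorization p +
          (Nat.card (S ⊓ Subgroup.centralizer (K : Set G) : Subgroup G)).factorization p ≤
        (Nat.card S).factorization p := by
  classical
  obtain ⟨P0, hP0⟩ : ∃ P0 : Subgroup G, P0 = pCore p G := ⟨_, rfl⟩
  have hP0n : P0.Normal := hP0 ▸ inferInstance
  have hP0p : IsPGroup p P0 := hP0 ▸ helper27.pCore_isPGroup p
  have hQsolv : IsPSolvable p (G ⧸ P0) := helper38.isPSolvable_quotient P0 hsolv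
  have hQcore : pCore p (G ⧸ P0) = ⊥ := by
    subst hP0
    exact helper66.pCore_quotient_pCore p
  have hHH := helper66.centralizer_pPrimeCore_le_of_isPSolvable hQsolv hQcore
  obtain ⟨Kb, hKb⟩ : ∃ Kb : Subgroup (G ⧸ P0), Kb = pPrimeCore p (G ⧸ P0) := ⟨_, rfl⟩
  rw [← hKb] at hHH
  have hKbcop : (Nat.card Kb).Coprime p := hKb ▸ helper27.pPrimeCore_coprime p
  have hKbn : Kb.Normal := hKb ▸ inferInstance
  obtain ⟨L, hL⟩ : ∃ L : Subgroup G, L = Kb.comap (QuotientGroup.mk' P0) := ⟨_, rfl⟩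
  have hLn : L.Normal := hL ▸ inferInstance
  have hP0L : P0 ≤ L := by
    intro x hx
    rw [hL, Subgroup.mem_comap]
    have : (QuotientGroup.mk' P0) x = 1 := (QuotientGroup.eq_one_iff x).mpr hx
    rw [this]; exact Kb.one_mem
  have hLmap : L.map (QuotientGroup.mk' P0) = Kb := by
    rw [hL]
    exact Subgroup.map_comap_eq_self_of_surjective (QuotientGroup.mk'_surjective P0) Kb
  -- a complement of `P0` in `L`
  have hrel : P0.relIndex L = Nat.card Kb := by
    have := Subgroup.relIndex_ker L (QuotientGroup.mk' P0)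
    rw [QuotientGroup.ker_mk', hLmap] at this
    exact this
  obtain ⟨a, ha⟩ := hP0p.exists_card_eq
  have hcardN : Nat.card (P0.subgroupOf L) = Nat.card P0 :=
    Nat.card_congr (Subgroup.subgroupOfEquivOfLe hP0L).toEquiv
  have hcopN : (Nat.card (P0.subgroupOf L)).Coprime (P0.subgroupOf L).index := by
    rw [hcardN, ha]
    show (p ^ a).Coprime (P0.relIndex L)
    rw [hrel]
    exact Nat.Coprime.pow_left a hKbcop.symm
  obtain ⟨K0, hK0⟩ := Subgroup.exists_right_complement'_of_coprime hcopN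
  obtain ⟨K, hK⟩ : ∃ K : Subgroup G, K = K0.map L.subtype := ⟨_, rfl⟩
  have hKL : K ≤ L := by
    rw [hK]; intro x hx
    obtain ⟨y, -, rfl⟩ := Subgroup.mem_map.mp hx
    exact y.2
  have hcardK : Nat.card K = Nat.card Kb := by
    rw [hK, Subgroup.card_map_of_injective L.subtype_injective, ← hrel]
    exact (hK0.symm.index_eq_card).symm
  have hKcop : (Nat.card K).Coprime p := hcardK ▸ hKbcop
  have hdisj : P0 ⊓ K = ⊥ := by
    rw [eq_bot_iff]
    intro x hx
    obtain ⟨hx1, hx2⟩ := Subgroup.mem_inf.mp hx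
    rw [hK] at hx2
    obtain ⟨y, hy, rfl⟩ := Subgroup.mem_map.mp hx2
    have hyN : y ∈ P0.subgroupOf L := Subgroup.mem_subgroupOf.mpr hx1
    have : y ∈ (P0.subgroupOf L) ⊓ K0 := Subgroup.mem_inf.mpr ⟨hyN, hy⟩
    rw [hK0.disjoint.eq_bot] at this
    rw [Subgroup.mem_bot] at this ⊢
    rw [this]; rfl
  have hsup : P0 ⊔ K = L := by
    have h1 := congrArg (Subgroup.map L.subtype) hK0.sup_eq_top
    rw [Subgroup.map_sup, Subgroup.subgroupOf_map_subtype, ← hK, inf_eq_left.mpr hP0L] at h1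
    rw [h1, ← MonoidHom.range_eq_map, Subgroup.range_subtype]
  have hmapK : K.map (QuotientGroup.mk' P0) = Kb := by
    rw [← hLmap, ← hsup, Subgroup.map_sup]
    have : P0.map (QuotientGroup.mk' P0) = ⊥ := by
      rw [eq_bot_iff]
      rintro _ ⟨x, hx, rfl⟩
      exact (QuotientGroup.eq_one_iff x).mpr hx
    rw [this, bot_sup_eq]
  have hcopPK : (Nat.card P0).Coprime (Nat.card K) := by
    rw [ha]; exact Nat.Coprime.pow_left a hKcop.symm
  have hsolvP0 : Group.IsSolvable P0 := by
    have : Group.IsNilpotent P0 := hP0p.isNilpotent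
    infer_instance
  -- the Frattini argument
  have hfrat : ∀ g : G, ∃ n ∈ P0, n⁻¹ * g ∈ Subgroup.normalizer (K : Set G) := by
    intro g
    have hnormL : MulAut.conj g • L = L :=
      helper1.conj_smul_eq_of_mem_normalizer (by rw [Subgroup.normalizer_eq_top]; trivial)
    have hnormP : MulAut.conj g • P0 = P0 :=
      helper1.conj_smul_eq_of_mem_normalizer (by rw [Subgroup.normalizer_eq_top]; trivial)
    have hdK : P0 ⊓ MulAut.conj g • K = ⊥ := by
      rw [eq_bot_iff]
      intro x hx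
      obtain ⟨hx1, hx2⟩ := Subgroup.mem_inf.mp hx
      have h1 : g⁻¹ * x * g ∈ K := helper1.mem_conj_smul.mp hx2
      have h2 : g⁻¹ * x * g ∈ P0 := by
        have := hP0n.conj_mem x hx1 g⁻¹
        simpa using this
      have h3 : g⁻¹ * x * g ∈ P0 ⊓ K := Subgroup.mem_inf.mpr ⟨h2, h1⟩
      rw [hdisj, Subgroup.mem_bot] at h3
      rw [Subgroup.mem_bot]
      have h4 : x = g * (g⁻¹ * x * g) * g⁻¹ := by group
      rw [h4, h3]; group
    have hsupK : P0 ⊔ K = P0 ⊔ MulAut.conj g • K := by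
      rw [hsup]
      conv_lhs => rw [← hnormL, ← hsup, Subgroup.smul_sup, hnormP]
    have hKN : K ≤ Subgroup.normalizer (P0 : Set G) := by
      rw [Subgroup.normalizer_eq_top]; exact le_top
    obtain ⟨n, hn, hconj⟩ := helper1.sz_conj_internal P0 K (MulAut.conj g • K) hKN hdisj hdK hsupK
      hcopPK (Or.inl hsolvP0)
    refine ⟨n, hn, helper1.mem_normalizer_of_conj_smul_eq ?_⟩
    rw [← helper1.conj_smul_conj_smul, ← hconj, helper1.conj_smul_conj_smul, inv_mul_cancel]
    simp
  obtain ⟨NK, hNK⟩ : ∃ NK : Subgroup G, NK = Subgroup.normalizer (K : Set G) := ⟨_, rfl⟩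
  have htop : NK ⊔ P0 = ⊤ := by
    rw [eq_top_iff]
    intro g _
    obtain ⟨n, hn, hg⟩ := hfrat g
    have : g = n * (n⁻¹ * g) := by group
    rw [this]
    exact Subgroup.mul_mem _ (Subgroup.mem_sup_right hn) (Subgroup.mem_sup_left (hNK ▸ hg))
  -- a Sylow `p`-subgroup of the normalizer
  obtain ⟨S0⟩ : Nonempty (Sylow p NK) := inferInstance
  obtain ⟨S, hS⟩ : ∃ S : Subgroup G, S = (S0 : Subgroup NK).map NK.subtype := ⟨_, rfl⟩
  have hSp : IsPGroup p S := hS ▸ S0.isPGroup'.map NK.subtype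
  have hSNK : S ≤ NK := by
    rw [hS]; intro x hx
    obtain ⟨y, -, rfl⟩ := Subgroup.mem_map.mp hx
    exact y.2
  have hcardS : Nat.card S = p ^ (Nat.card NK).factorization p := by
    rw [hS, Subgroup.card_map_of_injective NK.subtype_injective, S0.card_eq_multiplicity]
  -- `C_S(K) ≤ P0 ⊓ NK`
  have hcent : S ⊓ Subgroup.centralizer (K : Set G) ≤ P0 ⊓ NK := by
    intro s hs
    obtain ⟨hs1, hs2⟩ := Subgroup.mem_inf.mp hs
    refine Subgroup.mem_inf.mpr ⟨?_, hSNK hs1⟩
    have hbar : (QuotientGroup.mk' P0) s ∈ Subgroup.centralizer (Kb : Set (G ⧸ P0)) := by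
      rw [Subgroup.mem_centralizer_iff]
      intro y hy
      have hy' : y ∈ K.map (QuotientGroup.mk' P0) := by rw [hmapK]; exact hy
      obtain ⟨k, hk, rfl⟩ := Subgroup.mem_map.mp hy'
      rw [← map_mul, ← map_mul, (Subgroup.mem_centralizer_iff.mp hs2) k hk]
    have hbarK : (QuotientGroup.mk' P0) s ∈ Kb := hHH hbar
    obtain ⟨e, he⟩ := (IsPGroup.iff_orderOf.mp hSp) ⟨s, hs1⟩
    have hpow1 : ((QuotientGroup.mk' P0) s) ^ (p ^ e) = 1 := by
      rw [← map_pow]
      have : s ^ (p ^ e) = 1 := by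
        have h1 := pow_orderOf_eq_one (⟨s, hs1⟩ : S)
        rw [he] at h1
        exact congrArg Subtype.val h1
      rw [this, map_one]
    have hpow2 : ((QuotientGroup.mk' P0) s) ^ (Nat.card Kb) = 1 := by
      have h1 := pow_card_eq_one' (G := Kb) (x := ⟨_, hbarK⟩)
      exact congrArg Subtype.val h1
    have h1 : (QuotientGroup.mk' P0) s = 1 :=
      helper70.eq_one_of_pow_coprime hpow1 hpow2 (Nat.Coprime.pow_left e hKbcop.symm)
    exact (QuotientGroup.eq_one_iff s).mp h1
  -- counting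
  have hcount : P0.index * Nat.card (P0 ⊓ NK : Subgroup G) = Nat.card NK := by
    have h1 := helper77.card_sup_mul_card_inf NK P0
    rw [htop, Subgroup.card_top] at h1
    have h2 : Nat.card G = Nat.card P0 * P0.index := (Subgroup.card_mul_index P0).symm
    rw [h2] at h1
    have h3 : Nat.card P0 ≠ 0 := Nat.card_pos.ne'
    have h4 : Nat.card P0 * (P0.index * Nat.card (P0 ⊓ NK : Subgroup G)) =
        Nat.card P0 * Nat.card NK := by rw [← h1]; ring
    exact Nat.eq_of_mul_eq_mul_left (Nat.pos_of_ne_zero h3) h4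
  have hidx0 : P0.index ≠ 0 := Subgroup.index_ne_zero_of_finite
  have hinf0 : Nat.card (P0 ⊓ NK : Subgroup G) ≠ 0 := Nat.card_pos.ne'
  have hfac : (P0.index).factorization p + (Nat.card (P0 ⊓ NK : Subgroup G)).factorization p =
      (Nat.card NK).factorization p := by
    rw [← hcount, Nat.factorization_mul hidx0 hinf0, Finsupp.add_apply]
  have hle : (Nat.card (S ⊓ Subgroup.centralizer (K : Set G) : Subgroup G)).factorization p ≤
      (Nat.card (P0 ⊓ NK : Subgroup G)).factorization p :=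
    (Nat.factorization_le_iff_dvd Nat.card_pos.ne' hinf0).mpr (Subgroup.card_dvd_of_le hcent) p
  refine ⟨K, S, hKcop, hSp, hNK ▸ hSNK, ?_⟩
  rw [← hP0, hcardS, Nat.Prime.factorization_pow hp.out, Finsupp.single_eq_same]
  omega

end Cfsg.Agent.Lib.helper77
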