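import Mathlib
import Cfsg.Prelude.Def_Characters
import Cfsg.Prelude.Def_Blocks
import Cfsg.Prelude.Def_Solvable
import Cfsg.Prelude.Def_Local
import Cfsg.Agent.Lib.helper77.WinD
import Cfsg.Agent.Lib.helper77.WinE

/-!
# Winter's bound for `p`-solvable linear groups (helper77)

`winter_bound`: a finite `p`-solvable group with a faithful character of degree `n` satisfies
`ν_p(|G : O_p(G)|) ≤ Σ_i ⌊n / ((p - 1) p ^ i)⌋`.
-/

set_option autoImplicit false

namespace Cfsg.Agent.Lib.helper77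

open Cfsg
open Cfsg.Agent.Lib

universe u

theorem winter_bound {G : Type u} [Group G] [Finite G] (χ : G → ℂ) (hχ : IsCharacter G χ)
    (hfaith : ∀ g : G, χ g = χ 1 → g = 1) (n : ℕ) (hn : charDegree χ = n) (p : ℕ)
    (hp : p.Prime) (hsolv : IsPSolvable p G) :
    ((pCore p G).index).factorization p ≤
      ∑ i ∈ Finset.range (n + 1), n / ((p - 1) * p ^ i) := by
  classical
  have : Fact p.Prime := ⟨hp⟩
  obtain ⟨K, S, hKcop, hSp, hSK, hmain⟩ := exists_pprime_pgroup_pair p hsolv
  obtain ⟨H, hH⟩ : ∃ H : Subgroup G, H = K ⊔ S := ⟨_, rfl⟩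
  have hKH : K ≤ H := hH ▸ le_sup_left
  have hSH : S ≤ H := hH ▸ le_sup_right
  have hHnorm : H ≤ Subgroup.normalizer (K : Set G) := by
    rw [hH]; exact sup_le Subgroup.le_normalizer hSK
  have hKn : (K.subgroupOf H).Normal :=
    (Subgroup.normal_subgroupOf_iff_le_normalizer hKH).mpr hHnorm
  obtain ⟨d, hd⟩ := helper4.exists_nat_degree hχ
  have hdn : d = n := by rw [← hn, charDegree, hd]; simp
  rw [hdn] at hd
  have hχH : IsCharacter H (fun h : H => χ h) := helper4.isCharacter_restrict H hχ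
  have hfaithH : ∀ h : H, (fun h : H => χ h) h = (fun h : H => χ h) 1 → h = 1 := by
    intro h hh
    apply Subtype.ext
    exact hfaith h (by simpa using hh)
  have hcardK : Nat.card (K.subgroupOf H) = Nat.card K :=
    Nat.card_congr (Subgroup.subgroupOfEquivOfLe hKH).toEquiv
  have hcardS : Nat.card (S.subgroupOf H) = Nat.card S :=
    Nat.card_congr (Subgroup.subgroupOfEquivOfLe hSH).toEquiv
  have hidx : ∃ b, (K.subgroupOf H).index = p ^ b := by
    obtain ⟨f, hf⟩ : ∃ f : S →* H ⧸ K.subgroupOf H,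
        f = (QuotientGroup.mk' (K.subgroupOf H)).comp (Subgroup.inclusion hSH) := ⟨_, rfl⟩
    have hsurj : Function.Surjective f := by
      intro y
      obtain ⟨h, rfl⟩ := QuotientGroup.mk'_surjective _ y
      have hmem : (h : G) ∈ K ⊔ S := hH ▸ h.2
      obtain ⟨k, hk, s, hs, hks⟩ := helper1.mem_sup_normal_left hSK hmem
      refine ⟨⟨s, hs⟩, ?_⟩
      have h1 : h = (⟨k, hKH hk⟩ : H) * (⟨s, hSH hs⟩ : H) := Subtype.ext hks
      have h2 : (QuotientGroup.mk' (K.subgroupOf H)) (⟨k, hKH hk⟩ : H) = 1 :=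
        (QuotientGroup.eq_one_iff _).mpr (Subgroup.mem_subgroupOf.mpr hk)
      rw [hf, h1, map_mul, h2, one_mul]
      rfl
    have hdvd : Nat.card (H ⧸ K.subgroupOf H) ∣ Nat.card S :=
      Subgroup.card_dvd_of_surjective f hsurj
    obtain ⟨s, hs⟩ := hSp.exists_card_eq
    rw [hs] at hdvd
    obtain ⟨b, -, hb⟩ := (Nat.dvd_prime_pow hp).mp hdvd
    exact ⟨b, by rw [Subgroup.index_eq_card]; exact hb⟩
  obtain ⟨b, hb⟩ := hidx
  have hbound := sylow_bound_of_normal_pprime (K.subgroupOf H) p hp (hcardK ▸ hKcop) b hb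
    (fun h : H => χ h) hχH hfaithH n (by simpa using hd) (S.subgroupOf H) hSp.comap_subtype
  have hcent : Nat.card (S.subgroupOf H ⊓
      Subgroup.centralizer ((K.subgroupOf H : Subgroup H) : Set H) : Subgroup H) ∣
        Nat.card (S ⊓ Subgroup.centralizer (K : Set G) : Subgroup G) := by
    rw [← Subgroup.card_map_of_injective H.subtype_injective]
    apply Subgroup.card_dvd_of_le
    rintro _ ⟨x, hx, rfl⟩
    obtain ⟨hx1, hx2⟩ := Subgroup.mem_inf.mp hx
    refine Subgroup.mem_inf.mpr ⟨Subgroup.mem_subgroupOf.mp hx1, ?_⟩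
    rw [Subgroup.mem_centralizer_iff]
    intro k hk
    have := (Subgroup.mem_centralizer_iff.mp hx2) ⟨k, hKH hk⟩ (Subgroup.mem_subgroupOf.mpr hk)
    exact congrArg Subtype.val this
  have hle : (Nat.card (S.subgroupOf H ⊓
      Subgroup.centralizer ((K.subgroupOf H : Subgroup H) : Set H) : Subgroup H)).factorization p ≤
        (Nat.card (S ⊓ Subgroup.centralizer (K : Set G) : Subgroup G)).factorization p :=
    (Nat.factorization_le_iff_dvd Nat.card_pos.ne' Nat.card_pos.ne').mpr hcent p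
  rw [hcardS] at hbound
  omega

end Cfsg.Agent.Lib.helper77
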