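import Mathlib
import Cfsg.Agent.Lib.helper97.ZassM

/-!
# S0690 piece L, part 1: generic lemmas

* `zl_sylow_in`: Sylow's theorem inside a subgroup `N`.
* `zl_idx2`, `zl_idx2_mul`: subgroups of index two.
* `zl_ord4`: the generators of a cyclic group of order four.
* `zl_conj_concl`: the conclusion of piece L is invariant under conjugation.
-/

set_option autoImplicit false

namespace Cfsg.Agent.Lib.helper77

open Cfsg.Agent.Lib.helper97

variable {G : Type*} [Group G]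

theorem zl_mem_smul {p : ℕ} (g : G) (P : Sylow p G) (y : G) :
    y ∈ ((g • P : Sylow p G) : Subgroup G) ↔ g⁻¹ * y * g ∈ (P : Subgroup G) := by
  rw [Sylow.coe_subgroup_smul, Subgroup.mem_pointwise_smul_iff_inv_smul_mem]
  simp [MulAut.smul_def]

/-- Sylow's theorem inside a subgroup `N`. -/
theorem zl_sylow_in [Finite G] {p : ℕ} [Fact p.Prime] (N : Subgroup G) (P : Sylow p G) (c : G)
    (hP : ∀ s ∈ (P : Subgroup G), c * s * c⁻¹ ∈ N) (R : Subgroup G) (hR : IsPGroup p R)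
    (hRN : R ≤ N) :
    ∃ m ∈ N, ∀ r ∈ R, (m * c)⁻¹ * r * (m * c) ∈ (P : Subgroup G) := by
  have hP' : ((c • P : Sylow p G) : Subgroup G) ≤ N := by
    intro y hy
    rw [zl_mem_smul] at hy
    have h1 := hP _ hy
    have e : c * (c⁻¹ * y * c) * c⁻¹ = y := by group
    rwa [e] at h1
  have hR' : IsPGroup p (R.subgroupOf N) := hR.comap_subtype
  obtain ⟨P'', hP''⟩ := hR'.exists_le_sylow
  obtain ⟨m, hm⟩ := MulAction.exists_smul_eq N ((c • P).subtype hP') P''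
  refine ⟨m, m.2, ?_⟩
  intro r hr
  have h1 : (⟨r, hRN hr⟩ : N) ∈ (P'' : Subgroup N) := hP'' (Subgroup.mem_subgroupOf.2 hr)
  rw [← hm, Sylow.smul_subtype] at h1
  have h2 : r ∈ (((m : G) • (c • P) : Sylow p G) : Subgroup G) := h1
  rw [zl_mem_smul, zl_mem_smul] at h2
  have e : ((m : G) * c)⁻¹ * r * ((m : G) * c) = c⁻¹ * ((m : G)⁻¹ * r * (m : G)) * c := by group
  rw [e]
  exact h2

theorem zl_idx [Finite G] (H K : Subgroup G) (hle : H ≤ K)
    (hc : Nat.card K = 2 * Nat.card H) : (H.subgroupOf K).index = 2 := by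
  have h1 := Subgroup.card_mul_index (H.subgroupOf K)
  rw [Nat.card_congr (Subgroup.subgroupOfEquivOfLe hle).toEquiv, hc] at h1
  have hpos : 0 < Nat.card H := Nat.card_pos
  have h2 : Nat.card H * (H.subgroupOf K).index = Nat.card H * 2 := by
    rw [h1, mul_comm]
  exact Nat.eq_of_mul_eq_mul_left hpos h2

theorem zl_idx2 [Finite G] (H K : Subgroup G) (hle : H ≤ K)
    (hc : Nat.card K = 2 * Nat.card H) : ∀ k ∈ K, ∀ q ∈ H, k * q * k⁻¹ ∈ H := by
  have hn : (H.subgroupOf K).Normal := Subgroup.normal_of_index_eq_two (zl_idx H K hle hc)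
  intro k hk q hq
  have h2 := hn.conj_mem ⟨q, hle hq⟩ (Subgroup.mem_subgroupOf.2 hq) ⟨k, hk⟩
  exact Subgroup.mem_subgroupOf.1 h2

theorem zl_idx2_mul [Finite G] (H K : Subgroup G) (hle : H ≤ K)
    (hc : Nat.card K = 2 * Nat.card H) (a b : G) (ha : a ∈ K) (hb : b ∈ K) :
    a * b ∈ H ↔ (a ∈ H ↔ b ∈ H) := by
  have h1 := Subgroup.mul_mem_iff_of_index_two (zl_idx H K hle hc) (a := ⟨a, ha⟩) (b := ⟨b, hb⟩)
  simpa [Subgroup.mem_subgroupOf] using h1

theorem zl_ord4 (t w : G) (ht : t ^ 4 = 1) (hw : w ∈ Subgroup.zpowers t) (hw2 : w ^ 2 ≠ 1) :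
    w = t ∨ w = t⁻¹ := by
  obtain ⟨i, rfl⟩ := Subgroup.mem_zpowers_iff.1 hw
  rcases zm_zpow_mod4 ht i with h | h | h | h
  · exact absurd (by rw [h, one_pow]) hw2
  · exact Or.inl h
  · exfalso
    apply hw2
    rw [h, ← pow_mul]
    exact ht
  · right
    rw [h]
    symm
    apply inv_eq_of_mul_eq_one_right
    rw [← pow_succ']
    exact ht

theorem zl_conj_concl (c a b : G)
    (h : ∃ α n : G, α ^ 2 = a ∧ b * α * b⁻¹ = α⁻¹ ∧ n * a * n⁻¹ = α * b ∧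
      n * (α * b) * n⁻¹ ∈ Subgroup.closure {a, α * b}) :
    ∃ α n : G, α ^ 2 = c * a * c⁻¹ ∧ (c * b * c⁻¹) * α * (c * b * c⁻¹)⁻¹ = α⁻¹ ∧
      n * (c * a * c⁻¹) * n⁻¹ = α * (c * b * c⁻¹) ∧
      n * (α * (c * b * c⁻¹)) * n⁻¹ ∈ Subgroup.closure {c * a * c⁻¹, α * (c * b * c⁻¹)} := by
  obtain ⟨α, n, h1, h2, h3, h4⟩ := h
  refine ⟨c * α * c⁻¹, c * n * c⁻¹, ?_, ?_, ?_, ?_⟩
  · rw [conj_pow, h1]
  · have e : c * b * c⁻¹ * (c * α * c⁻¹) * (c * b * c⁻¹)⁻¹ = c * (b * α * b⁻¹) * c⁻¹ := by group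
    rw [e, h2]
    group
  · have e : c * n * c⁻¹ * (c * a * c⁻¹) * (c * n * c⁻¹)⁻¹ = c * (n * a * n⁻¹) * c⁻¹ := by group
    rw [e, h3]
    group
  · have e : c * n * c⁻¹ * (c * α * c⁻¹ * (c * b * c⁻¹)) * (c * n * c⁻¹)⁻¹
        = (MulAut.conj c).toMonoidHom (n * (α * b) * n⁻¹) := by
      rw [MulEquiv.coe_toMonoidHom, MulAut.conj_apply]
      group
    have e2 : ({c * a * c⁻¹, c * α * c⁻¹ * (c * b * c⁻¹)} : Set G)
        = (MulAut.conj c).toMonoidHom '' {a, α * b} := by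
      rw [Set.image_pair, MulEquiv.coe_toMonoidHom, MulAut.conj_apply, MulAut.conj_apply]
      have e3 : c * (α * b) * c⁻¹ = c * α * c⁻¹ * (c * b * c⁻¹) := by group
      rw [e3]
    rw [e, e2, ← MonoidHom.map_closure]
    exact Subgroup.mem_map_of_mem _ h4

end Cfsg.Agent.Lib.helper77
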