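import Mathlib
import Cfsg.Agent.Lib.helper15.ZassDefs
import Cfsg.Agent.Lib.helper97.ZassM
import Cfsg.Agent.Lib.helper77.ZassQ
import Cfsg.Agent.Lib.helper77.ZassN2
import Cfsg.Agent.Lib.helper77.ZassN3
import Cfsg.Agent.Lib.helper77.ZassL1

/-!
# S0690 piece L, part 2: a Sylow `2`-subgroup of order `16` and the fusion of `α * b` with `a`
-/

set_option autoImplicit false

namespace Cfsg.Agent.Lib.helper77

open Cfsg.Agent.Lib.helper15.Zass Cfsg.Agent.Lib.helper97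

open scoped commutatorElement

variable {G : Type*} [Group G]

/-- The data of a generalised quaternion group `S` with cyclic maximal subgroup `⟨α⟩`, containing
a quaternion pair `a = α ^ 2`, `b`. -/
structure ZL (S : Subgroup G) (a b α : G) : Prop where
  a2 : a ^ 2 ≠ 1
  a4 : a ^ 4 = 1
  b2 : b ^ 2 = a ^ 2
  ba : b * a * b⁻¹ = a⁻¹
  ha : a ∈ S
  hb : b ∈ S
  hα : α ∈ S
  α2 : α ^ 2 = a
  inv : ∀ g ∈ S, g ∈ Subgroup.zpowers α ∨ g * α * g⁻¹ = α⁻¹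
  prod : ∀ g₁ ∈ S, ∀ g₂ ∈ S, g₁ ∉ Subgroup.zpowers α → g₂ ∉ Subgroup.zpowers α →
    g₁ * g₂ ∈ Subgroup.zpowers α

section basic

variable {S : Subgroup G} {a b α : G}

theorem ZL.zpowers_le (hz : ZL S a b α) : Subgroup.zpowers a ≤ Subgroup.zpowers α := by
  rw [Subgroup.zpowers_le, ← hz.α2]
  exact Subgroup.pow_mem _ (Subgroup.mem_zpowers α) 2

theorem ZL.b_notMem (hz : ZL S a b α) : b ∉ Subgroup.zpowers α := by
  intro hb
  obtain ⟨i, hi⟩ := Subgroup.mem_zpowers_iff.1 hb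
  have hc : Commute b a := by
    rw [← hi, ← hz.α2]
    exact ((Commute.refl α).zpow_left i).pow_right 2
  have h1 := hz.ba
  rw [hc.eq, mul_inv_cancel_right] at h1
  apply hz.a2
  rw [pow_two]
  nth_rewrite 1 [h1]
  exact inv_mul_cancel a

theorem ZL.binv_notMem (hz : ZL S a b α) : b⁻¹ ∉ Subgroup.zpowers α := fun hb =>
  hz.b_notMem ((Subgroup.inv_mem_iff _).1 hb)

theorem ZL.b_inv (hz : ZL S a b α) : b * α * b⁻¹ = α⁻¹ :=
  (hz.inv b hz.hb).resolve_left hz.b_notMem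

theorem ZL.b_inv' (hz : ZL S a b α) : b * α⁻¹ * b⁻¹ = α := by
  have e : b * α⁻¹ * b⁻¹ = (b * α * b⁻¹)⁻¹ := by group
  rw [e, hz.b_inv, inv_inv]

theorem ZL.t_mem (hz : ZL S a b α) : α * b ∈ S := S.mul_mem hz.hα hz.hb

theorem ZL.t_notMem (hz : ZL S a b α) : α * b ∉ Subgroup.zpowers α := by
  intro ht
  apply hz.b_notMem
  have h1 := Subgroup.mul_mem _ (Subgroup.inv_mem _ (Subgroup.mem_zpowers α)) ht
  rwa [inv_mul_cancel_left] at h1

theorem ZL.t_sq (hz : ZL S a b α) : (α * b) ^ 2 = a ^ 2 := by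
  have e : (α * b) ^ 2 = α * (b * α * b⁻¹) * b ^ 2 := by
    rw [pow_two]
    group
  rw [e, hz.b_inv, mul_inv_cancel, one_mul, hz.b2]

theorem ZL.t4 (hz : ZL S a b α) : (α * b) ^ 4 = 1 := by
  have e : (α * b) ^ 4 = ((α * b) ^ 2) ^ 2 := by rw [← pow_mul]
  rw [e, hz.t_sq, ← pow_mul]
  exact hz.a4

theorem ZL.t_inv (hz : ZL S a b α) : (α * b) * α * (α * b)⁻¹ = α⁻¹ :=
  (hz.inv _ hz.t_mem).resolve_left hz.t_notMem

theorem ZL.t_a (hz : ZL S a b α) : (α * b) * a * (α * b)⁻¹ = a⁻¹ := by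
  rw [← hz.α2, ← conj_pow, hz.t_inv, inv_pow]

theorem ZL.a_t (hz : ZL S a b α) : a * (α * b) * a⁻¹ = (α * b)⁻¹ := by
  have e1 : a * (α * b) * a⁻¹
      = (α * b)⁻¹ * ((α * b) * a * (α * b)⁻¹) * (α * b) ^ 2 * a⁻¹ := by
    rw [pow_two]
    group
  rw [e1, hz.t_a, hz.t_sq]
  group

theorem ZL.S_a (hz : ZL S a b α) (s : G) (hs : s ∈ S) : s * a * s⁻¹ = a ∨ s * a * s⁻¹ = a⁻¹ := by
  rcases hz.inv s hs with h1 | h1
  · left
    obtain ⟨i, hi⟩ := Subgroup.mem_zpowers_iff.1 h1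
    have hc : Commute s a := by
      rw [← hi, ← hz.α2]
      exact ((Commute.refl α).zpow_left i).pow_right 2
    rw [hc.eq, mul_inv_cancel_right]
  · right
    rw [← hz.α2, ← conj_pow, h1, inv_pow]

theorem ZL.sq_mem (h : ZH G) (hz : ZL S a b α) (s : G) (hs : s ∈ S) :
    s ^ 2 ∈ Subgroup.zpowers a := by
  by_cases h1 : s ∈ Subgroup.zpowers α
  · obtain ⟨i, hi⟩ := Subgroup.mem_zpowers_iff.1 h1
    have e : s ^ 2 = a ^ i := by
      rw [← hi, ← hz.α2, ← zpow_natCast, ← zpow_natCast, ← zpow_mul, ← zpow_mul, mul_comm]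
    rw [e]
    exact Subgroup.zpow_mem _ (Subgroup.mem_zpowers a) i
  · have h2 := (hz.inv s hs).resolve_left h1
    have h3 := hz.prod s hs s hs h1 h1
    rw [← pow_two] at h3
    obtain ⟨j, hj⟩ := Subgroup.mem_zpowers_iff.1 h3
    have h4 : s * s ^ 2 * s⁻¹ = (s ^ 2)⁻¹ := by
      rw [← hj, ← conj_zpow, h2, inv_zpow]
    have h5 : s * s ^ 2 * s⁻¹ = s ^ 2 := by group
    have h6 : (s ^ 2) ^ 2 = 1 := by
      rw [pow_two (s ^ 2)]
      nth_rewrite 1 [← h5]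
      rw [h4, inv_mul_cancel]
    by_cases h7 : s ^ 2 = 1
    · rw [h7]
      exact Subgroup.one_mem _
    · have h8 : (a ^ 2) ^ 2 = 1 := by
        rw [← pow_mul]
        exact hz.a4
      rw [h.invol (s ^ 2) (a ^ 2) h7 hz.a2 h6 h8]
      exact Subgroup.pow_mem _ (Subgroup.mem_zpowers a) 2

theorem ZL.orderOf_a (hz : ZL S a b α) : orderOf a = 4 := by
  have h := orderOf_eq_prime_pow (p := 2) (n := 1) (x := a) (by simpa using hz.a2)
    (by simpa using hz.a4)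
  simpa using h

theorem ZL.parity (hz : ZL S a b α) (i : ℤ) : ∃ k : ℤ, α ^ i = a ^ k ∨ α ^ i = a ^ k * α := by
  obtain ⟨k, hk | hk⟩ := Int.even_or_odd' i
  · exact ⟨k, Or.inl (by rw [hk, zpow_mul, zpow_two, ← pow_two, hz.α2])⟩
  · exact ⟨k, Or.inr (by rw [hk, zpow_add_one, zpow_mul, zpow_two, ← pow_two, hz.α2])⟩

theorem ZL.conj_t (hz : ZL S a b α) (k : ℤ) :
    α ^ k * (α * b) * (α ^ k)⁻¹ = a ^ k * (α * b) := by
  have e1 : b * (α ^ k)⁻¹ * b⁻¹ = α ^ k := by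
    rw [← inv_zpow, ← conj_zpow, hz.b_inv']
  have e2 : α ^ k * (α * b) * (α ^ k)⁻¹ = α ^ k * α * (b * (α ^ k)⁻¹ * b⁻¹) * b := by group
  have e3 : a ^ k = α ^ k * α ^ k := by
    rw [← hz.α2, pow_two, (Commute.refl α).mul_zpow]
  have e4 : α ^ k * α = α * α ^ k := ((Commute.refl α).zpow_left k).eq
  rw [e2, e1, e3, mul_assoc (α ^ k) α (α ^ k), ← e4]
  group

/-- The quaternion subgroup `⟨a, α * b⟩`. -/
def zlQ2 (hz : ZL S a b α) : Subgroup G :=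
  zassExt (Subgroup.zpowers a) (α * b)
    (by
      intro d hd
      obtain ⟨i, rfl⟩ := Subgroup.mem_zpowers_iff.1 hd
      rw [← conj_zpow, hz.t_a]
      exact Subgroup.zpow_mem _ (Subgroup.inv_mem _ (Subgroup.mem_zpowers a)) i)
    (by
      rw [← pow_two, hz.t_sq]
      exact Subgroup.pow_mem _ (Subgroup.mem_zpowers a) 2)

theorem a_mem_zlQ2 (hz : ZL S a b α) : a ∈ zlQ2 hz :=
  le_zassExt _ _ _ _ (Subgroup.mem_zpowers a)

theorem t_mem_zlQ2 (hz : ZL S a b α) : α * b ∈ zlQ2 hz :=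
  self_mem_zassExt _ _ _ _

theorem zlQ2_le (hz : ZL S a b α) (N : Subgroup G) (ha : a ∈ N) (ht : α * b ∈ N) :
    zlQ2 hz ≤ N :=
  zassExt_le _ _ _ _ N (Subgroup.zpowers_le.2 ha) ht

theorem card_zlQ2 (hz : ZL S a b α) : Nat.card (zlQ2 hz) = 8 := by
  unfold zlQ2
  rw [card_zassExt _ _ _ _ (fun ht => hz.t_notMem (hz.zpowers_le ht)), Nat.card_zpowers,
    hz.orderOf_a]

end basic

theorem zl_Q_pow4 {a b x : G} (hs : Std a b x) (q : G) (hq : q ∈ zassQ hs) : q ^ 4 = 1 := by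
  rcases (mem_zassQ hs q).1 hq with h1 | h1
  · obtain ⟨i, rfl⟩ := Subgroup.mem_zpowers_iff.1 h1
    rw [← zpow_natCast, ← zpow_mul, mul_comm, zpow_mul, zpow_natCast, hs.u4, one_zpow]
  · obtain ⟨i, hi⟩ := Subgroup.mem_zpowers_iff.1 h1
    have hq' : q = a ^ i * b := by rw [hi, inv_mul_cancel_right]
    have e1 : b * a ^ i * b⁻¹ = (a ^ i)⁻¹ := by
      rw [← conj_zpow, hs.vu, inv_zpow]
    have e2 : q ^ 2 = a ^ 2 := by
      have e : (a ^ i * b) ^ 2 = a ^ i * (b * a ^ i * b⁻¹) * b ^ 2 := by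
        rw [pow_two]
        group
      rw [hq', e, e1, mul_inv_cancel, one_mul, hs.v2]
    have e3 : q ^ 4 = (q ^ 2) ^ 2 := by rw [← pow_mul]
    rw [e3, e2, ← pow_mul]
    exact hs.u4

/-- Fusion: `α * b` is conjugate to `a`. -/
theorem zl_fusion [Finite G] (hperf : commutator G = ⊤) (a b x α : G) (hs : Std a b x)
    (S : Sylow 2 G) (hS : Nat.card S = 16) (hz : ZL (S : Subgroup G) a b α) :
    ∃ h₀ : G, h₀ * a * h₀⁻¹ = α * b := by
  have hQS : zassQ hs ≤ (S : Subgroup G) := zassQ_le hs _ hz.ha hz.hb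
  have hQ8 := card_zassQ hs
  have hS' : Nat.card (S : Subgroup G) = 16 := hS
  have hfoc : (S : Subgroup G).focalSubgroup = (S : Subgroup G) := by
    rw [← Subgroup.commutator_inf_eq_focalSubgroup S, hperf, top_inf_eq]
  have hex : ∃ g, (g ∈ (S : Subgroup G) ∧ ∃ x₁ ∈ (S : Subgroup G), ∃ w : G, g = ⁅x₁, w⁆) ∧
      g ∉ zassQ hs := by
    by_contra hcon
    push Not at hcon
    have hle : (S : Subgroup G) ≤ zassQ hs := by
      rw [← hfoc, Subgroup.focalSubgroup_def, Subgroup.closure_le]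
      intro g hg
      exact hcon g hg
    have h1 := Subgroup.card_le_of_le hle
    omega
  obtain ⟨g, ⟨hgS, x₁, hx₁, w, hgw⟩, hgQ⟩ := hex
  have hg' : g = x₁ * (w * x₁ * w⁻¹)⁻¹ := by
    rw [hgw, commutatorElement_def]
    group
  have hy : w * x₁ * w⁻¹ ∈ (S : Subgroup G) := by
    have e : w * x₁ * w⁻¹ = g⁻¹ * x₁ := by
      rw [hg']
      group
    rw [e]
    exact Subgroup.mul_mem _ (Subgroup.inv_mem _ hgS) hx₁
  have hiff := zl_idx2_mul (zassQ hs) (S : Subgroup G) hQS (by rw [hQ8, hS']) x₁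
    (w * x₁ * w⁻¹)⁻¹ hx₁ (Subgroup.inv_mem _ hy)
  rw [← hg'] at hiff
  have key : ∃ a' b' c : G, a' ∈ zassQ hs ∧ b' ∈ (S : Subgroup G) ∧ b' ∉ zassQ hs ∧
      b' = c * a' * c⁻¹ := by
    by_cases h1 : x₁ ∈ zassQ hs
    · refine ⟨x₁, w * x₁ * w⁻¹, w, h1, hy, ?_, rfl⟩
      intro h2
      exact hgQ (hiff.2 ⟨fun _ => Subgroup.inv_mem _ h2, fun _ => h1⟩)
    · by_cases h2 : w * x₁ * w⁻¹ ∈ zassQ hs
      · exact ⟨w * x₁ * w⁻¹, x₁, w⁻¹, h2, hx₁, h1, by group⟩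
      · exfalso
        apply hgQ
        rw [hiff]
        constructor
        · intro h3
          exact absurd h3 h1
        · intro h3
          exact absurd ((Subgroup.inv_mem_iff _).1 h3) h2
  obtain ⟨a', b', c, ha', hb'S, hb'Q, hb'c⟩ := key
  have ha'4 : a' ^ 4 = 1 := zl_Q_pow4 hs a' ha'
  have hb'4 : b' ^ 4 = 1 := by
    rw [hb'c, conj_pow, ha'4]
    group
  have hb'α : b' ∉ Subgroup.zpowers α := by
    intro hmem
    obtain ⟨i, hi⟩ := Subgroup.mem_zpowers_iff.1 hmem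
    obtain ⟨k, hk | hk⟩ := hz.parity i
    · apply hb'Q
      rw [mem_zassQ]
      left
      rw [← hi, hk]
      exact Subgroup.zpow_mem _ (Subgroup.mem_zpowers a) k
    · have hc : Commute (a ^ k) α := by
        rw [← hz.α2]
        exact ((Commute.refl α).pow_left 2).zpow_left k
      have e1 : (a ^ k) ^ 4 = 1 := by
        rw [← zpow_natCast, ← zpow_mul, mul_comm, zpow_mul, zpow_natCast, hz.a4, one_zpow]
      have e2 : α ^ 4 = a ^ 2 := by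
        rw [← hz.α2, ← pow_mul]
      rw [← hi, hk, hc.mul_pow, e1, one_mul, e2] at hb'4
      exact hz.a2 hb'4
  have h3 := hz.prod b' hb'S b⁻¹ (Subgroup.inv_mem _ hz.hb) hb'α hz.binv_notMem
  obtain ⟨i, hi⟩ := Subgroup.mem_zpowers_iff.1 h3
  obtain ⟨k, hk | hk⟩ := hz.parity i
  · exfalso
    apply hb'Q
    rw [mem_zassQ]
    right
    rw [← hi, hk]
    exact Subgroup.zpow_mem _ (Subgroup.mem_zpowers a) k
  · have hb't : b' = α ^ k * (α * b) * (α ^ k)⁻¹ := by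
      rw [hz.conj_t k, ← mul_assoc, ← hk, hi, inv_mul_cancel_right]
    have ht : α * b = ((α ^ k)⁻¹ * c) * a' * ((α ^ k)⁻¹ * c)⁻¹ := by
      have e : ((α ^ k)⁻¹ * c) * a' * ((α ^ k)⁻¹ * c)⁻¹
          = (α ^ k)⁻¹ * (c * a' * c⁻¹) * α ^ k := by group
      rw [e, ← hb'c, hb't]
      group
    have ha'2 : a' ^ 2 ≠ 1 := by
      intro h0
      apply hz.a2
      rw [← hz.t_sq, ht, conj_pow, h0]
      group
    obtain ⟨l, -, hl⟩ := zn_adjust hs 1 a' (by rw [one_mul, mul_one]) (by rw [one_mul, mul_one])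
      (by rw [one_mul, mul_one]) ha' ha'2
    refine ⟨(α ^ k)⁻¹ * c * l⁻¹, ?_⟩
    have e : (α ^ k)⁻¹ * c * l⁻¹ * a * ((α ^ k)⁻¹ * c * l⁻¹)⁻¹
        = ((α ^ k)⁻¹ * c) * (l⁻¹ * (l * a' * l⁻¹) * l) * ((α ^ k)⁻¹ * c)⁻¹ := by
      rw [hl]
      group
    rw [e, ht]
    group

end Cfsg.Agent.Lib.helper77
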