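import Mathlib
import Cfsg.Agent.Lib.helper15.ZassDefs
import Cfsg.Agent.Lib.helper97.ZassM
import Cfsg.Agent.Lib.helper77.ZassQ
import Cfsg.Agent.Lib.helper77.ZassN2
import Cfsg.Agent.Lib.helper77.ZassN3
import Cfsg.Agent.Lib.helper77.ZassL1
import Cfsg.Agent.Lib.helper77.ZassL2

/-!
# S0690 piece L, part 3: from fusion to an element of `N(⟨a, α b⟩)` mapping `a` to `α * b`
-/

set_option autoImplicit false

namespace Cfsg.Agent.Lib.helper77

open Cfsg.Agent.Lib.helper15.Zass Cfsg.Agent.Lib.helper97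

variable {G : Type*} [Group G]

theorem zl_norm_zpowers [Finite G] (g t : G) (h : g * t * g⁻¹ ∈ Subgroup.zpowers t) :
    g ∈ Subgroup.normalizer ((Subgroup.zpowers t : Subgroup G) : Set G) := by
  apply zm_mem_normalizer
  intro w hw
  obtain ⟨i, rfl⟩ := Subgroup.mem_zpowers_iff.1 hw
  rw [← conj_zpow]
  exact Subgroup.zpow_mem _ h i

theorem zl_end [Finite G] (h : ZH G) (a b α : G) (S : Sylow 2 G) (hS : Nat.card S = 16)
    (hz : ZL (S : Subgroup G) a b α) (h₀ : G) (hh₀ : h₀ * a * h₀⁻¹ = α * b) :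
    ∃ n : G, n * a * n⁻¹ = α * b ∧ n * (α * b) * n⁻¹ ∈ Subgroup.closure {a, α * b} := by
  have hS' : Nat.card (S : Subgroup G) = 16 := hS
  have hQ8 := card_zlQ2 hz
  have hQS : zlQ2 hz ≤ (S : Subgroup G) := zlQ2_le hz _ hz.ha hz.t_mem
  have ht4 := hz.t4
  have ht2 : (α * b) ^ 2 ≠ 1 := by
    rw [hz.t_sq]
    exact hz.a2
  -- step (ii): Sylow's theorem in the normalizer of `⟨α * b⟩`
  have hP : ∀ s ∈ (S : Subgroup G), h₀ * s * h₀⁻¹ ∈
      Subgroup.normalizer ((Subgroup.zpowers (α * b) : Subgroup G) : Set G) := by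
    intro s hs
    apply zl_norm_zpowers
    have e : h₀ * s * h₀⁻¹ * (α * b) * (h₀ * s * h₀⁻¹)⁻¹ = h₀ * (s * a * s⁻¹) * h₀⁻¹ := by
      rw [← hh₀]
      group
    rw [e]
    rcases hz.S_a s hs with h1 | h1
    · rw [h1, hh₀]
      exact Subgroup.mem_zpowers _
    · rw [h1]
      have e2 : h₀ * a⁻¹ * h₀⁻¹ = (h₀ * a * h₀⁻¹)⁻¹ := by group
      rw [e2, hh₀]
      exact Subgroup.inv_mem _ (Subgroup.mem_zpowers _)
  have hRN : zlQ2 hz ≤
      Subgroup.normalizer ((Subgroup.zpowers (α * b) : Subgroup G) : Set G) := by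
    apply zlQ2_le
    · apply zl_norm_zpowers
      rw [hz.a_t]
      exact Subgroup.inv_mem _ (Subgroup.mem_zpowers _)
    · apply zl_norm_zpowers
      rw [mul_inv_cancel_right]
      exact Subgroup.mem_zpowers _
  have hR : IsPGroup 2 (zlQ2 hz) := IsPGroup.of_card (n := 3) (by rw [hQ8]; norm_num)
  obtain ⟨m, hm, hmR⟩ := zl_sylow_in _ S h₀ hP (zlQ2 hz) hR hRN
  have hg : (m * h₀) * a * (m * h₀)⁻¹ = α * b ∨ (m * h₀) * a * (m * h₀)⁻¹ = (α * b)⁻¹ := by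
    have e : (m * h₀) * a * (m * h₀)⁻¹ = m * (α * b) * m⁻¹ := by
      rw [← hh₀]
      group
    rw [e]
    rw [Subgroup.mem_normalizer_iff] at hm
    apply zl_ord4 _ _ ht4 ((hm _).1 (Subgroup.mem_zpowers _))
    rw [conj_pow]
    intro h0
    apply ht2
    have e2 : (α * b) ^ 2 = m⁻¹ * (m * (α * b) ^ 2 * m⁻¹) * m := by group
    rw [e2, h0]
    group
  generalize m * h₀ = g at hmR hg
  -- step (iii): Sylow's theorem in the normalizer of `⟨a, α * b⟩`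
  have hQ3S : (zlQ2 hz).map (MulAut.conj g⁻¹).toMonoidHom ≤ (S : Subgroup G) := by
    intro y hy
    obtain ⟨r, hr, rfl⟩ := Subgroup.mem_map.1 hy
    have h1 := hmR r hr
    rw [MulEquiv.coe_toMonoidHom, MulAut.conj_apply, inv_inv]
    exact h1
  have hQ3c : Nat.card ((zlQ2 hz).map (MulAut.conj g⁻¹).toMonoidHom) = 8 := by
    rw [← hQ8]
    exact (Nat.card_congr ((MulAut.conj g⁻¹).subgroupMap (zlQ2 hz)).toEquiv).symm
  have hn3 := zl_idx2 _ (S : Subgroup G) hQ3S (by rw [hQ3c, hS'])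
  have hn2 := zl_idx2 _ (S : Subgroup G) hQS (by rw [hQ8, hS'])
  have hP₂ : ∀ s ∈ (S : Subgroup G), g * s * g⁻¹ ∈
      Subgroup.normalizer ((zlQ2 hz : Subgroup G) : Set G) := by
    intro s hs
    apply zm_mem_normalizer
    intro r hr
    have hr3 : g⁻¹ * r * g ∈ (zlQ2 hz).map (MulAut.conj g⁻¹).toMonoidHom := by
      refine Subgroup.mem_map.2 ⟨r, hr, ?_⟩
      rw [MulEquiv.coe_toMonoidHom, MulAut.conj_apply, inv_inv]
    obtain ⟨r', hr', hr'eq⟩ := Subgroup.mem_map.1 (hn3 s hs _ hr3)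
    rw [MulEquiv.coe_toMonoidHom, MulAut.conj_apply, inv_inv] at hr'eq
    have e : g * s * g⁻¹ * r * (g * s * g⁻¹)⁻¹ = g * (s * (g⁻¹ * r * g) * s⁻¹) * g⁻¹ := by group
    rw [e, ← hr'eq]
    have e2 : g * (g⁻¹ * r' * g) * g⁻¹ = r' := by group
    rw [e2]
    exact hr'
  have hRN₂ : (S : Subgroup G) ≤ Subgroup.normalizer ((zlQ2 hz : Subgroup G) : Set G) := by
    intro s hs
    exact zm_mem_normalizer _ s (hn2 s hs)
  obtain ⟨m₂, hm₂, hm₂R⟩ := zl_sylow_in _ S g hP₂ (S : Subgroup G) S.isPGroup' hRN₂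
  have h5 := hz.sq_mem h _ (hm₂R α hz.hα)
  have e5 : ((m₂ * g)⁻¹ * α * (m₂ * g)) ^ 2 = (m₂ * g)⁻¹ * a * (m₂ * g) := by
    rw [← hz.α2, pow_two, pow_two]
    group
  rw [e5] at h5
  have h6 : ((m₂ * g)⁻¹ * a * (m₂ * g)) ^ 2 ≠ 1 := by
    intro h0
    apply hz.a2
    have e : a ^ 2 = (m₂ * g) * ((m₂ * g)⁻¹ * a * (m₂ * g)) ^ 2 * (m₂ * g)⁻¹ := by
      rw [pow_two, pow_two]
      group
    rw [e, h0]
    group
  have h7 := zl_ord4 a _ hz.a4 h5 h6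
  have hn₁ : m₂⁻¹ * a * m₂ = α * b ∨ m₂⁻¹ * a * m₂ = (α * b)⁻¹ := by
    have e : m₂⁻¹ * a * m₂ = g * ((m₂ * g)⁻¹ * a * (m₂ * g)) * g⁻¹ := by group
    rw [e]
    rcases h7 with h7 | h7
    · rw [h7]
      exact hg
    · rw [h7]
      have e2 : g * a⁻¹ * g⁻¹ = (g * a * g⁻¹)⁻¹ := by group
      rw [e2]
      rcases hg with hg | hg
      · right
        rw [hg]
      · left
        rw [hg, inv_inv]
  have hm₂' : m₂⁻¹ ∈ Subgroup.normalizer ((zlQ2 hz : Subgroup G) : Set G) :=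
    Subgroup.inv_mem _ hm₂
  have hle : zlQ2 hz ≤ Subgroup.closure {a, α * b} :=
    zlQ2_le hz _ (Subgroup.subset_closure (by simp)) (Subgroup.subset_closure (by simp))
  rcases hn₁ with hn₁ | hn₁
  · refine ⟨m₂⁻¹, ?_, ?_⟩
    · rw [inv_inv]
      exact hn₁
    · apply hle
      rw [Subgroup.mem_normalizer_iff] at hm₂'
      exact (hm₂' _).1 (t_mem_zlQ2 hz)
  · have han : a * m₂⁻¹ ∈ Subgroup.normalizer ((zlQ2 hz : Subgroup G) : Set G) :=
      Subgroup.mul_mem _ (Subgroup.le_normalizer (a_mem_zlQ2 hz)) hm₂'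
    refine ⟨a * m₂⁻¹, ?_, ?_⟩
    · have e : a * m₂⁻¹ * a * (a * m₂⁻¹)⁻¹ = a * (m₂⁻¹ * a * m₂) * a⁻¹ := by group
      rw [e, hn₁]
      have e2 : a * (α * b)⁻¹ * a⁻¹ = (a * (α * b) * a⁻¹)⁻¹ := by group
      rw [e2, hz.a_t, inv_inv]
    · apply hle
      rw [Subgroup.mem_normalizer_iff] at han
      exact (han _).1 (t_mem_zlQ2 hz)

end Cfsg.Agent.Lib.helper77
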