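import Mathlib
import Cfsg.Agent.Lib.helper15.ZassDefs
import Cfsg.Agent.Lib.helper46.ZassQ
import Cfsg.Agent.Lib.helper77.ZassQ
import Cfsg.Agent.Lib.helper77.ZassN2
import Cfsg.Agent.Lib.helper77.ZassN3
import Cfsg.Agent.Lib.helper77.ZassL1
import Cfsg.Agent.Lib.helper77.ZassL2
import Cfsg.Agent.Lib.helper77.ZassL3

/-!
# S0690 piece L: `sylow_16_fusion`
-/

set_option autoImplicit false

namespace Cfsg.Agent.Lib.helper77

open Cfsg.Agent.Lib.helper15.Zass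

theorem zl_of_mem {G : Type*} [Group G] [Finite G] (h : ZH G) (hperf : commutator G = ⊤)
    (a b x : G) (hs : Std a b x) (S : Sylow 2 G) (hS : Nat.card S = 16)
    (ha : a ∈ (S : Subgroup G)) (hb : b ∈ (S : Subgroup G))
    (α₀ : G) (hα₀ : α₀ ∈ (S : Subgroup G)) (hord : orderOf α₀ = 8)
    (hinv : ∀ g ∈ (S : Subgroup G), g ∈ Subgroup.zpowers α₀ ∨ g * α₀ * g⁻¹ = α₀⁻¹)
    (hprod : ∀ g₁ ∈ (S : Subgroup G), ∀ g₂ ∈ (S : Subgroup G), g₁ ∉ Subgroup.zpowers α₀ →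
      g₂ ∉ Subgroup.zpowers α₀ → g₁ * g₂ ∈ Subgroup.zpowers α₀)
    (haα : a ∈ Subgroup.zpowers α₀) :
    ∃ α n : G, α ^ 2 = a ∧ b * α * b⁻¹ = α⁻¹ ∧ n * a * n⁻¹ = α * b ∧
      n * (α * b) * n⁻¹ ∈ Subgroup.closure {a, α * b} := by
  have hfin : IsOfFinOrder α₀ := isOfFinOrder_of_finite α₀
  have haα' := (hfin.mem_powers_iff_mem_zpowers).2 haα
  obtain ⟨j, hj⟩ := (Submonoid.mem_powers_iff _ _).1 haα'
  have h4 : 8 ∣ 4 * j := by
    rw [← hord]
    apply orderOf_dvd_of_pow_eq_one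
    rw [mul_comm, pow_mul, hj]
    exact hs.u4
  have h2 : ¬ 8 ∣ 2 * j := by
    rw [← hord]
    intro hd
    apply hs.u2
    rw [← hj, ← pow_mul, mul_comm]
    exact orderOf_dvd_iff_pow_eq_one.1 hd
  have hj8 : j % 8 = 2 ∨ j % 8 = 6 := by omega
  have hmod : α₀ ^ (j % 8) = a := by
    rw [← hord, pow_mod_orderOf, hj]
  have key : ∃ α : G, α ^ 2 = a ∧ α ∈ (S : Subgroup G) ∧
      Subgroup.zpowers α = Subgroup.zpowers α₀ ∧ (α = α₀ ∨ α = α₀⁻¹) := by
    rcases hj8 with h8 | h8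
    · rw [h8] at hmod
      exact ⟨α₀, hmod, hα₀, rfl, Or.inl rfl⟩
    · rw [h8] at hmod
      refine ⟨α₀⁻¹, ?_, Subgroup.inv_mem _ hα₀, Subgroup.zpowers_inv, Or.inr rfl⟩
      rw [← hmod, inv_pow]
      apply inv_eq_of_mul_eq_one_right
      rw [← pow_add]
      have e8 : α₀ ^ orderOf α₀ = 1 := pow_orderOf_eq_one α₀
      rw [hord] at e8
      exact e8
  obtain ⟨α, hα2, hαS, hzp, hαα⟩ := key
  have hz : ZL (S : Subgroup G) a b α :=
    { a2 := hs.u2
      a4 := hs.u4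
      b2 := hs.v2
      ba := hs.vu
      ha := ha
      hb := hb
      hα := hαS
      α2 := hα2
      inv := by
        intro g hg
        rw [hzp]
        rcases hinv g hg with h1 | h1
        · exact Or.inl h1
        · right
          rcases hαα with h9 | h9
          · rw [h9]
            exact h1
          · have e : g * α₀⁻¹ * g⁻¹ = (g * α₀ * g⁻¹)⁻¹ := by group
            rw [h9, e, h1]
      prod := by
        rw [hzp]
        exact hprod }
  obtain ⟨h₀, hh₀⟩ := zl_fusion hperf a b x α hs S hS hz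
  obtain ⟨n, hn1, hn2⟩ := zl_end h a b α S hS hz h₀ hh₀
  exact ⟨α, n, hα2, hz.b_inv, hn1, hn2⟩

/-- **S0690 piece L.** -/
theorem sylow_16_fusion {G : Type*} [Group G] [Finite G] (h : ZH G) (hperf : commutator G = ⊤)
    (u v x : G) (hs : Std u v x) (S : Sylow 2 G) (hS : Nat.card S = 16) :
    ∃ α n : G, α ^ 2 = u ∧ v * α * v⁻¹ = α⁻¹ ∧ n * u * n⁻¹ = α * v ∧
      n * (α * v) * n⁻¹ ∈ Subgroup.closure {u, α * v} := by
  obtain ⟨S', hS'⟩ := (isPGroup_zassQ hs).exists_le_sylow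
  have huS : u ∈ (S' : Subgroup G) := hS' (u_mem_zassQ hs)
  have hvS : v ∈ (S' : Subgroup G) := hS' (v_mem_zassQ hs)
  have hcard : Nat.card S' = 16 := by
    rw [← hS, Sylow.card_eq_multiplicity, Sylow.card_eq_multiplicity]
  have hnc : ¬ IsCyclic S' := by
    intro hc
    apply std_not_comm hs
    have h1 := hc.commGroup.mul_comm (⟨v, hvS⟩ : S') ⟨u, huS⟩
    exact congrArg Subtype.val h1
  rcases h.pgrp 2 S' S'.isPGroup' with hc | ⟨-, n, ⟨e⟩⟩
  · exact absurd hc hnc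
  have hcard2 : Nat.card S' = 4 * 2 ^ n := by
    rw [Nat.card_congr e.toEquiv, Nat.card_eq_fintype_card, QuaternionGroup.card]
  obtain ⟨α, hαo, hinv, hprod⟩ := Cfsg.Agent.Lib.helper46.zq_structure (2 ^ n) e
  have h2n : 2 ^ n = 4 := by omega
  have hord : orderOf (α : G) = 8 := by
    rw [Subgroup.orderOf_coe, hαo, h2n]
  have hmem : ∀ g : S', g ∈ Subgroup.zpowers α ↔ (g : G) ∈ Subgroup.zpowers (α : G) := by
    intro g
    constructor
    · intro hg
      obtain ⟨j, hj⟩ := Subgroup.mem_zpowers_iff.1 hg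
      rw [← hj, Subgroup.coe_zpow]
      exact Subgroup.zpow_mem _ (Subgroup.mem_zpowers _) j
    · intro hg
      obtain ⟨j, hj⟩ := Subgroup.mem_zpowers_iff.1 hg
      rw [Subgroup.mem_zpowers_iff]
      refine ⟨j, Subtype.ext ?_⟩
      rw [Subgroup.coe_zpow]
      exact hj
  have hinv' : ∀ g ∈ (S' : Subgroup G), g ∈ Subgroup.zpowers (α : G) ∨
      g * (α : G) * g⁻¹ = (α : G)⁻¹ := by
    intro g hg
    rcases hinv ⟨g, hg⟩ with h1 | h1
    · exact Or.inl ((hmem _).1 h1)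
    · exact Or.inr (congrArg Subtype.val h1)
  have hprod' : ∀ g₁ ∈ (S' : Subgroup G), ∀ g₂ ∈ (S' : Subgroup G),
      g₁ ∉ Subgroup.zpowers (α : G) → g₂ ∉ Subgroup.zpowers (α : G) →
      g₁ * g₂ ∈ Subgroup.zpowers (α : G) := by
    intro g₁ hg₁ g₂ hg₂ h1 h2
    exact (hmem _).1 (hprod ⟨g₁, hg₁⟩ ⟨g₂, hg₂⟩ (fun h3 => h1 ((hmem _).1 h3))
      (fun h3 => h2 ((hmem _).1 h3)))
  by_cases hu : u ∈ Subgroup.zpowers (α : G)
  · exact zl_of_mem h hperf u v x hs S' hcard huS hvS α α.2 hord hinv' hprod' hu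
  · by_cases hv : v ∈ Subgroup.zpowers (α : G)
    · have h1 := zl_of_mem h hperf v (u * v) x (Cfsg.Agent.Lib.helper46.zq_std_rot hs) S' hcard
        hvS (Subgroup.mul_mem _ huS hvS) α α.2 hord hinv' hprod' hv
      have h2 := zl_conj_concl x⁻¹ v (u * v) h1
      have e1 : x⁻¹ * v * x⁻¹⁻¹ = u := by
        rw [inv_inv]
        exact std_xinv_v hs
      have e2 : x⁻¹ * (u * v) * x⁻¹⁻¹ = v := by
        rw [inv_inv, ← hs.xv]
        group
      rw [e1, e2] at h2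
      exact h2
    · have huv := hprod' u huS v hvS hu hv
      have h1 := zl_of_mem h hperf (u * v) (v * (u * v)) x
        (Cfsg.Agent.Lib.helper46.zq_std_rot (Cfsg.Agent.Lib.helper46.zq_std_rot hs)) S' hcard
        (Subgroup.mul_mem _ huS hvS) (Subgroup.mul_mem _ hvS (Subgroup.mul_mem _ huS hvS))
        α α.2 hord hinv' hprod' huv
      have h2 := zl_conj_concl x (u * v) (v * (u * v)) h1
      have e1 : x * (u * v) * x⁻¹ = u := std_x_uv hs
      have e2 : x * (v * (u * v)) * x⁻¹ = v := by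
        rw [std_vuv hs, hs.xu]
      rw [e1, e2] at h2
      exact h2

end Cfsg.Agent.Lib.helper77
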